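import Mathlib
import Cfsg.Agent.Helper6.PrimTwoC
import Cfsg.Agent.Helper6.PrimTwoD
import Cfsg.Agent.Helper6.PrimTwoE

/-!
# Counting with the partition of a group by centralizers of non-central elements
-/

set_option autoImplicit false
set_option linter.style.haveILetI false
set_option linter.unusedSectionVars false

namespace Cfsg.Agent.Helper6

open scoped Classical in
/-- decomposition of a sum over the group along the partition by centralizers -/
theorem decomp_centralizers {G : Type*} [Group G] [Fintype G]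
    (hpart : ∀ g x : G, g ∉ Subgroup.center G → x ∉ Subgroup.center G →
      x ∈ Subgroup.centralizer ({g} : Set G) →
      Subgroup.centralizer ({x} : Set G) = Subgroup.centralizer ({g} : Set G))
    (F : G → ℂ) :
    ∑ x, F x = ∑ x ∈ Finset.univ.filter (fun x => x ∈ Subgroup.center G), F x +
      ∑ C ∈ (Finset.univ.filter (fun x => x ∉ Subgroup.center G)).image
          (fun x => Subgroup.centralizer ({x} : Set G)),
        (∑ x ∈ Finset.univ.filter (fun x => x ∈ C), F x -
          ∑ x ∈ Finset.univ.filter (fun x => x ∈ Subgroup.center G), F x) := by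
  rw [← Finset.sum_filter_add_sum_filter_not Finset.univ (fun x => x ∈ Subgroup.center G) F]
  congr 1
  rw [← Finset.sum_fiberwise_of_maps_to
    (s := Finset.univ.filter (fun x => x ∉ Subgroup.center G))
    (t := (Finset.univ.filter (fun x => x ∉ Subgroup.center G)).image
          (fun x => Subgroup.centralizer ({x} : Set G)))
    (g := fun x => Subgroup.centralizer ({x} : Set G))
    (fun x hx => Finset.mem_image_of_mem _ hx) F]
  apply Finset.sum_congr rfl
  intro C hC
  rw [Finset.mem_image] at hC
  obtain ⟨g, hg, rfl⟩ := hC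
  rw [Finset.mem_filter] at hg
  have hset : (Finset.univ.filter (fun x => x ∉ Subgroup.center G)).filter
      (fun x => Subgroup.centralizer ({x} : Set G) = Subgroup.centralizer ({g} : Set G)) =
      (Finset.univ.filter (fun x => x ∈ Subgroup.centralizer ({g} : Set G))) \
        (Finset.univ.filter (fun x => x ∈ Subgroup.center G)) := by
    ext x
    simp only [Finset.mem_filter, Finset.mem_univ, true_and, Finset.mem_sdiff]
    constructor
    · rintro ⟨hx, hxg⟩
      refine ⟨?_, hx⟩
      rw [← hxg, Subgroup.mem_centralizer_iff]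
      intro y hy
      rw [Set.mem_singleton_iff] at hy
      rw [hy]
    · rintro ⟨hxg, hx⟩
      exact ⟨hx, hpart g x hg.2 hx hxg⟩
  rw [hset]
  have hsub : Finset.univ.filter (fun x => x ∈ Subgroup.center G) ⊆
      Finset.univ.filter (fun x => x ∈ Subgroup.centralizer ({g} : Set G)) := by
    intro x hx
    simp only [Finset.mem_filter, Finset.mem_univ, true_and] at hx ⊢
    exact Subgroup.center_le_centralizer _ hx
  rw [← Finset.sum_sdiff hsub]
  ring

section count

variable {G : Type*} [Group G] [Fintype G]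

local notation "ZZ" => Subgroup.center G
local notation "zz" => Nat.card (Subgroup.center G)

open scoped Classical in
/-- the two counting identities in natural numbers -/
theorem count_identities (F : G → ℂ)
    (hpart : ∀ g x : G, g ∉ ZZ → x ∉ ZZ →
      x ∈ Subgroup.centralizer ({g} : Set G) →
      Subgroup.centralizer ({x} : Set G) = Subgroup.centralizer ({g} : Set G))
    (hF : ∑ x, F x = (Fintype.card G : ℂ))
    (hFZ : ∀ z ∈ ZZ, F z = 4)
    (hFC : ∀ g : G, g ∉ ZZ →
      ∑ x ∈ Finset.univ.filter (fun x => x ∈ Subgroup.centralizer ({g} : Set G)), F x =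
        2 * (Nat.card (Subgroup.centralizer ({g} : Set G)) : ℂ)) :
    (∀ C ∈ (Finset.univ.filter (fun x => x ∉ ZZ)).image
          (fun x => Subgroup.centralizer ({x} : Set G)),
        Nat.card C = (Nat.card C / zz) * zz ∧ 2 ≤ Nat.card C / zz) ∧
    ∑ C ∈ (Finset.univ.filter (fun x => x ∉ ZZ)).image
          (fun x => Subgroup.centralizer ({x} : Set G)),
        (Nat.card C / zz - 1) + 1 = (ZZ).index ∧
    ∑ C ∈ (Finset.univ.filter (fun x => x ∉ ZZ)).image
          (fun x => Subgroup.centralizer ({x} : Set G)),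
        (2 * (Nat.card C / zz) - 4) + 4 = (ZZ).index := by
  have hM : ∀ C ∈ (Finset.univ.filter (fun x => x ∉ ZZ)).image
      (fun x => Subgroup.centralizer ({x} : Set G)),
      ∃ g, g ∉ ZZ ∧ C = Subgroup.centralizer ({g} : Set G) := by
    intro C hC
    rw [Finset.mem_image] at hC
    obtain ⟨g, hg, rfl⟩ := hC
    rw [Finset.mem_filter] at hg
    exact ⟨g, hg.2, rfl⟩
  have cardfilter : ∀ (H : Subgroup G) [DecidablePred (fun x => x ∈ H)],
      (Finset.univ.filter (fun x => x ∈ H)).card = Nat.card H := by
    intro H _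
    rw [Nat.card_eq_fintype_card, Fintype.card_subtype]
  have hzpos : 0 < zz := Nat.card_pos
  have hn : Fintype.card G = (ZZ).index * zz := by
    rw [Subgroup.index_mul_card, Nat.card_eq_fintype_card]
  -- the data for each centralizer
  have hcc : ∀ C ∈ (Finset.univ.filter (fun x => x ∉ ZZ)).image
      (fun x => Subgroup.centralizer ({x} : Set G)),
      Nat.card C = (Nat.card C / zz) * zz ∧ 2 ≤ Nat.card C / zz := by
    intro C hC
    obtain ⟨g, hg, rfl⟩ := hM C hC
    have hle : ZZ ≤ Subgroup.centralizer ({g} : Set G) := Subgroup.center_le_centralizer _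
    have hdvd : zz ∣ Nat.card (Subgroup.centralizer ({g} : Set G)) := Subgroup.card_dvd_of_le hle
    have h1 : Nat.card (Subgroup.centralizer ({g} : Set G)) =
        (Nat.card (Subgroup.centralizer ({g} : Set G)) / zz) * zz :=
      (Nat.div_mul_cancel hdvd).symm
    refine ⟨h1, ?_⟩
    have hlt : zz < Nat.card (Subgroup.centralizer ({g} : Set G)) := by
      by_contra hcon
      push Not at hcon
      have heq := Subgroup.eq_of_le_of_card_ge hle hcon
      apply hg
      rw [heq, Subgroup.mem_centralizer_iff]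
      intro y hy
      rw [Set.mem_singleton_iff] at hy
      rw [hy]
    by_contra hcon
    push Not at hcon
    have h3 : Nat.card (Subgroup.centralizer ({g} : Set G)) / zz ≤ 1 := by omega
    have h2 : Nat.card (Subgroup.centralizer ({g} : Set G)) ≤ 1 * zz := by
      calc Nat.card (Subgroup.centralizer ({g} : Set G))
          = (Nat.card (Subgroup.centralizer ({g} : Set G)) / zz) * zz := h1
        _ ≤ 1 * zz := Nat.mul_le_mul_right zz h3
    omega
  refine ⟨hcc, ?_, ?_⟩
  · -- first identity, from the constant function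
    have D2 := decomp_centralizers hpart (fun _ => (1 : ℂ))
    simp only [Finset.sum_const, nsmul_eq_mul, mul_one, Finset.card_univ] at D2
    rw [cardfilter ZZ] at D2
    have hterm : ∀ C ∈ (Finset.univ.filter (fun x => x ∉ ZZ)).image
        (fun x => Subgroup.centralizer ({x} : Set G)),
        (((Finset.univ.filter (fun x => x ∈ C)).card : ℂ) - (zz : ℂ)) =
        (((Nat.card C / zz - 1) * zz : ℕ) : ℂ) := by
      intro C hC
      obtain ⟨h1, h2⟩ := hcc C hC
      rw [cardfilter C]
      have h3 : Nat.card C = (Nat.card C / zz - 1) * zz + zz := by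
        have h4 : Nat.card C / zz = (Nat.card C / zz - 1) + 1 := by omega
        calc Nat.card C = (Nat.card C / zz) * zz := h1
          _ = ((Nat.card C / zz - 1) + 1) * zz := by rw [← h4]
          _ = (Nat.card C / zz - 1) * zz + zz := by ring
      conv_lhs => rw [h3]
      push_cast
      ring
    rw [Finset.sum_congr rfl hterm, hn] at D2
    have D2' : (ZZ).index * zz = zz + ∑ C ∈ (Finset.univ.filter (fun x => x ∉ ZZ)).image
        (fun x => Subgroup.centralizer ({x} : Set G)), (Nat.card C / zz - 1) * zz := by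
      exact_mod_cast D2
    rw [← Finset.sum_mul] at D2'
    have h5 : (ZZ).index * zz = (∑ C ∈ (Finset.univ.filter (fun x => x ∉ ZZ)).image
        (fun x => Subgroup.centralizer ({x} : Set G)), (Nat.card C / zz - 1) + 1) * zz := by
      rw [D2']
      ring
    exact (Nat.eq_of_mul_eq_mul_right hzpos h5).symm
  · have D1 := decomp_centralizers hpart F
    rw [hF] at D1
    have hZsum : ∑ x ∈ Finset.univ.filter (fun x => x ∈ ZZ), F x = 4 * (zz : ℂ) := by
      rw [Finset.sum_congr rfl (fun x hx => hFZ x (Finset.mem_filter.mp hx).2), Finset.sum_const,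
        cardfilter ZZ, nsmul_eq_mul]
      ring
    rw [hZsum] at D1
    have hterm : ∀ C ∈ (Finset.univ.filter (fun x => x ∉ ZZ)).image
        (fun x => Subgroup.centralizer ({x} : Set G)),
        (∑ x ∈ Finset.univ.filter (fun x => x ∈ C), F x - 4 * (zz : ℂ)) =
        (((2 * (Nat.card C / zz) - 4) * zz : ℕ) : ℂ) := by
      intro C hC
      obtain ⟨h1, h2⟩ := hcc C hC
      obtain ⟨g, hg, rfl⟩ := hM C hC
      rw [hFC g hg]
      have h3 : 2 * Nat.card (Subgroup.centralizer ({g} : Set G)) =
          (2 * (Nat.card (Subgroup.centralizer ({g} : Set G)) / zz) - 4) * zz + 4 * zz := by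
        have h4 : 2 * (Nat.card (Subgroup.centralizer ({g} : Set G)) / zz) =
            (2 * (Nat.card (Subgroup.centralizer ({g} : Set G)) / zz) - 4) + 4 := by omega
        calc 2 * Nat.card (Subgroup.centralizer ({g} : Set G))
            = 2 * ((Nat.card (Subgroup.centralizer ({g} : Set G)) / zz) * zz) := by rw [← h1]
          _ = (2 * (Nat.card (Subgroup.centralizer ({g} : Set G)) / zz)) * zz := by ring
          _ = ((2 * (Nat.card (Subgroup.centralizer ({g} : Set G)) / zz) - 4) + 4) * zz := by
              rw [← h4]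
          _ = _ := by ring
      have h5 : (2 : ℂ) * (Nat.card (Subgroup.centralizer ({g} : Set G)) : ℂ) =
          ((2 * Nat.card (Subgroup.centralizer ({g} : Set G)) : ℕ) : ℂ) := by push_cast; ring
      rw [h5, h3]
      push_cast
      ring
    rw [Finset.sum_congr rfl hterm, hn] at D1
    have D1' : (ZZ).index * zz = 4 * zz + ∑ C ∈ (Finset.univ.filter (fun x => x ∉ ZZ)).image
        (fun x => Subgroup.centralizer ({x} : Set G)), (2 * (Nat.card C / zz) - 4) * zz := by
      exact_mod_cast D1
    rw [← Finset.sum_mul] at D1'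
    have h6 : (ZZ).index * zz = (∑ C ∈ (Finset.univ.filter (fun x => x ∉ ZZ)).image
        (fun x => Subgroup.centralizer ({x} : Set G)), (2 * (Nat.card C / zz) - 4) + 4) * zz := by
      rw [D1']
      ring
    exact (Nat.eq_of_mul_eq_mul_right hzpos h6).symm

open scoped Classical in
/-- the abstract counting theorem -/
theorem prim_two_count (F : G → ℂ)
    (hpart : ∀ g x : G, g ∉ ZZ → x ∉ ZZ →
      x ∈ Subgroup.centralizer ({g} : Set G) →
      Subgroup.centralizer ({x} : Set G) = Subgroup.centralizer ({g} : Set G))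
    (hnorm : ∀ g : G, g ∉ ZZ → ((Subgroup.centralizer ({g} : Set G)).subgroupOf
      (Subgroup.normalizer ((Subgroup.centralizer ({g} : Set G) : Subgroup G) : Set G))).index ≤ 2)
    (hF : ∑ x, F x = (Fintype.card G : ℂ))
    (hFZ : ∀ z ∈ ZZ, F z = 4)
    (hFC : ∀ g : G, g ∉ ZZ →
      ∑ x ∈ Finset.univ.filter (fun x => x ∈ Subgroup.centralizer ({g} : Set G)), F x =
        2 * (Nat.card (Subgroup.centralizer ({g} : Set G)) : ℂ))
    (hprim : ∀ g : G, g ∉ ZZ → (Subgroup.centralizer ({g} : Set G)).index ≠ 2) :
    (ZZ).index = 12 ∨ (ZZ).index = 24 ∨ (ZZ).index = 60 := by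
  obtain ⟨hcc, E1, E2⟩ := count_identities F hpart hF hFZ hFC
  generalize hMdef : (Finset.univ.filter (fun x => x ∉ ZZ)).image
      (fun x => Subgroup.centralizer ({x} : Set G)) = M at hcc E1 E2
  have hM : ∀ C, C ∈ M ↔ ∃ g, g ∉ ZZ ∧ C = Subgroup.centralizer ({g} : Set G) := by
    intro C
    rw [← hMdef, Finset.mem_image]
    constructor
    · rintro ⟨g, hg, rfl⟩
      rw [Finset.mem_filter] at hg
      exact ⟨g, hg.2, rfl⟩
    · rintro ⟨g, hg, rfl⟩
      exact ⟨g, Finset.mem_filter.mpr ⟨Finset.mem_univ _, hg⟩, rfl⟩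
  letI := conjSubAction (G := G)
  haveI : Fintype (Subgroup G) := Fintype.ofFinite _
  haveI : Fintype (MulAction.orbitRel.Quotient G (Subgroup G)) := Fintype.ofFinite _
  have hMinv : ∀ (a : G) (C : Subgroup G), C ∈ M → a • C ∈ M := by
    intro a C hC
    obtain ⟨g, hg, rfl⟩ := (hM C).mp hC
    rw [conjSub_smul_centralizer]
    exact (hM _).mpr ⟨a * g * a⁻¹, conj_not_mem_center hg a, rfl⟩
  have hMinv' : ∀ (a : G) (C : Subgroup G), a • C ∈ M ↔ C ∈ M := by
    intro a C
    constructor
    · intro h
      have := hMinv a⁻¹ _ h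
      rwa [inv_smul_smul] at this
    · exact hMinv a C
  have hcard : ∀ (a : G) (C : Subgroup G), Nat.card (a • C : Subgroup G) = Nat.card C :=
    fun a C => card_conjSub_smul a C
  let f₁ : Subgroup G → ℕ := fun C => if C ∈ M then Nat.card C / zz - 1 else 0
  let f₂ : Subgroup G → ℕ := fun C => if C ∈ M then 2 * (Nat.card C / zz) - 4 else 0
  have hf₁ : ∀ (a : G) (C : Subgroup G), f₁ (a • C) = f₁ C := by
    intro a C
    simp only [f₁, hMinv', hcard]
  have hf₂ : ∀ (a : G) (C : Subgroup G), f₂ (a • C) = f₂ C := by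
    intro a C
    simp only [f₂, hMinv', hcard]
  have O1 := sum_eq_sum_orbits f₁ hf₁
  have O2 := sum_eq_sum_orbits f₂ hf₂
  have hs1 : ∑ C : Subgroup G, f₁ C = ∑ C ∈ M, (Nat.card C / zz - 1) := by
    simp only [f₁]
    rw [Finset.sum_ite_mem, Finset.univ_inter]
  have hs2 : ∑ C : Subgroup G, f₂ C = ∑ C ∈ M, (2 * (Nat.card C / zz) - 4) := by
    simp only [f₂]
    rw [Finset.sum_ite_mem, Finset.univ_inter]
  rw [hs1] at O1
  rw [hs2] at O2
  set S := Finset.univ.filter
    (fun ω : MulAction.orbitRel.Quotient G (Subgroup G) => ω.out ∈ M) with hS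
  have O1' : ∑ C ∈ M, (Nat.card C / zz - 1) =
      ∑ ω ∈ S, (MulAction.stabilizer G ω.out).index * (Nat.card ω.out / zz - 1) := by
    rw [O1, hS, Finset.sum_filter]
    apply Finset.sum_congr rfl
    intro ω _
    simp only [f₁]
    split_ifs <;> simp
  have O2' : ∑ C ∈ M, (2 * (Nat.card C / zz) - 4) =
      ∑ ω ∈ S, (MulAction.stabilizer G ω.out).index * (2 * (Nat.card ω.out / zz) - 4) := by
    rw [O2, hS, Finset.sum_filter]
    apply Finset.sum_congr rfl
    intro ω _
    simp only [f₂]
    split_ifs <;> simp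
  rw [O1'] at E1
  rw [O2'] at E2
  have hzpos : 0 < zz := Nat.card_pos
  have hgpos : 0 < (ZZ).index := Nat.pos_of_ne_zero Subgroup.index_ne_zero_of_finite
  -- data of an orbit representative
  have hdata : ∀ ω ∈ S, ∃ g, g ∉ ZZ ∧ ω.out = Subgroup.centralizer ({g} : Set G) := by
    intro ω hω
    rw [hS, Finset.mem_filter] at hω
    exact (hM _).mp hω.2
  have hkν : ∀ ω ∈ S, (MulAction.stabilizer G ω.out).index *
      (ω.out).relIndex (Subgroup.normalizer ((ω.out : Subgroup G) : Set G)) = (ω.out).index := by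
    intro ω _
    rw [stabilizer_conjSub, mul_comm]
    exact Subgroup.relIndex_mul_index Subgroup.le_normalizer
  apply dioph_main S (fun ω => (MulAction.stabilizer G ω.out).index)
    (fun ω => Nat.card ω.out / zz)
    (fun ω => (ω.out).relIndex (Subgroup.normalizer ((ω.out : Subgroup G) : Set G)))
    (ZZ).index hgpos
  · intro ω hω
    obtain ⟨g, hg, hωg⟩ := hdata ω hω
    have h1 := hkν ω hω
    have h2 : (ω.out).relIndex (Subgroup.normalizer ((ω.out : Subgroup G) : Set G)) ≤ 2 := by
      rw [hωg]
      exact hnorm g hg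
    have h3 : (ω.out).relIndex (Subgroup.normalizer ((ω.out : Subgroup G) : Set G)) ≠ 0 := by
      intro h0
      rw [h0, mul_zero] at h1
      exact Subgroup.index_ne_zero_of_finite h1.symm
    show _ = 1 ∨ _ = 2
    omega
  · intro ω hω
    rw [hS, Finset.mem_filter] at hω
    exact (hcc _ hω.2).2
  · intro ω hω
    show _ * _ * _ = _
    rw [hkν ω hω]
    have hω' := hω
    rw [hS, Finset.mem_filter] at hω'
    obtain ⟨h1, -⟩ := hcc _ hω'.2
    have h2 : (ω.out).index * Nat.card ω.out = (ZZ).index * zz := by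
      rw [Subgroup.index_mul_card, Subgroup.index_mul_card]
    rw [h1, ← mul_assoc] at h2
    exact Nat.eq_of_mul_eq_mul_right hzpos h2
  · intro ω hω
    show _ * _ ≠ 2
    rw [hkν ω hω]
    obtain ⟨g, hg, hωg⟩ := hdata ω hω
    rw [hωg]
    exact hprim g hg
  · intro ω hω
    show _ * _ ≠ 1
    rw [hkν ω hω]
    obtain ⟨g, hg, hωg⟩ := hdata ω hω
    rw [hωg]
    intro h1
    rw [Subgroup.index_eq_one] at h1
    apply hg
    rw [Subgroup.mem_center_iff]
    intro y
    have : y ∈ Subgroup.centralizer ({g} : Set G) := by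
      rw [h1]
      exact Subgroup.mem_top y
    rw [Subgroup.mem_centralizer_iff] at this
    exact (this g (Set.mem_singleton g)).symm
  · exact E1
  · exact E2

end count

end Cfsg.Agent.Helper6
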