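import Mathlib
import Cfsg.Agent.Helper6.PrimTwoF
import Cfsg.Agent.Helper6.Constituent
import Cfsg.Agent.Helper6.Linear
import Cfsg.Agent.Helper6.Degrees
import Cfsg.Agent.Helper6.IndFun
import Cfsg.Agent.Helper6.Codegree

/-!
# Primitive faithful irreducible characters of degree two
-/

set_option autoImplicit false
set_option linter.style.haveILetI false
set_option linter.unusedSectionVars false

namespace Cfsg.Agent.Helper6

open Module
open scoped ComplexConjugate

variable {G : Type*} [Group G] [Fintype G]

/-- a character having an abelian subgroup of index equal to its degree... here: an irreducible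
character of degree two is induced from any abelian subgroup of index two -/
theorem induced_of_abelian_index_two {χ : G → ℂ} (hχ : Cfsg.IsIrrCharacter G χ)
    (h2 : χ 1 = 2) (A : Subgroup G) (hA : ∀ x ∈ A, ∀ y ∈ A, x * y = y * x)
    (hidx : A.index = 2) : ∃ θ : A → ℂ, Cfsg.IsCharacter A θ ∧ χ = Cfsg.indFun A θ := by
  classical
  haveI : Fintype A := Fintype.ofFinite A
  have hres : Cfsg.IsCharacter A (fun a : A => χ a) :=
    IsCharacter.restrict A (IsIrrCharacter.isCharacter hχ)
  have hne : (fun a : A => χ a) ≠ 0 := by
    intro h0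
    have := congrFun h0 1
    simp only [Subgroup.coe_one, Pi.zero_apply] at this
    rw [h2] at this
    norm_num at this
  obtain ⟨ψ, hψ, hψne⟩ := exists_irr_constituent hres hne
  have hcomm : ∀ a b : A, a * b = b * a := by
    intro a b
    ext
    exact hA a a.2 b b.2
  have hψ1 : ψ 1 = 1 := (comm_iff_forall_irr_degree_one.mp hcomm) ⟨ψ, hψ⟩
  refine ⟨ψ, IsIrrCharacter.isCharacter hψ, ?_⟩
  symm
  apply eq_of_constituent_of_degree (isCharacter_indFun A ψ (IsIrrCharacter.isCharacter hψ)) hχ
  · rw [frobenius_reciprocity A ψ χ (IsCharacter.isClassFunction (IsIrrCharacter.isCharacter hχ))]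
    rw [classInner_conj_symm]
    intro h0
    apply hψne
    have := congrArg (starRingEnd ℂ) h0
    simpa using this
  · rw [indFun_apply_one, hidx, hψ1, h2]
    norm_num

/-- **Primitive linear groups of degree two**: abstract form for a representation -/
theorem prim_two_of_rep (ρ : Representation ℂ G (Fin 2 → ℂ)) [ρ.IsIrreducible]
    (hfaith : ∀ g : G, ρ.character g = ρ.character 1 → g = 1)
    (hprim : ∀ H : Subgroup G, H ≠ ⊤ → ∀ θ : H → ℂ, Cfsg.IsCharacter H θ →
      ρ.character ≠ Cfsg.indFun H θ) :
    (Subgroup.center G).index = 12 ∨ (Subgroup.center G).index = 24 ∨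
      (Subgroup.center G).index = 60 := by
  classical
  have h2 : finrank ℂ (Fin 2 → ℂ) = 2 := by simp
  have hirr : Cfsg.IsIrrCharacter G ρ.character := ⟨2, ρ, inferInstance, rfl⟩
  have hinj : Function.Injective ρ := by
    intro g h hgh
    have h1 : ρ (g * h⁻¹) = ρ 1 := by
      rw [map_mul, hgh, ← map_mul, mul_inv_cancel]
    have h3 : ρ.character (g * h⁻¹) = ρ.character 1 := by
      unfold Representation.character
      rw [h1]
    exact mul_inv_eq_one.mp (hfaith _ h3)
  have hdeg : ρ.character 1 = 2 := by
    rw [Representation.char_one, h2]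
    norm_num
  apply prim_two_count (fun x => ρ.character x * ρ.character x⁻¹)
  · intro g x hg hx hxg
    exact centralizer_eq_of_mem ρ hinj h2 hg hx hxg
  · intro g hg
    exact index_centralizer_in_normalizer_le ρ hinj h2 hg
  · have h1 := classInner_irr_self hirr
    rw [classInner_def] at h1
    have h3 : ∑ g : G, ρ.character g * conj (ρ.character g) = (Nat.card G : ℂ) := by
      have hne : (Nat.card G : ℂ) ≠ 0 := by exact_mod_cast Nat.card_pos.ne'
      field_simp at h1
      exact h1
    rw [Nat.card_eq_fintype_card] at h3
    rw [← h3]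
    apply Finset.sum_congr rfl
    intro g _
    rw [char_inv_eq_conj]
  · intro z hz
    exact char_mul_char_inv_of_mem_center ρ h2 hz
  · intro g hg
    have h1 := sum_char_centralizer ρ hinj h2 hg
    rw [Finset.sum_subtype (Finset.univ.filter
      (fun x => x ∈ Subgroup.centralizer ({g} : Set G)))
      (p := fun x => x ∈ Subgroup.centralizer ({g} : Set G)) (by simp)
      (fun x => ρ.character x * ρ.character x⁻¹)]
    rw [Nat.card_eq_fintype_card]
    convert h1
  · intro g hg hidx
    obtain ⟨θ, hθ, hind⟩ := induced_of_abelian_index_two hirr hdeg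
      (Subgroup.centralizer ({g} : Set G)) (centralizer_comm ρ hinj h2 hg) hidx
    apply hprim (Subgroup.centralizer ({g} : Set G)) _ θ hθ hind
    intro htop
    rw [htop, Subgroup.index_top] at hidx
    norm_num at hidx

end Cfsg.Agent.Helper6
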