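import Mathlib
import Cfsg.Prelude.Def_Characters
import Cfsg.Prelude.Def_Blocks
import Cfsg.Prelude.Def_CharExt
import Cfsg.Prelude.Def_Solvable
import Cfsg.Agent.Helper6.DetChar
import Cfsg.Agent.Helper6.Linear
import Cfsg.Agent.Helper6.LinearCount
import Cfsg.Agent.Helper6.Expansion
import Cfsg.Agent.Helper6.PrincipalSection3
import Cfsg.Agent.Helper6.PrincipalDefect
import Cfsg.Agent.Helper6.BLeoB
import Cfsg.Agent.Helper6.PrinCentA

/-!
# A faithful character of small degree in the principal block of a perfect group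
-/

set_option autoImplicit false
set_option linter.style.haveILetI false

namespace Cfsg.Agent.Helper6.PrinCent

open scoped ComplexConjugate

universe u

variable {G : Type u} [Group G] {M : Ideal Cfsg.AlgInt}

/-- The determinantal character of `a · 1 + b · λ` for a linear character `λ`. -/
theorem detChar_triv_add_linear [Finite G] (a b : ℕ) (lam : G →* ℂˣ) :
    Cfsg.detChar (fun g : G => (a : ℂ) + (b : ℂ) * ((lam g : ℂˣ) : ℂ)) =
      fun g => ((lam g : ℂˣ) : ℂ) ^ b := by
  let ρ : Representation ℂ G ((Fin a → ℂ) × (Fin b → ℂ)) :=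
    (Representation.trivial ℂ G (Fin a → ℂ)).prod
      (twistRep lam (Representation.trivial ℂ G (Fin b → ℂ)))
  have hρ : ∀ g : G, ρ g = (LinearMap.id : (Fin a → ℂ) →ₗ[ℂ] (Fin a → ℂ)).prodMap
      (((lam g : ℂˣ) : ℂ) • (LinearMap.id : (Fin b → ℂ) →ₗ[ℂ] (Fin b → ℂ))) := by
    intro g
    rfl
  have hchar : ρ.character = fun g : G => (a : ℂ) + (b : ℂ) * ((lam g : ℂˣ) : ℂ) := by
    funext g
    unfold Representation.character
    rw [hρ g, LinearMap.trace_prodMap', LinearMap.trace_id, map_smul, LinearMap.trace_id]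
    simp [mul_comm]
  rw [← hchar, detChar_rep]
  funext g
  rw [detHom_apply, hρ g, LinearMap.det_prodMap, LinearMap.det_id, LinearMap.det_smul,
    LinearMap.det_id]
  simp

/-- In a perfect group the determinantal character of a character is trivial. -/
theorem detChar_eq_one_of_perfect [Finite G] (hperf : commutator G = ⊤) {χ : G → ℂ}
    (hχ : Cfsg.IsCharacter G χ) (g : G) : Cfsg.detChar χ g = 1 := by
  obtain ⟨δ, hδ⟩ := exists_hom_detChar hχ
  rw [hδ]
  simp only
  rw [hom_eq_one_of_mem_commutator δ (by rw [hperf]; exact Subgroup.mem_top g)]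
  rfl

/-- The `p`-elements of the centralizer of a Sylow `p`-subgroup lie in it. -/
theorem mem_sylow_of_mem_centralizer [Finite G] {p : ℕ} [Fact p.Prime] (P : Sylow p G)
    (g : G) (hg : g ∈ Subgroup.centralizer ((P : Subgroup G) : Set G))
    (hord : ∃ k : ℕ, orderOf g = p ^ k) : g ∈ (P : Subgroup G) := by
  have hz : IsPGroup p (Subgroup.zpowers g) := by
    obtain ⟨k, hk⟩ := hord
    apply IsPGroup.of_card (n := k)
    rw [Nat.card_zpowers, hk]
  have hnorm : Subgroup.zpowers g ≤ Subgroup.normalizer ((P : Subgroup G) : Set G) := by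
    rw [Subgroup.zpowers_le]
    exact Subgroup.centralizer_le_normalizer _ hg
  have hsup := IsPGroup.to_sup_of_normal_right' hz P.2 hnorm
  have heq := P.is_maximal' hsup le_sup_right
  have : Subgroup.zpowers g ≤ (P : Subgroup G) := by
    rw [← heq]
    exact le_sup_left
  exact this (Subgroup.mem_zpowers g)

end Cfsg.Agent.Helper6.PrinCent
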