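import Mathlib
import Cfsg.Prelude.Def_Characters
import Cfsg.Prelude.Def_Blocks
import Cfsg.Prelude.Def_CharExt
import Cfsg.Prelude.Def_Solvable
import Cfsg.Agent.Helper6.PrincipalSection
import Cfsg.Agent.Helper6.Induced
import Cfsg.Agent.Helper6.PrinCentB

/-!
# S4729: a faithful character of degree less than `2p` in the principal block of a perfect group
forces the centralizer of a Sylow `p`-subgroup to be a `p`-group
-/

set_option autoImplicit false
set_option linter.style.haveILetI false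

namespace Cfsg.Agent.Helper6.PrinCent

open scoped ComplexConjugate

universe u

variable {G : Type u} [Group G] {M : Ideal Cfsg.AlgInt}

set_option maxHeartbeats 1600000 in
theorem centralizer_isPGroup [Finite G] (p : ℕ) [hp : Fact p.Prime] (M : Ideal Cfsg.AlgInt)
    (hM : Cfsg.IsPModular p M) (hperf : commutator G = ⊤) (P : Sylow p G)
    (χ : Cfsg.IrrCharacter G) (hχ : χ ∈ Cfsg.principalBlock M G)
    (hfaith : ∀ g : G, (χ : G → ℂ) g = (χ : G → ℂ) 1 → g = 1)
    (hdeg : Cfsg.charDegree (χ : G → ℂ) < 2 * p) :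
    IsPGroup p ↥(Subgroup.centralizer ((P : Subgroup G) : Set G)) := by
  classical
  have hχc := IsIrrCharacter.isCharacter χ.2
  obtain ⟨C, hC⟩ : ∃ C : Subgroup G, C = Subgroup.centralizer ((P : Subgroup G) : Set G) :=
    ⟨_, rfl⟩
  rw [← hC]
  haveI : (Cfsg.pPrimeCore p ↥C).Normal := Helper1.pPrimeCore_normal p
  obtain ⟨Q⟩ : Nonempty (Sylow p ↥C) := inferInstance
  have hQ : Subgroup.normalizer ((Q : Subgroup ↥C) : Set ↥C) ≤
      Subgroup.centralizer ((Q : Subgroup ↥C) : Set ↥C) := by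
    intro c _
    rw [Subgroup.mem_centralizer_iff]
    intro q hq
    have hqord : ∃ k : ℕ, orderOf ((q : ↥C) : G) = p ^ k := by
      obtain ⟨k, hk⟩ := (IsPGroup.iff_orderOf.mp Q.2) ⟨q, hq⟩
      refine ⟨k, ?_⟩
      have e1 : orderOf ((q : ↥C) : G) = orderOf q := Subgroup.orderOf_coe q
      have e2 : orderOf (⟨q, hq⟩ : ↥(Q : Subgroup ↥C)) = orderOf q := Subgroup.orderOf_mk q hq
      rw [e1, ← e2, hk]
    have hqP : ((q : ↥C) : G) ∈ (P : Subgroup G) :=
      mem_sylow_of_mem_centralizer P _ (by rw [← hC]; exact q.2) hqord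
    apply Subtype.ext
    have hc : (c : G) ∈ Subgroup.centralizer ((P : Subgroup G) : Set G) := by
      rw [← hC]; exact c.2
    exact Subgroup.mem_centralizer_iff.mp hc _ hqP
  have hidx := BLeo.pPrimeCore_index_of_normalizer_le_centralizer Q hQ
  obtain ⟨K, hKdef⟩ : ∃ K : Subgroup G, K = (Cfsg.pPrimeCore p ↥C).map C.subtype := ⟨_, rfl⟩
  have hKcard : Nat.card K = Nat.card (Cfsg.pPrimeCore p ↥C) := by
    rw [hKdef]
    exact Subgroup.card_map_of_injective (Subgroup.subtype_injective C)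
  have hK : ¬ p ∣ Nat.card K := by
    rw [hKcard]
    exact Helper5.not_dvd_card_pPrimeCore p
  have hKC : K ≤ C := by
    rw [hKdef]
    rintro _ ⟨c, _, rfl⟩
    exact c.2
  have hKP : ∀ k ∈ K, ∀ x ∈ (P : Subgroup G), x * k = k * x := by
    intro k hk x hx
    have hc : k ∈ Subgroup.centralizer ((P : Subgroup G) : Set G) := by
      rw [← hC]; exact hKC hk
    exact Subgroup.mem_centralizer_iff.mp hc x hx
  have hKreg : ∀ g : G, ¬ p ∣ orderOf g →
      g ∈ Subgroup.centralizer ((P : Subgroup G) : Set G) → g ∈ K := by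
    intro g hg hgC
    rw [← hC] at hgC
    have h1 := mem_of_pRegular_of_index (Cfsg.pPrimeCore p ↥C) hidx ⟨g, hgC⟩
      (by rw [Subgroup.orderOf_mk]; exact hg)
    rw [hKdef]
    exact ⟨⟨g, hgC⟩, h1, rfl⟩
  -- it suffices to show that `K` is trivial
  suffices hKbot : ∀ k : K, (k : G) = 1 by
    have hcore1 : Nat.card (Cfsg.pPrimeCore p ↥C) = 1 := by
      rw [← hKcard, Nat.card_eq_one_iff_unique]
      refine ⟨⟨fun a b => ?_⟩, ⟨1⟩⟩
      apply Subtype.ext
      rw [hKbot a, hKbot b]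
    obtain ⟨k, hk⟩ := hidx
    apply IsPGroup.of_card (n := k)
    rw [← (Cfsg.pPrimeCore p ↥C).card_mul_index, hcore1, hk, one_mul]
  haveI : Fintype K := Fintype.ofFinite K
  haveI : Finite (Cfsg.IrrCharacter K) := irr_finite
  haveI : Fintype (Cfsg.IrrCharacter K) := Fintype.ofFinite _
  have hθc : Cfsg.IsCharacter K (fun k : K => (χ : G → ℂ) k) := IsCharacter.restrict K hχc
  have hθcf := IsCharacter.isClassFunction hθc
  have hNex : ∀ ψ : Cfsg.IrrCharacter K, ∃ n : ℕ,
      Cfsg.classInner (fun k : K => (χ : G → ℂ) k) (ψ : K → ℂ) = (n : ℂ) := by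
    intro ψ
    obtain ⟨n, hn⟩ := classInner_irr_char_nat ψ.2 hθc
    refine ⟨n, ?_⟩
    rw [classInner_conj_symm, hn, Complex.conj_natCast]
  choose N hN using hNex
  have hexp := classFunction_expansion (fun k : K => (χ : G → ℂ) k) hθcf
  have hexp' : ∀ k : K, (χ : G → ℂ) (k : G) =
      ∑ ψ : Cfsg.IrrCharacter K, (N ψ : ℂ) * (ψ : K → ℂ) k := by
    intro k
    have := congrFun hexp k
    simp only [Finset.sum_apply, Pi.smul_apply, smul_eq_mul] at this
    rw [this]
    apply Finset.sum_congr rfl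
    intro ψ _
    rw [hN ψ]
  have hD : ∀ ψ : Cfsg.IrrCharacter K,
      (Cfsg.charDegree (ψ : K → ℂ) : ℂ) = (ψ : K → ℂ) 1 := fun ψ =>
    charDegree_cast_of_isCharacter (IsIrrCharacter.isCharacter ψ.2)
  have hDpos : ∀ ψ : Cfsg.IrrCharacter K, 1 ≤ Cfsg.charDegree (ψ : K → ℂ) := by
    intro ψ
    by_contra h
    have h0 : Cfsg.charDegree (ψ : K → ℂ) = 0 := by omega
    have := hD ψ
    rw [h0, Nat.cast_zero] at this
    exact IsIrrCharacter.apply_one_ne_zero ψ.2 this.symm
  have hsum : ∑ ψ : Cfsg.IrrCharacter K, N ψ * Cfsg.charDegree (ψ : K → ℂ) =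
      Cfsg.charDegree (χ : G → ℂ) := by
    apply Nat.cast_injective (R := ℂ)
    rw [charDegree_cast_of_isCharacter hχc]
    have := hexp' 1
    rw [Subgroup.coe_one] at this
    rw [this]
    push_cast
    apply Finset.sum_congr rfl
    intro ψ _
    rw [hD ψ]
  have hdiv : ∀ ψ : Cfsg.IrrCharacter K, ψ ≠ trivIrr K → p ∣ N ψ := by
    intro ψ hψ
    apply dvd_mult_of_principal hM (P : Subgroup G) P.2 K hKP hK hKreg χ hχ ψ _ (N ψ) (hN ψ)
    intro h
    apply hψ
    apply Subtype.ext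
    exact h
  have htriv_val : ∀ k : K, ((trivIrr K : Cfsg.IrrCharacter K) : K → ℂ) k = 1 := fun _ => rfl
  by_cases hex : ∃ ψ₀ : Cfsg.IrrCharacter K, ψ₀ ≠ trivIrr K ∧ N ψ₀ ≠ 0
  · exfalso
    obtain ⟨ψ₀, hψ₀, hNψ₀⟩ := hex
    have hp_le : p ≤ N ψ₀ := Nat.le_of_dvd (Nat.pos_of_ne_zero hNψ₀) (hdiv ψ₀ hψ₀)
    have hterm_le : N ψ₀ * Cfsg.charDegree (ψ₀ : K → ℂ) ≤ Cfsg.charDegree (χ : G → ℂ) := by
      rw [← hsum]
      exact Finset.single_le_sum (f := fun ψ : Cfsg.IrrCharacter K =>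
        N ψ * Cfsg.charDegree (ψ : K → ℂ)) (fun _ _ => Nat.zero_le _) (Finset.mem_univ ψ₀)
    have hother : ∀ ψ' : Cfsg.IrrCharacter K, ψ' ≠ trivIrr K → ψ' ≠ ψ₀ → N ψ' = 0 := by
      intro ψ' hψ' hne
      by_contra h0
      have hp_le' : p ≤ N ψ' := Nat.le_of_dvd (Nat.pos_of_ne_zero h0) (hdiv ψ' hψ')
      have h2 : N ψ₀ * Cfsg.charDegree (ψ₀ : K → ℂ) + N ψ' * Cfsg.charDegree (ψ' : K → ℂ) ≤
          Cfsg.charDegree (χ : G → ℂ) := by
        rw [← hsum, ← Finset.sum_pair (f := fun ψ : Cfsg.IrrCharacter K =>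
          N ψ * Cfsg.charDegree (ψ : K → ℂ)) (Ne.symm hne)]
        exact Finset.sum_le_sum_of_subset (Finset.subset_univ _)
      have h3 : p * 1 ≤ N ψ₀ * Cfsg.charDegree (ψ₀ : K → ℂ) :=
        Nat.mul_le_mul hp_le (hDpos ψ₀)
      have h4 : p * 1 ≤ N ψ' * Cfsg.charDegree (ψ' : K → ℂ) :=
        Nat.mul_le_mul hp_le' (hDpos ψ')
      omega
    have hD1 : Cfsg.charDegree (ψ₀ : K → ℂ) = 1 := by
      by_contra h
      have h2 : 2 ≤ Cfsg.charDegree (ψ₀ : K → ℂ) := by
        have := hDpos ψ₀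
        omega
      have h3 : p * 2 ≤ N ψ₀ * Cfsg.charDegree (ψ₀ : K → ℂ) := Nat.mul_le_mul hp_le h2
      omega
    have hNp : N ψ₀ = p := by
      obtain ⟨t, ht⟩ := hdiv ψ₀ hψ₀
      have ht0 : t ≠ 0 := by
        intro h; rw [h, mul_zero] at ht; exact hNψ₀ ht
      by_contra hne
      have ht2 : 2 ≤ t := by
        by_contra h
        have : t = 1 := by omega
        rw [this, mul_one] at ht
        exact hne ht
      rw [hD1, mul_one] at hterm_le
      have : p * 2 ≤ N ψ₀ := by rw [ht]; exact Nat.mul_le_mul_left p ht2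
      omega
    have hψ₀1 : (ψ₀ : K → ℂ) 1 = 1 := by
      rw [← hD ψ₀, hD1, Nat.cast_one]
    obtain ⟨lam, hlam⟩ := exists_hom_of_irr_degree_one ψ₀.2 hψ₀1
    have hval : (fun k : K => (χ : G → ℂ) (k : G)) =
        fun k : K => ((N (trivIrr K) : ℕ) : ℂ) + (p : ℂ) * ((lam k : ℂˣ) : ℂ) := by
      funext k
      rw [hexp' k, Finset.sum_eq_add (trivIrr K) ψ₀ (Ne.symm hψ₀)]
      · rw [htriv_val, mul_one, hNp, hlam]
      · intro ψ' _ hψ'
        rw [hother ψ' hψ'.1 hψ'.2, Nat.cast_zero, zero_mul]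
      · intro h
        exact absurd (Finset.mem_univ _) h
      · intro h
        exact absurd (Finset.mem_univ _) h
    have hdet1 := detChar_comp_hom K.subtype hχc
    have hdet2 := detChar_triv_add_linear (N (trivIrr K)) p lam
    have hdet3 : ∀ k : K, ((lam k : ℂˣ) : ℂ) ^ p = 1 := by
      intro k
      have h1 : Cfsg.detChar (fun k : K => (χ : G → ℂ) (k : G)) k =
          Cfsg.detChar (χ : G → ℂ) (k : G) := congrFun hdet1 k
      rw [hval, hdet2, detChar_eq_one_of_perfect hperf hχc] at h1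
      exact h1
    have hlam1 : ∀ k : K, lam k = 1 := by
      intro k
      have h1 : (lam k) ^ p = 1 := by
        apply Units.ext
        rw [Units.val_pow_eq_pow_val, hdet3 k, Units.val_one]
      have h2 : (lam k) ^ Nat.card K = 1 := by
        rw [← map_pow, pow_card_eq_one', map_one]
      have h3 := orderOf_dvd_of_pow_eq_one h1
      have h4 := orderOf_dvd_of_pow_eq_one h2
      have hcop : Nat.Coprime p (Nat.card K) := (Nat.Prime.coprime_iff_not_dvd hp.out).mpr hK
      have h5 : orderOf (lam k) = 1 := Nat.eq_one_of_dvd_coprimes hcop h3 h4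
      exact orderOf_eq_one_iff.mp h5
    apply hψ₀
    apply Subtype.ext
    rw [hlam]
    funext k
    rw [hlam1 k]
    rfl
  · simp only [not_exists, not_and, not_not] at hex
    have hconst : ∀ k : K, (χ : G → ℂ) (k : G) = (N (trivIrr K) : ℂ) := by
      intro k
      rw [hexp' k, Finset.sum_eq_single (trivIrr K)]
      · rw [htriv_val, mul_one]
      · intro ψ' _ hψ'
        rw [hex ψ' hψ', Nat.cast_zero, zero_mul]
      · intro h
        exact absurd (Finset.mem_univ _) h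
    intro k
    apply hfaith
    rw [hconst k]
    have := hconst 1
    rw [Subgroup.coe_one] at this
    rw [this]

end Cfsg.Agent.Helper6.PrinCent
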