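import Mathlib
import Cfsg.Prelude.Def_Characters
import Cfsg.Prelude.Def_Blocks
import Cfsg.Agent.Helper6.LambdaSumB
import Cfsg.Agent.Helper6.FrobTrickF
import Cfsg.Agent.Helper6.Constituent
import Cfsg.Agent.Helper6.InducedPart
import Cfsg.Agent.Helper6.LinConstA

/-!
# Characters of `p'`-degree in the principal block over a character of a normal subgroup

If `θ ∈ B₀(N)` has degree prime to `p` and extends to `N P` (`P` a Sylow `p`-subgroup of `G`), then
some `χ ∈ B₀(G)` of degree prime to `p` lies over `θ`.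
-/

set_option autoImplicit false
set_option linter.style.haveILetI false

namespace Cfsg.Agent.Helper6

open scoped ComplexConjugate Pointwise

universe u

variable {G : Type u} [Group G] {M : Ideal Cfsg.AlgInt}

/-- For `χ ∈ B₀`, the sum of `χ` over the `p`-regular elements is congruent to `χ(1)` times the
number of `p`-regular elements. -/
theorem truncSum_one_congr [Fintype G] {p : ℕ} [hp : Fact p.Prime]
    (hM : Cfsg.IsPModular p M) (χ : Cfsg.IrrCharacter G) (hχ : χ ∈ Cfsg.principalBlock M G) :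
    Cfsg.MemLocalIdeal M (truncSum p (fun _ : G => (1 : ℂ)) (χ : G → ℂ) -
      (Cfsg.charDegree (χ : G → ℂ) : ℂ) *
        ((Finset.univ.filter (fun y : G => ¬ p ∣ orderOf y)).card : ℂ)) := by
  classical
  haveI : Finite (Cfsg.IrrCharacter G) := irr_finite
  haveI : Fintype (Cfsg.IrrCharacter G) := Fintype.ofFinite _
  have h1 := (classVec_pRegular hM χ).2 hχ
  have hχ1 : (χ : G → ℂ) 1 ≠ 0 := IsIrrCharacter.apply_one_ne_zero χ.2
  have e : classVec (fun g : G => if p ∣ orderOf g then (0 : ℂ) else 1) χ =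
      truncSum p (fun _ : G => (1 : ℂ)) (χ : G → ℂ) / (χ : G → ℂ) 1 := by
    unfold classVec truncSum truncConj
    rw [Finset.sum_div]
    apply Finset.sum_congr rfl
    intro t _
    by_cases ht : p ∣ orderOf t
    · simp only [if_pos ht, zero_mul, zero_div]
    · simp only [if_neg ht, map_one, one_mul]
  rw [e] at h1
  have hd := charDegree_cast_of_isCharacter (IsIrrCharacter.isCharacter χ.2)
  have h2 := MemLocalIdeal.mul_left hM.2.1
    (memLocalRing_natCast hM.2.1 (Cfsg.charDegree (χ : G → ℂ))) h1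
  rw [hd] at h2 ⊢
  have h3 : (χ : G → ℂ) 1 * (truncSum p (fun _ : G => (1 : ℂ)) (χ : G → ℂ) / (χ : G → ℂ) 1 -
      ((Finset.univ.filter (fun y : G => ¬ p ∣ orderOf y)).card : ℂ)) =
      truncSum p (fun _ : G => (1 : ℂ)) (χ : G → ℂ) - (χ : G → ℂ) 1 *
        ((Finset.univ.filter (fun y : G => ¬ p ∣ orderOf y)).card : ℂ) := by
    field_simp
  rw [h3] at h2
  exact h2

/-- Frobenius reciprocity for the sums over `p`-regular elements. -/
theorem sum_mult_truncSum [Fintype G] (p : ℕ) (H : Subgroup G) [Fintype H]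
    [Fintype (Cfsg.IrrCharacter G)] (η : Cfsg.IrrCharacter H) (m : Cfsg.IrrCharacter G → ℕ)
    (hm : ∀ χ : Cfsg.IrrCharacter G,
      Cfsg.classInner (fun h : H => (χ : G → ℂ) h) (η : H → ℂ) = m χ) :
    ∑ χ : Cfsg.IrrCharacter G, (m χ : ℂ) * truncSum p (fun _ : G => (1 : ℂ)) (χ : G → ℂ) =
      (H.index : ℂ) * truncSum p (fun _ : H => (1 : ℂ)) (η : H → ℂ) := by
  classical
  obtain ⟨r, hr⟩ : ∃ r : G → ℂ, r = truncConj p (fun _ : G => (1 : ℂ)) := ⟨_, rfl⟩
  have hrcf : Cfsg.IsClassFunction G r := by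
    rw [hr]
    exact truncConj_isClassFunction p (fun _ _ => rfl)
  have hexp := classFunction_expansion r hrcf
  have hG0 : (Nat.card G : ℂ) ≠ 0 := by
    have : 0 < Nat.card G := Nat.card_pos
    exact_mod_cast this.ne'
  have hH0 : (Nat.card H : ℂ) ≠ 0 := by
    have : 0 < Nat.card H := Nat.card_pos
    exact_mod_cast this.ne'
  have hidx : (Nat.card G : ℂ) = (Nat.card H : ℂ) * (H.index : ℂ) := by
    have := H.card_mul_index
    exact_mod_cast this.symm
  have hc : ∀ χ : Cfsg.IrrCharacter G, Cfsg.classInner r (χ : G → ℂ) =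
      (Nat.card G : ℂ)⁻¹ * conj (truncSum p (fun _ : G => (1 : ℂ)) (χ : G → ℂ)) := by
    intro χ
    rw [classInner_def]
    congr 1
    unfold truncSum
    rw [map_sum]
    apply Finset.sum_congr rfl
    intro g _
    rw [map_mul, hr]
    congr 1
    unfold truncConj
    split_ifs <;> simp
  have hrH : ∀ h : H, truncConj p (fun _ : H => (1 : ℂ)) h = r (h : G) := by
    intro h
    rw [hr]
    unfold truncConj
    rw [Subgroup.orderOf_coe]
  have hrconj : ∀ g : G, conj (r g) = r g := by
    intro g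
    rw [hr]
    unfold truncConj
    split_ifs <;> simp
  have hz : conj (truncSum p (fun _ : H => (1 : ℂ)) (η : H → ℂ)) =
      ∑ χ : Cfsg.IrrCharacter G, ((Nat.card G : ℂ)⁻¹ *
        conj (truncSum p (fun _ : G => (1 : ℂ)) (χ : G → ℂ))) *
          ((Nat.card H : ℂ) * (m χ : ℂ)) := by
    unfold truncSum
    rw [map_sum]
    calc ∑ h : H, conj (truncConj p (fun _ : H => (1 : ℂ)) h * (η : H → ℂ) h)
        = ∑ h : H, ∑ χ : Cfsg.IrrCharacter G, Cfsg.classInner r (χ : G → ℂ) *
            ((χ : G → ℂ) h * conj ((η : H → ℂ) h)) := by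
          apply Finset.sum_congr rfl
          intro h _
          rw [map_mul, hrH, hrconj]
          have := congrFun hexp (h : G)
          rw [Finset.sum_apply] at this
          simp only [Pi.smul_apply, smul_eq_mul] at this
          rw [this, Finset.sum_mul]
          apply Finset.sum_congr rfl
          intro χ _
          ring
      _ = ∑ χ : Cfsg.IrrCharacter G, Cfsg.classInner r (χ : G → ℂ) *
            ((Nat.card H : ℂ) * Cfsg.classInner (fun h : H => (χ : G → ℂ) h) (η : H → ℂ)) := by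
          rw [Finset.sum_comm]
          apply Finset.sum_congr rfl
          intro χ _
          rw [← Finset.mul_sum]
          congr 1
          rw [classInner_def, ← mul_assoc (Nat.card H : ℂ), mul_inv_cancel₀ hH0, one_mul]
      _ = _ := by
          apply Finset.sum_congr rfl
          intro χ _
          rw [hc χ, hm χ]
          rfl
  have hz2 := congrArg conj hz
  rw [Complex.conj_conj, map_sum] at hz2
  rw [hz2, Finset.mul_sum]
  apply Finset.sum_congr rfl
  intro χ _
  rw [map_mul, map_mul, map_mul, Complex.conj_conj, Complex.conj_natCast, Complex.conj_natCast,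
    map_inv₀, Complex.conj_natCast, hidx]
  have hi0 : (H.index : ℂ) ≠ 0 := by
    intro h0
    rw [h0, mul_zero] at hidx
    exact hG0 hidx
  field_simp


/-- The `p`-regular elements of `N P` lie in `N`. -/
theorem pRegular_mem_of_sup_sylow (N : Subgroup G) [hN : N.Normal] (p : ℕ)
    [hp : Fact p.Prime] (P : Sylow p G) (h : G) (hh : h ∈ N ⊔ (P : Subgroup G))
    (hreg : ¬ p ∣ orderOf h) : h ∈ N := by
  have hmul : h ∈ ((N : Set G) * ((P : Subgroup G) : Set G)) := by
    rw [← Subgroup.normal_mul]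
    exact hh
  obtain ⟨n, hn, x, hx, rfl⟩ := Set.mem_mul.mp hmul
  obtain ⟨k, hk⟩ := P.2 ⟨x, hx⟩
  have hk' : x ^ p ^ k = 1 := by
    have := congrArg Subtype.val hk
    simpa using this
  have hmk : (QuotientGroup.mk (n * x) : G ⧸ N) = QuotientGroup.mk x := by
    rw [QuotientGroup.mk_mul, (QuotientGroup.eq_one_iff n).mpr hn, one_mul]
  have h1 : (QuotientGroup.mk (n * x) : G ⧸ N) ^ p ^ k = 1 := by
    rw [hmk, ← QuotientGroup.mk_pow, hk', QuotientGroup.mk_one]
  have h2 : orderOf (QuotientGroup.mk (n * x) : G ⧸ N) ∣ p ^ k := orderOf_dvd_of_pow_eq_one h1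
  have h3 : orderOf (QuotientGroup.mk (n * x) : G ⧸ N) ∣ orderOf (n * x) :=
    orderOf_map_dvd (QuotientGroup.mk' N) (n * x)
  obtain ⟨j, -, hj⟩ := (Nat.dvd_prime_pow hp.out).mp h2
  rcases Nat.eq_zero_or_pos j with h0 | hpos
  · rw [h0, pow_zero, orderOf_eq_one_iff] at hj
    exact (QuotientGroup.eq_one_iff _).mp hj
  · exfalso
    apply hreg
    refine dvd_trans ?_ h3
    rw [hj]
    exact dvd_pow_self p hpos.ne'

/-- The sum over the `p`-regular elements of an extension to `N P` equals that of the character of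
`N`. -/
theorem truncSum_extension_sup_sylow [Finite G] (N : Subgroup G) [hN : N.Normal] (p : ℕ)
    [hp : Fact p.Prime] (P : Sylow p G) [Fintype N] [Fintype ↥(N ⊔ (P : Subgroup G))]
    (θ : N → ℂ) (η : ↥(N ⊔ (P : Subgroup G)) → ℂ)
    (hext : ∀ n : N, η (Subgroup.inclusion le_sup_left n) = θ n) :
    truncSum p (fun _ : ↥(N ⊔ (P : Subgroup G)) => (1 : ℂ)) η =
      truncSum p (fun _ : N => (1 : ℂ)) θ := by
  classical
  unfold truncSum
  have hinj : Function.Injective
      (Subgroup.inclusion (le_sup_left : N ≤ N ⊔ (P : Subgroup G))) :=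
    Subgroup.inclusion_injective _
  rw [← Finset.sum_subset (Finset.subset_univ (Finset.univ.image
    (Subgroup.inclusion (le_sup_left : N ≤ N ⊔ (P : Subgroup G)))))]
  · rw [Finset.sum_image (fun a _ b _ hab => hinj hab)]
    apply Finset.sum_congr rfl
    intro n _
    rw [hext n]
    congr 1
    unfold truncConj
    have h1 : orderOf (Subgroup.inclusion (le_sup_left : N ≤ N ⊔ (P : Subgroup G)) n) =
        orderOf n := by
      rw [← Subgroup.orderOf_coe, ← Subgroup.orderOf_coe n]
      rfl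
    rw [h1]
  · intro h _ hnot
    have hsing : p ∣ orderOf h := by
      by_contra hreg
      apply hnot
      rw [Finset.mem_image]
      have hreg' : ¬ p ∣ orderOf (h : G) := by rwa [Subgroup.orderOf_coe]
      have hmem := pRegular_mem_of_sup_sylow N p P (h : G) h.2 hreg'
      exact ⟨⟨(h : G), hmem⟩, Finset.mem_univ _, Subtype.ext rfl⟩
    unfold truncConj
    rw [if_pos hsing, zero_mul]


/-- A constituent of the restriction to `H ≥ N` restricts further to a constituent on `N`. -/
theorem constituent_of_extension [Fintype G] (N H : Subgroup G) (hNH : N ≤ H) [Fintype N]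
    [Fintype H] (χ : Cfsg.IrrCharacter G) (η : Cfsg.IrrCharacter H) (θ : Cfsg.IrrCharacter N)
    (hext : ∀ n : N, (η : H → ℂ) (Subgroup.inclusion hNH n) = (θ : N → ℂ) n)
    (hne : Cfsg.classInner (fun h : H => (χ : G → ℂ) h) (η : H → ℂ) ≠ 0) :
    Cfsg.classInner (fun n : N => (χ : G → ℂ) n) (θ : N → ℂ) ≠ 0 := by
  have hres : Cfsg.IsCharacter H (fun h : H => (χ : G → ℂ) h) :=
    IsCharacter.restrict H (IsIrrCharacter.isCharacter χ.2)
  have hsub := sub_isCharacter_of_constituent hres η.2 hne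
  have hsubN : Cfsg.IsCharacter N (fun n : N =>
      ((fun h : H => (χ : G → ℂ) h) - (η : H → ℂ)) (Subgroup.inclusion hNH n)) :=
    IsCharacter.comp_hom (Subgroup.inclusion hNH) hsub
  have heq : (fun n : N => (χ : G → ℂ) n) =
      (fun n : N => ((fun h : H => (χ : G → ℂ) h) - (η : H → ℂ)) (Subgroup.inclusion hNH n)) +
        (θ : N → ℂ) := by
    funext n
    rw [Pi.add_apply, Pi.sub_apply, hext n]
    simp
  obtain ⟨k, hk⟩ := classInner_char_char_nat hsubN (IsIrrCharacter.isCharacter θ.2)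
  rw [heq, classInner_add_left, hk, classInner_irr_self θ.2]
  have : ((k : ℂ) + 1) = ((k + 1 : ℕ) : ℂ) := by push_cast; rfl
  rw [this]
  exact_mod_cast Nat.succ_ne_zero k

/-- **S4583.** -/
theorem exists_principal_pprime_over [Finite G] (N : Subgroup G) [hN : N.Normal] (p : ℕ)
    [hp : Fact p.Prime] (hM : Cfsg.IsPModular p M) (P : Sylow p G) [Fintype N]
    (θ : Cfsg.IrrCharacter N) (hθ : θ ∈ Cfsg.principalBlock M N)
    (hdeg : ¬ p ∣ Cfsg.charDegree (θ : N → ℂ))
    (hext : ∃ η : Cfsg.IrrCharacter ↥(N ⊔ (P : Subgroup G)), ∀ n : N,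
      (η : ↥(N ⊔ (P : Subgroup G)) → ℂ) (Subgroup.inclusion le_sup_left n) = (θ : N → ℂ) n) :
    ∃ χ : Cfsg.IrrCharacter G, χ ∈ Cfsg.principalBlock M G ∧
      ¬ p ∣ Cfsg.charDegree (χ : G → ℂ) ∧
      Cfsg.classInner (fun n : N => (χ : G → ℂ) n) (θ : N → ℂ) ≠ 0 := by
  classical
  haveI := Fintype.ofFinite G
  haveI : Finite (Cfsg.IrrCharacter G) := irr_finite
  haveI : Fintype (Cfsg.IrrCharacter G) := Fintype.ofFinite _
  haveI : Fintype ↥(N ⊔ (P : Subgroup G)) := Fintype.ofFinite _
  obtain ⟨η, hη⟩ := hext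
  by_contra hcon
  push Not at hcon
  have hnat : ∀ χ : Cfsg.IrrCharacter G, ∃ n : ℕ,
      Cfsg.classInner (fun h : ↥(N ⊔ (P : Subgroup G)) => (χ : G → ℂ) h)
        (η : ↥(N ⊔ (P : Subgroup G)) → ℂ) = n := by
    intro χ
    exact classInner_char_char_nat
      (IsCharacter.restrict _ (IsIrrCharacter.isCharacter χ.2)) (IsIrrCharacter.isCharacter η.2)
  choose m hm using hnat
  have hrec := sum_mult_truncSum p (N ⊔ (P : Subgroup G)) η m hm
  have hηθ := truncSum_extension_sup_sylow N p P (θ : N → ℂ)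
    (η : ↥(N ⊔ (P : Subgroup G)) → ℂ) hη
  have hterm : ∀ χ : Cfsg.IrrCharacter G,
      Cfsg.MemLocalIdeal M ((m χ : ℂ) * truncSum p (fun _ : G => (1 : ℂ)) (χ : G → ℂ)) := by
    intro χ
    by_cases hχ : χ ∈ Cfsg.principalBlock M G
    · by_cases hm0 : m χ = 0
      · rw [hm0, Nat.cast_zero, zero_mul]
        exact memLocalIdeal_zero hM.2.1
      · have hne : Cfsg.classInner (fun h : ↥(N ⊔ (P : Subgroup G)) => (χ : G → ℂ) h)
            (η : ↥(N ⊔ (P : Subgroup G)) → ℂ) ≠ 0 := by
          rw [hm χ]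
          exact_mod_cast hm0
        have hover := constituent_of_extension N (N ⊔ (P : Subgroup G)) le_sup_left χ η θ hη hne
        have hdvd : p ∣ Cfsg.charDegree (χ : G → ℂ) := by
          by_contra h
          exact hover (hcon χ hχ h)
        have h1 := truncSum_one_congr hM χ hχ
        have h2 : Cfsg.MemLocalIdeal M ((Cfsg.charDegree (χ : G → ℂ) : ℂ) *
            ((Finset.univ.filter (fun y : G => ¬ p ∣ orderOf y)).card : ℂ)) := by
          apply memLocalIdeal_natCast_mul_of_dvd hM.2.1 p hM.2.2 _ hdvd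
          exact isIntegral_algebraMap (R := ℤ) (A := ℂ)
            (x := ((Finset.univ.filter (fun y : G => ¬ p ∣ orderOf y)).card : ℤ)) |>
              fun h => by simpa using h
        have h3 := MemLocalIdeal.add hM.2.1 h1 h2
        rw [sub_add_cancel] at h3
        exact MemLocalIdeal.mul_left hM.2.1 (memLocalRing_natCast hM.2.1 _) h3
    · have h0 : truncSum p (fun _ : G => (1 : ℂ)) (χ : G → ℂ) = 0 := by
        by_contra h
        exact hχ ((mem_principalBlock_iff_truncSum hM χ).mpr h)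
      rw [h0, mul_zero]
      exact memLocalIdeal_zero hM.2.1
  have hsum := MemLocalIdeal.sum hM.2.1 Finset.univ _ (fun χ _ => hterm χ)
  rw [hrec, hηθ] at hsum
  have h4 := truncSum_one_congr hM θ hθ
  have h5 := MemLocalIdeal.mul_left hM.2.1
    (memLocalRing_natCast hM.2.1 (N ⊔ (P : Subgroup G)).index) h4
  have h6 := MemLocalIdeal.sub hM.2.1 hsum h5
  have h7 : ((N ⊔ (P : Subgroup G)).index : ℂ) * truncSum p (fun _ : N => (1 : ℂ)) (θ : N → ℂ) -
      ((N ⊔ (P : Subgroup G)).index : ℂ) * (truncSum p (fun _ : N => (1 : ℂ)) (θ : N → ℂ) -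
        (Cfsg.charDegree (θ : N → ℂ) : ℂ) *
          ((Finset.univ.filter (fun y : N => ¬ p ∣ orderOf y)).card : ℂ)) =
      (((N ⊔ (P : Subgroup G)).index * Cfsg.charDegree (θ : N → ℂ) *
        (Finset.univ.filter (fun y : N => ¬ p ∣ orderOf y)).card : ℕ) : ℂ) := by
    push_cast
    ring
  rw [h7] at h6
  have h8 := dvd_of_memLocalIdeal_natCast hM _ h6
  rcases (Nat.Prime.dvd_mul hp.out).mp h8 with h | h
  · rcases (Nat.Prime.dvd_mul hp.out).mp h with h | h
    · have h9 : (N ⊔ (P : Subgroup G)).index ∣ (P : Subgroup G).index :=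
        Subgroup.index_dvd_of_le le_sup_right
      exact P.not_dvd_index (h.trans h9)
    · exact hdeg h
  · have h1N : ¬ p ∣ orderOf (1 : N) := by
      rw [orderOf_one]
      exact hp.out.one_lt.ne' ∘ Nat.dvd_one.mp
    exact (principal_blockCoeff_mul_card hM (1 : N) h1N).1 h

end Cfsg.Agent.Helper6
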