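import Mathlib
import Cfsg.Prelude.Def_Characters
import Cfsg.Prelude.Def_Blocks
import Cfsg.Agent.Helper6.WeakOrth
import Cfsg.Agent.Helper6.OddReal
import Cfsg.Agent.Helper6.DefectClass

/-!
# The principal `p`- and `q`-blocks of a group without elements of order `pq` meet nontrivially
-/

set_option autoImplicit false
set_option linter.style.haveILetI false

namespace Cfsg.Agent.Helper6

open scoped ComplexConjugate

universe u

variable {G : Type u} [Group G]

theorem exists_common_nonprincipal [Finite G] (p q : ℕ) [hpp : Fact p.Prime] [hqp : Fact q.Prime]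
    (hpq : p ≠ q) (hp : p ∣ Nat.card G) (hq : q ∣ Nat.card G)
    (hno : ∀ g : G, orderOf g ≠ p * q) (Mp Mq : Ideal Cfsg.AlgInt)
    (hMp : Cfsg.IsPModular p Mp) (hMq : Cfsg.IsPModular q Mq) :
    ∃ χ : Cfsg.IrrCharacter G, (χ : G → ℂ) ≠ (fun _ => 1) ∧ χ ∈ Cfsg.principalBlock Mp G ∧
      χ ∈ Cfsg.principalBlock Mq G := by
  classical
  haveI := Fintype.ofFinite G
  haveI : Finite (Cfsg.IrrCharacter G) := irr_finite
  haveI : Fintype (Cfsg.IrrCharacter G) := Fintype.ofFinite _
  obtain ⟨y, hy⟩ := exists_prime_orderOf_dvd_card' p hp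
  obtain ⟨z, hz⟩ := exists_prime_orderOf_dvd_card' q hq
  set one : Cfsg.IrrCharacter G := ⟨fun _ => (1 : ℂ), isIrrCharacter_one⟩ with hone
  set Bp := Cfsg.principalBlock Mp G with hBpdef
  set Bq := Cfsg.principalBlock Mq G with hBqdef
  have hBp : Cfsg.IsPBlock Mp Bp := ⟨one, rfl⟩
  have hBq : Cfsg.IsPBlock Mq Bq := ⟨one, rfl⟩
  have h1p : one ∈ Bp := mem_blockOf_self hMp.2.1 one
  have h1q : one ∈ Bq := mem_blockOf_self hMq.2.1 one
  by_contra hcon
  push Not at hcon
  set θ : G → ℂ := fun g => ∑ χ : Cfsg.IrrCharacter G,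
    if χ ∈ Bp then conj ((χ : G → ℂ) y) * (χ : G → ℂ) g else 0 with hθ
  have hyp : p ∣ orderOf y := by rw [hy]
  have hzq : q ∣ orderOf z := by rw [hz]
  have fact1 : ∀ x : G, ¬ p ∣ orderOf x → θ x = 0 := by
    intro x hx
    have h := weak_block_orthogonality hMp.2.1 p hMp.2.2 Bp hBp x y hx hyp
    rw [finsum_mem_eq_sum_ite] at h
    simp only [hθ]
    refine Eq.trans (Finset.sum_congr rfl ?_) h
    intro χ _
    by_cases hχ : χ ∈ Bp
    · rw [if_pos hχ, if_pos hχ, mul_comm]
    · rw [if_neg hχ, if_neg hχ]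
  have fact2 : ∀ g : G, q ∣ orderOf g → ¬ p ∣ orderOf g := by
    intro g hqg hpg
    have hcop : Nat.Coprime p q := (Nat.coprime_primes hpp.1 hqp.1).mpr hpq
    have hdvd : p * q ∣ orderOf g := hcop.mul_dvd_of_dvd_of_dvd hpg hqg
    have h0 : orderOf g ≠ 0 := (orderOf_pos g).ne'
    exact hno _ (orderOf_pow_orderOf_div h0 hdvd)
  -- the coefficient identity
  have hcoef : ∀ χ : Cfsg.IrrCharacter G,
      (if χ ∈ Bp then conj ((χ : G → ℂ) y) else 0) =
        (Nat.card G : ℂ)⁻¹ * ∑ x : G, θ x * conj ((χ : G → ℂ) x) := by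
    intro χ
    simp only [hθ]
    simp_rw [Finset.sum_mul]
    rw [Finset.sum_comm, Finset.mul_sum]
    have h2 : ∀ ψ : Cfsg.IrrCharacter G,
        (Nat.card G : ℂ)⁻¹ * (∑ x : G, (if ψ ∈ Bp then conj ((ψ : G → ℂ) y) * (ψ : G → ℂ) x
          else 0) * conj ((χ : G → ℂ) x)) =
        if ψ ∈ Bp then conj ((ψ : G → ℂ) y) * Cfsg.classInner (ψ : G → ℂ) (χ : G → ℂ)
          else 0 := by
      intro ψ
      by_cases hψ : ψ ∈ Bp
      · simp only [if_pos hψ]
        rw [classInner_def, Finset.mul_sum, Finset.mul_sum, Finset.mul_sum]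
        apply Finset.sum_congr rfl
        intro x _
        ring
      · simp only [if_neg hψ, zero_mul]
        rw [Finset.sum_const_zero, mul_zero]
    simp_rw [h2]
    rw [Finset.sum_eq_single χ]
    · by_cases hχ : χ ∈ Bp
      · rw [if_pos hχ, if_pos hχ, classInner_irr_self χ.2, mul_one]
      · rw [if_neg hχ, if_neg hχ]
    · intro ψ _ hne
      by_cases hψ : ψ ∈ Bp
      · rw [if_pos hψ, classInner_irr_ne ψ.2 χ.2, mul_zero]
        intro h
        exact hne (Subtype.ext h)
      · rw [if_neg hψ]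
    · intro h
      exact absurd (Finset.mem_univ _) h
  -- the sum computed in two ways
  have hS1 : ∑ χ : Cfsg.IrrCharacter G, (if χ ∈ Bq then
      (if χ ∈ Bp then conj ((χ : G → ℂ) y) else 0) * (χ : G → ℂ) z else 0) = 1 := by
    rw [Finset.sum_eq_single one]
    · rw [if_pos h1q, if_pos h1p]
      simp [hone]
    · intro χ _ hne
      by_cases hχq : χ ∈ Bq
      · rw [if_pos hχq]
        by_cases hχp : χ ∈ Bp
        · exfalso
          have hne' : (χ : G → ℂ) ≠ fun _ => 1 := by
            intro h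
            exact hne (Subtype.ext h)
          exact hcon χ hne' hχp hχq
        · rw [if_neg hχp, zero_mul]
      · rw [if_neg hχq]
    · intro h
      exact absurd (Finset.mem_univ _) h
  have hS2 : ∑ χ : Cfsg.IrrCharacter G, (if χ ∈ Bq then
      (if χ ∈ Bp then conj ((χ : G → ℂ) y) else 0) * (χ : G → ℂ) z else 0) = 0 := by
    simp_rw [hcoef]
    have h3 : ∀ χ : Cfsg.IrrCharacter G, (if χ ∈ Bq then
        ((Nat.card G : ℂ)⁻¹ * ∑ x : G, θ x * conj ((χ : G → ℂ) x)) * (χ : G → ℂ) z else 0) =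
        ∑ x : G, (Nat.card G : ℂ)⁻¹ * θ x *
          (if χ ∈ Bq then conj ((χ : G → ℂ) x) * (χ : G → ℂ) z else 0) := by
      intro χ
      by_cases hχ : χ ∈ Bq
      · simp only [if_pos hχ]
        rw [Finset.mul_sum, Finset.sum_mul]
        apply Finset.sum_congr rfl
        intro x _
        ring
      · simp only [if_neg hχ, mul_zero]
        rw [Finset.sum_const_zero]
    simp_rw [h3]
    rw [Finset.sum_comm]
    apply Finset.sum_eq_zero
    intro x _
    rw [← Finset.mul_sum]
    by_cases hx : q ∣ orderOf x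
    · rw [fact1 x (fact2 x hx), mul_zero, zero_mul]
    · have h := weak_block_orthogonality hMq.2.1 q hMq.2.2 Bq hBq x z hx hzq
      rw [finsum_mem_eq_sum_ite] at h
      have h4 : ∑ χ : Cfsg.IrrCharacter G,
          (if χ ∈ Bq then conj ((χ : G → ℂ) x) * (χ : G → ℂ) z else 0) =
          conj (∑ χ : Cfsg.IrrCharacter G,
            if χ ∈ Bq then (χ : G → ℂ) x * conj ((χ : G → ℂ) z) else 0) := by
        rw [map_sum]
        apply Finset.sum_congr rfl
        intro χ _
        by_cases hχ : χ ∈ Bq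
        · rw [if_pos hχ, if_pos hχ, map_mul, Complex.conj_conj]
        · rw [if_neg hχ, if_neg hχ, map_zero]
      rw [h4, h, map_zero, mul_zero]
  rw [hS1] at hS2
  exact one_ne_zero hS2

end Cfsg.Agent.Helper6
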