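import Mathlib
import Cfsg.Prelude.Def_Characters
import Cfsg.Agent.Helper6.ClassInner

/-!
# Reduction of a binary lattice inside a space of class functions

A subgroup `Λ` of `H → ℂ` on which `N ⟪·,·⟫` is integer valued and which spans a plane has a
reduced `ℤ`-basis.
-/

set_option autoImplicit false
set_option linter.style.haveILetI false

namespace Cfsg.Agent.Helper6.Q2

open Cfsg.Agent.Helper6
open Module
open scoped ComplexConjugate

universe u

variable {H : Type u} [Group H] [Fintype H]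

/-- the inner product of a function with itself is a non-negative real -/
theorem classInner_self_ofReal (φ : H → ℂ) :
    ∃ r : ℝ, 0 ≤ r ∧ Cfsg.classInner φ φ = (r : ℂ) := by
  refine ⟨(Nat.card H : ℝ)⁻¹ * ∑ g : H, ‖φ g‖ ^ 2, by positivity, ?_⟩
  rw [classInner_self_eq]
  push_cast
  rfl

/-- an integer valued scaled norm is a natural number -/
theorem exists_nat_norm (Λ : AddSubgroup (H → ℂ)) (N : ℕ)
    (hint : ∀ u ∈ Λ, ∀ v ∈ Λ, ∃ m : ℤ, (N : ℂ) * Cfsg.classInner u v = (m : ℂ))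
    (u : H → ℂ) (hu : u ∈ Λ) : ∃ k : ℕ, (N : ℂ) * Cfsg.classInner u u = (k : ℂ) := by
  obtain ⟨m, hm⟩ := hint u hu u hu
  obtain ⟨r, hr0, hr⟩ := classInner_self_ofReal u
  have h1 : ((N : ℝ) * r : ℝ) = (m : ℝ) := by
    have : (((N : ℝ) * r : ℝ) : ℂ) = ((m : ℝ) : ℂ) := by
      push_cast
      rw [← hr, hm]
    exact_mod_cast this
  have hm0 : 0 ≤ m := by
    have : (0 : ℝ) ≤ (m : ℝ) := by rw [← h1]; positivity
    exact_mod_cast this
  refine ⟨m.toNat, ?_⟩
  rw [hm]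
  have : ((m.toNat : ℤ) : ℂ) = (m : ℂ) := by rw [Int.toNat_of_nonneg hm0]
  rw [← this]
  norm_cast

/-- expansion of the scaled norm of a real combination -/
theorem scaled_norm_comb (N : ℕ) (v₁ v₂ : H → ℂ) (α β γ : ℤ)
    (hα : (N : ℂ) * Cfsg.classInner v₁ v₁ = (α : ℂ))
    (hβ : (N : ℂ) * Cfsg.classInner v₁ v₂ = (β : ℂ))
    (hγ : (N : ℂ) * Cfsg.classInner v₂ v₂ = (γ : ℂ)) (x y : ℝ) :
    (N : ℂ) * Cfsg.classInner ((x : ℂ) • v₁ + (y : ℂ) • v₂) ((x : ℂ) • v₁ + (y : ℂ) • v₂) =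
      ((x ^ 2 * α + 2 * x * y * β + y ^ 2 * γ : ℝ) : ℂ) := by
  have hβ' : (N : ℂ) * Cfsg.classInner v₂ v₁ = (β : ℂ) := by
    rw [classInner_conj_symm v₁ v₂]
    have : (N : ℂ) * conj (Cfsg.classInner v₁ v₂) = conj ((N : ℂ) * Cfsg.classInner v₁ v₂) := by
      rw [map_mul, Complex.conj_natCast]
    rw [this, hβ, map_intCast]
  rw [classInner_add_left, classInner_add_right, classInner_add_right,
    classInner_smul_left, classInner_smul_left, classInner_smul_right, classInner_smul_right,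
    classInner_smul_left, classInner_smul_left, classInner_smul_right, classInner_smul_right,
    Complex.conj_ofReal, Complex.conj_ofReal]
  have e1 : (N : ℂ) * ((x : ℂ) * ((x : ℂ) * Cfsg.classInner v₁ v₁) +
      (x : ℂ) * ((y : ℂ) * Cfsg.classInner v₁ v₂) +
      ((y : ℂ) * ((x : ℂ) * Cfsg.classInner v₂ v₁) +
        (y : ℂ) * ((y : ℂ) * Cfsg.classInner v₂ v₂))) =
      (x : ℂ) * (x : ℂ) * ((N : ℂ) * Cfsg.classInner v₁ v₁) +
      (x : ℂ) * (y : ℂ) * ((N : ℂ) * Cfsg.classInner v₁ v₂) +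
      ((y : ℂ) * (x : ℂ) * ((N : ℂ) * Cfsg.classInner v₂ v₁) +
        (y : ℂ) * (y : ℂ) * ((N : ℂ) * Cfsg.classInner v₂ v₂)) := by ring
  rw [e1, hα, hβ, hβ', hγ]
  push_cast
  ring

omit [Group H] [Fintype H] in
/-- two independent vectors of a plane span it -/
theorem exists_coords_of_plane (S : Submodule ℂ (H → ℂ)) (hS : finrank ℂ S = 2)
    (v₁ v₂ : H → ℂ) (h1 : v₁ ∈ S) (h2 : v₂ ∈ S)
    (hind : ∀ a b : ℂ, a • v₁ + b • v₂ = 0 → a = 0 ∧ b = 0) (w : H → ℂ) (hw : w ∈ S) :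
    ∃ a b : ℂ, w = a • v₁ + b • v₂ := by
  haveI : FiniteDimensional ℂ S := FiniteDimensional.of_finrank_pos (by rw [hS]; norm_num)
  have hli : LinearIndependent ℂ ![v₁, v₂] := LinearIndependent.pair_iff.mpr hind
  have hT : finrank ℂ (Submodule.span ℂ (Set.range ![v₁, v₂])) = 2 := by
    rw [finrank_span_eq_card hli]
    simp
  have hle : Submodule.span ℂ (Set.range ![v₁, v₂]) ≤ S := by
    rw [Submodule.span_le]
    rintro _ ⟨i, rfl⟩
    fin_cases i
    · exact h1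
    · exact h2
  have heq : Submodule.span ℂ (Set.range ![v₁, v₂]) = S :=
    Submodule.eq_of_le_of_finrank_eq hle (by rw [hT, hS])
  have hw' : w ∈ Submodule.span ℂ (Set.range ![v₁, v₂]) := heq ▸ hw
  have hr : Set.range ![v₁, v₂] = {v₁, v₂} := by
    ext x
    simp only [Set.mem_range, Set.mem_insert_iff, Set.mem_singleton_iff]
    constructor
    · rintro ⟨i, rfl⟩
      fin_cases i
      · left; rfl
      · right; rfl
    · rintro (rfl | rfl)
      · exact ⟨0, rfl⟩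
      · exact ⟨1, rfl⟩
  rw [hr, Submodule.mem_span_pair] at hw'
  obtain ⟨a, b, hab⟩ := hw'
  exact ⟨a, b, hab.symm⟩


end Cfsg.Agent.Helper6.Q2
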