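import Mathlib
import Cfsg.Prelude.Def_Characters
import Cfsg.Agent.Helper6.Q2a

/-!
# A reduced basis of a binary lattice of class functions
-/

set_option autoImplicit false
set_option linter.style.haveILetI false

namespace Cfsg.Agent.Helper6.Q2

open Cfsg.Agent.Helper6
open Module
open scoped ComplexConjugate

universe u

variable {H : Type u} [Group H] [Fintype H]

/-- a real combination with small coefficients has small norm -/
theorem small_comb_lt (α β γ : ℤ) (hα : 0 < α) (hβ : 2 * |β| ≤ α) (hαγ : α ≤ γ) (x y : ℝ)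
    (hx : |x| ≤ 1 / 2) (hy : |y| ≤ 1 / 2) :
    x ^ 2 * α + 2 * x * y * β + y ^ 2 * γ ≤ 3 / 4 * (γ : ℝ) := by
  have hα' : (0 : ℝ) < α := by exact_mod_cast hα
  have hβ' : 2 * |(β : ℝ)| ≤ α := by exact_mod_cast hβ
  have hαγ' : (α : ℝ) ≤ γ := by exact_mod_cast hαγ
  have hx2 : x ^ 2 ≤ 1 / 4 := by
    have := abs_le.mp hx
    nlinarith
  have hy2 : y ^ 2 ≤ 1 / 4 := by
    have := abs_le.mp hy
    nlinarith
  have hxy : |x * y| ≤ 1 / 4 := by
    rw [abs_mul]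
    have h0x := abs_nonneg x
    have h0y := abs_nonneg y
    nlinarith
  have hcross : 2 * x * y * β ≤ 2 * (1 / 4) * |(β : ℝ)| := by
    have h1 : 2 * x * y * β = 2 * ((x * y) * β) := by ring
    rw [h1]
    have h2 : (x * y) * β ≤ |x * y| * |(β : ℝ)| := by
      rw [← abs_mul]
      exact le_abs_self _
    have h3 : |x * y| * |(β : ℝ)| ≤ 1 / 4 * |(β : ℝ)| :=
      mul_le_mul_of_nonneg_right hxy (abs_nonneg _)
    linarith
  have h1 : x ^ 2 * α ≤ 1 / 4 * α := mul_le_mul_of_nonneg_right hx2 hα'.le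
  have hγ' : (0 : ℝ) ≤ γ := hα'.le.trans hαγ'
  have h2 : y ^ 2 * γ ≤ 1 / 4 * γ := mul_le_mul_of_nonneg_right hy2 hγ'
  linarith

/-- **reduced basis** of a lattice spanning a plane on which `N ⟪·,·⟫` is integer valued -/
theorem exists_reduced_basis (Λ : AddSubgroup (H → ℂ)) (N : ℕ) (hN : 0 < N)
    (hint : ∀ u ∈ Λ, ∀ v ∈ Λ, ∃ m : ℤ, (N : ℂ) * Cfsg.classInner u v = (m : ℂ))
    (S : Submodule ℂ (H → ℂ)) (hS : finrank ℂ S = 2) (hΛS : ∀ u ∈ Λ, u ∈ S)
    (hspan : S ≤ Submodule.span ℂ (Λ : Set (H → ℂ))) :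
    ∃ v₁ ∈ Λ, ∃ v₂ ∈ Λ, ∃ α β γ : ℤ,
      (N : ℂ) * Cfsg.classInner v₁ v₁ = (α : ℂ) ∧
      (N : ℂ) * Cfsg.classInner v₁ v₂ = (β : ℂ) ∧
      (N : ℂ) * Cfsg.classInner v₂ v₂ = (γ : ℂ) ∧
      0 < α ∧ 2 * |β| ≤ α ∧ α ≤ γ ∧
      (∀ w ∈ Λ, ∃ m₁ m₂ : ℤ, w = (m₁ : ℂ) • v₁ + (m₂ : ℂ) • v₂) ∧
      (∀ a b : ℂ, a • v₁ + b • v₂ = 0 → a = 0 ∧ b = 0) := by
  classical
  have hN0 : (N : ℂ) ≠ 0 := by exact_mod_cast hN.ne'
  have hSne : S ≠ ⊥ := by
    intro h
    rw [h, finrank_bot] at hS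
    norm_num at hS
  -- a non-zero element
  have hex1 : ∃ u ∈ Λ, u ≠ 0 := by
    by_contra hcon
    push Not at hcon
    apply hSne
    rw [eq_bot_iff]
    refine hspan.trans ?_
    rw [Submodule.span_le]
    intro u hu
    rw [SetLike.mem_coe, Submodule.mem_bot]
    exact hcon u hu
  have hP1 : ∃ k : ℕ, ∃ u ∈ Λ, u ≠ 0 ∧ (N : ℂ) * Cfsg.classInner u u = (k : ℂ) := by
    obtain ⟨u, hu, hu0⟩ := hex1
    obtain ⟨k, hk⟩ := exists_nat_norm Λ N hint u hu
    exact ⟨k, u, hu, hu0, hk⟩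
  obtain ⟨v₁, hv₁, hv₁0, hk1⟩ := Nat.find_spec hP1
  have hmin1 : ∀ u ∈ Λ, u ≠ 0 → ∀ k : ℕ, (N : ℂ) * Cfsg.classInner u u = (k : ℂ) →
      Nat.find hP1 ≤ k := fun u hu hu0 k hk => Nat.find_min' hP1 ⟨u, hu, hu0, hk⟩
  set k1 := Nat.find hP1 with hk1def
  -- an element outside the line of `v₁`
  have hex2 : ∃ u ∈ Λ, ¬ ∃ c : ℂ, u = c • v₁ := by
    by_contra hcon
    push Not at hcon
    have hle : S ≤ Submodule.span ℂ {v₁} := by
      refine hspan.trans ?_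
      rw [Submodule.span_le]
      intro u hu
      obtain ⟨c, hc⟩ := hcon u hu
      rw [SetLike.mem_coe, Submodule.mem_span_singleton]
      exact ⟨c, hc.symm⟩
    have h1 := Submodule.finrank_mono hle
    have h2 : finrank ℂ (Submodule.span ℂ ({v₁} : Set (H → ℂ))) ≤ 1 :=
      (finrank_span_le_card ({v₁} : Set (H → ℂ))).trans (by simp)
    omega
  have hP2 : ∃ k : ℕ, ∃ u ∈ Λ, (¬ ∃ c : ℂ, u = c • v₁) ∧
      (N : ℂ) * Cfsg.classInner u u = (k : ℂ) := by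
    obtain ⟨u, hu, hu0⟩ := hex2
    obtain ⟨k, hk⟩ := exists_nat_norm Λ N hint u hu
    exact ⟨k, u, hu, hu0, hk⟩
  obtain ⟨v₂, hv₂, hv₂l, hk2⟩ := Nat.find_spec hP2
  have hmin2 : ∀ u ∈ Λ, (¬ ∃ c : ℂ, u = c • v₁) → ∀ k : ℕ,
      (N : ℂ) * Cfsg.classInner u u = (k : ℂ) → Nat.find hP2 ≤ k :=
    fun u hu hul k hk => Nat.find_min' hP2 ⟨u, hu, hul, hk⟩
  set k2 := Nat.find hP2 with hk2def
  obtain ⟨β, hβ⟩ := hint v₁ hv₁ v₂ hv₂
  have hα : (N : ℂ) * Cfsg.classInner v₁ v₁ = ((k1 : ℤ) : ℂ) := by rw [hk1]; norm_cast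
  have hγ : (N : ℂ) * Cfsg.classInner v₂ v₂ = ((k2 : ℤ) : ℂ) := by rw [hk2]; norm_cast
  -- independence
  have hind : ∀ a b : ℂ, a • v₁ + b • v₂ = 0 → a = 0 ∧ b = 0 := by
    intro a b hab
    have hb : b = 0 := by
      by_contra hb
      apply hv₂l
      refine ⟨-a / b, ?_⟩
      have h1 : b • v₂ = -(a • v₁) := eq_neg_of_add_eq_zero_right hab
      have h2 : v₂ = b⁻¹ • (b • v₂) := by rw [smul_smul, inv_mul_cancel₀ hb, one_smul]
      rw [h2, h1, smul_neg, smul_smul, ← neg_smul]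
      congr 1
      field_simp
    refine ⟨?_, hb⟩
    rw [hb, zero_smul, add_zero] at hab
    exact (smul_eq_zero.mp hab).resolve_right hv₁0
  have hv₂0 : v₂ ≠ 0 := by
    intro h0
    apply hv₂l
    exact ⟨0, by rw [h0, zero_smul]⟩
  have hk1pos : 0 < k1 := by
    rcases Nat.eq_zero_or_pos k1 with h0 | h0
    · exfalso
      rw [h0, Nat.cast_zero] at hk1
      have := (mul_eq_zero.mp hk1).resolve_left hN0
      exact hv₁0 (classInner_self_eq_zero this)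
    · exact h0
  have hk12 : k1 ≤ k2 := hmin1 v₂ hv₂ hv₂0 k2 hk2
  -- the two neighbours of `v₂`
  have hplus : ∀ s : ℝ, (s = 1 ∨ s = -1) → (k2 : ℝ) ≤ (k1 : ℝ) + 2 * s * β + k2 := by
    intro s hs
    set w : H → ℂ := (s : ℂ) • v₁ + ((1 : ℝ) : ℂ) • v₂ with hw
    have hwΛ : w ∈ Λ := by
      rcases hs with rfl | rfl
      · rw [hw]
        simp only [Complex.ofReal_one, one_smul]
        exact Λ.add_mem hv₁ hv₂
      · rw [hw]
        simp only [Complex.ofReal_neg, Complex.ofReal_one, neg_smul, one_smul]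
        exact Λ.add_mem (Λ.neg_mem hv₁) hv₂
    have hwl : ¬ ∃ c : ℂ, w = c • v₁ := by
      rintro ⟨c, hc⟩
      have h1 : ((s : ℂ) - c) • v₁ + ((1 : ℝ) : ℂ) • v₂ = 0 := by
        rw [sub_smul, ← hc, hw]
        abel
      have := (hind _ _ h1).2
      simp at this
    obtain ⟨k, hk⟩ := exists_nat_norm Λ N hint w hwΛ
    have hle := hmin2 w hwΛ hwl k hk
    have hform := scaled_norm_comb N v₁ v₂ (k1 : ℤ) β (k2 : ℤ) hα hβ hγ s 1
    rw [← hw, hk] at hform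
    have hform' : (k : ℝ) = s ^ 2 * ((k1 : ℤ) : ℝ) + 2 * s * 1 * β + 1 ^ 2 * ((k2 : ℤ) : ℝ) := by
      exact_mod_cast hform
    have hs2 : s ^ 2 = 1 := by rcases hs with rfl | rfl <;> norm_num
    rw [hs2] at hform'
    have : (k2 : ℝ) ≤ (k : ℝ) := by exact_mod_cast hle
    push_cast at hform'
    linarith
  have hred : 2 * |β| ≤ (k1 : ℤ) := by
    have h1 := hplus 1 (Or.inl rfl)
    have h2 := hplus (-1) (Or.inr rfl)
    have h1' : (0 : ℝ) ≤ (k1 : ℝ) + 2 * β := by linarith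
    have h2' : (0 : ℝ) ≤ (k1 : ℝ) - 2 * β := by linarith
    have h3 : 2 * |(β : ℝ)| ≤ (k1 : ℝ) := by
      rw [show (2 : ℝ) * |(β : ℝ)| = |2 * (β : ℝ)| by rw [abs_mul]; norm_num]
      rw [abs_le]
      constructor <;> linarith
    exact_mod_cast h3
  refine ⟨v₁, hv₁, v₂, hv₂, (k1 : ℤ), β, (k2 : ℤ), hα, hβ, hγ, by exact_mod_cast hk1pos, hred,
    by exact_mod_cast hk12, ?_, hind⟩
  -- the basis property
  intro w hw
  obtain ⟨a, b, hab⟩ := exists_coords_of_plane S hS v₁ v₂ (hΛS v₁ hv₁) (hΛS v₂ hv₂) hind w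
    (hΛS w hw)
  obtain ⟨n₁, hn₁⟩ := hint w hw v₁ hv₁
  obtain ⟨n₂, hn₂⟩ := hint w hw v₂ hv₂
  have hβ' : (N : ℂ) * Cfsg.classInner v₂ v₁ = (β : ℂ) := by
    rw [classInner_conj_symm v₁ v₂]
    have : (N : ℂ) * conj (Cfsg.classInner v₁ v₂) = conj ((N : ℂ) * Cfsg.classInner v₁ v₂) := by
      rw [map_mul, Complex.conj_natCast]
    rw [this, hβ, map_intCast]
  have e1 : a * ((k1 : ℤ) : ℂ) + b * (β : ℂ) = (n₁ : ℂ) := by
    rw [← hn₁, hab, classInner_add_left, classInner_smul_left, classInner_smul_left, ← hα, ← hβ']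
    ring
  have e2 : a * (β : ℂ) + b * ((k2 : ℤ) : ℂ) = (n₂ : ℂ) := by
    rw [← hn₂, hab, classInner_add_left, classInner_smul_left, classInner_smul_left, ← hβ, ← hγ]
    ring
  -- the determinant
  have hdet : (0 : ℝ) < (k1 : ℝ) * k2 - (β : ℝ) ^ 2 := by
    have h1 : 2 * |(β : ℝ)| ≤ (k1 : ℝ) := by exact_mod_cast hred
    have h2 : (k1 : ℝ) ≤ k2 := by exact_mod_cast hk12
    have h3 : (0 : ℝ) < k1 := by exact_mod_cast hk1pos
    have h4 : (β : ℝ) ^ 2 = |(β : ℝ)| ^ 2 := (sq_abs _).symm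
    have h5 := abs_nonneg (β : ℝ)
    nlinarith
  have him : a.im = 0 ∧ b.im = 0 := by
    have i1 := congrArg Complex.im e1
    have i2 := congrArg Complex.im e2
    simp only [Complex.add_im, Complex.mul_im, Complex.intCast_im, Complex.intCast_re,
      mul_zero, zero_add, Int.cast_natCast, Complex.natCast_im,
      Complex.natCast_re] at i1 i2
    constructor
    · have : a.im * ((k1 : ℝ) * k2 - (β : ℝ) ^ 2) = 0 := by
        linear_combination (k2 : ℝ) * i1 - (β : ℝ) * i2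
      exact (mul_eq_zero.mp this).resolve_right hdet.ne'
    · have : b.im * ((k1 : ℝ) * k2 - (β : ℝ) ^ 2) = 0 := by
        linear_combination (k1 : ℝ) * i2 - (β : ℝ) * i1
      exact (mul_eq_zero.mp this).resolve_right hdet.ne'
  set x := a.re with hx
  set y := b.re with hy
  have hax : a = (x : ℂ) := Complex.ext rfl (by rw [him.1]; simp)
  have hby : b = (y : ℂ) := Complex.ext rfl (by rw [him.2]; simp)
  set m₁ := round x with hm₁
  set m₂ := round y with hm₂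
  set x' := x - m₁ with hx'
  set y' := y - m₂ with hy'
  have hx'le : |x'| ≤ 1 / 2 := abs_sub_round x
  have hy'le : |y'| ≤ 1 / 2 := abs_sub_round y
  set w' : H → ℂ := (x' : ℂ) • v₁ + (y' : ℂ) • v₂ with hw'
  have hw'eq : w' = w - ((m₁ : ℂ) • v₁ + (m₂ : ℂ) • v₂) := by
    rw [hw', hab, hax, hby, hx', hy']
    push_cast
    rw [sub_smul, sub_smul]
    abel
  have hint_smul : ∀ (m : ℤ) (v : H → ℂ), v ∈ Λ → (m : ℂ) • v ∈ Λ := by
    intro m v hv
    have : (m : ℂ) • v = m • v := by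
      ext g
      simp
    rw [this]
    exact Λ.zsmul_mem hv m
  have hw'Λ : w' ∈ Λ := by
    rw [hw'eq]
    exact Λ.sub_mem hw (Λ.add_mem (hint_smul m₁ v₁ hv₁) (hint_smul m₂ v₂ hv₂))
  obtain ⟨k, hk⟩ := exists_nat_norm Λ N hint w' hw'Λ
  have hform := scaled_norm_comb N v₁ v₂ (k1 : ℤ) β (k2 : ℤ) hα hβ hγ x' y'
  rw [← hw', hk] at hform
  have hform' : (k : ℝ) = x' ^ 2 * ((k1 : ℤ) : ℝ) + 2 * x' * y' * β + y' ^ 2 * ((k2 : ℤ) : ℝ) := by
    exact_mod_cast hform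
  have hsmall := small_comb_lt (k1 : ℤ) β (k2 : ℤ) (by exact_mod_cast hk1pos) hred
    (by exact_mod_cast hk12) x' y' hx'le hy'le
  rw [← hform'] at hsmall
  have hk2pos : (0 : ℝ) < k2 := by
    have : 0 < k2 := lt_of_lt_of_le hk1pos hk12
    exact_mod_cast this
  have hy'0 : y' = 0 := by
    by_contra hne
    have hwl : ¬ ∃ c : ℂ, w' = c • v₁ := by
      rintro ⟨c, hc⟩
      have h1 : ((x' : ℂ) - c) • v₁ + (y' : ℂ) • v₂ = 0 := by
        rw [sub_smul, ← hc, hw']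
        abel
      have := (hind _ _ h1).2
      exact hne (by exact_mod_cast this)
    have hle := hmin2 w' hw'Λ hwl k hk
    have : (k2 : ℝ) ≤ (k : ℝ) := by exact_mod_cast hle
    push_cast at hsmall
    linarith
  have hx'0 : x' = 0 := by
    by_contra hne
    have hw'0 : w' ≠ 0 := by
      intro h0
      rw [hw', hy'0] at h0
      simp only [Complex.ofReal_zero, zero_smul, add_zero] at h0
      rcases smul_eq_zero.mp h0 with h | h
      · exact hne (by exact_mod_cast h)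
      · exact hv₁0 h
    have hle := hmin1 w' hw'Λ hw'0 k hk
    have h1 : (k1 : ℝ) ≤ (k : ℝ) := by exact_mod_cast hle
    rw [hy'0] at hform'
    have hx2 : x' ^ 2 ≤ 1 / 4 := by
      have := abs_le.mp hx'le
      nlinarith
    have hk1r : (0 : ℝ) < k1 := by exact_mod_cast hk1pos
    push_cast at hform'
    nlinarith
  refine ⟨m₁, m₂, ?_⟩
  have h0 : w' = 0 := by
    rw [hw', hx'0, hy'0]
    simp
  rw [hw'eq, sub_eq_zero] at h0
  exact h0

end Cfsg.Agent.Helper6.Q2
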