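import Mathlib
import Cfsg.Prelude.Def_Characters
import Cfsg.Prelude.Def_Blocks
import Cfsg.Prelude.Def_BlockRank
import Cfsg.Agent.Helper6.Q2b
import Cfsg.Agent.Helper6.MajI

/-!
# The lattice of truncated characters of a block and dual vectors
-/

set_option autoImplicit false
set_option linter.style.haveILetI false

namespace Cfsg.Agent.Helper6.Q2

open Cfsg.Agent.Helper6 Cfsg.Agent.Helper6.Maj
open Module
open scoped ComplexConjugate

universe u

variable {H : Type u} [Group H] {M : Ideal Cfsg.AlgInt}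

/-- the lattice spanned by the truncated members of a block -/
def lat (p : ℕ) (e : Set (Cfsg.IrrCharacter H)) : AddSubgroup (H → ℂ) :=
  AddSubgroup.closure ((fun θ : Cfsg.IrrCharacter H => Cfsg.pRegularPart p (θ : H → ℂ)) '' e)

/-- the complex span of the truncated members of a block -/
def spn (p : ℕ) (e : Set (Cfsg.IrrCharacter H)) : Submodule ℂ (H → ℂ) :=
  Submodule.span ℂ ((fun θ : Cfsg.IrrCharacter H => Cfsg.pRegularPart p (θ : H → ℂ)) '' e)

theorem finrank_spn (p : ℕ) (e : Set (Cfsg.IrrCharacter H)) :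
    finrank ℂ (spn p e) = Cfsg.blockRank p e := rfl

theorem mem_lat_of_mem (p : ℕ) (e : Set (Cfsg.IrrCharacter H)) (θ : Cfsg.IrrCharacter H)
    (hθ : θ ∈ e) : Cfsg.pRegularPart p (θ : H → ℂ) ∈ lat p e :=
  AddSubgroup.subset_closure ⟨θ, hθ, rfl⟩

theorem lat_le_spn (p : ℕ) (e : Set (Cfsg.IrrCharacter H)) (u : H → ℂ) (hu : u ∈ lat p e) :
    u ∈ spn p e := by
  unfold lat at hu
  induction hu using AddSubgroup.closure_induction with
  | mem x hx => exact Submodule.subset_span hx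
  | zero => exact Submodule.zero_mem _
  | add x y _ _ hx hy => exact Submodule.add_mem _ hx hy
  | neg x _ hx => exact Submodule.neg_mem _ hx

theorem spn_le_span_lat (p : ℕ) (e : Set (Cfsg.IrrCharacter H)) :
    spn p e ≤ Submodule.span ℂ ((lat p e : AddSubgroup (H → ℂ)) : Set (H → ℂ)) := by
  unfold spn
  apply Submodule.span_mono
  intro x hx
  exact AddSubgroup.subset_closure hx

/-- integrality of the scaled inner product on the lattice -/
theorem lat_integral [Fintype H] {p : ℕ} [hp : Fact p.Prime] (hM : Cfsg.IsPModular p M)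
    (e : Set (Cfsg.IrrCharacter H)) :
    ∀ u ∈ lat p e, ∀ v ∈ lat p e, ∃ m : ℤ,
      ((p ^ Cfsg.blockDefect p e : ℕ) : ℂ) * Cfsg.classInner u v = (m : ℂ) := by
  intro u hu v hv
  unfold lat at hu hv
  induction hu using AddSubgroup.closure_induction with
  | mem x hx =>
    obtain ⟨θ, hθ, rfl⟩ := hx
    induction hv using AddSubgroup.closure_induction with
    | mem y hy =>
      obtain ⟨θ', hθ', rfl⟩ := hy
      obtain ⟨t, ht⟩ := pow_defect_mul_inner_int hM e θ θ' hθ'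
      refine ⟨t, ?_⟩
      push_cast
      exact ht
    | zero => exact ⟨0, by rw [classInner_zero_right, mul_zero, Int.cast_zero]⟩
    | add y₁ y₂ _ _ h1 h2 =>
      obtain ⟨m1, hm1⟩ := h1
      obtain ⟨m2, hm2⟩ := h2
      exact ⟨m1 + m2, by rw [classInner_add_right, mul_add, hm1, hm2]; push_cast; rfl⟩
    | neg y _ h1 =>
      obtain ⟨m1, hm1⟩ := h1
      exact ⟨-m1, by rw [classInner_neg_right, mul_neg, hm1]; push_cast; rfl⟩
  | zero => exact ⟨0, by rw [classInner_zero_left, mul_zero, Int.cast_zero]⟩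
  | add x₁ x₂ _ _ h1 h2 =>
    obtain ⟨m1, hm1⟩ := h1
    obtain ⟨m2, hm2⟩ := h2
    exact ⟨m1 + m2, by rw [classInner_add_left, mul_add, hm1, hm2]; push_cast; rfl⟩
  | neg x _ h1 =>
    obtain ⟨m1, hm1⟩ := h1
    exact ⟨-m1, by rw [classInner_neg_left, mul_neg, hm1]; push_cast; rfl⟩

open Classical in
/-- members of the span as explicit combinations -/
theorem exists_coeffs_of_mem_spn [Fintype (Cfsg.IrrCharacter H)] (p : ℕ)
    (e : Set (Cfsg.IrrCharacter H)) (x : H → ℂ) (hx : x ∈ spn p e) :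
    ∃ c : Cfsg.IrrCharacter H → ℂ, x = ∑ θ : Cfsg.IrrCharacter H,
      if θ ∈ e then c θ • Cfsg.pRegularPart p (θ : H → ℂ) else 0 := by
  unfold spn at hx
  induction hx using Submodule.span_induction with
  | mem y hy =>
    obtain ⟨θ₀, hθ₀, rfl⟩ := hy
    refine ⟨fun θ => if θ = θ₀ then 1 else 0, ?_⟩
    rw [Finset.sum_eq_single θ₀]
    · simp only [if_pos hθ₀, if_true, one_smul]
    · intro θ _ hne
      simp only [if_neg hne, zero_smul, ite_self]
    · intro h
      exact absurd (Finset.mem_univ θ₀) h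
  | zero =>
    refine ⟨fun _ => 0, ?_⟩
    symm
    apply Finset.sum_eq_zero
    intro θ _
    split_ifs
    · rw [zero_smul]
    · rfl
  | add y₁ y₂ _ _ h1 h2 =>
    obtain ⟨c1, hc1⟩ := h1
    obtain ⟨c2, hc2⟩ := h2
    refine ⟨fun θ => c1 θ + c2 θ, ?_⟩
    rw [hc1, hc2, ← Finset.sum_add_distrib]
    apply Finset.sum_congr rfl
    intro θ _
    split_ifs
    · rw [add_smul]
    · rw [add_zero]
  | smul a y _ h1 =>
    obtain ⟨c1, hc1⟩ := h1
    refine ⟨fun θ => a * c1 θ, ?_⟩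
    rw [hc1, Finset.smul_sum]
    apply Finset.sum_congr rfl
    intro θ _
    split_ifs
    · rw [smul_smul]
    · rw [smul_zero]

/-- **dual vectors**: for integers `s₁, s₂` the vector pairing to `s₁` with `v₁` and to `s₂` with
`v₂`, and its norm -/
theorem exists_dual_vector [Fintype H] (N : ℕ) (hN : 0 < N) (v₁ v₂ : H → ℂ) (α β γ : ℤ)
    (hα : (N : ℂ) * Cfsg.classInner v₁ v₁ = (α : ℂ))
    (hβ : (N : ℂ) * Cfsg.classInner v₁ v₂ = (β : ℂ))
    (hγ : (N : ℂ) * Cfsg.classInner v₂ v₂ = (γ : ℂ))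
    (hΔ : α * γ - β ^ 2 ≠ 0) (s₁ s₂ : ℤ) :
    ∃ u : H → ℂ, (∃ a b : ℂ, u = a • v₁ + b • v₂) ∧
      Cfsg.classInner v₁ u = (s₁ : ℂ) ∧ Cfsg.classInner v₂ u = (s₂ : ℂ) ∧
      Cfsg.classInner u u = (((N : ℝ) * (s₁ ^ 2 * γ - 2 * s₁ * s₂ * β + s₂ ^ 2 * α) /
        (α * γ - β ^ 2 : ℝ) : ℝ) : ℂ) := by
  have hN0 : (N : ℂ) ≠ 0 := by exact_mod_cast hN.ne'
  have hΔc : ((α : ℂ) * γ - (β : ℂ) ^ 2) ≠ 0 := by exact_mod_cast hΔ
  have hβ' : (N : ℂ) * Cfsg.classInner v₂ v₁ = (β : ℂ) := by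
    rw [classInner_conj_symm v₁ v₂]
    have : (N : ℂ) * conj (Cfsg.classInner v₁ v₂) = conj ((N : ℂ) * Cfsg.classInner v₁ v₂) := by
      rw [map_mul, Complex.conj_natCast]
    rw [this, hβ, map_intCast]
  have i11 : Cfsg.classInner v₁ v₁ = (α : ℂ) / N := by
    rw [← hα]; field_simp
  have i12 : Cfsg.classInner v₁ v₂ = (β : ℂ) / N := by
    rw [← hβ]; field_simp
  have i21 : Cfsg.classInner v₂ v₁ = (β : ℂ) / N := by
    rw [← hβ']; field_simp
  have i22 : Cfsg.classInner v₂ v₂ = (γ : ℂ) / N := by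
    rw [← hγ]; field_simp
  obtain ⟨D, hD, hD0⟩ : ∃ D : ℂ, D = (α : ℂ) * γ - (β : ℂ) ^ 2 ∧ D ≠ 0 := ⟨_, rfl, hΔc⟩
  have hDconj : conj D = D := by
    rw [hD]
    simp only [map_mul, map_sub, map_pow, map_intCast]
  set a : ℂ := (N : ℂ) * ((s₁ : ℂ) * γ - (s₂ : ℂ) * β) / D with ha
  set b : ℂ := (N : ℂ) * (-(s₁ : ℂ) * β + (s₂ : ℂ) * α) / D with hb
  have hca : conj a = a := by
    rw [ha]
    simp only [map_div₀, map_mul, map_sub, Complex.conj_natCast, map_intCast, hDconj]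
  have hcb : conj b = b := by
    rw [hb]
    simp only [map_div₀, map_mul, map_add, map_neg, Complex.conj_natCast, map_intCast, hDconj]
  have h1 : Cfsg.classInner v₁ (a • v₁ + b • v₂) = (s₁ : ℂ) := by
    rw [classInner_add_right, classInner_smul_right, classInner_smul_right, hca, hcb, i11, i12,
      ha, hb]
    field_simp
    rw [hD]
    ring
  have h2 : Cfsg.classInner v₂ (a • v₁ + b • v₂) = (s₂ : ℂ) := by
    rw [classInner_add_right, classInner_smul_right, classInner_smul_right, hca, hcb, i21, i22,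
      ha, hb]
    field_simp
    rw [hD]
    ring
  refine ⟨a • v₁ + b • v₂, ⟨a, b, rfl⟩, h1, h2, ?_⟩
  rw [classInner_add_left, classInner_smul_left, classInner_smul_left, h1, h2, ha, hb]
  push_cast
  rw [show ((α : ℂ) * γ - (β : ℂ) ^ 2) = D from hD.symm]
  field_simp
  ring

end Cfsg.Agent.Helper6.Q2
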