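import Mathlib
import Cfsg.Prelude.Def_Characters
import Cfsg.Prelude.Def_Blocks
import Cfsg.Prelude.Def_BlockRank
import Cfsg.Agent.Helper6.Q2c
import Cfsg.Agent.Helper6.MajJ

/-!
# Pairing the section parts of a block with an integral vector
-/

set_option autoImplicit false
set_option linter.style.haveILetI false

namespace Cfsg.Agent.Helper6.Q2

open Cfsg.Agent.Helper6 Cfsg.Agent.Helper6.Maj
open Module
open scoped ComplexConjugate

universe u

variable {G : Type u} [Group G] {M : Ideal Cfsg.AlgInt}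

open Classical in
/-- **sum of squared pairings** of a vector of the span with the section parts of `B` -/
theorem sum_sq_pairing [Fintype G] {p : ℕ} [hp : Fact p.Prime] (hM : Cfsg.IsPModular p M)
    (B : Set (Cfsg.IrrCharacter G)) (y : G) (hy : ∃ k : ℕ, orderOf y = p ^ k) (H : Subgroup G)
    (hH : H = Subgroup.centralizer ({y} : Set G)) [Fintype H]
    [Fintype (Cfsg.IrrCharacter G)] [Fintype (Cfsg.IrrCharacter H)]
    (e : Set (Cfsg.IrrCharacter H)) (he : Cfsg.IsInducedBlock M H e B) (x : H → ℂ)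
    (hx : x ∈ spn p e) :
    ∑ ψ : Cfsg.IrrCharacter G, (if ψ ∈ B then
      Cfsg.classInner x (secPart p H e (ψ : G → ℂ) y) *
        conj (Cfsg.classInner x (secPart p H e (ψ : G → ℂ) y)) else 0) =
    Cfsg.classInner x x := by
  obtain ⟨c, hc⟩ := exists_coeffs_of_mem_spn p e x hx
  have h1 := sum_inner_sq_eq_of_kernel_eq
    (fun ψ : Cfsg.IrrCharacter G => if ψ ∈ B then secPart p H e (ψ : G → ℂ) y else 0)
    (fun θ : Cfsg.IrrCharacter H => if θ ∈ e then Cfsg.pRegularPart p (θ : H → ℂ) else 0)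
    (secPart_kernel hM B y hy H hH e he) x
  have h2 := sum_sq_pRegular_eq hM.2.1 p hM.2.2 e he.1 x c hc
  rw [← h2, ← h1]
  apply Finset.sum_congr rfl
  intro ψ _
  split_ifs
  · rfl
  · rw [classInner_zero_right, zero_mul]

open Classical in
/-- the real form of the sum of squared pairings -/
theorem sum_normSq_pairing [Fintype G] {p : ℕ} [hp : Fact p.Prime] (hM : Cfsg.IsPModular p M)
    (B : Set (Cfsg.IrrCharacter G)) (y : G) (hy : ∃ k : ℕ, orderOf y = p ^ k) (H : Subgroup G)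
    (hH : H = Subgroup.centralizer ({y} : Set G)) [Fintype H]
    [Fintype (Cfsg.IrrCharacter G)] [Fintype (Cfsg.IrrCharacter H)]
    (e : Set (Cfsg.IrrCharacter H)) (he : Cfsg.IsInducedBlock M H e B) (x : H → ℂ)
    (hx : x ∈ spn p e) :
    ∑ ψ ∈ Finset.univ.filter (fun ψ : Cfsg.IrrCharacter G => ψ ∈ B),
      ‖Cfsg.classInner (secPart p H e (ψ : G → ℂ) y) x‖ ^ 2 = (Cfsg.classInner x x).re := by
  have h := sum_sq_pairing hM B y hy H hH e he x hx
  have h2 := congrArg Complex.re h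
  rw [← h2, Complex.re_sum, Finset.sum_filter]
  apply Finset.sum_congr rfl
  intro ψ _
  split_ifs
  · rw [Complex.mul_conj, Complex.normSq_eq_norm_sq, classInner_conj_symm x, Complex.norm_conj]
    norm_cast
  · simp

open Classical in
/-- the pairing of the section part at `y ^ j` with an integral vector is an integrally weighted
power sum -/
theorem pairing_eq_wpowSum [Fintype G] (p : ℕ) (H : Subgroup G) [Fintype H]
    [Fintype (Cfsg.IrrCharacter H)] (e : Set (Cfsg.IrrCharacter H))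
    {χ : G → ℂ} (hχ : Cfsg.IsCharacter G χ) (y : G) (hyH : y ∈ H)
    (ε : Cfsg.IrrCharacter H → ℂ) (hε1 : ∀ θ, ε θ * conj (ε θ) = 1)
    (hε : ∀ (θ : Cfsg.IrrCharacter H) (k : ℕ) (c : H),
      (θ : H → ℂ) ((⟨y, hyH⟩ : H) ^ k * c) = ε θ ^ k * (θ : H → ℂ) c)
    (x : H → ℂ)
    (hZ : ∀ θ ∈ e, ∃ m : ℤ, Cfsg.classInner (Cfsg.pRegularPart p (θ : H → ℂ)) x = (m : ℂ)) :
    ∃ W : Cfsg.IrrCharacter H → ℤ, ∀ j : ℕ,
      Cfsg.classInner (secPart p H e χ (y ^ j)) x = ∑ θ, (W θ : ℂ) * ε θ ^ j := by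
  have hn : ∀ θ : Cfsg.IrrCharacter H, ∃ n : ℕ,
      Cfsg.classInner (fun c : H => χ (c : G)) (θ : H → ℂ) = n := fun θ =>
    classInner_char_char_nat (IsCharacter.restrict H hχ) (IsIrrCharacter.isCharacter θ.2)
  choose n hn using hn
  have hm : ∀ θ : Cfsg.IrrCharacter H, ∃ m : ℤ, θ ∈ e →
      Cfsg.classInner (Cfsg.pRegularPart p (θ : H → ℂ)) x = (m : ℂ) := by
    intro θ
    by_cases hθ : θ ∈ e
    · obtain ⟨m, hm⟩ := hZ θ hθ
      exact ⟨m, fun _ => hm⟩
    · exact ⟨0, fun h => absurd h hθ⟩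
  choose m hm using hm
  refine ⟨fun θ => if θ ∈ e then (n θ : ℤ) * m θ else 0, ?_⟩
  intro j
  rw [secPart_pow_eq p H e χ y hyH ε hε1 hε j, classInner_sum_left]
  apply Finset.sum_congr rfl
  intro θ _
  by_cases hθ : θ ∈ e
  · simp only [if_pos hθ]
    rw [classInner_smul_left, hn θ, hm θ hθ]
    push_cast
    ring
  · simp only [if_neg hθ]
    rw [classInner_zero_left, Int.cast_zero, zero_mul]

end Cfsg.Agent.Helper6.Q2
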