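import Mathlib
import Cfsg.Prelude.Def_Characters
import Cfsg.Prelude.Def_Blocks
import Cfsg.Prelude.Def_BlockRank
import Cfsg.Agent.Helper6.Q2d
import Cfsg.Agent.Helper6.HeightZeroTrunc

/-!
# Weighted counting of the characters of a block through an integral vector
-/

set_option autoImplicit false
set_option linter.style.haveILetI false

namespace Cfsg.Agent.Helper6.Q2

open Cfsg.Agent.Helper6 Cfsg.Agent.Helper6.Maj
open Module
open scoped ComplexConjugate

universe u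

variable {G : Type u} [Group G] {M : Ideal Cfsg.AlgInt}

/-- scaled AM-GM: if the product of non-zero complex numbers has norm at least `c ^ card` then
their squared norms add up to at least `c ^ 2 * card` -/
theorem sum_norm_sq_ge_of_prod {ι : Type*} [Fintype ι] (s : ι → ℂ) (c : ℝ) (hc : 0 < c)
    (hne : ∀ k, s k ≠ 0) (hprod : c ^ Fintype.card ι ≤ ‖∏ k, s k‖) :
    c ^ 2 * (Fintype.card ι : ℝ) ≤ ∑ k, ‖s k‖ ^ 2 := by
  classical
  have hpos : ∀ k, 0 < ‖s k‖ ^ 2 / c ^ 2 := fun k => by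
    have : 0 < ‖s k‖ := norm_pos_iff.mpr (hne k)
    positivity
  have hP : (1 : ℝ) ≤ ∏ k, (‖s k‖ ^ 2 / c ^ 2) := by
    rw [Finset.prod_div_distrib, Finset.prod_pow, ← norm_prod, Finset.prod_const,
      Finset.card_univ, ← pow_mul, mul_comm 2, pow_mul]
    rw [le_div_iff₀ (by positivity), one_mul]
    exact pow_le_pow_left₀ (by positivity) hprod 2
  have hlog : 0 ≤ ∑ k, Real.log (‖s k‖ ^ 2 / c ^ 2) := by
    rw [← Real.log_prod (fun k _ => (hpos k).ne')]
    exact Real.log_nonneg hP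
  have hle : ∑ k, Real.log (‖s k‖ ^ 2 / c ^ 2) ≤ ∑ k, (‖s k‖ ^ 2 / c ^ 2 - 1) :=
    Finset.sum_le_sum (fun k _ => Real.log_le_sub_one_of_pos (hpos k))
  rw [Finset.sum_sub_distrib, Finset.sum_const, Finset.card_univ, nsmul_eq_mul, mul_one,
    ← Finset.sum_div] at hle
  have h1 : (Fintype.card ι : ℝ) ≤ (∑ k, ‖s k‖ ^ 2) / c ^ 2 := by linarith
  rw [le_div_iff₀ (by positivity)] at h1
  linarith

theorem MemLocalRing.prod' (hM : M.IsMaximal) {ι : Type*} (s : Finset ι) (f : ι → ℂ)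
    (h : ∀ i ∈ s, Cfsg.MemLocalRing M (f i)) : Cfsg.MemLocalRing M (∏ i ∈ s, f i) := by
  classical
  induction s using Finset.induction_on with
  | empty => rw [Finset.prod_empty]; exact memLocalRing_one hM
  | insert a s ha ih =>
    rw [Finset.prod_insert ha]
    exact MemLocalRing.mul hM (h a (Finset.mem_insert_self a s))
      (ih (fun i hi => h i (Finset.mem_insert_of_mem hi)))

/-- an integer which is locally divisible by `p ^ j` is divisible by `p ^ j` -/
theorem pow_dvd_of_memLocalRing_div {p : ℕ} [hp : Fact p.Prime] (hM : Cfsg.IsPModular p M)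
    (m : ℤ) (hm : m ≠ 0) (j : ℕ) (h : Cfsg.MemLocalRing M ((m : ℂ) / (p : ℂ) ^ j)) :
    (p : ℤ) ^ j ∣ m := by
  have hd0 : p ^ j ≠ 0 := pow_ne_zero _ hp.out.ne_zero
  obtain ⟨k, hk⟩ := Int.eq_nat_or_neg m
  have hk0 : k ≠ 0 := by
    rintro rfl
    rcases hk with rfl | rfl <;> simp at hm
  have h' : Cfsg.MemLocalRing M ((k : ℂ) / ((p ^ j : ℕ) : ℂ)) := by
    push_cast
    rcases hk with rfl | rfl
    · simpa using h
    · have h1 := MemLocalRing.neg h
      rw [← neg_div] at h1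
      simpa using h1
  have h2 := (memLocalRing_natCast_div_iff hM k (p ^ j) hk0 hd0).mp h'
  rw [Nat.Prime.factorization_pow hp.out] at h2
  simp only [Finsupp.single_eq_same] at h2
  have h3 : p ^ j ∣ k := (Nat.Prime.pow_dvd_iff_le_factorization hp.out hk0).mpr h2
  have h4 : ((p ^ j : ℕ) : ℤ) ∣ (k : ℤ) := Int.natCast_dvd_natCast.mpr h3
  push_cast at h4
  rcases hk with rfl | rfl
  · exact h4
  · exact (dvd_neg).mpr h4

open Classical in
/-- **weighted count**: if `φ(n) c_χ` is at most the Galois sum of the squared pairings of `χ`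
with the vector `x` of the span, then `∑_χ c_χ ≤ ⟪x, x⟫` -/
theorem weighted_count_le [Fintype G] {p : ℕ} [hp : Fact p.Prime] (hM : Cfsg.IsPModular p M)
    (B : Set (Cfsg.IrrCharacter G)) (y : G) (hy : ∃ k : ℕ, orderOf y = p ^ k) (H : Subgroup G)
    (hH : H = Subgroup.centralizer ({y} : Set G)) [Fintype H]
    [Fintype (Cfsg.IrrCharacter G)] [Fintype (Cfsg.IrrCharacter H)]
    (e : Set (Cfsg.IrrCharacter H)) (he : Cfsg.IsInducedBlock M H e B) (x : H → ℂ)
    (hx : x ∈ spn p e) (n : ℕ) [NeZero n] (hn : orderOf y = n) (c : Cfsg.IrrCharacter G → ℝ)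
    (hc : ∀ χ ∈ B, (Fintype.card (ZMod n)ˣ : ℝ) * c χ ≤ ∑ k : (ZMod n)ˣ,
      ‖Cfsg.classInner (secPart p H e (χ : G → ℂ) (y ^ (k : ZMod n).val)) x‖ ^ 2) :
    ∑ χ ∈ Finset.univ.filter (fun χ : Cfsg.IrrCharacter G => χ ∈ B), c χ ≤
      (Cfsg.classInner x x).re := by
  set FB := Finset.univ.filter (fun χ : Cfsg.IrrCharacter G => χ ∈ B) with hFB
  have hφ : (0 : ℝ) < (Fintype.card (ZMod n)ˣ : ℝ) := by exact_mod_cast Fintype.card_pos
  have hk : ∀ k : (ZMod n)ˣ, ∑ χ ∈ FB,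
      ‖Cfsg.classInner (secPart p H e (χ : G → ℂ) (y ^ (k : ZMod n).val)) x‖ ^ 2 =
        (Cfsg.classInner x x).re := by
    intro k
    have hcop : Nat.Coprime (k : ZMod n).val (orderOf y) := by
      rw [hn]; exact ZMod.val_coe_unit_coprime k
    have hHk : H = Subgroup.centralizer ({y ^ (k : ZMod n).val} : Set G) :=
      hH.trans (centralizer_pow_eq y _ hcop)
    have hyk : ∃ m : ℕ, orderOf (y ^ (k : ZMod n).val) = p ^ m := by
      obtain ⟨m, hm⟩ := hy
      have h1 : orderOf (y ^ (k : ZMod n).val) ∣ p ^ m := hm ▸ orderOf_pow_dvd _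
      obtain ⟨m', _, hm'⟩ := (Nat.dvd_prime_pow hp.out).mp h1
      exact ⟨m', hm'⟩
    exact sum_normSq_pairing hM B _ hyk H hHk e he x hx
  have hmain : (Fintype.card (ZMod n)ˣ : ℝ) * ∑ χ ∈ FB, c χ ≤
      (Fintype.card (ZMod n)ˣ : ℝ) * (Cfsg.classInner x x).re := by
    calc (Fintype.card (ZMod n)ˣ : ℝ) * ∑ χ ∈ FB, c χ
        = ∑ χ ∈ FB, (Fintype.card (ZMod n)ˣ : ℝ) * c χ := Finset.mul_sum _ _ _
      _ ≤ ∑ χ ∈ FB, ∑ k : (ZMod n)ˣ,
            ‖Cfsg.classInner (secPart p H e (χ : G → ℂ) (y ^ (k : ZMod n).val)) x‖ ^ 2 :=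
          Finset.sum_le_sum fun χ hχ => hc χ (Finset.mem_filter.mp hχ).2
      _ = ∑ k : (ZMod n)ˣ, ∑ χ ∈ FB,
            ‖Cfsg.classInner (secPart p H e (χ : G → ℂ) (y ^ (k : ZMod n).val)) x‖ ^ 2 :=
          Finset.sum_comm
      _ = (Fintype.card (ZMod n)ˣ : ℝ) * (Cfsg.classInner x x).re := by
          rw [Finset.sum_congr rfl (fun k _ => hk k)]
          simp only [Finset.sum_const, nsmul_eq_mul, Finset.card_univ]
  exact le_of_mul_le_mul_left hmain hφ

end Cfsg.Agent.Helper6.Q2
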