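import Mathlib
import Cfsg.Prelude.Def_Characters
import Cfsg.Prelude.Def_Blocks
import Cfsg.Prelude.Def_BlockRank
import Cfsg.Agent.Helper6.Q2e

/-!
# Lower bounds for the Galois sums of squared pairings
-/

set_option autoImplicit false
set_option linter.style.haveILetI false

namespace Cfsg.Agent.Helper6.Q2

open Cfsg.Agent.Helper6 Cfsg.Agent.Helper6.Maj
open Module
open scoped ComplexConjugate

universe u

variable {G : Type u} [Group G] {M : Ideal Cfsg.AlgInt}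

open Classical in
/-- a non-zero pairing with an integral vector has Galois sum at least `φ(n)` -/
theorem galois_sum_ge_of_ne_zero [Fintype G] (p : ℕ) (H : Subgroup G) [Fintype H]
    [Fintype (Cfsg.IrrCharacter H)] (e : Set (Cfsg.IrrCharacter H))
    {χ : G → ℂ} (hχ : Cfsg.IsCharacter G χ) (y : G) (hyH : y ∈ H)
    (n : ℕ) [NeZero n]
    (ε : Cfsg.IrrCharacter H → ℂ) (hεn : ∀ θ, ε θ ^ n = 1) (hε1 : ∀ θ, ε θ * conj (ε θ) = 1)
    (hε : ∀ (θ : Cfsg.IrrCharacter H) (k : ℕ) (c : H),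
      (θ : H → ℂ) ((⟨y, hyH⟩ : H) ^ k * c) = ε θ ^ k * (θ : H → ℂ) c)
    (x : H → ℂ)
    (hZ : ∀ θ ∈ e, ∃ m : ℤ, Cfsg.classInner (Cfsg.pRegularPart p (θ : H → ℂ)) x = (m : ℂ))
    (hne : Cfsg.classInner (secPart p H e χ y) x ≠ 0) :
    (Fintype.card (ZMod n)ˣ : ℝ) ≤ ∑ k : (ZMod n)ˣ,
      ‖Cfsg.classInner (secPart p H e χ (y ^ (k : ZMod n).val)) x‖ ^ 2 := by
  obtain ⟨W, hW⟩ := pairing_eq_wpowSum p H e hχ y hyH ε hε1 hε x hZ
  have h1 := hW 1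
  simp only [pow_one] at h1
  rw [h1] at hne
  have h2 := sum_norm_sq_wpowSum_ge n W ε hεn hne
  refine h2.trans (le_of_eq ?_)
  apply Finset.sum_congr rfl
  intro k _
  rw [hW]

open Classical in
/-- a non-zero pairing with an integral vector all of whose conjugates are locally divisible by
`p` has Galois sum at least `p ^ 2 φ(n)` -/
theorem galois_sum_ge_of_div [Fintype G] {p : ℕ} [hp : Fact p.Prime]
    (hM : Cfsg.IsPModular p M) (H : Subgroup G) [Fintype H]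
    [Fintype (Cfsg.IrrCharacter H)] (e : Set (Cfsg.IrrCharacter H))
    {χ : G → ℂ} (hχ : Cfsg.IsCharacter G χ) (y : G) (hyH : y ∈ H)
    (n : ℕ) [NeZero n]
    (ε : Cfsg.IrrCharacter H → ℂ) (hεn : ∀ θ, ε θ ^ n = 1) (hε1 : ∀ θ, ε θ * conj (ε θ) = 1)
    (hε : ∀ (θ : Cfsg.IrrCharacter H) (k : ℕ) (c : H),
      (θ : H → ℂ) ((⟨y, hyH⟩ : H) ^ k * c) = ε θ ^ k * (θ : H → ℂ) c)
    (x : H → ℂ)
    (hZ : ∀ θ ∈ e, ∃ m : ℤ, Cfsg.classInner (Cfsg.pRegularPart p (θ : H → ℂ)) x = (m : ℂ))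
    (hne : Cfsg.classInner (secPart p H e χ y) x ≠ 0)
    (hdiv : ∀ k : (ZMod n)ˣ, Cfsg.MemLocalRing M
      (Cfsg.classInner (secPart p H e χ (y ^ (k : ZMod n).val)) x / (p : ℂ))) :
    (p : ℝ) ^ 2 * (Fintype.card (ZMod n)ˣ : ℝ) ≤ ∑ k : (ZMod n)ˣ,
      ‖Cfsg.classInner (secPart p H e χ (y ^ (k : ZMod n).val)) x‖ ^ 2 := by
  obtain ⟨W, hW⟩ := pairing_eq_wpowSum p H e hχ y hyH ε hε1 hε x hZ
  have h1 := hW 1
  simp only [pow_one] at h1
  rw [h1] at hne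
  obtain ⟨⟨m, hm⟩, hnz⟩ := wpowSum_facts n W ε hεn
  have hnz' := hnz hne
  have hm0 : m ≠ 0 := by
    intro h0
    rw [h0, Int.cast_zero] at hm
    obtain ⟨k, _, hk⟩ := Finset.prod_eq_zero_iff.mp hm
    exact hnz' k hk
  have hp0 : (p : ℂ) ≠ 0 := by exact_mod_cast hp.out.ne_zero
  have hloc : Cfsg.MemLocalRing M ((m : ℂ) / (p : ℂ) ^ Fintype.card (ZMod n)ˣ) := by
    have h2 : (m : ℂ) / (p : ℂ) ^ Fintype.card (ZMod n)ˣ =
        ∏ k : (ZMod n)ˣ, ((∑ θ, (W θ : ℂ) * ε θ ^ (k : ZMod n).val) / (p : ℂ)) := by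
      rw [Finset.prod_div_distrib, hm, Finset.prod_const, Finset.card_univ]
    rw [h2]
    apply MemLocalRing.prod' hM.2.1
    intro k _
    rw [← hW]
    exact hdiv k
  have hdvd := pow_dvd_of_memLocalRing_div hM m hm0 _ hloc
  have hge : (p : ℝ) ^ Fintype.card (ZMod n)ˣ ≤ |(m : ℝ)| := by
    have h3 : ((p : ℤ) ^ Fintype.card (ZMod n)ˣ) ≤ |m| := by
      have h4 := Int.le_of_dvd (abs_pos.mpr hm0) ((dvd_abs _ _).mpr hdvd)
      exact h4
    exact_mod_cast h3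
  have hfin := sum_norm_sq_ge_of_prod
    (fun k : (ZMod n)ˣ => ∑ θ, (W θ : ℂ) * ε θ ^ (k : ZMod n).val) (p : ℝ)
    (by exact_mod_cast hp.out.pos) hnz' (by rw [hm, Complex.norm_intCast]; exact hge)
  refine hfin.trans (le_of_eq ?_)
  apply Finset.sum_congr rfl
  intro k _
  rw [hW]

end Cfsg.Agent.Helper6.Q2
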