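import Mathlib
import Cfsg.Prelude.Def_Characters
import Cfsg.Prelude.Def_Blocks
import Cfsg.Prelude.Def_BlockRank
import Cfsg.Agent.Helper6.Q2f
import Cfsg.Agent.Helper6.NilAbC

/-!
# Local properties of the scaled contributions at a major subsection
-/

set_option autoImplicit false
set_option linter.style.haveILetI false

namespace Cfsg.Agent.Helper6.Q2

open Cfsg.Agent.Helper6 Cfsg.Agent.Helper6.Maj Cfsg.Agent.Helper6.NilAb
open Module
open scoped ComplexConjugate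

universe u

variable {G : Type u} [Group G] {M : Ideal Cfsg.AlgInt}

/-- the scaled inner product in coordinates -/
theorem scaled_inner_coords {H : Type u} [Group H] [Fintype H] (N : ℕ) (v₁ v₂ : H → ℂ)
    (α β γ : ℤ)
    (hα : (N : ℂ) * Cfsg.classInner v₁ v₁ = (α : ℂ))
    (hβ : (N : ℂ) * Cfsg.classInner v₁ v₂ = (β : ℂ))
    (hγ : (N : ℂ) * Cfsg.classInner v₂ v₂ = (γ : ℂ)) (a b a' b' : ℂ) :
    (N : ℂ) * Cfsg.classInner (a • v₁ + b • v₂) (a' • v₁ + b' • v₂) =
      a * conj a' * α + (a * conj b' + b * conj a') * β + b * conj b' * γ := by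
  have hβ' : (N : ℂ) * Cfsg.classInner v₂ v₁ = (β : ℂ) := by
    rw [classInner_conj_symm v₁ v₂]
    have : (N : ℂ) * conj (Cfsg.classInner v₁ v₂) = conj ((N : ℂ) * Cfsg.classInner v₁ v₂) := by
      rw [map_mul, Complex.conj_natCast]
    rw [this, hβ, map_intCast]
  rw [classInner_add_left, classInner_add_right, classInner_add_right,
    classInner_smul_left, classInner_smul_left, classInner_smul_right, classInner_smul_right,
    classInner_smul_left, classInner_smul_left, classInner_smul_right, classInner_smul_right]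
  have e1 : (N : ℂ) * (a * (conj a' * Cfsg.classInner v₁ v₁) +
      a * (conj b' * Cfsg.classInner v₁ v₂) +
      (b * (conj a' * Cfsg.classInner v₂ v₁) + b * (conj b' * Cfsg.classInner v₂ v₂))) =
      a * conj a' * ((N : ℂ) * Cfsg.classInner v₁ v₁) +
      a * conj b' * ((N : ℂ) * Cfsg.classInner v₁ v₂) +
      (b * conj a' * ((N : ℂ) * Cfsg.classInner v₂ v₁) +
        b * conj b' * ((N : ℂ) * Cfsg.classInner v₂ v₂)) := by ring
  rw [e1, hα, hβ, hβ', hγ]
  ring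

open Classical in
/-- the scaled contributions are local integers -/
theorem scaled_contribution_memLocalRing [Fintype G] {p : ℕ} [hp : Fact p.Prime]
    (hM : Cfsg.IsPModular p M) (H : Subgroup G) [Fintype H] [Fintype (Cfsg.IrrCharacter H)]
    (e : Set (Cfsg.IrrCharacter H)) {χ ψ : G → ℂ} (hχ : Cfsg.IsCharacter G χ)
    (hψ : Cfsg.IsCharacter G ψ) (y : G) (hyH : y ∈ H) (n : ℕ) (hn : 0 < n)
    (ε : Cfsg.IrrCharacter H → ℂ) (hεn : ∀ θ, ε θ ^ n = 1) (hε1 : ∀ θ, ε θ * conj (ε θ) = 1)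
    (hε : ∀ (θ : Cfsg.IrrCharacter H) (k : ℕ) (c : H),
      (θ : H → ℂ) ((⟨y, hyH⟩ : H) ^ k * c) = ε θ ^ k * (θ : H → ℂ) c) (j : ℕ) :
    Cfsg.MemLocalRing M ((p : ℂ) ^ Cfsg.blockDefect p e *
      Cfsg.classInner (secPart p H e χ (y ^ j)) (secPart p H e ψ (y ^ j))) := by
  obtain ⟨W, hW⟩ := exists_int_weights hM H e hχ hψ
  rw [classInner_secPart_pow p H e _ _ y hyH ε hε1 hε j, Finset.mul_sum]
  apply MemLocalRing.sum hM.2.1
  intro i _
  rw [← mul_assoc, hW i]
  apply memLocalRing_of_isIntegral hM.2.1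
  apply IsIntegral.mul
  · exact isIntegral_algebraMap (R := ℤ) (A := ℂ) (x := W i) |> fun h => by simpa using h
  · apply IsIntegral.pow
    have h1 : IsIntegral ℤ (ε i.1) := by
      apply IsIntegral.of_pow (n := n) hn
      rw [hεn]
      exact isIntegral_one
    have h2 : IsIntegral ℤ (ε i.2) := by
      apply IsIntegral.of_pow (n := n) hn
      rw [hεn]
      exact isIntegral_one
    exact IsIntegral.mul h1 (map_isIntegral_int (starRingEnd ℂ) h2)

open Classical in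
/-- **a character of height zero has a unit diagonal contribution** at any subsection -/
theorem scaled_contribution_self_not_mem [Fintype G] {p : ℕ} [hp : Fact p.Prime]
    (hM : Cfsg.IsPModular p M)
    (B : Set (Cfsg.IrrCharacter G)) (ψ : Cfsg.IrrCharacter G) (hψ : ψ ∈ B)
    (h0ψ : Cfsg.blockHeight p B (ψ : G → ℂ) = 0)
    (y : G) (hy : ∃ k : ℕ, orderOf y = p ^ k) (H : Subgroup G) [Fintype H]
    [Fintype (Cfsg.IrrCharacter H)] (hyH : y ∈ H)
    (hcomm : ∀ t : H, y * (t : G) = (t : G) * y)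
    (e : Set (Cfsg.IrrCharacter H)) (he : Cfsg.IsInducedBlock M H e B) :
    ¬ Cfsg.MemLocalIdeal M ((p : ℂ) ^ Cfsg.blockDefect p e *
      Cfsg.classInner (secPart p H e (ψ : G → ℂ) y) (secPart p H e (ψ : G → ℂ) y)) := by
  obtain ⟨θ₁, hθ₁⟩ : ∃ θ₁ : Cfsg.IrrCharacter H, θ₁ ∈ e := by
    obtain ⟨θ₁, hb1⟩ := he.1
    exact ⟨θ₁, hb1 ▸ mem_blockOf_self hM.2.1 θ₁⟩
  obtain ⟨θ₀, hθ₀, hθ₀h⟩ := exists_height_zero p e ⟨θ₁, hθ₁⟩
  have hθ₀c := IsIrrCharacter.isCharacter θ₀.2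
  have hunit := contribution_not_mem hM B ψ ψ hψ hψ h0ψ h0ψ y hy H hyH hcomm e he θ₀ hθ₀ hθ₀h
  intro hmem
  apply hunit
  set d := Cfsg.blockDefect p e with hd
  have hθ01 : (θ₀ : H → ℂ) 1 ≠ 0 := IsIrrCharacter.apply_one_ne_zero θ₀.2
  have hdegθ : (Cfsg.charDegree (θ₀ : H → ℂ) : ℂ) = (θ₀ : H → ℂ) 1 :=
    charDegree_cast_of_isCharacter hθ₀c
  have hdθ0 : Cfsg.charDegree (θ₀ : H → ℂ) ≠ 0 := charDegree_ne_zero_of_irr θ₀.2
  have hH0 : Nat.card H ≠ 0 := Nat.card_pos.ne'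
  have hpd0 : p ^ d ≠ 0 := pow_ne_zero _ hp.out.ne_zero
  have hfac : (p ^ d * Cfsg.charDegree (θ₀ : H → ℂ)).factorization p ≤
      (Nat.card H).factorization p := by
    rw [Nat.factorization_mul hpd0 hdθ0, Nat.Prime.factorization_pow hp.out]
    simp only [Finsupp.coe_add, Pi.add_apply, Finsupp.single_eq_same]
    rw [factorization_charDegree_eq p e θ₀ hθ₀, hθ₀h]
    have h2 : Cfsg.blockDefect p e ≤ (Nat.card H).factorization p := by
      unfold Cfsg.blockDefect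
      exact Nat.sub_le _ _
    omega
  have hr := (memLocalRing_natCast_div_iff hM (Nat.card H)
    (p ^ d * Cfsg.charDegree (θ₀ : H → ℂ)) hH0 (Nat.mul_ne_zero hpd0 hdθ0)).mpr hfac
  have h3 : (Nat.card H : ℂ) / (θ₀ : H → ℂ) 1 *
      Cfsg.classInner (secPart p H e (ψ : G → ℂ) y) (secPart p H e (ψ : G → ℂ) y) =
      ((Nat.card H : ℂ) / ((p ^ d * Cfsg.charDegree (θ₀ : H → ℂ) : ℕ) : ℂ)) *
        ((p : ℂ) ^ d *
          Cfsg.classInner (secPart p H e (ψ : G → ℂ) y) (secPart p H e (ψ : G → ℂ) y)) := by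
    have hp0 : (p : ℂ) ≠ 0 := by exact_mod_cast hp.out.ne_zero
    push_cast
    rw [hdegθ]
    field_simp
  rw [h3]
  exact MemLocalIdeal.mul_left hM.2.1 hr hmem

end Cfsg.Agent.Helper6.Q2
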