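import Mathlib
import Cfsg.Prelude.Def_Characters
import Cfsg.Prelude.Def_Blocks
import Cfsg.Prelude.Def_BlockRank
import Cfsg.Agent.Helper6.Q2g

/-!
# Brauer's (5H): the contribution of a character of positive height against a character of height
zero is locally divisible by `p`
-/

set_option autoImplicit false
set_option linter.style.haveILetI false

namespace Cfsg.Agent.Helper6.Q2

open Cfsg.Agent.Helper6 Cfsg.Agent.Helper6.Maj Cfsg.Agent.Helper6.NilAb
open Module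
open scoped ComplexConjugate

universe u

variable {G : Type u} [Group G] {M : Ideal Cfsg.AlgInt}

open Classical in
theorem scaled_contribution_div_p [Fintype G] {p : ℕ} [hp : Fact p.Prime]
    (hM : Cfsg.IsPModular p M)
    (B : Set (Cfsg.IrrCharacter G)) (hB : Cfsg.IsPBlock M B) (χ ψ : Cfsg.IrrCharacter G)
    (hχ : χ ∈ B) (hψ : ψ ∈ B)
    (h0ψ : Cfsg.blockHeight p B (ψ : G → ℂ) = 0)
    (hχpos : 0 < Cfsg.blockHeight p B (χ : G → ℂ))
    (y : G) (H : Subgroup G) [Fintype H]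
    [Fintype (Cfsg.IrrCharacter H)] (hyH : y ∈ H)
    (hcomm : ∀ t : H, y * (t : G) = (t : G) * y)
    (e : Set (Cfsg.IrrCharacter H)) (he : Cfsg.IsInducedBlock M H e B)
    (hloc : Cfsg.MemLocalRing M ((p : ℂ) ^ Cfsg.blockDefect p B *
      Cfsg.classInner (secPart p H e (ψ : G → ℂ) y) (secPart p H e (ψ : G → ℂ) y))) :
    Cfsg.MemLocalRing M ((p : ℂ) ^ Cfsg.blockDefect p B *
      Cfsg.classInner (secPart p H e (χ : G → ℂ) y) (secPart p H e (ψ : G → ℂ) y) / (p : ℂ)) := by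
  have hχc := IsIrrCharacter.isCharacter χ.2
  have hχcf := IsCharacter.isClassFunction hχc
  have hψc := IsIrrCharacter.isCharacter ψ.2
  have hψcf := IsCharacter.isClassFunction hψc
  set u := shiftWeight p H e (ψ : G → ℂ) y hyH with hu
  have hucf := shiftWeight_isClassFunction p H e (ψ : G → ℂ) y hyH hcomm
  have huloc : ∀ t, Cfsg.MemLocalRing M (u t) := by
    intro t
    rw [hu]
    unfold shiftWeight
    split_ifs
    · exact memLocalRing_zero hM.2.1
    · exact memLocalRing_of_isIntegral hM.2.1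
        (contribWeight_isIntegral hψc y H hyH hcomm e _)
  have hL := card_div_mul_sum_sub_of_sameBlock hM.2.1 H u hucf huloc (χ : G → ℂ) (ψ : G → ℂ)
    hχcf hψcf (sameBlock_of_mem_block hM.2.1 B hB hχ hψ)
  have hsχ := card_mul_contribution_shift hM (χ : G → ℂ) (ψ : G → ℂ) hχcf y H hyH hcomm e he.1
  have hsψ := card_mul_contribution_shift hM (ψ : G → ℂ) (ψ : G → ℂ) hψcf y H hyH hcomm e he.1
  have hχ1 : (χ : G → ℂ) 1 ≠ 0 := IsIrrCharacter.apply_one_ne_zero χ.2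
  have hψ1 : (ψ : G → ℂ) 1 ≠ 0 := IsIrrCharacter.apply_one_ne_zero ψ.2
  have hc0 : (Nat.card H : ℂ) ≠ 0 := by
    have : 0 < Nat.card H := Nat.card_pos
    exact_mod_cast this.ne'
  have hG0 : (Nat.card G : ℂ) ≠ 0 := by
    have : 0 < Nat.card G := Nat.card_pos
    exact_mod_cast this.ne'
  have hp0 : (p : ℂ) ≠ 0 := by exact_mod_cast hp.out.ne_zero
  set mχ := Cfsg.classInner (secPart p H e (χ : G → ℂ) y) (secPart p H e (ψ : G → ℂ) y) with hmχ
  set mψ := Cfsg.classInner (secPart p H e (ψ : G → ℂ) y) (secPart p H e (ψ : G → ℂ) y) with hmψ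
  set d := Cfsg.blockDefect p B with hd
  have hsum : ∑ t : H, u t * ((χ : G → ℂ) (t : G) / (χ : G → ℂ) 1 -
      (ψ : G → ℂ) (t : G) / (ψ : G → ℂ) 1) =
      (Nat.card H : ℂ) * mχ / (χ : G → ℂ) 1 - (Nat.card H : ℂ) * mψ / (ψ : G → ℂ) 1 := by
    have h1 : ∀ t : H, u t * ((χ : G → ℂ) (t : G) / (χ : G → ℂ) 1 -
        (ψ : G → ℂ) (t : G) / (ψ : G → ℂ) 1) =
        (u t * (χ : G → ℂ) (t : G)) / (χ : G → ℂ) 1 -
          (u t * (ψ : G → ℂ) (t : G)) / (ψ : G → ℂ) 1 := by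
      intro t; ring
    rw [Finset.sum_congr rfl (fun t _ => h1 t), Finset.sum_sub_distrib, ← Finset.sum_div,
      ← Finset.sum_div, ← hsχ, ← hsψ]
  rw [hsum] at hL
  have hX := memLocalRing_of_memLocalIdeal hL
  -- degrees
  have hdegχ : (Cfsg.charDegree (χ : G → ℂ) : ℂ) = (χ : G → ℂ) 1 :=
    charDegree_cast_of_isCharacter hχc
  have hdegψ : (Cfsg.charDegree (ψ : G → ℂ) : ℂ) = (ψ : G → ℂ) 1 :=
    charDegree_cast_of_isCharacter hψc
  have hdχ0 : Cfsg.charDegree (χ : G → ℂ) ≠ 0 := charDegree_ne_zero_of_irr χ.2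
  have hdψ0 : Cfsg.charDegree (ψ : G → ℂ) ≠ 0 := charDegree_ne_zero_of_irr ψ.2
  have hGn0 : Nat.card G ≠ 0 := Nat.card_pos.ne'
  have hpd0 : p ^ d ≠ 0 := pow_ne_zero _ hp.out.ne_zero
  have hda : d ≤ (Nat.card G).factorization p := by
    rw [hd]
    unfold Cfsg.blockDefect
    exact Nat.sub_le _ _
  -- the `ψ` term is local
  have hfacψ : (p ^ d * Cfsg.charDegree (ψ : G → ℂ)).factorization p ≤
      (Nat.card G).factorization p := by
    rw [Nat.factorization_mul hpd0 hdψ0, Nat.Prime.factorization_pow hp.out]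
    simp only [Finsupp.coe_add, Pi.add_apply, Finsupp.single_eq_same]
    rw [factorization_charDegree_eq p B ψ hψ, h0ψ]
    omega
  have hrψ := (memLocalRing_natCast_div_iff hM (Nat.card G)
    (p ^ d * Cfsg.charDegree (ψ : G → ℂ)) hGn0 (Nat.mul_ne_zero hpd0 hdψ0)).mpr hfacψ
  have hY : Cfsg.MemLocalRing M ((Nat.card G : ℂ) * mψ / (ψ : G → ℂ) 1) := by
    have h3 : (Nat.card G : ℂ) * mψ / (ψ : G → ℂ) 1 =
        ((Nat.card G : ℂ) / ((p ^ d * Cfsg.charDegree (ψ : G → ℂ) : ℕ) : ℂ)) *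
          ((p : ℂ) ^ d * mψ) := by
      push_cast
      rw [hdegψ]
      field_simp
    rw [h3]
    exact MemLocalRing.mul hM.2.1 hrψ hloc
  have hXY : Cfsg.MemLocalRing M ((Nat.card G : ℂ) * mχ / (χ : G → ℂ) 1) := by
    have h3 : (Nat.card G : ℂ) * mχ / (χ : G → ℂ) 1 =
        (Nat.card G : ℂ) / (Nat.card H : ℂ) *
          ((Nat.card H : ℂ) * mχ / (χ : G → ℂ) 1 - (Nat.card H : ℂ) * mψ / (ψ : G → ℂ) 1) +
        (Nat.card G : ℂ) * mψ / (ψ : G → ℂ) 1 := by
      field_simp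
      ring
    rw [h3]
    exact MemLocalRing.add hM.2.1 hX hY
  -- the ratio for `χ`
  have hfacχ : (p * Nat.card G).factorization p ≤
      (p ^ d * Cfsg.charDegree (χ : G → ℂ)).factorization p := by
    rw [Nat.factorization_mul hpd0 hdχ0, Nat.Prime.factorization_pow hp.out,
      Nat.factorization_mul hp.out.ne_zero hGn0]
    simp only [Finsupp.coe_add, Pi.add_apply, Finsupp.single_eq_same]
    rw [factorization_charDegree_eq p B χ hχ, Nat.Prime.factorization_self hp.out]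
    omega
  have hrχ := (memLocalRing_natCast_div_iff hM (p ^ d * Cfsg.charDegree (χ : G → ℂ))
    (p * Nat.card G) (Nat.mul_ne_zero hpd0 hdχ0) (Nat.mul_ne_zero hp.out.ne_zero hGn0)).mpr hfacχ
  have h4 : (p : ℂ) ^ d * mχ / (p : ℂ) =
      (((p ^ d * Cfsg.charDegree (χ : G → ℂ) : ℕ) : ℂ) / ((p * Nat.card G : ℕ) : ℂ)) *
        ((Nat.card G : ℂ) * mχ / (χ : G → ℂ) 1) := by
    push_cast
    rw [hdegχ]
    field_simp
  rw [h4]
  exact MemLocalRing.mul hM.2.1 hrχ hXY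

end Cfsg.Agent.Helper6.Q2
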