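import Mathlib
import Cfsg.Prelude.Def_Characters
import Cfsg.Prelude.Def_Blocks
import Cfsg.Prelude.Def_BlockRank
import Cfsg.Agent.Helper6.Q2h

/-!
# The scaled inner product on the lattice of a block has rank one modulo `p`
-/

set_option autoImplicit false
set_option linter.style.haveILetI false

namespace Cfsg.Agent.Helper6.Q2

open Cfsg.Agent.Helper6 Cfsg.Agent.Helper6.Maj Cfsg.Agent.Helper6.NilAb
open Module
open scoped ComplexConjugate

universe u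

variable {K : Type u} [Group K] {M : Ideal Cfsg.AlgInt}

theorem dvd_of_memLocalIdeal_intCast {p : ℕ} [hp : Fact p.Prime] (hM : Cfsg.IsPModular p M)
    (m : ℤ) (h : Cfsg.MemLocalIdeal M (m : ℂ)) : (p : ℤ) ∣ m := by
  obtain ⟨k, hk⟩ := Int.eq_nat_or_neg m
  rcases hk with rfl | rfl
  · have h1 : Cfsg.MemLocalIdeal M ((k : ℕ) : ℂ) := by simpa using h
    exact Int.natCast_dvd_natCast.mpr (dvd_of_memLocalIdeal_natCast hM k h1)
  · have h1 : Cfsg.MemLocalIdeal M ((k : ℕ) : ℂ) := by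
      have := MemLocalIdeal.neg h
      simpa using this
    exact (dvd_neg).mpr (Int.natCast_dvd_natCast.mpr (dvd_of_memLocalIdeal_natCast hM k h1))

/-- the degrees of the members of a block are divisible by `p ^ (a - d)` -/
theorem exists_degree_cofactor [Finite K] (p : ℕ) [hp : Fact p.Prime]
    (e : Set (Cfsg.IrrCharacter K))
    (θ : Cfsg.IrrCharacter K) (hθ : θ ∈ e) :
    ∃ t : ℕ, Cfsg.charDegree (θ : K → ℂ) =
      p ^ ((Nat.card K).factorization p - Cfsg.blockDefect p e) * t ∧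
      (Cfsg.blockHeight p e (θ : K → ℂ) = 0 → ¬ p ∣ t) := by
  have h1 := factorization_charDegree_eq p e θ hθ
  have hd0 : Cfsg.charDegree (θ : K → ℂ) ≠ 0 := charDegree_ne_zero_of_irr θ.2
  set j := (Nat.card K).factorization p - Cfsg.blockDefect p e with hj
  have hdvd : p ^ j ∣ Cfsg.charDegree (θ : K → ℂ) := by
    rw [Nat.Prime.pow_dvd_iff_le_factorization hp.out hd0, h1]
    omega
  obtain ⟨t, ht⟩ := hdvd
  refine ⟨t, ht, ?_⟩
  intro h0 hpt
  obtain ⟨s, hs⟩ := hpt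
  have h2 : p ^ (j + 1) ∣ Cfsg.charDegree (θ : K → ℂ) := by
    rw [ht, hs, pow_succ]
    exact ⟨s, by ring⟩
  rw [Nat.Prime.pow_dvd_iff_le_factorization hp.out hd0, h1, h0] at h2
  omega

open Classical in
/-- the basic congruence between three members of a block -/
theorem gen_congr [Fintype K] {p : ℕ} [hp : Fact p.Prime] (hM : Cfsg.IsPModular p M)
    (e : Set (Cfsg.IrrCharacter K)) (he : Cfsg.IsPBlock M e)
    (ψ θ θ₀ : Cfsg.IrrCharacter K) (hθ : θ ∈ e) (hθ₀ : θ₀ ∈ e) :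
    ∃ m : ℤ,
      ((p ^ Cfsg.blockDefect p e : ℕ) : ℂ) *
        Cfsg.classInner (Cfsg.pRegularPart p (ψ : K → ℂ)) (Cfsg.pRegularPart p (θ : K → ℂ)) *
        ((θ₀ : K → ℂ) 1 / (p : ℂ) ^ ((Nat.card K).factorization p - Cfsg.blockDefect p e)) -
      ((p ^ Cfsg.blockDefect p e : ℕ) : ℂ) *
        Cfsg.classInner (Cfsg.pRegularPart p (ψ : K → ℂ)) (Cfsg.pRegularPart p (θ₀ : K → ℂ)) *
        ((θ : K → ℂ) 1 / (p : ℂ) ^ ((Nat.card K).factorization p - Cfsg.blockDefect p e)) =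
      (p : ℂ) * (m : ℂ) := by
  set d := Cfsg.blockDefect p e with hd
  set a := (Nat.card K).factorization p with ha
  have hda : d ≤ a := by
    rw [hd]
    unfold Cfsg.blockDefect
    exact Nat.sub_le _ _
  obtain ⟨g, hg⟩ := pow_defect_mul_inner_int hM e ψ θ hθ
  obtain ⟨g₀, hg₀⟩ := pow_defect_mul_inner_int hM e ψ θ₀ hθ₀
  obtain ⟨t, ht, _⟩ := exists_degree_cofactor p e θ hθ
  obtain ⟨t₀, ht₀, _⟩ := exists_degree_cofactor p e θ₀ hθ₀
  rw [← hd] at hg hg₀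
  rw [← ha, ← hd] at ht ht₀
  have hθc := IsIrrCharacter.isCharacter θ.2
  have hθ₀c := IsIrrCharacter.isCharacter θ₀.2
  have hψc := IsIrrCharacter.isCharacter ψ.2
  have hdegθ : (θ : K → ℂ) 1 = ((p ^ (a - d) * t : ℕ) : ℂ) := by
    rw [← ht]; exact (charDegree_cast_of_isCharacter hθc).symm
  have hdegθ₀ : (θ₀ : K → ℂ) 1 = ((p ^ (a - d) * t₀ : ℕ) : ℂ) := by
    rw [← ht₀]; exact (charDegree_cast_of_isCharacter hθ₀c).symm
  have hp0 : (p : ℂ) ≠ 0 := by exact_mod_cast hp.out.ne_zero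
  have hpp0 : (p : ℂ) ^ (a - d) ≠ 0 := pow_ne_zero _ hp0
  have hθ1 : (θ : K → ℂ) 1 ≠ 0 := IsIrrCharacter.apply_one_ne_zero θ.2
  have hθ₀1 : (θ₀ : K → ℂ) 1 ≠ 0 := IsIrrCharacter.apply_one_ne_zero θ₀.2
  have hK0 : (Nat.card K : ℂ) ≠ 0 := by
    have : 0 < Nat.card K := Nat.card_pos
    exact_mod_cast this.ne'
  -- the integer
  have hZ : ((p ^ d : ℕ) : ℂ) *
        Cfsg.classInner (Cfsg.pRegularPart p (ψ : K → ℂ)) (Cfsg.pRegularPart p (θ : K → ℂ)) *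
        ((θ₀ : K → ℂ) 1 / (p : ℂ) ^ (a - d)) -
      ((p ^ d : ℕ) : ℂ) *
        Cfsg.classInner (Cfsg.pRegularPart p (ψ : K → ℂ)) (Cfsg.pRegularPart p (θ₀ : K → ℂ)) *
        ((θ : K → ℂ) 1 / (p : ℂ) ^ (a - d)) = ((g * t₀ - g₀ * t : ℤ) : ℂ) := by
    have e1 : ((p ^ d : ℕ) : ℂ) = (p : ℂ) ^ d := by push_cast; rfl
    rw [e1, hg, hg₀, hdegθ, hdegθ₀]
    push_cast
    field_simp
  rw [hZ]
  -- the congruence
  have hcong := Sinv_div_congr hM.2.1 p (IsCharacter.isClassFunction hψc)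
    (fun t => IsCharacter.isIntegral_value hψc t) θ θ₀
    (sameBlock_of_mem_block hM.2.1 e he hθ hθ₀)
  have hS : ∀ ξ : Cfsg.IrrCharacter K, Sinv p (ψ : K → ℂ) (ξ : K → ℂ) =
      (Nat.card K : ℂ) * Cfsg.classInner (Cfsg.pRegularPart p (ψ : K → ℂ))
        (Cfsg.pRegularPart p (ξ : K → ℂ)) := by
    intro ξ
    rw [← classInner_pRegularPart_left, classInner_pRegularPart_eq_Sinv p _
      (IsIrrCharacter.isCharacter ξ.2)]
    field_simp
  rw [hS θ, hS θ₀] at hcong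
  -- the ratio
  have hK0n : Nat.card K ≠ 0 := Nat.card_pos.ne'
  have hdθ0 : Cfsg.charDegree (θ : K → ℂ) ≠ 0 := charDegree_ne_zero_of_irr θ.2
  have hdθ₀0 : Cfsg.charDegree (θ₀ : K → ℂ) ≠ 0 := charDegree_ne_zero_of_irr θ₀.2
  have ht0 : t ≠ 0 := by
    rintro rfl
    rw [mul_zero] at ht
    exact hdθ0 ht
  have ht₀0 : t₀ ≠ 0 := by
    rintro rfl
    rw [mul_zero] at ht₀
    exact hdθ₀0 ht₀
  have hfac : (Nat.card K).factorization p ≤ (p ^ a * (t * t₀)).factorization p := by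
    rw [Nat.factorization_mul (pow_ne_zero _ hp.out.ne_zero) (Nat.mul_ne_zero ht0 ht₀0),
      Nat.Prime.factorization_pow hp.out]
    simp only [Finsupp.coe_add, Pi.add_apply, Finsupp.single_eq_same]
    omega
  have hr := (memLocalRing_natCast_div_iff hM (p ^ a * (t * t₀)) (Nat.card K)
    (Nat.mul_ne_zero (pow_ne_zero _ hp.out.ne_zero) (Nat.mul_ne_zero ht0 ht₀0)) hK0n).mpr hfac
  have hmem : Cfsg.MemLocalIdeal M ((g * t₀ - g₀ * t : ℤ) : ℂ) := by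
    have e2 : ((g * t₀ - g₀ * t : ℤ) : ℂ) =
        (((p ^ a * (t * t₀) : ℕ) : ℂ) / (Nat.card K : ℂ)) *
        ((Nat.card K : ℂ) * Cfsg.classInner (Cfsg.pRegularPart p (ψ : K → ℂ))
          (Cfsg.pRegularPart p (θ : K → ℂ)) / (θ : K → ℂ) 1 -
        (Nat.card K : ℂ) * Cfsg.classInner (Cfsg.pRegularPart p (ψ : K → ℂ))
          (Cfsg.pRegularPart p (θ₀ : K → ℂ)) / (θ₀ : K → ℂ) 1) := by
      have hg' : Cfsg.classInner (Cfsg.pRegularPart p (ψ : K → ℂ))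
          (Cfsg.pRegularPart p (θ : K → ℂ)) = (g : ℂ) / (p : ℂ) ^ d := by
        rw [← hg]; field_simp
      have hg₀' : Cfsg.classInner (Cfsg.pRegularPart p (ψ : K → ℂ))
          (Cfsg.pRegularPart p (θ₀ : K → ℂ)) = (g₀ : ℂ) / (p : ℂ) ^ d := by
        rw [← hg₀]; field_simp
      have hpa : (p : ℂ) ^ a = (p : ℂ) ^ (a - d) * (p : ℂ) ^ d := by
        rw [← pow_add, Nat.sub_add_cancel hda]
      have ht0c : (t : ℂ) ≠ 0 := by exact_mod_cast ht0
      have ht₀0c : (t₀ : ℂ) ≠ 0 := by exact_mod_cast ht₀0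
      rw [hg', hg₀', hdegθ, hdegθ₀]
      push_cast
      rw [hpa]
      field_simp
    rw [e2]
    exact MemLocalIdeal.mul_left hM.2.1 hr hcong
  obtain ⟨m, hm⟩ := dvd_of_memLocalIdeal_intCast hM _ hmem
  refine ⟨m, ?_⟩
  rw [hm]
  push_cast
  rfl

end Cfsg.Agent.Helper6.Q2
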