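import Mathlib
import Cfsg.Prelude.Def_Characters
import Cfsg.Prelude.Def_Blocks
import Cfsg.Prelude.Def_BlockRank
import Cfsg.Agent.Helper6.Q2i

/-!
# The rank one congruence on the lattice and the divisibility of the second minimum
-/

set_option autoImplicit false
set_option linter.style.haveILetI false

namespace Cfsg.Agent.Helper6.Q2

open Cfsg.Agent.Helper6 Cfsg.Agent.Helper6.Maj Cfsg.Agent.Helper6.NilAb
open Module
open scoped ComplexConjugate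

universe u

variable {K : Type u} [Group K] {M : Ideal Cfsg.AlgInt}

theorem pRegularPart_one (p : ℕ) [hp : Fact p.Prime] (f : K → ℂ) :
    Cfsg.pRegularPart p f 1 = f 1 := by
  classical
  rw [pRegularPart_apply, if_neg]
  rw [orderOf_one]
  exact hp.out.one_lt.ne' ∘ Nat.dvd_one.mp

open Classical in
/-- the congruence on the lattice -/
theorem lat_congr [Fintype K] {p : ℕ} [hp : Fact p.Prime] (hM : Cfsg.IsPModular p M)
    (e : Set (Cfsg.IrrCharacter K)) (he : Cfsg.IsPBlock M e)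
    (θ₀ : Cfsg.IrrCharacter K) (hθ₀ : θ₀ ∈ e) :
    ∀ u ∈ lat p e, ∀ v ∈ lat p e, ∃ m : ℤ,
      ((p ^ Cfsg.blockDefect p e : ℕ) : ℂ) * Cfsg.classInner u v *
        ((θ₀ : K → ℂ) 1 / (p : ℂ) ^ ((Nat.card K).factorization p - Cfsg.blockDefect p e)) -
      ((p ^ Cfsg.blockDefect p e : ℕ) : ℂ) *
        Cfsg.classInner u (Cfsg.pRegularPart p (θ₀ : K → ℂ)) *
        (v 1 / (p : ℂ) ^ ((Nat.card K).factorization p - Cfsg.blockDefect p e)) =
      (p : ℂ) * (m : ℂ) := by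
  intro u hu v hv
  unfold lat at hv
  induction hv using AddSubgroup.closure_induction with
  | mem x hx =>
    obtain ⟨θ, hθ, rfl⟩ := hx
    simp only
    rw [pRegularPart_one]
    unfold lat at hu
    induction hu using AddSubgroup.closure_induction with
    | mem z hz =>
      obtain ⟨ψ, _, rfl⟩ := hz
      exact gen_congr hM e he ψ θ θ₀ hθ hθ₀
    | zero =>
      refine ⟨0, ?_⟩
      rw [classInner_zero_left, classInner_zero_left]
      simp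
    | add z₁ z₂ _ _ h1 h2 =>
      obtain ⟨m1, hm1⟩ := h1
      obtain ⟨m2, hm2⟩ := h2
      refine ⟨m1 + m2, ?_⟩
      rw [classInner_add_left, classInner_add_left, Int.cast_add]
      linear_combination hm1 + hm2
    | neg z _ h1 =>
      obtain ⟨m1, hm1⟩ := h1
      refine ⟨-m1, ?_⟩
      rw [classInner_neg_left, classInner_neg_left, Int.cast_neg]
      linear_combination -hm1
  | zero =>
    refine ⟨0, ?_⟩
    rw [classInner_zero_right]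
    simp
  | add x₁ x₂ _ _ h1 h2 =>
    obtain ⟨m1, hm1⟩ := h1
    obtain ⟨m2, hm2⟩ := h2
    refine ⟨m1 + m2, ?_⟩
    rw [classInner_add_right, Pi.add_apply, Int.cast_add]
    linear_combination hm1 + hm2
  | neg x _ h1 =>
    obtain ⟨m1, hm1⟩ := h1
    refine ⟨-m1, ?_⟩
    rw [classInner_neg_right, Pi.neg_apply, Int.cast_neg]
    linear_combination -hm1

/-- the value at `1` of a member of the lattice -/
theorem lat_apply_one [Finite K] (p : ℕ) [hp : Fact p.Prime]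
    (e : Set (Cfsg.IrrCharacter K)) :
    ∀ v ∈ lat p e, ∃ T : ℤ,
      v 1 = (p : ℂ) ^ ((Nat.card K).factorization p - Cfsg.blockDefect p e) * (T : ℂ) := by
  intro v hv
  unfold lat at hv
  induction hv using AddSubgroup.closure_induction with
  | mem x hx =>
    obtain ⟨θ, hθ, rfl⟩ := hx
    simp only
    rw [pRegularPart_one]
    obtain ⟨t, ht, _⟩ := exists_degree_cofactor p e θ hθ
    refine ⟨t, ?_⟩
    rw [← charDegree_cast_of_isCharacter (IsIrrCharacter.isCharacter θ.2), ht]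
    push_cast
    rfl
  | zero => exact ⟨0, by simp⟩
  | add x₁ x₂ _ _ h1 h2 =>
    obtain ⟨m1, hm1⟩ := h1
    obtain ⟨m2, hm2⟩ := h2
    exact ⟨m1 + m2, by rw [Pi.add_apply, hm1, hm2]; push_cast; ring⟩
  | neg x _ h1 =>
    obtain ⟨m1, hm1⟩ := h1
    exact ⟨-m1, by rw [Pi.neg_apply, hm1]; push_cast; ring⟩

open Classical in
/-- **if the first minimum of the lattice is `1` and the basis is orthogonal, the second minimum
is divisible by `p`** -/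
theorem dvd_gamma [Fintype K] {p : ℕ} [hp : Fact p.Prime] (hM : Cfsg.IsPModular p M)
    (e : Set (Cfsg.IrrCharacter K)) (he : Cfsg.IsPBlock M e)
    (v₁ v₂ : K → ℂ) (hv₁ : v₁ ∈ lat p e) (hv₂ : v₂ ∈ lat p e) (γ : ℤ)
    (h11 : ((p ^ Cfsg.blockDefect p e : ℕ) : ℂ) * Cfsg.classInner v₁ v₁ = 1)
    (h12 : ((p ^ Cfsg.blockDefect p e : ℕ) : ℂ) * Cfsg.classInner v₁ v₂ = 0)
    (h22 : ((p ^ Cfsg.blockDefect p e : ℕ) : ℂ) * Cfsg.classInner v₂ v₂ = (γ : ℂ)) :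
    (p : ℤ) ∣ γ := by
  haveI : Finite (Cfsg.IrrCharacter K) := irr_finite
  obtain ⟨θ₁, hθ₁⟩ : ∃ θ₁ : Cfsg.IrrCharacter K, θ₁ ∈ e := by
    obtain ⟨θ₁, hb1⟩ := he
    exact ⟨θ₁, hb1 ▸ mem_blockOf_self hM.2.1 θ₁⟩
  obtain ⟨θ₀, hθ₀, hθ₀h⟩ := exists_height_zero p e ⟨θ₁, hθ₁⟩
  obtain ⟨t₀, ht₀, ht₀p⟩ := exists_degree_cofactor p e θ₀ hθ₀
  have ht₀p' := ht₀p hθ₀h
  set j := (Nat.card K).factorization p - Cfsg.blockDefect p e with hj
  have hp0 : (p : ℂ) ≠ 0 := by exact_mod_cast hp.out.ne_zero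
  have hpj0 : (p : ℂ) ^ j ≠ 0 := pow_ne_zero _ hp0
  have hdeg : (θ₀ : K → ℂ) 1 / (p : ℂ) ^ j = (t₀ : ℂ) := by
    rw [← charDegree_cast_of_isCharacter (IsIrrCharacter.isCharacter θ₀.2), ht₀]
    push_cast
    field_simp
  have hθ₀Λ := mem_lat_of_mem p e θ₀ hθ₀
  obtain ⟨g₁, hg₁⟩ := lat_integral hM e v₁ hv₁ _ hθ₀Λ
  obtain ⟨g₂, hg₂⟩ := lat_integral hM e v₂ hv₂ _ hθ₀Λ
  obtain ⟨T₁, hT₁⟩ := lat_apply_one p e v₁ hv₁
  obtain ⟨T₂, hT₂⟩ := lat_apply_one p e v₂ hv₂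
  rw [← hj] at hT₁ hT₂
  have hT₁' : v₁ 1 / (p : ℂ) ^ j = (T₁ : ℂ) := by rw [hT₁]; field_simp
  have hT₂' : v₂ 1 / (p : ℂ) ^ j = (T₂ : ℂ) := by rw [hT₂]; field_simp
  obtain ⟨m₁, hm₁⟩ := lat_congr hM e he θ₀ hθ₀ v₁ hv₁ v₁ hv₁
  obtain ⟨m₂, hm₂⟩ := lat_congr hM e he θ₀ hθ₀ v₁ hv₁ v₂ hv₂
  obtain ⟨m₃, hm₃⟩ := lat_congr hM e he θ₀ hθ₀ v₂ hv₂ v₂ hv₂
  rw [← hj, hdeg, h11, hg₁, hT₁'] at hm₁
  rw [← hj, hdeg, h12, hg₁, hT₂'] at hm₂
  rw [← hj, hdeg, h22, hg₂, hT₂'] at hm₃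
  have e1 : (t₀ : ℤ) - g₁ * T₁ = p * m₁ := by
    have : (((t₀ : ℤ) - g₁ * T₁ : ℤ) : ℂ) = ((p * m₁ : ℤ) : ℂ) := by
      push_cast
      linear_combination hm₁
    exact_mod_cast this
  have e2 : - (g₁ * T₂) = p * m₂ := by
    have : ((- (g₁ * T₂) : ℤ) : ℂ) = ((p * m₂ : ℤ) : ℂ) := by
      push_cast
      linear_combination hm₂
    exact_mod_cast this
  have e3 : γ * t₀ - g₂ * T₂ = p * m₃ := by
    have : ((γ * t₀ - g₂ * T₂ : ℤ) : ℂ) = ((p * m₃ : ℤ) : ℂ) := by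
      push_cast
      linear_combination hm₃
    exact_mod_cast this
  have hpp : Prime (p : ℤ) := Nat.prime_iff_prime_int.mp hp.out
  have hnt₀ : ¬ (p : ℤ) ∣ (t₀ : ℤ) := by
    intro h
    exact ht₀p' (Int.natCast_dvd_natCast.mp h)
  have hg₁ndvd : ¬ (p : ℤ) ∣ g₁ := by
    intro h
    apply hnt₀
    have h1 : (p : ℤ) ∣ g₁ * T₁ := Dvd.dvd.mul_right h T₁
    have h2 : (p : ℤ) ∣ (t₀ : ℤ) - g₁ * T₁ := ⟨m₁, e1⟩
    have := dvd_add h2 h1
    simpa using this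
  have hT₂dvd : (p : ℤ) ∣ T₂ := by
    have h1 : (p : ℤ) ∣ g₁ * T₂ := by
      have : (p : ℤ) ∣ -(g₁ * T₂) := ⟨m₂, e2⟩
      exact (dvd_neg).mp this
    exact (hpp.dvd_or_dvd h1).resolve_left hg₁ndvd
  have hγt : (p : ℤ) ∣ γ * t₀ := by
    have h1 : (p : ℤ) ∣ g₂ * T₂ := Dvd.dvd.mul_left hT₂dvd g₂
    have h2 : (p : ℤ) ∣ γ * t₀ - g₂ * T₂ := ⟨m₃, e3⟩
    have := dvd_add h2 h1
    simpa using this
  exact (hpp.dvd_or_dvd hγt).resolve_right hnt₀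

end Cfsg.Agent.Helper6.Q2
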