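import Mathlib
import Cfsg.Prelude.Def_Characters
import Cfsg.Prelude.Def_Blocks
import Cfsg.Prelude.Def_BlockRank
import Cfsg.Agent.Helper6.Q2j

/-!
# Dual vectors of the reduced basis and the counting inequality
-/

set_option autoImplicit false
set_option linter.style.haveILetI false

namespace Cfsg.Agent.Helper6.Q2

open Cfsg.Agent.Helper6 Cfsg.Agent.Helper6.Maj Cfsg.Agent.Helper6.NilAb
open Module
open scoped ComplexConjugate

universe u

variable {G : Type u} [Group G] {M : Ideal Cfsg.AlgInt}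

/-- the dual vector of a pair of integers with all the properties needed -/
theorem exists_dual_data {K : Type u} [Group K] [Fintype K] (p : ℕ)
    (e : Set (Cfsg.IrrCharacter K)) (N : ℕ) (hN : 0 < N) (v₁ v₂ : K → ℂ)
    (hv₁ : v₁ ∈ lat p e) (hv₂ : v₂ ∈ lat p e) (α β γ : ℤ)
    (hα : (N : ℂ) * Cfsg.classInner v₁ v₁ = (α : ℂ))
    (hβ : (N : ℂ) * Cfsg.classInner v₁ v₂ = (β : ℂ))
    (hγ : (N : ℂ) * Cfsg.classInner v₂ v₂ = (γ : ℂ))
    (hΔ : α * γ - β ^ 2 ≠ 0)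
    (hbasis : ∀ w ∈ lat p e, ∃ m₁ m₂ : ℤ, w = (m₁ : ℂ) • v₁ + (m₂ : ℂ) • v₂) (s₁ s₂ : ℤ) :
    ∃ u : K → ℂ, u ∈ spn p e ∧
      (∀ θ ∈ e, ∃ m : ℤ, Cfsg.classInner (Cfsg.pRegularPart p (θ : K → ℂ)) u = (m : ℂ)) ∧
      (∀ a c : ℂ, Cfsg.classInner (a • v₁ + c • v₂) u = a * s₁ + c * s₂) ∧
      Cfsg.classInner u u = (((N : ℝ) * (s₁ ^ 2 * γ - 2 * s₁ * s₂ * β + s₂ ^ 2 * α) /
        (α * γ - β ^ 2 : ℝ) : ℝ) : ℂ) := by
  obtain ⟨u, ⟨a₀, b₀, hu⟩, h1, h2, h3⟩ := exists_dual_vector N hN v₁ v₂ α β γ hα hβ hγ hΔ s₁ s₂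
  have hpair : ∀ a c : ℂ, Cfsg.classInner (a • v₁ + c • v₂) u = a * s₁ + c * s₂ := by
    intro a c
    rw [classInner_add_left, classInner_smul_left, classInner_smul_left, h1, h2]
  refine ⟨u, ?_, ?_, hpair, h3⟩
  · rw [hu]
    exact Submodule.add_mem _ (Submodule.smul_mem _ _ (lat_le_spn p e v₁ hv₁))
      (Submodule.smul_mem _ _ (lat_le_spn p e v₂ hv₂))
  · intro θ hθ
    obtain ⟨m₁, m₂, hm⟩ := hbasis _ (mem_lat_of_mem p e θ hθ)
    refine ⟨m₁ * s₁ + m₂ * s₂, ?_⟩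
    rw [hm, hpair]
    push_cast
    rfl

open Classical in
/-- **the number of characters hit by an integral vector is at most its norm** -/
theorem count_hit_le [Fintype G] {p : ℕ} [hp : Fact p.Prime] (hM : Cfsg.IsPModular p M)
    (B : Set (Cfsg.IrrCharacter G)) (y : G) (hy : ∃ k : ℕ, orderOf y = p ^ k) (H : Subgroup G)
    (hH : H = Subgroup.centralizer ({y} : Set G)) [Fintype H]
    [Fintype (Cfsg.IrrCharacter G)] [Fintype (Cfsg.IrrCharacter H)]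
    (e : Set (Cfsg.IrrCharacter H)) (he : Cfsg.IsInducedBlock M H e B)
    (hyH : y ∈ H) (n : ℕ) [NeZero n] (hn : orderOf y = n)
    (ε : Cfsg.IrrCharacter H → ℂ) (hεn : ∀ θ, ε θ ^ n = 1) (hε1 : ∀ θ, ε θ * conj (ε θ) = 1)
    (hε : ∀ (θ : Cfsg.IrrCharacter H) (k : ℕ) (c : H),
      (θ : H → ℂ) ((⟨y, hyH⟩ : H) ^ k * c) = ε θ ^ k * (θ : H → ℂ) c)
    (x : H → ℂ) (hx : x ∈ spn p e)
    (hZ : ∀ θ ∈ e, ∃ m : ℤ, Cfsg.classInner (Cfsg.pRegularPart p (θ : H → ℂ)) x = (m : ℂ)) :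
    (((Finset.univ.filter (fun χ : Cfsg.IrrCharacter G => χ ∈ B)).filter
      (fun χ : Cfsg.IrrCharacter G =>
        Cfsg.classInner (secPart p H e (χ : G → ℂ) y) x ≠ 0)).card : ℝ) ≤
      (Cfsg.classInner x x).re := by
  have h := weighted_count_le hM B y hy H hH e he x hx n hn
    (fun χ => if Cfsg.classInner (secPart p H e (χ : G → ℂ) y) x ≠ 0 then 1 else 0) (by
      intro χ _
      by_cases hne : Cfsg.classInner (secPart p H e (χ : G → ℂ) y) x ≠ 0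
      · simp only [if_pos hne, mul_one]
        exact galois_sum_ge_of_ne_zero p H e (IsIrrCharacter.isCharacter χ.2) y hyH n ε hεn hε1
          hε x hZ hne
      · simp only [if_neg hne, mul_zero]
        exact Finset.sum_nonneg (fun k _ => by positivity))
  rw [Finset.sum_boole] at h
  exact h

end Cfsg.Agent.Helper6.Q2
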