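import Mathlib
import Cfsg.Prelude.Def_Characters
import Cfsg.Prelude.Def_Blocks
import Cfsg.Prelude.Def_BlockRank
import Cfsg.Agent.Helper6.Q2k
import Cfsg.Agent.Helper6.NilAbD

/-!
# `k(B) ≤ p^d` from a major subsection of rank two: the generic case
-/

set_option autoImplicit false
set_option linter.style.haveILetI false

namespace Cfsg.Agent.Helper6.Q2

open Cfsg.Agent.Helper6 Cfsg.Agent.Helper6.Maj Cfsg.Agent.Helper6.NilAb
open Module
open scoped ComplexConjugate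

universe u

variable {G : Type u} [Group G] {M : Ideal Cfsg.AlgInt}

/-- the numerical inequality for a reduced form whose first minimum is at least two -/
theorem reduced_form_ineq (α β γ : ℤ) (hα : 2 ≤ α) (hβ : 2 * |β| ≤ α) (hαγ : α ≤ γ) :
    α + γ - |β| ≤ α * γ - β ^ 2 := by
  have h0 := abs_nonneg β
  have hsq : β ^ 2 = |β| ^ 2 := (sq_abs β).symm
  rw [hsq]
  set t := |β| with ht
  nlinarith [mul_nonneg (sub_nonneg.mpr hα) (sub_nonneg.mpr hαγ), mul_nonneg h0 h0,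
    mul_nonneg (sub_nonneg.mpr hβ) h0, mul_nonneg (sub_nonneg.mpr hβ) (sub_nonneg.mpr hα)]

/-- if every element satisfies at least two of three predicates, the three filters together
have at least twice as many elements -/
theorem two_mul_card_le_filter {ι : Type*} [DecidableEq ι] (s : Finset ι) (P₁ P₂ P₃ : ι → Prop)
    [DecidablePred P₁] [DecidablePred P₂] [DecidablePred P₃]
    (h : ∀ x ∈ s, (P₁ x ∧ P₂ x) ∨ (P₁ x ∧ P₃ x) ∨ (P₂ x ∧ P₃ x)) :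
    2 * s.card ≤ (s.filter P₁).card + (s.filter P₂).card + (s.filter P₃).card := by
  induction s using Finset.induction_on with
  | empty => simp
  | insert a s ha ih =>
    have ih' := ih (fun x hx => h x (Finset.mem_insert_of_mem hx))
    have ha' := h a (Finset.mem_insert_self a s)
    rw [Finset.card_insert_of_notMem ha, Finset.filter_insert, Finset.filter_insert,
      Finset.filter_insert]
    have n1 : a ∉ s.filter P₁ := fun hh => ha (Finset.mem_filter.mp hh).1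
    have n2 : a ∉ s.filter P₂ := fun hh => ha (Finset.mem_filter.mp hh).1
    have n3 : a ∉ s.filter P₃ := fun hh => ha (Finset.mem_filter.mp hh).1
    by_cases h1 : P₁ a <;> by_cases h2 : P₂ a <;> by_cases h3 : P₃ a <;>
      simp only [h1, h2, h3, if_true, if_false, Finset.card_insert_of_notMem n1,
        Finset.card_insert_of_notMem n2, Finset.card_insert_of_notMem n3] <;>
      first | omega | (exfalso; tauto)

open Classical in
/-- **the generic case**: the first minimum of the lattice is at least two -/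
theorem card_le_of_good [Fintype G] {p : ℕ} [hp : Fact p.Prime] (hM : Cfsg.IsPModular p M)
    (B : Set (Cfsg.IrrCharacter G)) (y : G) (hy : ∃ k : ℕ, orderOf y = p ^ k) (H : Subgroup G)
    (hH : H = Subgroup.centralizer ({y} : Set G)) [Fintype H]
    [Fintype (Cfsg.IrrCharacter G)] [Fintype (Cfsg.IrrCharacter H)]
    (e : Set (Cfsg.IrrCharacter H)) (he : Cfsg.IsInducedBlock M H e B)
    (hyH : y ∈ H) (n : ℕ) [NeZero n] (hn : orderOf y = n)
    (ε : Cfsg.IrrCharacter H → ℂ) (hεn : ∀ θ, ε θ ^ n = 1) (hε1 : ∀ θ, ε θ * conj (ε θ) = 1)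
    (hε : ∀ (θ : Cfsg.IrrCharacter H) (k : ℕ) (c : H),
      (θ : H → ℂ) ((⟨y, hyH⟩ : H) ^ k * c) = ε θ ^ k * (θ : H → ℂ) c)
    (hS : finrank ℂ (spn p e) = 2)
    (hδne : ∀ χ ∈ B, secPart p H e (χ : G → ℂ) y ≠ 0)
    (N : ℕ) (hN : 0 < N) (v₁ v₂ : H → ℂ)
    (hv₁ : v₁ ∈ lat p e) (hv₂ : v₂ ∈ lat p e) (α β γ : ℤ)
    (hα : (N : ℂ) * Cfsg.classInner v₁ v₁ = (α : ℂ))
    (hβ : (N : ℂ) * Cfsg.classInner v₁ v₂ = (β : ℂ))
    (hγ : (N : ℂ) * Cfsg.classInner v₂ v₂ = (γ : ℂ))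
    (hα2 : 2 ≤ α) (hred : 2 * |β| ≤ α) (hαγ : α ≤ γ)
    (hbasis : ∀ w ∈ lat p e, ∃ m₁ m₂ : ℤ, w = (m₁ : ℂ) • v₁ + (m₂ : ℂ) • v₂)
    (hindep : ∀ a b : ℂ, a • v₁ + b • v₂ = 0 → a = 0 ∧ b = 0) :
    ((Finset.univ.filter (fun χ : Cfsg.IrrCharacter G => χ ∈ B)).card : ℝ) ≤ (N : ℝ) := by
  set FB := Finset.univ.filter (fun χ : Cfsg.IrrCharacter G => χ ∈ B) with hFB
  have hineq := reduced_form_ineq α β γ hα2 hred hαγ
  have hΔpos : 0 < α * γ - β ^ 2 := by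
    have h0 := abs_nonneg β
    have : 0 < α + γ - |β| := by linarith
    linarith
  have hΔ : α * γ - β ^ 2 ≠ 0 := hΔpos.ne'
  -- the sign
  obtain ⟨σ, hσ, hσβ⟩ : ∃ σ : ℤ, (σ = 1 ∨ σ = -1) ∧ σ * β = |β| := by
    rcases le_total 0 β with h | h
    · exact ⟨1, Or.inl rfl, by rw [one_mul, abs_of_nonneg h]⟩
    · exact ⟨-1, Or.inr rfl, by rw [abs_of_nonpos h]; ring⟩
  obtain ⟨u₁, hu₁S, hu₁Z, hu₁p, hu₁n⟩ :=
    exists_dual_data p e N hN v₁ v₂ hv₁ hv₂ α β γ hα hβ hγ hΔ hbasis 1 0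
  obtain ⟨u₂, hu₂S, hu₂Z, hu₂p, hu₂n⟩ :=
    exists_dual_data p e N hN v₁ v₂ hv₁ hv₂ α β γ hα hβ hγ hΔ hbasis 0 1
  obtain ⟨u₃, hu₃S, hu₃Z, hu₃p, hu₃n⟩ :=
    exists_dual_data p e N hN v₁ v₂ hv₁ hv₂ α β γ hα hβ hγ hΔ hbasis 1 σ
  have c₁ := count_hit_le hM B y hy H hH e he hyH n hn ε hεn hε1 hε u₁ hu₁S hu₁Z
  have c₂ := count_hit_le hM B y hy H hH e he hyH n hn ε hεn hε1 hε u₂ hu₂S hu₂Z
  have c₃ := count_hit_le hM B y hy H hH e he hyH n hn ε hεn hε1 hε u₃ hu₃S hu₃Z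
  rw [hu₁n, Complex.ofReal_re] at c₁
  rw [hu₂n, Complex.ofReal_re] at c₂
  rw [hu₃n, Complex.ofReal_re] at c₃
  -- each character is hit at least twice
  have hcover : 2 * FB.card ≤
      (FB.filter (fun χ : Cfsg.IrrCharacter G =>
        Cfsg.classInner (secPart p H e (χ : G → ℂ) y) u₁ ≠ 0)).card +
      (FB.filter (fun χ : Cfsg.IrrCharacter G =>
        Cfsg.classInner (secPart p H e (χ : G → ℂ) y) u₂ ≠ 0)).card +
      (FB.filter (fun χ : Cfsg.IrrCharacter G =>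
        Cfsg.classInner (secPart p H e (χ : G → ℂ) y) u₃ ≠ 0)).card := by
    apply two_mul_card_le_filter
    intro χ hχ
    have hχB : χ ∈ B := (Finset.mem_filter.mp hχ).2
    obtain ⟨a, c, hac⟩ := exists_coords_of_plane (spn p e) hS v₁ v₂ (lat_le_spn p e v₁ hv₁)
      (lat_le_spn p e v₂ hv₂) hindep _ (secPart_mem_span p H e (χ : G → ℂ) y)
    have hne : ¬ (a = 0 ∧ c = 0) := by
      rintro ⟨rfl, rfl⟩
      apply hδne χ hχB
      rw [hac, zero_smul, zero_smul, add_zero]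
    rw [hac, hu₁p, hu₂p, hu₃p]
    push_cast
    simp only [mul_one, mul_zero, add_zero, zero_add]
    by_cases ha : a = 0
    · have hc : c ≠ 0 := fun hc => hne ⟨ha, hc⟩
      have hσ0 : (σ : ℂ) ≠ 0 := by
        rcases hσ with rfl | rfl <;> norm_num
      rw [ha, zero_add]
      exact Or.inr (Or.inr ⟨hc, mul_ne_zero hc hσ0⟩)
    · by_cases hc : c = 0
      · rw [hc, zero_mul, add_zero]
        exact Or.inr (Or.inl ⟨ha, ha⟩)
      · exact Or.inl ⟨ha, hc⟩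
  -- the final estimate
  have hΔr : (0 : ℝ) < (α : ℝ) * γ - (β : ℝ) ^ 2 := by exact_mod_cast hΔpos
  have hineqr : (α : ℝ) + γ - |(β : ℝ)| ≤ (α : ℝ) * γ - (β : ℝ) ^ 2 := by exact_mod_cast hineq
  have hσβr : (σ : ℝ) * β = |(β : ℝ)| := by exact_mod_cast hσβ
  have hσ2 : (σ : ℝ) ^ 2 = 1 := by
    rcases hσ with rfl | rfl <;> norm_num
  have hcover' : (2 : ℝ) * FB.card ≤
      ((FB.filter (fun χ : Cfsg.IrrCharacter G =>
        Cfsg.classInner (secPart p H e (χ : G → ℂ) y) u₁ ≠ 0)).card : ℝ) +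
      ((FB.filter (fun χ : Cfsg.IrrCharacter G =>
        Cfsg.classInner (secPart p H e (χ : G → ℂ) y) u₂ ≠ 0)).card : ℝ) +
      ((FB.filter (fun χ : Cfsg.IrrCharacter G =>
        Cfsg.classInner (secPart p H e (χ : G → ℂ) y) u₃ ≠ 0)).card : ℝ) := by
    exact_mod_cast hcover
  have hNr : (0 : ℝ) < (N : ℝ) := by exact_mod_cast hN
  have hsum : (N : ℝ) * (((1 : ℤ) : ℝ) ^ 2 * γ - 2 * ((1 : ℤ) : ℝ) * ((0 : ℤ) : ℝ) * β +
        ((0 : ℤ) : ℝ) ^ 2 * α) / ((α : ℝ) * γ - (β : ℝ) ^ 2) +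
      (N : ℝ) * (((0 : ℤ) : ℝ) ^ 2 * γ - 2 * ((0 : ℤ) : ℝ) * ((1 : ℤ) : ℝ) * β +
        ((1 : ℤ) : ℝ) ^ 2 * α) / ((α : ℝ) * γ - (β : ℝ) ^ 2) +
      (N : ℝ) * (((1 : ℤ) : ℝ) ^ 2 * γ - 2 * ((1 : ℤ) : ℝ) * (σ : ℝ) * β +
        (σ : ℝ) ^ 2 * α) / ((α : ℝ) * γ - (β : ℝ) ^ 2) =
      2 * ((N : ℝ) * ((α : ℝ) + γ - |(β : ℝ)|) / ((α : ℝ) * γ - (β : ℝ) ^ 2)) := by
    rw [hσ2, ← hσβr]
    push_cast
    field_simp
    ring
  have hle : (N : ℝ) * ((α : ℝ) + γ - |(β : ℝ)|) / ((α : ℝ) * γ - (β : ℝ) ^ 2) ≤ (N : ℝ) := by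
    rw [div_le_iff₀ hΔr]
    exact mul_le_mul_of_nonneg_left hineqr hNr.le
  linarith

end Cfsg.Agent.Helper6.Q2
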