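import Mathlib
import Cfsg.Prelude.Def_Characters
import Cfsg.Prelude.Def_Blocks
import Cfsg.Prelude.Def_BlockRank
import Cfsg.Agent.Helper6.Q2l
import Cfsg.Agent.Helper6.Q2h

/-!
# `k(B) ≤ p^d` from a major subsection of rank two: the case of first minimum one
-/

set_option autoImplicit false
set_option linter.style.haveILetI false

namespace Cfsg.Agent.Helper6.Q2

open Cfsg.Agent.Helper6 Cfsg.Agent.Helper6.Maj Cfsg.Agent.Helper6.NilAb
open Module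
open scoped ComplexConjugate

universe u

variable {G : Type u} [Group G] {M : Ideal Cfsg.AlgInt}

open Classical in
/-- pairings of section parts with integral vectors are algebraic integers -/
theorem pairing_isIntegral [Fintype G] (p : ℕ) (H : Subgroup G) [Fintype H]
    [Fintype (Cfsg.IrrCharacter H)] (e : Set (Cfsg.IrrCharacter H))
    {χ : G → ℂ} (hχ : Cfsg.IsCharacter G χ) (y : G) (hyH : y ∈ H)
    (n : ℕ) (hn : 0 < n)
    (ε : Cfsg.IrrCharacter H → ℂ) (hεn : ∀ θ, ε θ ^ n = 1) (hε1 : ∀ θ, ε θ * conj (ε θ) = 1)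
    (hε : ∀ (θ : Cfsg.IrrCharacter H) (k : ℕ) (c : H),
      (θ : H → ℂ) ((⟨y, hyH⟩ : H) ^ k * c) = ε θ ^ k * (θ : H → ℂ) c)
    (x : H → ℂ)
    (hZ : ∀ θ ∈ e, ∃ m : ℤ, Cfsg.classInner (Cfsg.pRegularPart p (θ : H → ℂ)) x = (m : ℂ))
    (j : ℕ) :
    IsIntegral ℤ (Cfsg.classInner (secPart p H e χ (y ^ j)) x) := by
  obtain ⟨W, hW⟩ := pairing_eq_wpowSum p H e hχ y hyH ε hε1 hε x hZ
  rw [hW]
  apply IsIntegral.sum
  intro θ _
  apply IsIntegral.mul
  · have := isIntegral_algebraMap (R := ℤ) (A := ℂ) (x := W θ)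
    simpa using this
  · apply IsIntegral.pow
    exact IsIntegral.of_pow hn (by rw [hεn]; exact isIntegral_one)

open Classical in
/-- **local divisibility by `p`** of the first coordinate of a character of positive height,
when the lattice has first minimum one -/
theorem pairing_div_p [Fintype G] {p : ℕ} [hp : Fact p.Prime]
    (hM : Cfsg.IsPModular p M)
    (B : Set (Cfsg.IrrCharacter G)) (hB : Cfsg.IsPBlock M B) (χ ψ : Cfsg.IrrCharacter G)
    (hχ : χ ∈ B) (hψ : ψ ∈ B)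
    (h0ψ : Cfsg.blockHeight p B (ψ : G → ℂ) = 0)
    (hχpos : 0 < Cfsg.blockHeight p B (χ : G → ℂ))
    (y : G) (hy : ∃ k : ℕ, orderOf y = p ^ k) (H : Subgroup G) [Fintype H]
    [Fintype (Cfsg.IrrCharacter H)] (hyH : y ∈ H)
    (hcomm : ∀ t : H, y * (t : G) = (t : G) * y)
    (e : Set (Cfsg.IrrCharacter H)) (he : Cfsg.IsInducedBlock M H e B)
    (hmaj : Cfsg.blockDefect p e = Cfsg.blockDefect p B)
    (n : ℕ) (hn : 0 < n)
    (ε : Cfsg.IrrCharacter H → ℂ) (hεn : ∀ θ, ε θ ^ n = 1) (hε1 : ∀ θ, ε θ * conj (ε θ) = 1)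
    (hε : ∀ (θ : Cfsg.IrrCharacter H) (k : ℕ) (c : H),
      (θ : H → ℂ) ((⟨y, hyH⟩ : H) ^ k * c) = ε θ ^ k * (θ : H → ℂ) c)
    (v₁ v₂ : H → ℂ) (γ γ' : ℤ) (hγ' : γ = (p : ℤ) * γ')
    (h11 : ((p ^ Cfsg.blockDefect p e : ℕ) : ℂ) * Cfsg.classInner v₁ v₁ = ((1 : ℤ) : ℂ))
    (h12 : ((p ^ Cfsg.blockDefect p e : ℕ) : ℂ) * Cfsg.classInner v₁ v₂ = ((0 : ℤ) : ℂ))
    (h22 : ((p ^ Cfsg.blockDefect p e : ℕ) : ℂ) * Cfsg.classInner v₂ v₂ = (γ : ℂ))
    (hspan : ∀ w ∈ spn p e, ∃ a c : ℂ, w = a • v₁ + c • v₂)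
    (u₁ u₂ : H → ℂ)
    (hu₁Z : ∀ θ ∈ e, ∃ m : ℤ, Cfsg.classInner (Cfsg.pRegularPart p (θ : H → ℂ)) u₁ = (m : ℂ))
    (hu₂Z : ∀ θ ∈ e, ∃ m : ℤ, Cfsg.classInner (Cfsg.pRegularPart p (θ : H → ℂ)) u₂ = (m : ℂ))
    (hu₁p : ∀ a c : ℂ, Cfsg.classInner (a • v₁ + c • v₂) u₁ = a)
    (hu₂p : ∀ a c : ℂ, Cfsg.classInner (a • v₁ + c • v₂) u₂ = c)
    (j : ℕ) :
    Cfsg.MemLocalRing M
      (Cfsg.classInner (secPart p H e (χ : G → ℂ) (y ^ j)) u₁ / (p : ℂ)) := by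
  have hχc := IsIrrCharacter.isCharacter χ.2
  have hψc := IsIrrCharacter.isCharacter ψ.2
  have hy'H : y ^ j ∈ H := H.pow_mem hyH j
  have hcomm' : ∀ t : H, y ^ j * (t : G) = (t : G) * y ^ j := fun t =>
    (Commute.pow_left (hcomm t) j)
  have hy' : ∃ m : ℕ, orderOf (y ^ j) = p ^ m := by
    obtain ⟨m, hm⟩ := hy
    have h1 : orderOf (y ^ j) ∣ p ^ m := hm ▸ orderOf_pow_dvd _
    obtain ⟨m', _, hm'⟩ := (Nat.dvd_prime_pow hp.out).mp h1
    exact ⟨m', hm'⟩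
  have hp0 : (p : ℂ) ≠ 0 := by exact_mod_cast hp.out.ne_zero
  obtain ⟨a, c, hac⟩ := hspan _ (secPart_mem_span p H e (χ : G → ℂ) (y ^ j))
  obtain ⟨a', c', hac'⟩ := hspan _ (secPart_mem_span p H e (ψ : G → ℂ) (y ^ j))
  have hA : Cfsg.classInner (secPart p H e (χ : G → ℂ) (y ^ j)) u₁ = a := by rw [hac, hu₁p]
  have hC : Cfsg.classInner (secPart p H e (χ : G → ℂ) (y ^ j)) u₂ = c := by rw [hac, hu₂p]
  have hA' : Cfsg.classInner (secPart p H e (ψ : G → ℂ) (y ^ j)) u₁ = a' := by rw [hac', hu₁p]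
  have hC' : Cfsg.classInner (secPart p H e (ψ : G → ℂ) (y ^ j)) u₂ = c' := by rw [hac', hu₂p]
  have hcint : IsIntegral ℤ c :=
    hC ▸ pairing_isIntegral p H e hχc y hyH n hn ε hεn hε1 hε u₂ hu₂Z j
  have ha'int : IsIntegral ℤ a' :=
    hA' ▸ pairing_isIntegral p H e hψc y hyH n hn ε hεn hε1 hε u₁ hu₁Z j
  have hc'int : IsIntegral ℤ c' :=
    hC' ▸ pairing_isIntegral p H e hψc y hyH n hn ε hεn hε1 hε u₂ hu₂Z j
  have hcl := memLocalRing_of_isIntegral hM.2.1 hcint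
  have ha'l := memLocalRing_of_isIntegral hM.2.1 ha'int
  have hc'l := memLocalRing_of_isIntegral hM.2.1 hc'int
  have hca'l := memLocalRing_of_isIntegral hM.2.1 (map_isIntegral_int (starRingEnd ℂ) ha'int)
  have hcc'l := memLocalRing_of_isIntegral hM.2.1 (map_isIntegral_int (starRingEnd ℂ) hc'int)
  have hγ'l : Cfsg.MemLocalRing M (γ' : ℂ) := by
    apply memLocalRing_of_isIntegral hM.2.1
    have := isIntegral_algebraMap (R := ℤ) (A := ℂ) (x := γ')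
    simpa using this
  have hγc : (γ : ℂ) = (p : ℂ) * (γ' : ℂ) := by rw [hγ']; push_cast; ring
  -- the contribution of `χ` against `ψ`
  have hloc : Cfsg.MemLocalRing M ((p : ℂ) ^ Cfsg.blockDefect p B *
      Cfsg.classInner (secPart p H e (ψ : G → ℂ) (y ^ j)) (secPart p H e (ψ : G → ℂ) (y ^ j))) := by
    rw [← hmaj]
    exact scaled_contribution_memLocalRing hM H e hψc hψc y hyH n hn ε hεn hε1 hε j
  have hdivp := scaled_contribution_div_p hM B hB χ ψ hχ hψ h0ψ hχpos (y ^ j) H hy'H hcomm' e he hloc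
  have hform := scaled_inner_coords (p ^ Cfsg.blockDefect p e) v₁ v₂ 1 0 γ h11 h12 h22 a c a' c'
  rw [← hac, ← hac', Nat.cast_pow, hmaj] at hform
  rw [hform] at hdivp
  have hkey : a * conj a' / (p : ℂ) =
      (a * conj a' * ((1 : ℤ) : ℂ) + (a * conj c' + c * conj a') * ((0 : ℤ) : ℂ) +
        c * conj c' * (γ : ℂ)) / (p : ℂ) - c * conj c' * (γ' : ℂ) := by
    rw [hγc]
    push_cast
    field_simp
    ring
  have hmain : Cfsg.MemLocalRing M (a * conj a' / (p : ℂ)) := by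
    rw [hkey]
    exact MemLocalRing.sub hM.2.1 hdivp
      (MemLocalRing.mul hM.2.1 (MemLocalRing.mul hM.2.1 hcl hcc'l) hγ'l)
  -- the coordinate of `ψ` is a unit
  have hnot := scaled_contribution_self_not_mem hM B ψ hψ h0ψ (y ^ j) hy' H hy'H hcomm' e he
  have hform' := scaled_inner_coords (p ^ Cfsg.blockDefect p e) v₁ v₂ 1 0 γ h11 h12 h22 a' c' a' c'
  rw [← hac', Nat.cast_pow] at hform'
  rw [hform'] at hnot
  have hunit : ¬ Cfsg.MemLocalIdeal M (conj a') := by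
    intro hbad
    apply hnot
    have h1 : Cfsg.MemLocalIdeal M (a' * conj a') := MemLocalIdeal.mul_left hM.2.1 ha'l hbad
    have h2 : Cfsg.MemLocalIdeal M (c' * conj c' * (γ : ℂ)) := by
      rw [hγc]
      have h3 : c' * conj c' * ((p : ℂ) * (γ' : ℂ)) = (c' * conj c' * (γ' : ℂ)) * (p : ℂ) := by ring
      rw [h3]
      exact MemLocalIdeal.mul_left hM.2.1
        (MemLocalRing.mul hM.2.1 (MemLocalRing.mul hM.2.1 hc'l hcc'l) hγ'l)
        (memLocalIdeal_prime hM)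
    have h4 : a' * conj a' * ((1 : ℤ) : ℂ) + (a' * conj c' + c' * conj a') * ((0 : ℤ) : ℂ) +
        c' * conj c' * (γ : ℂ) = a' * conj a' + c' * conj c' * (γ : ℂ) := by
      push_cast
      ring
    rw [h4]
    exact MemLocalIdeal.add hM.2.1 h1 h2
  have hinv := memLocalRing_inv_of_unit hM.2.1 hca'l hunit
  have hne0 : conj a' ≠ 0 := by
    intro h0
    apply hunit
    rw [h0]
    exact memLocalIdeal_zero hM.2.1
  rw [hA]
  have hfin : a / (p : ℂ) = (a * conj a' / (p : ℂ)) * (conj a')⁻¹ := by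
    field_simp
  rw [hfin]
  exact MemLocalRing.mul hM.2.1 hmain hinv

end Cfsg.Agent.Helper6.Q2
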