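import Mathlib
import Cfsg.Prelude.Def_Characters
import Cfsg.Prelude.Def_Blocks
import Cfsg.Prelude.Def_BlockRank
import Cfsg.Agent.Helper6.Q2m

/-!
# `k(B) ≤ p^d` from a major subsection of rank two: the count when the first minimum is one
-/

set_option autoImplicit false
set_option linter.style.haveILetI false

namespace Cfsg.Agent.Helper6.Q2

open Cfsg.Agent.Helper6 Cfsg.Agent.Helper6.Maj Cfsg.Agent.Helper6.NilAb
open Module
open scoped ComplexConjugate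

universe u

variable {G : Type u} [Group G] {M : Ideal Cfsg.AlgInt}

open Classical in
/-- **the special case**: the first minimum of the lattice is one -/
theorem card_le_of_bad [Fintype G] {p : ℕ} [hp : Fact p.Prime] (hM : Cfsg.IsPModular p M)
    (B : Set (Cfsg.IrrCharacter G)) (hB : Cfsg.IsPBlock M B)
    (y : G) (hy : ∃ k : ℕ, orderOf y = p ^ k) (H : Subgroup G)
    (hH : H = Subgroup.centralizer ({y} : Set G)) [Fintype H]
    [Fintype (Cfsg.IrrCharacter G)] [Fintype (Cfsg.IrrCharacter H)]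
    (e : Set (Cfsg.IrrCharacter H)) (he : Cfsg.IsInducedBlock M H e B)
    (hmaj : Cfsg.blockDefect p e = Cfsg.blockDefect p B)
    (hyH : y ∈ H) (n : ℕ) [NeZero n] (hn : orderOf y = n)
    (ε : Cfsg.IrrCharacter H → ℂ) (hεn : ∀ θ, ε θ ^ n = 1) (hε1 : ∀ θ, ε θ * conj (ε θ) = 1)
    (hε : ∀ (θ : Cfsg.IrrCharacter H) (k : ℕ) (c : H),
      (θ : H → ℂ) ((⟨y, hyH⟩ : H) ^ k * c) = ε θ ^ k * (θ : H → ℂ) c)
    (hS : finrank ℂ (spn p e) = 2)
    (v₁ v₂ : H → ℂ) (hv₁ : v₁ ∈ lat p e) (hv₂ : v₂ ∈ lat p e) (γ : ℤ)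
    (hα : ((p ^ Cfsg.blockDefect p e : ℕ) : ℂ) * Cfsg.classInner v₁ v₁ = ((1 : ℤ) : ℂ))
    (hβ : ((p ^ Cfsg.blockDefect p e : ℕ) : ℂ) * Cfsg.classInner v₁ v₂ = ((0 : ℤ) : ℂ))
    (hγ : ((p ^ Cfsg.blockDefect p e : ℕ) : ℂ) * Cfsg.classInner v₂ v₂ = (γ : ℂ))
    (hγpos : 1 ≤ γ)
    (hbasis : ∀ w ∈ lat p e, ∃ m₁ m₂ : ℤ, w = (m₁ : ℂ) • v₁ + (m₂ : ℂ) • v₂)
    (hindep : ∀ a b : ℂ, a • v₁ + b • v₂ = 0 → a = 0 ∧ b = 0) :
    ((Finset.univ.filter (fun χ : Cfsg.IrrCharacter G => χ ∈ B)).card : ℝ) ≤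
      ((p ^ Cfsg.blockDefect p e : ℕ) : ℝ) := by
  set N : ℕ := p ^ Cfsg.blockDefect p e with hNdef
  have hN : 0 < N := pow_pos hp.out.pos _
  have hNc : (N : ℂ) ≠ 0 := by exact_mod_cast hN.ne'
  set FB := Finset.univ.filter (fun χ : Cfsg.IrrCharacter G => χ ∈ B) with hFB
  have hcomm : ∀ t : H, y * (t : G) = (t : G) * y := fun t =>
    Subgroup.mem_centralizer_iff.mp (hH ▸ t.2) y (Set.mem_singleton y)
  have hn0 : 0 < n := Nat.pos_of_ne_zero (NeZero.ne n)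
  -- `p` divides `γ`
  obtain ⟨γ', hγ'⟩ : (p : ℤ) ∣ γ := dvd_gamma hM e he.1 v₁ v₂ hv₁ hv₂ γ
    (by rw [hα]; norm_num) (by rw [hβ]; norm_num) hγ
  have hp2 : (2 : ℤ) ≤ (p : ℤ) := by exact_mod_cast hp.out.two_le
  have hγ'pos : 1 ≤ γ' := by
    by_contra hcon
    have h1 : γ' ≤ 0 := by omega
    have h2 : (p : ℤ) * γ' ≤ 0 := mul_nonpos_of_nonneg_of_nonpos (by omega) h1
    omega
  have hγp : (p : ℤ) ≤ γ := by
    rw [hγ']
    nlinarith
  have hΔ : (1 : ℤ) * γ - 0 ^ 2 ≠ 0 := by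
    have : (1 : ℤ) * γ - 0 ^ 2 = γ := by ring
    rw [this]
    omega
  obtain ⟨u₁, hu₁S, hu₁Z, hu₁p, hu₁n⟩ :=
    exists_dual_data p e N hN v₁ v₂ hv₁ hv₂ 1 0 γ hα hβ hγ hΔ hbasis 1 0
  obtain ⟨u₂, hu₂S, hu₂Z, hu₂p, hu₂n⟩ :=
    exists_dual_data p e N hN v₁ v₂ hv₁ hv₂ 1 0 γ hα hβ hγ hΔ hbasis 0 1
  have hu₁p' : ∀ a c : ℂ, Cfsg.classInner (a • v₁ + c • v₂) u₁ = a := by
    intro a c
    rw [hu₁p]
    push_cast
    ring
  have hu₂p' : ∀ a c : ℂ, Cfsg.classInner (a • v₁ + c • v₂) u₂ = c := by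
    intro a c
    rw [hu₂p]
    push_cast
    ring
  have hγr : (0 : ℝ) < (γ : ℝ) := by exact_mod_cast (by omega : (0 : ℤ) < γ)
  have hu₁n' : (Cfsg.classInner u₁ u₁).re = (N : ℝ) := by
    rw [hu₁n, Complex.ofReal_re]
    have hγne : (γ : ℝ) ≠ 0 := hγr.ne'
    rw [show (N : ℝ) * ((((1 : ℤ) : ℝ)) ^ 2 * (γ : ℝ) - 2 * ((1 : ℤ) : ℝ) * ((0 : ℤ) : ℝ) *
        ((0 : ℤ) : ℝ) + ((0 : ℤ) : ℝ) ^ 2 * ((1 : ℤ) : ℝ)) = (N : ℝ) * (γ : ℝ) by push_cast; ring,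
      show ((1 : ℤ) : ℝ) * (γ : ℝ) - ((0 : ℤ) : ℝ) ^ 2 = (γ : ℝ) by push_cast; ring,
      mul_div_assoc, div_self hγne, mul_one]
  have hu₂n' : (Cfsg.classInner u₂ u₂).re = (N : ℝ) / (γ : ℝ) := by
    rw [hu₂n, Complex.ofReal_re]
    rw [show (N : ℝ) * ((((0 : ℤ) : ℝ)) ^ 2 * (γ : ℝ) - 2 * ((0 : ℤ) : ℝ) * ((1 : ℤ) : ℝ) *
        ((0 : ℤ) : ℝ) + ((1 : ℤ) : ℝ) ^ 2 * ((1 : ℤ) : ℝ)) = (N : ℝ) by push_cast; ring,
      show ((1 : ℤ) : ℝ) * (γ : ℝ) - ((0 : ℤ) : ℝ) ^ 2 = (γ : ℝ) by push_cast; ring]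
  have hspan : ∀ w ∈ spn p e, ∃ a c : ℂ, w = a • v₁ + c • v₂ := fun w hw =>
    exists_coords_of_plane (spn p e) hS v₁ v₂ (lat_le_spn p e v₁ hv₁) (lat_le_spn p e v₂ hv₂)
      hindep w hw
  -- a character of height zero
  obtain ⟨ψ₀, hψ₀, h0ψ₀⟩ : ∃ ψ₀ ∈ B, Cfsg.blockHeight p B (ψ₀ : G → ℂ) = 0 := by
    obtain ⟨χ', hχ'⟩ := hB
    exact exists_height_zero p B ⟨χ', hχ' ▸ mem_blockOf_self hM.2.1 χ'⟩
  have c₁ := count_hit_le hM B y hy H hH e he hyH n hn ε hεn hε1 hε u₁ hu₁S hu₁Z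
  have c₂ := count_hit_le hM B y hy H hH e he hyH n hn ε hεn hε1 hε u₂ hu₂S hu₂Z
  rw [hu₁n'] at c₁
  rw [hu₂n'] at c₂
  by_cases hall : ∀ χ ∈ B, Cfsg.classInner (secPart p H e (χ : G → ℂ) y) u₁ ≠ 0
  · have hfil : FB.filter (fun χ : Cfsg.IrrCharacter G =>
        Cfsg.classInner (secPart p H e (χ : G → ℂ) y) u₁ ≠ 0) = FB :=
      Finset.filter_true_of_mem (fun χ hχ => hall χ (Finset.mem_filter.mp hχ).2)
    rw [hfil] at c₁
    exact c₁
  · push Not at hall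
    obtain ⟨χ₁, hχ₁, hχ₁0⟩ := hall
    have hδne : ∀ χ ∈ B, secPart p H e (χ : G → ℂ) y ≠ 0 := by
      intro χ hχ h0
      apply contribution_ne_zero_of_major hM B hB χ ψ₀ hχ hψ₀ h0ψ₀ y hy H hyH hcomm e he hmaj
      rw [h0]
      exact classInner_zero_left _
    have hA0 : ∀ χ ∈ B, Cfsg.classInner (secPart p H e (χ : G → ℂ) y) u₁ = 0 →
        Cfsg.classInner (secPart p H e (χ : G → ℂ) y) u₂ ≠ 0 := by
      intro χ hχ h1 h2
      obtain ⟨a, c, hac⟩ := hspan _ (secPart_mem_span p H e (χ : G → ℂ) y)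
      rw [hac, hu₁p'] at h1
      rw [hac, hu₂p'] at h2
      apply hδne χ hχ
      rw [hac, h1, h2, zero_smul, zero_smul, add_zero]
    have hh0 : ∀ ψ ∈ B, Cfsg.blockHeight p B (ψ : G → ℂ) = 0 →
        Cfsg.classInner (secPart p H e (ψ : G → ℂ) y) u₂ ≠ 0 := by
      intro ψ hψ h0 h2
      obtain ⟨a₁, c₁', hac₁⟩ := hspan _ (secPart_mem_span p H e (χ₁ : G → ℂ) y)
      obtain ⟨a, c, hac⟩ := hspan _ (secPart_mem_span p H e (ψ : G → ℂ) y)
      have h1 := hχ₁0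
      rw [hac₁, hu₁p'] at h1
      rw [hac, hu₂p'] at h2
      have hne := contribution_ne_zero_of_major hM B hB χ₁ ψ hχ₁ hψ h0 y hy H hyH hcomm e he hmaj
      have hform := scaled_inner_coords N v₁ v₂ 1 0 γ hα hβ hγ a₁ c₁' a c
      rw [← hac₁, ← hac, h1, h2] at hform
      simp only [zero_mul, map_zero, mul_zero, add_zero, zero_add, Int.cast_zero] at hform
      rcases mul_eq_zero.mp hform with h | h
      · exact hNc h
      · exact hne h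
    -- the characters of positive height with vanishing second coordinate
    have c₃ := weighted_count_le hM B y hy H hH e he u₁ hu₁S n hn
      (fun χ : Cfsg.IrrCharacter G =>
        if Cfsg.classInner (secPart p H e (χ : G → ℂ) y) u₂ = 0 then (p : ℝ) ^ 2 else 0) (by
        intro χ hχ
        by_cases hc : Cfsg.classInner (secPart p H e (χ : G → ℂ) y) u₂ = 0
        · simp only [if_pos hc]
          rw [mul_comm]
          have hApos : Cfsg.classInner (secPart p H e (χ : G → ℂ) y) u₁ ≠ 0 :=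
            fun h => hA0 χ hχ h hc
          have hpos : 0 < Cfsg.blockHeight p B (χ : G → ℂ) :=
            Nat.pos_of_ne_zero (fun h => hh0 χ hχ h hc)
          exact galois_sum_ge_of_div hM H e (IsIrrCharacter.isCharacter χ.2) y hyH n ε hεn hε1
            hε u₁ hu₁Z hApos (fun k => pairing_div_p hM B hB χ ψ₀ hχ hψ₀ h0ψ₀ hpos y hy H hyH
              hcomm e he hmaj n hn0 ε hεn hε1 hε v₁ v₂ γ γ' hγ' hα hβ hγ hspan u₁ u₂ hu₁Z hu₂Z
              hu₁p' hu₂p' (k : ZMod n).val)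
        · simp only [if_neg hc, mul_zero]
          exact Finset.sum_nonneg (fun k _ => by positivity))
    rw [Finset.sum_ite, Finset.sum_const, Finset.sum_const_zero, add_zero, nsmul_eq_mul,
      hu₁n'] at c₃
    have hsplit : FB.card = (FB.filter (fun χ : Cfsg.IrrCharacter G =>
        Cfsg.classInner (secPart p H e (χ : G → ℂ) y) u₂ ≠ 0)).card +
        (FB.filter (fun χ : Cfsg.IrrCharacter G =>
        Cfsg.classInner (secPart p H e (χ : G → ℂ) y) u₂ = 0)).card := by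
      rw [← Finset.card_filter_add_card_filter_not (s := FB)
        (fun χ : Cfsg.IrrCharacter G =>
          Cfsg.classInner (secPart p H e (χ : G → ℂ) y) u₂ ≠ 0)]
      congr 2
      apply Finset.filter_congr
      intro χ _
      exact not_not
    have hsplitr : (FB.card : ℝ) = ((FB.filter (fun χ : Cfsg.IrrCharacter G =>
        Cfsg.classInner (secPart p H e (χ : G → ℂ) y) u₂ ≠ 0)).card : ℝ) +
        ((FB.filter (fun χ : Cfsg.IrrCharacter G =>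
        Cfsg.classInner (secPart p H e (χ : G → ℂ) y) u₂ = 0)).card : ℝ) := by
      exact_mod_cast hsplit
    set S₁ : ℝ := ((FB.filter (fun χ : Cfsg.IrrCharacter G =>
        Cfsg.classInner (secPart p H e (χ : G → ℂ) y) u₂ ≠ 0)).card : ℝ) with hS₁
    set S₂ : ℝ := ((FB.filter (fun χ : Cfsg.IrrCharacter G =>
        Cfsg.classInner (secPart p H e (χ : G → ℂ) y) u₂ = 0)).card : ℝ) with hS₂
    have hS₁0 : 0 ≤ S₁ := Nat.cast_nonneg _
    have hS₂0 : 0 ≤ S₂ := Nat.cast_nonneg _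
    have hpr : (2 : ℝ) ≤ (p : ℝ) := by exact_mod_cast hp.out.two_le
    have hγ2 : (2 : ℝ) ≤ (γ : ℝ) := by
      have : (2 : ℤ) ≤ γ := le_trans hp2 hγp
      exact_mod_cast this
    have hNr : (0 : ℝ) ≤ (N : ℝ) := Nat.cast_nonneg _
    have h1 : S₁ * (γ : ℝ) ≤ (N : ℝ) := by
      rw [le_div_iff₀ hγr] at c₂
      exact c₂
    have h2 : S₁ * 2 ≤ (N : ℝ) := le_trans (mul_le_mul_of_nonneg_left hγ2 hS₁0) h1
    have h3 : S₂ * 4 ≤ (N : ℝ) := by
      have : (4 : ℝ) ≤ (p : ℝ) ^ 2 := by nlinarith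
      exact le_trans (mul_le_mul_of_nonneg_left this hS₂0) c₃
    rw [hsplitr]
    linarith

end Cfsg.Agent.Helper6.Q2
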