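import Mathlib
import Cfsg.Prelude.Def_Characters
import Cfsg.Prelude.Def_Blocks
import Cfsg.Prelude.Def_BlockRank
import Cfsg.Agent.Helper6.Q2n

/-!
# `k(B) ≤ p^d` from a major subsection of rank two
-/

set_option autoImplicit false
set_option linter.style.haveILetI false

namespace Cfsg.Agent.Helper6.Q2

open Cfsg.Agent.Helper6 Cfsg.Agent.Helper6.Maj Cfsg.Agent.Helper6.NilAb
open Module
open scoped ComplexConjugate

universe u

variable {G : Type u} [Group G] {M : Ideal Cfsg.AlgInt}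

open Classical in
/-- **`k(B) ≤ p^d` from a major subsection of rank two** -/
theorem card_le_of_major_rank_two [Finite G] {p : ℕ} [hp : Fact p.Prime]
    (hM : Cfsg.IsPModular p M)
    (B : Set (Cfsg.IrrCharacter G)) (hB : Cfsg.IsPBlock M B)
    (y : G) (hy : ∃ k : ℕ, orderOf y = p ^ k)
    (H : Subgroup G) (hHdef : H = Subgroup.centralizer ({y} : Set G))
    (b : Set (Cfsg.IrrCharacter H))
    (hind : Cfsg.IsInducedBlock M H b B)
    (hmaj : Cfsg.blockDefect p b = Cfsg.blockDefect p B)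
    (hl : Cfsg.blockRank p b = 2) :
    Nat.card B ≤ p ^ Cfsg.blockDefect p B := by
  haveI : Fintype G := Fintype.ofFinite G
  haveI : Fintype H := Fintype.ofFinite H
  haveI : Finite (Cfsg.IrrCharacter G) := irr_finite
  haveI : Finite (Cfsg.IrrCharacter H) := irr_finite
  haveI : Fintype (Cfsg.IrrCharacter G) := Fintype.ofFinite _
  haveI : Fintype (Cfsg.IrrCharacter H) := Fintype.ofFinite _
  set n := orderOf y with hn
  haveI : NeZero n := ⟨(orderOf_pos y).ne'⟩
  have hyH : y ∈ H := by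
    rw [hHdef, Subgroup.mem_centralizer_singleton_iff]
  have hcomm : ∀ t : H, y * (t : G) = (t : G) * y := fun t =>
    Subgroup.mem_centralizer_iff.mp (hHdef ▸ t.2) y (Set.mem_singleton y)
  have hz : (⟨y, hyH⟩ : H) ∈ Subgroup.center H := by
    rw [Subgroup.mem_center_iff]
    intro t
    apply Subtype.ext
    simp only [Subgroup.coe_mul]
    exact (hcomm t).symm
  have hzo : orderOf (⟨y, hyH⟩ : H) = n := Subgroup.orderOf_mk y hyH
  choose ε hεn hε1 hε using fun θ : Cfsg.IrrCharacter H => exists_center_twist θ ⟨y, hyH⟩ hz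
  have hεn' : ∀ θ, ε θ ^ n = 1 := fun θ => hzo ▸ hεn θ
  have hS : finrank ℂ (spn p b) = 2 := hl
  obtain ⟨v₁, hv₁, v₂, hv₂, α, β, γ, hα, hβ, hγ, hαpos, hred, hαγ, hbasis, hindep⟩ :=
    exists_reduced_basis (lat p b) (p ^ Cfsg.blockDefect p b) (pow_pos hp.out.pos _)
      (lat_integral hM b) (spn p b) hS (lat_le_spn p b) (spn_le_span_lat p b)
  set FB := Finset.univ.filter (fun χ : Cfsg.IrrCharacter G => χ ∈ B) with hFB
  have hcard : Nat.card B = FB.card := by
    rw [Nat.card_eq_fintype_card, Fintype.card_subtype]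
  have hfin : (FB.card : ℝ) ≤ ((p ^ Cfsg.blockDefect p b : ℕ) : ℝ) := by
    rcases le_or_gt 2 α with h2 | h1
    · -- the generic case
      obtain ⟨ψ₀, hψ₀, h0ψ₀⟩ : ∃ ψ₀ ∈ B, Cfsg.blockHeight p B (ψ₀ : G → ℂ) = 0 := by
        obtain ⟨χ', hχ'⟩ := hB
        exact exists_height_zero p B ⟨χ', hχ' ▸ mem_blockOf_self hM.2.1 χ'⟩
      have hδne : ∀ χ ∈ B, secPart p H b (χ : G → ℂ) y ≠ 0 := by
        intro χ hχ h0
        apply contribution_ne_zero_of_major hM B hB χ ψ₀ hχ hψ₀ h0ψ₀ y hy H hyH hcomm b hind hmaj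
        rw [h0]
        exact classInner_zero_left _
      exact card_le_of_good hM B y hy H hHdef b hind hyH n hn.symm ε hεn' hε1 hε hS hδne
        (p ^ Cfsg.blockDefect p b) (pow_pos hp.out.pos _) v₁ v₂ hv₁ hv₂ α β γ hα hβ hγ h2 hred
        hαγ hbasis hindep
    · -- the first minimum is one
      have hα1 : α = 1 := by omega
      have hβ0 : β = 0 := by
        have h3 : 2 * |β| ≤ 1 := hα1 ▸ hred
        have h4 : |β| = 0 := by
          have := abs_nonneg β
          omega
        exact abs_eq_zero.mp h4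
      subst hα1
      subst hβ0
      exact card_le_of_bad hM B hB y hy H hHdef b hind hmaj hyH n hn.symm ε hεn' hε1 hε hS
        v₁ v₂ hv₁ hv₂ γ hα hβ hγ hαγ hbasis hindep
  rw [hcard, ← hmaj]
  exact_mod_cast hfin

end Cfsg.Agent.Helper6.Q2
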