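import Mathlib
import Cfsg.Prelude.Def_Characters
import Cfsg.Prelude.Def_Blocks
import Cfsg.Agent.Helper6.Q2i
import Cfsg.Agent.Helper6.ProjTrace1
import Cfsg.Agent.Helper6.GroupAlgC
import Cfsg.Agent.Helper6.BlockUnion
import Cfsg.Agent.Helper6.Osima1

/-!
# The integral basis of the `2`-power cyclotomic integers, locally at `2`

If `ζ ^ (2 ^ m) = -1` and `∑_{j < 2^m} b_j ζ^j` (integers `b_j`) is divisible by `2 ^ h` in the
local ring, then every `b_j` is divisible by `2 ^ h`.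
-/

set_option autoImplicit false
set_option linter.style.haveILetI false

namespace Cfsg.Agent.Helper6.Q3

open Cfsg.Agent.Helper6 Cfsg.Agent.Helper6.Q2
open Polynomial

variable {M : Ideal Cfsg.AlgInt}

theorem isIntegral_of_pow_eq_neg_one (m : ℕ) (ζ : ℂ) (hζ : ζ ^ (2 ^ m) = -1) :
    IsIntegral ℤ ζ := by
  apply IsIntegral.of_pow (n := 2 ^ (m + 1)) (by positivity)
  rw [pow_succ, pow_mul, hζ]
  norm_num
  exact isIntegral_one

theorem memLocalIdeal_zeta_sub_one (hM : Cfsg.IsPModular 2 M) (m : ℕ) (ζ : ℂ)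
    (hζ : ζ ^ (2 ^ m) = -1) : Cfsg.MemLocalIdeal M (ζ - 1) :=
  memLocalIdeal_sub_one_of_pow hM.2.1 2 Nat.prime_two hM.2.2 ζ (m + 1) (by
    rw [pow_succ, pow_mul, hζ]
    norm_num)

/-- `(ζ - 1) ^ (2 ^ m) / 2` is a unit of the local ring when `ζ ^ (2 ^ m) = -1` -/
theorem two_adic_unit (hM : Cfsg.IsPModular 2 M) : ∀ (m : ℕ) (ζ : ℂ), ζ ^ (2 ^ m) = -1 →
    ¬ Cfsg.MemLocalIdeal M ((ζ - 1) ^ (2 ^ m) / 2) := by
  intro m
  induction m with
  | zero =>
    intro ζ hζ
    rw [pow_zero, pow_one] at hζ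
    rw [hζ, pow_zero, pow_one]
    have h1 : ((-1 : ℂ) - 1) / 2 = -1 := by norm_num
    rw [h1]
    intro h
    have h2 := MemLocalIdeal.neg h
    rw [neg_neg] at h2
    exact not_memLocalIdeal_one h2
  | succ m ih =>
    intro ζ hζ
    have hη : (ζ ^ 2) ^ (2 ^ m) = -1 := by
      rw [← pow_mul, ← pow_succ']
      exact hζ
    have ih' := ih (ζ ^ 2) hη
    intro hbad
    apply ih'
    set t := ∑ i ∈ Finset.range (2 ^ m), (ζ + 1) ^ i * (ζ - 1) ^ (2 ^ m - 1 - i) with ht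
    have hgeom : t * ((ζ + 1) - (ζ - 1)) = (ζ + 1) ^ (2 ^ m) - (ζ - 1) ^ (2 ^ m) :=
      (Commute.all (ζ + 1) (ζ - 1)).geom_sum₂_mul (2 ^ m)
    have h2 : (ζ + 1) ^ (2 ^ m) = (ζ - 1) ^ (2 ^ m) + 2 * t := by
      linear_combination -hgeom
    have hkey : (ζ ^ 2 - 1) ^ (2 ^ m) / 2 =
        (ζ - 1) ^ (2 ^ (m + 1)) / 2 + (ζ - 1) ^ (2 ^ m) * t := by
      have h3 : ζ ^ 2 - 1 = (ζ - 1) * (ζ + 1) := by ring
      rw [h3, mul_pow, h2, pow_succ, pow_mul]
      ring
    rw [hkey]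
    apply MemLocalIdeal.add hM.2.1 hbad
    have hζ1 := memLocalIdeal_zeta_sub_one hM (m + 1) ζ hζ
    have hζint := isIntegral_of_pow_eq_neg_one (m + 1) ζ hζ
    have htint : IsIntegral ℤ t := by
      rw [ht]
      apply IsIntegral.sum
      intro i _
      apply IsIntegral.mul
      · exact (hζint.add isIntegral_one).pow _
      · exact (hζint.sub isIntegral_one).pow _
    have hpos : 0 < 2 ^ m := by positivity
    have h4 : (ζ - 1) ^ (2 ^ m) * t = (t * (ζ - 1) ^ (2 ^ m - 1)) * (ζ - 1) := by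
      rw [mul_assoc, ← pow_succ, Nat.sub_add_cancel hpos]
      ring
    rw [h4]
    exact MemLocalIdeal.mul_left hM.2.1 (memLocalRing_of_isIntegral hM.2.1
      (htint.mul ((hζint.sub isIntegral_one).pow _))) hζ1

/-- values of integer polynomials at algebraic integers are algebraic integers -/
theorem isIntegral_aeval_int (ζ : ℂ) (hζ : IsIntegral ℤ ζ) (P : ℤ[X]) :
    IsIntegral ℤ (aeval ζ P) := by
  rw [aeval_eq_sum_range]
  apply IsIntegral.sum
  intro i _
  rw [zsmul_eq_mul]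
  apply IsIntegral.mul
  · have := isIntegral_algebraMap (R := ℤ) (A := ℂ) (x := P.coeff i)
    simpa using this
  · exact hζ.pow _

/-- **the integral basis at `2`, one step** -/
theorem two_dvd_coeff (hM : Cfsg.IsPModular 2 M) (m : ℕ) (ζ : ℂ) (hζ : ζ ^ (2 ^ m) = -1)
    (b : ℕ → ℤ)
    (h : Cfsg.MemLocalRing M ((∑ j ∈ Finset.range (2 ^ m), (b j : ℂ) * ζ ^ j) / 2)) :
    ∀ j < 2 ^ m, (2 : ℤ) ∣ b j := by
  haveI : Fact (Nat.Prime 2) := ⟨Nat.prime_two⟩
  by_contra hcon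
  push Not at hcon
  obtain ⟨j₀, hj₀, hodd⟩ := hcon
  have hζint := isIntegral_of_pow_eq_neg_one m ζ hζ
  have hζ1 := memLocalIdeal_zeta_sub_one hM m ζ hζ
  set P : ℤ[X] := ∑ j ∈ Finset.range (2 ^ m), C (b j) * X ^ j with hP
  have hPcoeff : ∀ j, P.coeff j = if j < 2 ^ m then b j else 0 := by
    intro j
    rw [hP, finsetSum_coeff]
    simp only [coeff_C_mul, coeff_X_pow]
    by_cases hj : j < 2 ^ m
    · rw [if_pos hj, Finset.sum_eq_single j]
      · simp
      · intro i _ hij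
        rw [if_neg (Ne.symm hij), mul_zero]
      · intro hj'
        exact absurd (Finset.mem_range.mpr hj) hj'
    · rw [if_neg hj]
      apply Finset.sum_eq_zero
      intro i hi
      rw [Finset.mem_range] at hi
      rw [if_neg (by omega), mul_zero]
  have hPeval : aeval ζ P = ∑ j ∈ Finset.range (2 ^ m), (b j : ℂ) * ζ ^ j := by
    rw [hP, map_sum]
    apply Finset.sum_congr rfl
    intro j _
    rw [map_mul, map_pow, aeval_X, aeval_C]
    simp
  set Pb : (ZMod 2)[X] := P.map (Int.castRingHom (ZMod 2)) with hPb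
  have hPbne : Pb ≠ 0 := by
    intro h0
    have h1 := congrArg (fun q => q.coeff j₀) h0
    simp only [hPb, coeff_map, hPcoeff, if_pos hj₀, coeff_zero, eq_intCast] at h1
    exact hodd ((ZMod.intCast_zmod_eq_zero_iff_dvd (b j₀) 2).mp h1)
  have hdeg : Pb.natDegree < 2 ^ m := by
    have h1 : P.natDegree ≤ 2 ^ m - 1 := by
      rw [natDegree_le_iff_coeff_eq_zero]
      intro i hi
      rw [hPcoeff, if_neg (by omega)]
    have h2 : Pb.natDegree ≤ P.natDegree := natDegree_map_le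
    have hpos : 0 < 2 ^ m := by positivity
    omega
  obtain ⟨Qb, hQb, hnd⟩ := exists_eq_pow_rootMultiplicity_mul_and_not_dvd Pb hPbne (1 : ZMod 2)
  set r := Pb.rootMultiplicity 1 with hr
  have hrlt : r < 2 ^ m := by
    have hQbne : Qb ≠ 0 := by
      intro h0
      rw [h0, mul_zero] at hQb
      exact hPbne hQb
    have h1 : Pb.natDegree = r + Qb.natDegree := by
      conv_lhs => rw [hQb]
      rw [natDegree_mul (pow_ne_zero _ (X_sub_C_ne_zero 1)) hQbne, natDegree_pow,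
        natDegree_X_sub_C, mul_one]
    omega
  have hQb1 : Qb.eval 1 ≠ 0 := by
    intro h0
    exact hnd (dvd_iff_isRoot.mpr h0)
  obtain ⟨Q, hQ⟩ := map_surjective (Int.castRingHom (ZMod 2)) (ZMod.intCast_surjective) Qb
  -- the difference has even coefficients
  set D : ℤ[X] := P - (X - C 1) ^ r * Q with hD
  have hDmap : D.map (Int.castRingHom (ZMod 2)) = 0 := by
    rw [hD, Polynomial.map_sub, Polynomial.map_mul, Polynomial.map_pow, Polynomial.map_sub,
      map_X, map_C, hQ, ← hPb]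
    rw [map_one, ← hQb, sub_self]
  have hDdvd : C (2 : ℤ) ∣ D := by
    rw [C_dvd_iff_dvd_coeff]
    intro i
    have h1 := congrArg (fun q => q.coeff i) hDmap
    simp only [coeff_map, coeff_zero, eq_intCast] at h1
    exact (ZMod.intCast_zmod_eq_zero_iff_dvd (D.coeff i) 2).mp h1
  obtain ⟨S, hS⟩ := hDdvd
  -- `Q(1)` is odd
  have hQ1 : ¬ (2 : ℤ) ∣ Q.eval 1 := by
    intro hdvd
    apply hQb1
    have h1 := eval_intCast_map (Int.castRingHom (ZMod 2)) Q 1
    rw [hQ] at h1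
    simp only [Int.cast_one, eq_intCast] at h1
    rw [h1]
    exact (ZMod.intCast_zmod_eq_zero_iff_dvd (Q.eval 1) 2).mpr hdvd
  obtain ⟨V, hV⟩ := X_sub_C_dvd_sub_C_eval (a := (1 : ℤ)) (p := Q)
  -- evaluate everything at `ζ`
  have hx : aeval ζ P = (ζ - 1) ^ r * aeval ζ Q + 2 * aeval ζ S := by
    have h1 : P = (X - C 1) ^ r * Q + C 2 * S := by
      rw [← hS, hD]
      ring
    rw [h1, map_add, map_mul, map_mul, map_pow, map_sub, aeval_X, aeval_C, aeval_C]
    simp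
  have hQζ : aeval ζ Q = ((Q.eval 1 : ℤ) : ℂ) + (ζ - 1) * aeval ζ V := by
    have h1 : Q = C (Q.eval 1) + (X - C 1) * V := by
      rw [← hV]
      ring
    conv_lhs => rw [h1]
    rw [map_add, map_mul, map_sub, aeval_X, aeval_C, aeval_C]
    simp
  have hQunit : ¬ Cfsg.MemLocalIdeal M (aeval ζ Q) := by
    intro hbad
    apply hQ1
    apply dvd_of_memLocalIdeal_intCast hM
    have h1 : ((Q.eval 1 : ℤ) : ℂ) = aeval ζ Q - (aeval ζ V) * (ζ - 1) := by
      rw [hQζ]
      ring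
    rw [h1]
    exact MemLocalIdeal.sub hM.2.1 hbad (MemLocalIdeal.mul_left hM.2.1
      (memLocalRing_of_isIntegral hM.2.1 (isIntegral_aeval_int ζ hζint V)) hζ1)
  have hQloc := memLocalRing_of_isIntegral hM.2.1 (isIntegral_aeval_int ζ hζint Q)
  have hQinv := memLocalRing_inv_of_unit hM.2.1 hQloc hQunit
  have hQne : aeval ζ Q ≠ 0 := by
    intro h0
    apply hQunit
    rw [h0]
    exact memLocalIdeal_zero hM.2.1
  rw [← hPeval, hx] at h
  have h5 : Cfsg.MemLocalRing M ((ζ - 1) ^ r / 2) := by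
    have h6 : (ζ - 1) ^ r / 2 =
        (((ζ - 1) ^ r * aeval ζ Q + 2 * aeval ζ S) / 2 - aeval ζ S) * (aeval ζ Q)⁻¹ := by
      field_simp
      ring
    rw [h6]
    exact MemLocalRing.mul hM.2.1 (MemLocalRing.sub hM.2.1 h
      (memLocalRing_of_isIntegral hM.2.1 (isIntegral_aeval_int ζ hζint S))) hQinv
  apply two_adic_unit hM m ζ hζ
  have h7 : (ζ - 1) ^ (2 ^ m) / 2 = (((ζ - 1) ^ r / 2) * (ζ - 1) ^ (2 ^ m - r - 1)) * (ζ - 1) := by
    have h8 : 2 ^ m = r + (2 ^ m - r - 1) + 1 := by omega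
    conv_lhs => rw [h8]
    rw [pow_add, pow_add, pow_one]
    ring
  rw [h7]
  exact MemLocalIdeal.mul_left hM.2.1 (MemLocalRing.mul hM.2.1 h5
    (memLocalRing_of_isIntegral hM.2.1 ((hζint.sub isIntegral_one).pow _))) hζ1

end Cfsg.Agent.Helper6.Q3
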