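import Mathlib
import Cfsg.Prelude.Def_Characters
import Cfsg.Prelude.Def_Blocks
import Cfsg.Agent.Helper6.Q3a
import Cfsg.Agent.Helper6.Q2e
import Cfsg.Agent.Helper6.InducedPart

/-!
# Consequences of the integral basis: divisibility and parity of the constant coefficient
-/

set_option autoImplicit false
set_option linter.style.haveILetI false

namespace Cfsg.Agent.Helper6.Q3

open Cfsg.Agent.Helper6 Cfsg.Agent.Helper6.Q2
open scoped ComplexConjugate

variable {M : Ideal Cfsg.AlgInt}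

/-- **the integral basis at `2`** -/
theorem pow_two_dvd_coeff (hM : Cfsg.IsPModular 2 M) (m : ℕ) (ζ : ℂ) (hζ : ζ ^ (2 ^ m) = -1) :
    ∀ (h : ℕ) (b : ℕ → ℤ),
      Cfsg.MemLocalRing M ((∑ j ∈ Finset.range (2 ^ m), (b j : ℂ) * ζ ^ j) / 2 ^ h) →
      ∀ j < 2 ^ m, (2 : ℤ) ^ h ∣ b j := by
  intro h
  induction h with
  | zero =>
    intro b _ j _
    rw [pow_zero]
    exact one_dvd _
  | succ h ih =>
    intro b hb j hj
    have h2loc : Cfsg.MemLocalRing M ((2 : ℂ) ^ h) := by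
      have := memLocalRing_natCast hM.2.1 (2 ^ h) (M := M)
      simpa using this
    have h1 : Cfsg.MemLocalRing M ((∑ j ∈ Finset.range (2 ^ m), (b j : ℂ) * ζ ^ j) / 2) := by
      have h3 : (∑ j ∈ Finset.range (2 ^ m), (b j : ℂ) * ζ ^ j) / 2 =
          (2 : ℂ) ^ h * ((∑ j ∈ Finset.range (2 ^ m), (b j : ℂ) * ζ ^ j) / 2 ^ (h + 1)) := by
        rw [pow_succ]
        field_simp
      rw [h3]
      exact MemLocalRing.mul hM.2.1 h2loc hb
    have heven := two_dvd_coeff hM m ζ hζ b h1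
    set b' : ℕ → ℤ := fun j => b j / 2 with hb'
    have hbb' : ∀ j < 2 ^ m, b j = 2 * b' j := by
      intro j hj
      rw [hb']
      simp only
      rw [Int.mul_ediv_cancel' (heven j hj)]
    have h4 : (∑ j ∈ Finset.range (2 ^ m), (b' j : ℂ) * ζ ^ j) / 2 ^ h =
        (∑ j ∈ Finset.range (2 ^ m), (b j : ℂ) * ζ ^ j) / 2 ^ (h + 1) := by
      have h5 : ∑ j ∈ Finset.range (2 ^ m), (b j : ℂ) * ζ ^ j =
          2 * ∑ j ∈ Finset.range (2 ^ m), (b' j : ℂ) * ζ ^ j := by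
        rw [Finset.mul_sum]
        apply Finset.sum_congr rfl
        intro j hj
        rw [hbb' j (Finset.mem_range.mp hj)]
        push_cast
        ring
      rw [h5, pow_succ]
      field_simp
    have h6 := ih b' (h4 ▸ hb) j hj
    rw [hbb' j hj, pow_succ, mul_comm]
    exact mul_dvd_mul_left 2 h6

/-- linear independence of `1, ζ, …, ζ^(2^m - 1)` over the integers -/
theorem coeff_eq_zero_of_sum_eq_zero (hM : Cfsg.IsPModular 2 M) (m : ℕ) (ζ : ℂ)
    (hζ : ζ ^ (2 ^ m) = -1) (c : ℕ → ℤ)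
    (h : ∑ j ∈ Finset.range (2 ^ m), (c j : ℂ) * ζ ^ j = 0) : ∀ j < 2 ^ m, c j = 0 := by
  intro j hj
  have h1 := pow_two_dvd_coeff hM m ζ hζ (c j).natAbs c (by
    rw [h, zero_div]
    exact memLocalRing_zero hM.2.1) j hj
  apply Int.eq_zero_of_abs_lt_dvd h1
  have h2 : (c j).natAbs < 2 ^ (c j).natAbs := Nat.lt_two_pow_self
  have h3 : |c j| = ((c j).natAbs : ℤ) := Int.abs_eq_natAbs (c j)
  rw [h3]
  exact_mod_cast h2

/-- the sum modulo the local ideal is the sum of the coefficients -/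
theorem sum_sub_sum_coeff_mem (hM : Cfsg.IsPModular 2 M) (m : ℕ) (ζ : ℂ)
    (hζ : ζ ^ (2 ^ m) = -1) (b : ℕ → ℤ) :
    Cfsg.MemLocalIdeal M ((∑ j ∈ Finset.range (2 ^ m), (b j : ℂ) * ζ ^ j) -
      ((∑ j ∈ Finset.range (2 ^ m), b j : ℤ) : ℂ)) := by
  have hζint := isIntegral_of_pow_eq_neg_one m ζ hζ
  have hζ1 := memLocalIdeal_zeta_sub_one hM m ζ hζ
  push_cast
  rw [← Finset.sum_sub_distrib]
  apply MemLocalIdeal.sum hM.2.1
  intro j _
  have h1 : (b j : ℂ) * ζ ^ j - (b j : ℂ) = (b j : ℂ) * (ζ ^ j - 1) := by ring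
  rw [h1]
  have h2 : Cfsg.MemLocalIdeal M (ζ ^ j - 1) := by
    rw [← geom_sum_mul ζ j]
    have htint : IsIntegral ℤ (∑ i ∈ Finset.range j, ζ ^ i) := by
      apply IsIntegral.sum
      intro i _
      exact hζint.pow _
    exact MemLocalIdeal.mul_left hM.2.1 (memLocalRing_of_isIntegral hM.2.1 htint) hζ1
  have hbint : IsIntegral ℤ (b j : ℂ) := by
    have := isIntegral_algebraMap (R := ℤ) (A := ℂ) (x := b j)
    simpa using this
  exact MemLocalIdeal.mul_left hM.2.1 (memLocalRing_of_isIntegral hM.2.1 hbint) h2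

/-- the conjugate of a power of `ζ` -/
theorem conj_zeta_pow (K : ℕ) (ζ : ℂ) (hζ : ζ ^ (K + 1) = -1) (j : ℕ) (hj : j < K) :
    conj (ζ ^ (j + 1)) = -ζ ^ (K - j) := by
  have hnorm : ‖ζ‖ = 1 := by
    have h1 : ‖ζ‖ ^ (K + 1) = 1 := by
      rw [← norm_pow, hζ, norm_neg, norm_one]
    exact (pow_eq_one_iff_of_nonneg (norm_nonneg ζ) (Nat.succ_ne_zero K)).mp h1
  have hζ0 : ζ ≠ 0 := by
    intro h0
    rw [h0, norm_zero] at hnorm
    exact zero_ne_one hnorm
  have h2 : conj ζ * ζ = 1 := by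
    rw [mul_comm, Complex.mul_conj, Complex.normSq_eq_norm_sq, hnorm]
    norm_num
  have h3 : conj (ζ ^ (j + 1)) * ζ ^ (j + 1) = 1 := by
    rw [map_pow, ← mul_pow, h2, one_pow]
  have h4 : (-ζ ^ (K - j)) * ζ ^ (j + 1) = 1 := by
    rw [neg_mul, ← pow_add, show K - j + (j + 1) = K + 1 by omega, hζ, neg_neg]
  exact mul_right_cancel₀ (pow_ne_zero (j + 1) hζ0) (h3.trans h4.symm)

/-- real sums have antisymmetric coefficients: the sum of all coefficients is the constant one -/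
theorem sum_coeff_eq_of_real (hM : Cfsg.IsPModular 2 M) (m : ℕ) (ζ : ℂ)
    (hζ : ζ ^ (2 ^ m) = -1) (b : ℕ → ℤ)
    (hreal : conj (∑ j ∈ Finset.range (2 ^ m), (b j : ℂ) * ζ ^ j) =
      ∑ j ∈ Finset.range (2 ^ m), (b j : ℂ) * ζ ^ j) :
    ∑ j ∈ Finset.range (2 ^ m), b j = b 0 := by
  obtain ⟨K, hK⟩ : ∃ K, 2 ^ m = K + 1 := ⟨2 ^ m - 1, by
    have : 0 < 2 ^ m := by positivity
    omega⟩
  rw [hK] at hζ hreal ⊢
  rw [Finset.sum_range_succ'] at hreal ⊢
  simp only [pow_zero, mul_one] at hreal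
  -- the conjugate
  have hconj : conj (∑ j ∈ Finset.range K, (b (j + 1) : ℂ) * ζ ^ (j + 1) + (b 0 : ℂ)) =
      -(∑ j ∈ Finset.range K, (b (K - j) : ℂ) * ζ ^ (j + 1)) + (b 0 : ℂ) := by
    rw [map_add, map_sum, map_intCast]
    congr 1
    have h1 : ∀ j ∈ Finset.range K, conj ((b (j + 1) : ℂ) * ζ ^ (j + 1)) =
        -((b (j + 1) : ℂ) * ζ ^ (K - j)) := by
      intro j hj
      rw [map_mul, map_intCast, conj_zeta_pow K ζ hζ j (Finset.mem_range.mp hj)]
      ring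
    rw [Finset.sum_congr rfl h1, Finset.sum_neg_distrib]
    congr 1
    rw [← Finset.sum_range_reflect]
    apply Finset.sum_congr rfl
    intro j hj
    rw [Finset.mem_range] at hj
    rw [show K - 1 - j + 1 = K - j by omega, show K - (K - 1 - j) = j + 1 by omega]
  rw [hconj] at hreal
  -- the vanishing combination
  set c : ℕ → ℤ := fun j => if j = 0 then 0 else b j + b (K + 1 - j) with hc
  have hcsum : ∑ j ∈ Finset.range (2 ^ m), (c j : ℂ) * ζ ^ j = 0 := by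
    rw [hK, Finset.sum_range_succ']
    have h0 : (c 0 : ℂ) = 0 := by simp [hc]
    rw [h0, zero_mul, add_zero]
    have h1 : ∀ j ∈ Finset.range K, (c (j + 1) : ℂ) * ζ ^ (j + 1) =
        (b (j + 1) : ℂ) * ζ ^ (j + 1) + (b (K - j) : ℂ) * ζ ^ (j + 1) := by
      intro j _
      rw [hc]
      simp only [Nat.succ_ne_zero, if_false]
      rw [show K + 1 - (j + 1) = K - j by omega]
      push_cast
      ring
    rw [Finset.sum_congr rfl h1, Finset.sum_add_distrib]
    linear_combination -hreal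
  have hczero := coeff_eq_zero_of_sum_eq_zero hM m ζ (hK ▸ hζ) c hcsum
  have hanti : ∀ j ∈ Finset.range K, b (j + 1) = -b (K - j) := by
    intro j hj
    rw [Finset.mem_range] at hj
    have h1 := hczero (j + 1) (by omega)
    rw [hc] at h1
    simp only [Nat.succ_ne_zero, if_false] at h1
    rw [show K + 1 - (j + 1) = K - j by omega] at h1
    omega
  have hsum0 : ∑ j ∈ Finset.range K, b (j + 1) = 0 := by
    have h1 : ∑ j ∈ Finset.range K, b (j + 1) = -∑ j ∈ Finset.range K, b (j + 1) := by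
      conv_lhs => rw [Finset.sum_congr rfl hanti, Finset.sum_neg_distrib]
      congr 1
      rw [← Finset.sum_range_reflect]
      apply Finset.sum_congr rfl
      intro j hj
      rw [Finset.mem_range] at hj
      rw [show K - (K - 1 - j) = j + 1 by omega]
    omega
  rw [hsum0, zero_add]

/-- **divisibility and parity of the constant coefficient of a real cyclotomic integer** -/
theorem const_coeff_facts (hM : Cfsg.IsPModular 2 M) (m : ℕ) (ζ : ℂ)
    (hζ : ζ ^ (2 ^ m) = -1) (b : ℕ → ℤ)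
    (hreal : conj (∑ j ∈ Finset.range (2 ^ m), (b j : ℂ) * ζ ^ j) =
      ∑ j ∈ Finset.range (2 ^ m), (b j : ℂ) * ζ ^ j) :
    (∀ h : ℕ, Cfsg.MemLocalRing M ((∑ j ∈ Finset.range (2 ^ m), (b j : ℂ) * ζ ^ j) / 2 ^ h) →
      (2 : ℤ) ^ h ∣ b 0) ∧
    (∀ h : ℕ, Cfsg.MemLocalIdeal M ((∑ j ∈ Finset.range (2 ^ m), (b j : ℂ) * ζ ^ j) / 2 ^ h) →
      (2 : ℤ) ^ (h + 1) ∣ b 0) ∧
    (¬ Cfsg.MemLocalIdeal M (∑ j ∈ Finset.range (2 ^ m), (b j : ℂ) * ζ ^ j) → ¬ (2 : ℤ) ∣ b 0) := by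
  have hpos : 0 < 2 ^ m := by positivity
  have h2mem : Cfsg.MemLocalIdeal M ((2 : ℕ) : ℂ) := memLocalIdeal_prime hM
  refine ⟨?_, ?_, ?_⟩
  · intro h hh
    exact pow_two_dvd_coeff hM m ζ hζ h b hh 0 hpos
  · intro h hh
    have hdiv := pow_two_dvd_coeff hM m ζ hζ h b (memLocalRing_of_memLocalIdeal hh)
    set b' : ℕ → ℤ := fun j => b j / 2 ^ h with hb'
    have hbb' : ∀ j < 2 ^ m, b j = 2 ^ h * b' j := by
      intro j hj
      rw [hb']
      simp only
      rw [Int.mul_ediv_cancel' (hdiv j hj)]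
    have hx' : ∑ j ∈ Finset.range (2 ^ m), (b' j : ℂ) * ζ ^ j =
        (∑ j ∈ Finset.range (2 ^ m), (b j : ℂ) * ζ ^ j) / 2 ^ h := by
      have h5 : ∑ j ∈ Finset.range (2 ^ m), (b j : ℂ) * ζ ^ j =
          2 ^ h * ∑ j ∈ Finset.range (2 ^ m), (b' j : ℂ) * ζ ^ j := by
        rw [Finset.mul_sum]
        apply Finset.sum_congr rfl
        intro j hj
        rw [hbb' j (Finset.mem_range.mp hj)]
        push_cast
        ring
      rw [h5]
      field_simp
    have hreal' : conj (∑ j ∈ Finset.range (2 ^ m), (b' j : ℂ) * ζ ^ j) =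
        ∑ j ∈ Finset.range (2 ^ m), (b' j : ℂ) * ζ ^ j := by
      rw [hx', map_div₀, hreal, map_pow]
      congr 2
      exact Complex.conj_ofNat 2
    have hsum := sum_coeff_eq_of_real hM m ζ hζ b' hreal'
    have hmem := sum_sub_sum_coeff_mem hM m ζ hζ b'
    rw [hsum, hx'] at hmem
    have h6 : Cfsg.MemLocalIdeal M ((b' 0 : ℤ) : ℂ) := by
      have h7 : ((b' 0 : ℤ) : ℂ) = (∑ j ∈ Finset.range (2 ^ m), (b j : ℂ) * ζ ^ j) / 2 ^ h -
          ((∑ j ∈ Finset.range (2 ^ m), (b j : ℂ) * ζ ^ j) / 2 ^ h - ((b' 0 : ℤ) : ℂ)) := by ring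
      rw [h7]
      exact MemLocalIdeal.sub hM.2.1 hh hmem
    have h8 := dvd_of_memLocalIdeal_intCast hM _ h6
    rw [hbb' 0 hpos, pow_succ]
    exact mul_dvd_mul_left _ (by exact_mod_cast h8)
  · intro hunit hdvd
    apply hunit
    have hsum := sum_coeff_eq_of_real hM m ζ hζ b hreal
    have hmem := sum_sub_sum_coeff_mem hM m ζ hζ b
    rw [hsum] at hmem
    obtain ⟨s, hs⟩ := hdvd
    have h6 : Cfsg.MemLocalIdeal M ((b 0 : ℤ) : ℂ) := by
      rw [hs]
      push_cast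
      rw [mul_comm]
      have hsint : IsIntegral ℤ (s : ℂ) := by
        have := isIntegral_algebraMap (R := ℤ) (A := ℂ) (x := s)
        simpa using this
      have h9 : Cfsg.MemLocalIdeal M (2 : ℂ) := by
        have := h2mem
        simpa using this
      exact MemLocalIdeal.mul_left hM.2.1 (memLocalRing_of_isIntegral hM.2.1 hsint) h9
    have h7 : ∑ j ∈ Finset.range (2 ^ m), (b j : ℂ) * ζ ^ j =
        (∑ j ∈ Finset.range (2 ^ m), (b j : ℂ) * ζ ^ j - ((b 0 : ℤ) : ℂ)) + ((b 0 : ℤ) : ℂ) := by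
      ring
    rw [h7]
    exact MemLocalIdeal.add hM.2.1 hmem h6

end Cfsg.Agent.Helper6.Q3
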