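import Mathlib
import Cfsg.Prelude.Def_Characters
import Cfsg.Prelude.Def_Blocks
import Cfsg.Agent.Helper6.Q3b

/-!
# Galois averages of real integer combinations of `2`-power roots of unity
-/

set_option autoImplicit false
set_option linter.style.haveILetI false

namespace Cfsg.Agent.Helper6.Q3

open Cfsg.Agent.Helper6 Cfsg.Agent.Helper6.Q2
open scoped ComplexConjugate

variable {M : Ideal Cfsg.AlgInt}

/-- units of `ZMod (2 ^ (a + 1))` have odd values -/
theorem odd_val_unit (a : ℕ) (k : (ZMod (2 ^ (a + 1)))ˣ) :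
    Odd (k : ZMod (2 ^ (a + 1))).val := by
  have h1 := ZMod.val_coe_unit_coprime k
  have h2 : Nat.Coprime (k : ZMod (2 ^ (a + 1))).val 2 :=
    Nat.Coprime.coprime_dvd_right (dvd_pow_self 2 (Nat.succ_ne_zero a)) h1
  exact Nat.Coprime.odd_of_right h2

/-- the sum of `ω ^ k` over the units `k` vanishes when `ω ^ 2 ≠ 1` -/
theorem sum_units_pow_eq_zero (a : ℕ) (ω : ℂ) (hω : ω ^ (2 ^ (a + 1)) = 1) (hω2 : ω ^ 2 ≠ 1) :
    ∑ k : (ZMod (2 ^ (a + 1)))ˣ, ω ^ (k : ZMod (2 ^ (a + 1))).val = 0 := by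
  set n := 2 ^ (a + 1) with hn
  haveI : NeZero n := ⟨by positivity⟩
  have hnil : IsNilpotent (2 : ZMod n) := by
    refine ⟨a + 1, ?_⟩
    have h1 : ((2 : ℕ) : ZMod n) ^ (a + 1) = ((2 ^ (a + 1) : ℕ) : ZMod n) := by push_cast; rfl
    have h2 : ((2 : ℕ) : ZMod n) = (2 : ZMod n) := by norm_num
    rw [← h2, h1, ← hn]
    exact ZMod.natCast_self n
  have hunit : ∀ k : (ZMod n)ˣ, IsUnit ((k : ZMod n) + 2) := fun k =>
    IsNilpotent.isUnit_add_left_of_commute hnil k.isUnit (Commute.all _ _)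
  set φ : (ZMod n)ˣ → (ZMod n)ˣ := fun k => (hunit k).unit with hφ
  have hφval : ∀ k, ((φ k : (ZMod n)ˣ) : ZMod n) = (k : ZMod n) + 2 := fun k => rfl
  have hφinj : Function.Injective φ := by
    intro k k' h
    have h1 := congrArg (fun u : (ZMod n)ˣ => (u : ZMod n)) h
    simp only [hφval] at h1
    exact Units.ext (add_right_cancel h1)
  have hφbij : Function.Bijective φ := Finite.injective_iff_bijective.mp hφinj
  have hshift : ∀ k : (ZMod n)ˣ, ω ^ ((φ k : (ZMod n)ˣ) : ZMod n).val =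
      ω ^ 2 * ω ^ (k : ZMod n).val := by
    intro k
    rw [hφval, ZMod.val_add, ← pow_eq_pow_mod _ hω, pow_add, mul_comm]
    congr 1
    have h2 : (2 : ZMod n).val = 2 % n := by
      have h3 : ((2 : ℕ) : ZMod n) = (2 : ZMod n) := by norm_num
      rw [← h3, ZMod.val_natCast]
    rw [h2, ← pow_eq_pow_mod _ hω]
  have hsum : ∑ k : (ZMod n)ˣ, ω ^ (k : ZMod n).val =
      ω ^ 2 * ∑ k : (ZMod n)ˣ, ω ^ (k : ZMod n).val := by
    rw [Finset.mul_sum]
    conv_lhs => rw [← Function.Bijective.sum_comp hφbij (fun k => ω ^ (k : ZMod n).val)]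
    exact Finset.sum_congr rfl (fun k _ => hshift k)
  have h4 : (ω ^ 2 - 1) * ∑ k : (ZMod n)ˣ, ω ^ (k : ZMod n).val = 0 := by
    linear_combination -hsum
  rcases mul_eq_zero.mp h4 with h | h
  · exact absurd (sub_eq_zero.mp h) hω2
  · exact h

/-- a representation of `n`-th roots of unity, `n = 2 ^ a`, in terms of a root `ζ` of `-1` -/
theorem exists_sign_exponent (n : ℕ) [NeZero n] (a : ℕ) (hn : n = 2 ^ a) :
    ∃ (m : ℕ) (ζ : ℂ), ζ ^ (2 ^ m) = -1 ∧
      (∀ μ : ℂ, μ ^ n = 1 → ∃ (s : ℤ) (e : ℕ), (s = 1 ∨ s = -1) ∧ e < 2 ^ m ∧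
        μ = (s : ℂ) * ζ ^ e ∧ ∀ k : (ZMod n)ˣ, μ ^ (k : ZMod n).val = (s : ℂ) * ζ ^ (e * (k : ZMod n).val)) ∧
      (∀ e : ℕ, 0 < e → e < 2 ^ m → ∑ k : (ZMod n)ˣ, ζ ^ (e * (k : ZMod n).val) = 0) := by
  subst hn
  rcases Nat.eq_zero_or_pos a with ha | ha
  · subst ha
    refine ⟨0, -1, by norm_num, ?_, ?_⟩
    · intro μ hμ
      rw [pow_zero, pow_one] at hμ
      refine ⟨1, 0, Or.inl rfl, by norm_num, by rw [hμ]; norm_num, ?_⟩
      intro k
      rw [hμ, one_pow, zero_mul, pow_zero]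
      norm_num
    · intro e he he'
      rw [pow_zero] at he'
      omega
  · obtain ⟨a', rfl⟩ : ∃ a', a = a' + 1 := ⟨a - 1, by omega⟩
    set n := 2 ^ (a' + 1) with hn
    have hn0 : n ≠ 0 := NeZero.ne n
    set ζ := Complex.exp (2 * Real.pi * Complex.I / n) with hζdef
    have hprim : IsPrimitiveRoot ζ n := Complex.isPrimitiveRoot_exp n hn0
    have hζn : ζ ^ n = 1 := hprim.pow_eq_one
    have hhalf : ζ ^ (2 ^ a') = -1 := by
      have h1 : (ζ ^ (2 ^ a')) ^ 2 = 1 := by
        rw [← pow_mul, ← pow_succ]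
        exact hζn
      have h2 : ζ ^ (2 ^ a') ≠ 1 := by
        apply hprim.pow_ne_one_of_pos_of_lt (by positivity)
        rw [hn, pow_succ]
        have : 0 < 2 ^ a' := by positivity
        omega
      have h3 : (ζ ^ (2 ^ a') - 1) * (ζ ^ (2 ^ a') + 1) = 0 := by
        linear_combination h1
      rcases mul_eq_zero.mp h3 with h | h
      · exact absurd (sub_eq_zero.mp h) h2
      · exact eq_neg_of_add_eq_zero_left h
    refine ⟨a', ζ, hhalf, ?_, ?_⟩
    · intro μ hμ
      obtain ⟨t, ht, hμt⟩ := hprim.eq_pow_of_pow_eq_one hμ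
      by_cases hlt : t < 2 ^ a'
      · refine ⟨1, t, Or.inl rfl, hlt, by rw [← hμt]; norm_num, ?_⟩
        intro k
        rw [← hμt, ← pow_mul]
        norm_num
      · refine ⟨-1, t - 2 ^ a', Or.inr rfl, ?_, ?_, ?_⟩
        · rw [hn, pow_succ] at ht
          omega
        · have h1 : t = 2 ^ a' + (t - 2 ^ a') := by omega
          rw [← hμt]
          conv_lhs => rw [h1]
          rw [pow_add, hhalf]
          push_cast
          ring
        · intro k
          have hodd := odd_val_unit a' k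
          have h1 : t = 2 ^ a' + (t - 2 ^ a') := by omega
          rw [← hμt, ← pow_mul]
          conv_lhs => rw [h1]
          rw [add_mul, pow_add, pow_mul, hhalf, hodd.neg_one_pow]
          push_cast
          ring
    · intro e he he'
      have h1 : ∀ k : (ZMod n)ˣ, ζ ^ (e * (k : ZMod n).val) = (ζ ^ e) ^ (k : ZMod n).val :=
        fun k => pow_mul ζ e _
      rw [Finset.sum_congr rfl (fun k _ => h1 k)]
      apply sum_units_pow_eq_zero a' (ζ ^ e)
      · rw [← pow_mul, mul_comm, pow_mul, hζn, one_pow]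
      · rw [← pow_mul]
        apply hprim.pow_ne_one_of_pos_of_lt (by omega)
        rw [hn, pow_succ]
        omega

end Cfsg.Agent.Helper6.Q3
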