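import Mathlib
import Cfsg.Prelude.Def_Characters
import Cfsg.Prelude.Def_Blocks
import Cfsg.Agent.Helper6.Q3c

/-!
# The Galois average of a real integer combination of `2`-power roots of unity is an integer
with the expected `2`-adic properties
-/

set_option autoImplicit false
set_option linter.style.haveILetI false

namespace Cfsg.Agent.Helper6.Q3

open Cfsg.Agent.Helper6 Cfsg.Agent.Helper6.Q2
open scoped ComplexConjugate

variable {M : Ideal Cfsg.AlgInt}

/-- **the averaged value of a real cyclotomic integer of `2`-power conductor** -/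
theorem cyc_main (hM : Cfsg.IsPModular 2 M) (n : ℕ) [NeZero n] (a : ℕ) (hn : n = 2 ^ a)
    {ι : Type*} [Fintype ι] (W : ι → ℤ) (μ : ι → ℂ) (hμ : ∀ i, μ i ^ n = 1)
    (hreal : conj (∑ i, (W i : ℂ) * μ i) = ∑ i, (W i : ℂ) * μ i) :
    ∃ T : ℤ,
      (∑ k : (ZMod n)ˣ, ∑ i, (W i : ℂ) * μ i ^ (k : ZMod n).val =
        (Fintype.card (ZMod n)ˣ : ℂ) * (T : ℂ)) ∧
      (∀ h : ℕ, Cfsg.MemLocalRing M ((∑ i, (W i : ℂ) * μ i) / 2 ^ h) → (2 : ℤ) ^ h ∣ T) ∧
      (∀ h : ℕ, Cfsg.MemLocalIdeal M ((∑ i, (W i : ℂ) * μ i) / 2 ^ h) → (2 : ℤ) ^ (h + 1) ∣ T) ∧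
      (¬ Cfsg.MemLocalIdeal M (∑ i, (W i : ℂ) * μ i) → ¬ (2 : ℤ) ∣ T) := by
  classical
  obtain ⟨m, ζ, hζ, hrep, horth⟩ := exists_sign_exponent n a hn
  choose s e hs he hμe hse using fun i => hrep (μ i) (hμ i)
  set b : ℕ → ℤ := fun j => ∑ i, if e i = j then s i * W i else 0 with hb
  have hexp : ∀ t : ℕ, ∑ i, (W i : ℂ) * ((s i : ℂ) * ζ ^ (e i * t)) =
      ∑ j ∈ Finset.range (2 ^ m), (b j : ℂ) * ζ ^ (j * t) := by
    intro t
    have h1 : ∀ j ∈ Finset.range (2 ^ m), (b j : ℂ) * ζ ^ (j * t) =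
        ∑ i, if e i = j then ((s i * W i : ℤ) : ℂ) * ζ ^ (j * t) else 0 := by
      intro j _
      rw [hb]
      simp only
      rw [Int.cast_sum, Finset.sum_mul]
      apply Finset.sum_congr rfl
      intro i _
      split_ifs
      · rfl
      · rw [Int.cast_zero, zero_mul]
    rw [Finset.sum_congr rfl h1, Finset.sum_comm]
    apply Finset.sum_congr rfl
    intro i _
    rw [Finset.sum_ite_eq (Finset.range (2 ^ m)) (e i)
      (fun j => ((s i * W i : ℤ) : ℂ) * ζ ^ (j * t)), if_pos (Finset.mem_range.mpr (he i))]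
    push_cast
    ring
  have hx : ∑ i, (W i : ℂ) * μ i = ∑ j ∈ Finset.range (2 ^ m), (b j : ℂ) * ζ ^ j := by
    have h1 := hexp 1
    simp only [mul_one] at h1
    rw [← h1]
    apply Finset.sum_congr rfl
    intro i _
    rw [hμe i]
  refine ⟨b 0, ?_, ?_⟩
  · have h1 : ∀ k : (ZMod n)ˣ, ∑ i, (W i : ℂ) * μ i ^ (k : ZMod n).val =
        ∑ j ∈ Finset.range (2 ^ m), (b j : ℂ) * ζ ^ (j * (k : ZMod n).val) := by
      intro k
      rw [← hexp]
      apply Finset.sum_congr rfl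
      intro i _
      rw [hse i k]
    rw [Finset.sum_congr rfl (fun k _ => h1 k), Finset.sum_comm]
    have hpos : 0 < 2 ^ m := by positivity
    rw [Finset.sum_eq_single 0]
    · simp only [zero_mul, pow_zero, mul_one, Finset.sum_const, Finset.card_univ, nsmul_eq_mul]
    · intro j hj hj0
      rw [← Finset.mul_sum, horth j (Nat.pos_of_ne_zero hj0) (Finset.mem_range.mp hj), mul_zero]
    · intro h0
      exact absurd (Finset.mem_range.mpr hpos) h0
  · rw [hx] at hreal ⊢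
    exact const_coeff_facts hM m ζ hζ b hreal

end Cfsg.Agent.Helper6.Q3
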