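import Mathlib
import Cfsg.Prelude.Def_Characters
import Cfsg.Prelude.Def_Blocks
import Cfsg.Prelude.Def_BlockRank
import Cfsg.Agent.Helper6.Q3d
import Cfsg.Agent.Helper6.Q3e
import Cfsg.Agent.Helper6.NilAbD

/-!
# The averaged diagonal contributions at a major `2`-subsection
-/

set_option autoImplicit false
set_option linter.style.haveILetI false

namespace Cfsg.Agent.Helper6.Q3

open Cfsg.Agent.Helper6 Cfsg.Agent.Helper6.Maj Cfsg.Agent.Helper6.NilAb
open Cfsg.Agent.Helper6.Q2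
open Module
open scoped ComplexConjugate

universe u

variable {G : Type u} [Group G] {M : Ideal Cfsg.AlgInt}

open Classical in
/-- **the averaged diagonal contributions** `T χ` of the characters of `B` at a major
`2`-subsection are integers; they are odd for height zero, and divisible by `2 ^ (h + 1)` for
positive height `h` -/
theorem exists_avg_invariant [Fintype G] (hM : Cfsg.IsPModular 2 M)
    (B : Set (Cfsg.IrrCharacter G)) (hB : Cfsg.IsPBlock M B)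
    (y : G) (a : ℕ) (hya : orderOf y = 2 ^ a) (H : Subgroup G)
    (hH : H = Subgroup.centralizer ({y} : Set G)) [Fintype H]
    [Fintype (Cfsg.IrrCharacter G)] [Fintype (Cfsg.IrrCharacter H)]
    (e : Set (Cfsg.IrrCharacter H)) (he : Cfsg.IsInducedBlock M H e B)
    (hmaj : Cfsg.blockDefect 2 e = Cfsg.blockDefect 2 B)
    (hyH : y ∈ H) (n : ℕ) [NeZero n] (hn : orderOf y = n)
    (ε : Cfsg.IrrCharacter H → ℂ) (hεn : ∀ θ, ε θ ^ n = 1) (hε1 : ∀ θ, ε θ * conj (ε θ) = 1)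
    (hε : ∀ (θ : Cfsg.IrrCharacter H) (k : ℕ) (c : H),
      (θ : H → ℂ) ((⟨y, hyH⟩ : H) ^ k * c) = ε θ ^ k * (θ : H → ℂ) c) :
    ∃ T : Cfsg.IrrCharacter G → ℤ,
      (∀ χ : Cfsg.IrrCharacter G, ∑ k : (ZMod n)ˣ,
        ((2 : ℕ) : ℂ) ^ Cfsg.blockDefect 2 B *
          Cfsg.classInner (secPart 2 H e (χ : G → ℂ) (y ^ (k : ZMod n).val))
            (secPart 2 H e (χ : G → ℂ) (y ^ (k : ZMod n).val)) =
        (Fintype.card (ZMod n)ˣ : ℂ) * (T χ : ℂ)) ∧
      (∀ χ ∈ B, Cfsg.blockHeight 2 B (χ : G → ℂ) = 0 → ¬ (2 : ℤ) ∣ T χ) ∧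
      (∀ χ ∈ B, 1 ≤ Cfsg.blockHeight 2 B (χ : G → ℂ) →
        (2 : ℤ) ^ (Cfsg.blockHeight 2 B (χ : G → ℂ) + 1) ∣ T χ) := by
  have hy : ∃ k : ℕ, orderOf y = 2 ^ k := ⟨a, hya⟩
  have hcomm : ∀ t : H, y * (t : G) = (t : G) * y := fun t =>
    Subgroup.mem_centralizer_iff.mp (hH ▸ t.2) y (Set.mem_singleton y)
  have hn0 : 0 < n := Nat.pos_of_ne_zero (NeZero.ne n)
  set μ : Cfsg.IrrCharacter H × Cfsg.IrrCharacter H → ℂ :=
    fun i => ε i.1 * conj (ε i.2) with hμdef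
  have hμ : ∀ i, μ i ^ n = 1 := by
    intro i
    rw [hμdef]
    simp only
    rw [mul_pow, ← map_pow, hεn, hεn, map_one, one_mul]
  have hμconj : ∀ i, conj (μ i) = μ i ^ (n - 1) := by
    intro i
    have h1 : μ i * conj (μ i) = 1 := by
      rw [hμdef]
      simp only
      rw [map_mul, Complex.conj_conj]
      have := hε1 i.1
      have := hε1 i.2
      linear_combination (ε i.2 * conj (ε i.2)) * hε1 i.1 + hε1 i.2
    have h2 : μ i * μ i ^ (n - 1) = 1 := by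
      rw [← pow_succ', Nat.sub_add_cancel hn0, hμ]
    have hμ0 : μ i ≠ 0 := by
      intro h0
      rw [h0, zero_mul] at h1
      exact zero_ne_one h1
    exact mul_left_cancel₀ hμ0 (h1.trans h2.symm)
  have hW : ∀ χ ψ : Cfsg.IrrCharacter G,
      ∃ W : Cfsg.IrrCharacter H × Cfsg.IrrCharacter H → ℤ, ∀ i,
      (((2 : ℕ) : ℂ) ^ Cfsg.blockDefect 2 e) * (if i.1 ∈ e ∧ i.2 ∈ e then
        Cfsg.classInner (fun c : H => (χ : G → ℂ) (c : G)) (i.1 : H → ℂ) *
        conj (Cfsg.classInner (fun c : H => (ψ : G → ℂ) (c : G)) (i.2 : H → ℂ)) *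
        Cfsg.classInner (Cfsg.pRegularPart 2 (i.1 : H → ℂ))
          (Cfsg.pRegularPart 2 (i.2 : H → ℂ)) else 0) = (W i : ℂ) := fun χ ψ =>
    exists_int_weights hM H e (IsIrrCharacter.isCharacter χ.2) (IsIrrCharacter.isCharacter ψ.2)
  choose W hW using hW
  have hAform : ∀ (j : ℕ) (χ ψ : Cfsg.IrrCharacter G),
      ((2 : ℕ) : ℂ) ^ Cfsg.blockDefect 2 B * Cfsg.classInner (secPart 2 H e (χ : G → ℂ) (y ^ j))
        (secPart 2 H e (ψ : G → ℂ) (y ^ j)) = ∑ i, (W χ ψ i : ℂ) * μ i ^ j := by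
    intro j χ ψ
    rw [classInner_secPart_pow 2 H e _ _ y hyH ε hε1 hε j, Finset.mul_sum]
    apply Finset.sum_congr rfl
    intro i _
    rw [← mul_assoc, ← hmaj, hW χ ψ i]
  have hA1 : ∀ χ ψ : Cfsg.IrrCharacter G,
      ((2 : ℕ) : ℂ) ^ Cfsg.blockDefect 2 B * Cfsg.classInner (secPart 2 H e (χ : G → ℂ) y)
        (secPart 2 H e (ψ : G → ℂ) y) = ∑ i, (W χ ψ i : ℂ) * μ i := by
    intro χ ψ
    have := hAform 1 χ ψ
    simpa only [pow_one] using this
  have hreal : ∀ χ : Cfsg.IrrCharacter G,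
      conj (∑ i, (W χ χ i : ℂ) * μ i) = ∑ i, (W χ χ i : ℂ) * μ i := by
    intro χ
    rw [← hA1 χ χ]
    obtain ⟨r, _, hr⟩ := classInner_self_ofReal (secPart 2 H e (χ : G → ℂ) y)
    rw [hr, map_mul, map_pow, Complex.conj_natCast, Complex.conj_ofReal]
  have hcyc := fun χ : Cfsg.IrrCharacter G =>
    cyc_main hM n a (hn ▸ hya) (W χ χ) μ hμ (hreal χ)
  choose T hT1 hT2 hT3 hT4 using hcyc
  have h2mem : Cfsg.MemLocalIdeal M ((2 : ℕ) : ℂ) := memLocalIdeal_prime hM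
  refine ⟨T, ?_, ?_, ?_⟩
  · intro χ
    rw [← hT1 χ]
    apply Finset.sum_congr rfl
    intro k _
    exact hAform _ χ χ
  · intro χ hχ h0
    apply hT4 χ
    rw [← hA1 χ χ, ← hmaj]
    exact scaled_contribution_self_not_mem hM B χ hχ h0 y hy H hyH hcomm e he
  · intro χ hχ hpos
    apply hT3 χ
    rw [← hA1 χ χ]
    -- a character of height zero
    obtain ⟨ψ₀, hψ₀, h0ψ₀⟩ : ∃ ψ₀ ∈ B, Cfsg.blockHeight 2 B (ψ₀ : G → ℂ) = 0 := by
      obtain ⟨χ', hχ'⟩ := hB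
      exact exists_height_zero 2 B ⟨χ', hχ' ▸ mem_blockOf_self hM.2.1 χ'⟩
    have hχc := IsIrrCharacter.isCharacter χ.2
    have hψ₀c := IsIrrCharacter.isCharacter ψ₀.2
    have hloc : Cfsg.MemLocalRing M (((2 : ℕ) : ℂ) ^ Cfsg.blockDefect 2 B *
        Cfsg.classInner (secPart 2 H e (ψ₀ : G → ℂ) y) (secPart 2 H e (χ : G → ℂ) y)) := by
      have h1 := scaled_contribution_memLocalRing hM H e hψ₀c hχc y hyH n hn0 ε hεn hε1 hε 1
      rw [pow_one, hmaj] at h1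
      exact h1
    have hmain := scaled_contribution_div_pow hM B hB χ ψ₀ hχ hψ₀ h0ψ₀ (χ : G → ℂ) hχc y H hyH
      hcomm e he.1 hloc
    have hgoal := hmain.2 (by
      -- the contribution of `ψ₀` against `χ` is the conjugate of that of `χ` against `ψ₀`
      rw [classInner_conj_symm (secPart 2 H e (χ : G → ℂ) y) (secPart 2 H e (ψ₀ : G → ℂ) y)]
      have h1 : ((2 : ℕ) : ℂ) ^ Cfsg.blockDefect 2 B * conj (Cfsg.classInner (secPart 2 H e (χ : G → ℂ) y)
          (secPart 2 H e (ψ₀ : G → ℂ) y)) =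
          ((2 : ℕ) : ℂ) ^ Cfsg.blockDefect 2 B * Cfsg.classInner (secPart 2 H e (χ : G → ℂ) (y ^ (n - 1)))
            (secPart 2 H e (ψ₀ : G → ℂ) (y ^ (n - 1))) := by
        rw [hAform (n - 1) χ ψ₀]
        have h2 : ((2 : ℕ) : ℂ) ^ Cfsg.blockDefect 2 B * conj (Cfsg.classInner (secPart 2 H e (χ : G → ℂ) y)
            (secPart 2 H e (ψ₀ : G → ℂ) y)) =
            conj (((2 : ℕ) : ℂ) ^ Cfsg.blockDefect 2 B * Cfsg.classInner (secPart 2 H e (χ : G → ℂ) y)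
              (secPart 2 H e (ψ₀ : G → ℂ) y)) := by
          rw [map_mul, map_pow, Complex.conj_natCast]
        rw [h2, hA1 χ ψ₀, map_sum]
        apply Finset.sum_congr rfl
        intro i _
        rw [map_mul, map_intCast, hμconj]
      rw [h1]
      -- (5H) at the power `y ^ (n - 1)`
      have hy'H : y ^ (n - 1) ∈ H := H.pow_mem hyH _
      have hcomm' : ∀ t : H, y ^ (n - 1) * (t : G) = (t : G) * y ^ (n - 1) := fun t =>
        (Commute.pow_left (hcomm t) _)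
      have hloc' : Cfsg.MemLocalRing M (((2 : ℕ) : ℂ) ^ Cfsg.blockDefect 2 B *
          Cfsg.classInner (secPart 2 H e (ψ₀ : G → ℂ) (y ^ (n - 1)))
            (secPart 2 H e (ψ₀ : G → ℂ) (y ^ (n - 1)))) := by
        have h1 := scaled_contribution_memLocalRing hM H e hψ₀c hψ₀c y hyH n hn0 ε hεn hε1 hε
          (n - 1)
        rw [hmaj] at h1
        exact h1
      have h5 := (scaled_contribution_div_pow hM B hB χ ψ₀ hχ hψ₀ h0ψ₀ (ψ₀ : G → ℂ) hψ₀c
        (y ^ (n - 1)) H hy'H hcomm' e he.1 hloc').1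
      set X := ((2 : ℕ) : ℂ) ^ Cfsg.blockDefect 2 B * Cfsg.classInner (secPart 2 H e (χ : G → ℂ) (y ^ (n - 1)))
          (secPart 2 H e (ψ₀ : G → ℂ) (y ^ (n - 1))) with hX
      set h := Cfsg.blockHeight 2 B (χ : G → ℂ) with hh
      have h20 : ((2 : ℕ) : ℂ) ≠ 0 := by norm_num
      have h6 : X = (X / ((2 : ℕ) : ℂ) ^ h * ((2 : ℕ) : ℂ) ^ (h - 1)) * ((2 : ℕ) : ℂ) := by
        have h7 : h = (h - 1) + 1 := by omega
        conv_rhs => rw [h7]
        rw [Nat.add_sub_cancel, pow_succ]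
        field_simp
      rw [h6]
      have h8 : Cfsg.MemLocalRing M (((2 : ℕ) : ℂ) ^ (h - 1)) := by
        have := memLocalRing_natCast hM.2.1 (2 ^ (h - 1)) (M := M)
        simpa using this
      exact MemLocalIdeal.mul_left hM.2.1 (MemLocalRing.mul hM.2.1 h5 h8) h2mem)
    have h9 : ((2 : ℕ) : ℂ) = (2 : ℂ) := by norm_num
    rw [h9] at hgoal
    exact hgoal

end Cfsg.Agent.Helper6.Q3
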