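import Mathlib
import Cfsg.Prelude.Def_Characters
import Cfsg.Prelude.Def_Blocks
import Cfsg.Prelude.Def_BlockRank
import Cfsg.Agent.Helper6.Q3f
import Cfsg.Agent.Helper6.DadeIso

/-!
# Elementary properties of the averaged diagonal contributions: sum, positivity, upper bound
-/

set_option autoImplicit false
set_option linter.style.haveILetI false

namespace Cfsg.Agent.Helper6.Q3

open Cfsg.Agent.Helper6 Cfsg.Agent.Helper6.Maj Cfsg.Agent.Helper6.NilAb
open Cfsg.Agent.Helper6.Q2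
open Module
open scoped ComplexConjugate

universe u

variable {G : Type u} [Group G] {M : Ideal Cfsg.AlgInt}

/-- a power of `y` with exponent coming from a unit of `ZMod n` is again a `p`-element with the
same centralizer -/
theorem unit_power_data [Finite G] {p : ℕ} [hp : Fact p.Prime] (y : G)
    (hy : ∃ k : ℕ, orderOf y = p ^ k) (H : Subgroup G)
    (hH : H = Subgroup.centralizer ({y} : Set G)) (n : ℕ) [NeZero n] (hn : orderOf y = n)
    (k : (ZMod n)ˣ) :
    (∃ m : ℕ, orderOf (y ^ (k : ZMod n).val) = p ^ m) ∧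
      H = Subgroup.centralizer ({y ^ (k : ZMod n).val} : Set G) := by
  have hcop : Nat.Coprime (k : ZMod n).val (orderOf y) := hn ▸ ZMod.val_coe_unit_coprime k
  refine ⟨?_, hH.trans (centralizer_pow_eq y _ hcop)⟩
  obtain ⟨m, hm⟩ := hy
  have h1 : orderOf (y ^ (k : ZMod n).val) ∣ p ^ m := hm ▸ orderOf_pow_dvd _
  obtain ⟨m', _, hm'⟩ := (Nat.dvd_prime_pow hp.out).mp h1
  exact ⟨m', hm'⟩

open Classical in
/-- **the averaged diagonal contributions add up to `2 ^ d l(b)`** -/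
theorem sum_avg_invariant [Fintype G] (hM : Cfsg.IsPModular 2 M)
    (B : Set (Cfsg.IrrCharacter G))
    (y : G) (hy : ∃ k : ℕ, orderOf y = 2 ^ k) (H : Subgroup G)
    (hH : H = Subgroup.centralizer ({y} : Set G)) [Fintype H]
    [Fintype (Cfsg.IrrCharacter G)] [Fintype (Cfsg.IrrCharacter H)]
    (e : Set (Cfsg.IrrCharacter H)) (he : Cfsg.IsInducedBlock M H e B)
    (n : ℕ) [NeZero n] (hn : orderOf y = n) (D : ℕ)
    (T : Cfsg.IrrCharacter G → ℤ)
    (hT : ∀ χ : Cfsg.IrrCharacter G, ∑ k : (ZMod n)ˣ,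
        ((2 : ℕ) : ℂ) ^ D *
          Cfsg.classInner (secPart 2 H e (χ : G → ℂ) (y ^ (k : ZMod n).val))
            (secPart 2 H e (χ : G → ℂ) (y ^ (k : ZMod n).val)) =
        (Fintype.card (ZMod n)ˣ : ℂ) * (T χ : ℂ)) :
    ∑ χ ∈ Finset.univ.filter (fun χ : Cfsg.IrrCharacter G => χ ∈ B), T χ =
      2 ^ D * (Cfsg.blockRank 2 e : ℤ) := by
  have hφ : (Fintype.card (ZMod n)ˣ : ℂ) ≠ 0 := by
    have : 0 < Fintype.card (ZMod n)ˣ := Fintype.card_pos
    exact_mod_cast this.ne'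
  have hk : ∀ k : (ZMod n)ˣ,
      ∑ χ ∈ Finset.univ.filter (fun χ : Cfsg.IrrCharacter G => χ ∈ B),
        Cfsg.classInner (secPart 2 H e (χ : G → ℂ) (y ^ (k : ZMod n).val))
          (secPart 2 H e (χ : G → ℂ) (y ^ (k : ZMod n).val)) = (Cfsg.blockRank 2 e : ℂ) := by
    intro k
    obtain ⟨hyk, hHk⟩ := unit_power_data y hy H hH n hn k
    have h1 := sum_secPart_self hM B _ hyk H hHk e he
    rw [finsum_mem_eq_sum_ite, ← Finset.sum_filter] at h1
    exact h1
  have hmain : (Fintype.card (ZMod n)ˣ : ℂ) *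
      ((∑ χ ∈ Finset.univ.filter (fun χ : Cfsg.IrrCharacter G => χ ∈ B), T χ : ℤ) : ℂ) =
      (Fintype.card (ZMod n)ˣ : ℂ) * ((2 ^ D * (Cfsg.blockRank 2 e : ℤ) : ℤ) : ℂ) := by
    push_cast
    rw [Finset.mul_sum]
    rw [Finset.sum_congr rfl (fun χ _ => (hT χ).symm), Finset.sum_comm]
    have h2 : ∀ k : (ZMod n)ˣ,
        ∑ χ ∈ Finset.univ.filter (fun χ : Cfsg.IrrCharacter G => χ ∈ B),
          ((2 : ℕ) : ℂ) ^ D *
            Cfsg.classInner (secPart 2 H e (χ : G → ℂ) (y ^ (k : ZMod n).val))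
              (secPart 2 H e (χ : G → ℂ) (y ^ (k : ZMod n).val)) =
        (2 : ℂ) ^ D * (Cfsg.blockRank 2 e : ℂ) := by
      intro k
      rw [← Finset.mul_sum, hk k]
      norm_num
    rw [Finset.sum_congr rfl (fun k _ => h2 k), Finset.sum_const, Finset.card_univ,
      nsmul_eq_mul]
  have := mul_left_cancel₀ hφ hmain
  exact_mod_cast this

open Classical in
/-- the diagonal contribution at one element is a real number between `0` and `1` -/
theorem diag_contribution_le_one [Fintype G] {p : ℕ} [hp : Fact p.Prime]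
    (hM : Cfsg.IsPModular p M)
    (B : Set (Cfsg.IrrCharacter G)) (u : G) (hu : ∃ k : ℕ, orderOf u = p ^ k) (H : Subgroup G)
    (hH : H = Subgroup.centralizer ({u} : Set G)) [Fintype H]
    [Fintype (Cfsg.IrrCharacter G)] [Fintype (Cfsg.IrrCharacter H)]
    (e : Set (Cfsg.IrrCharacter H)) (he : Cfsg.IsInducedBlock M H e B)
    (χ : Cfsg.IrrCharacter G) (hχ : χ ∈ B) :
    ∃ r : ℝ, 0 ≤ r ∧ r ≤ 1 ∧
      Cfsg.classInner (secPart p H e (χ : G → ℂ) u) (secPart p H e (χ : G → ℂ) u) = (r : ℂ) := by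
  obtain ⟨r, hr0, hr⟩ := classInner_self_ofReal (secPart p H e (χ : G → ℂ) u)
  refine ⟨r, hr0, ?_, hr⟩
  have h1 := sum_secPart_sq hM B u hu H hH e he (χ : G → ℂ)
  rw [hr] at h1
  -- the term of `χ` itself
  have h2 := congrArg Complex.re h1
  rw [Complex.re_sum, Complex.ofReal_re] at h2
  have h3 : ∀ ψ : Cfsg.IrrCharacter G, 0 ≤ (if ψ ∈ B then
      Cfsg.classInner (secPart p H e (χ : G → ℂ) u) (secPart p H e (ψ : G → ℂ) u) *
      conj (Cfsg.classInner (secPart p H e (χ : G → ℂ) u) (secPart p H e (ψ : G → ℂ) u))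
      else 0).re := by
    intro ψ
    split_ifs
    · rw [Complex.mul_conj, Complex.ofReal_re]
      exact Complex.normSq_nonneg _
    · rw [Complex.zero_re]
  have h4 : r * r ≤ r := by
    have h5 := Finset.single_le_sum (f := fun ψ : Cfsg.IrrCharacter G => (if ψ ∈ B then
      Cfsg.classInner (secPart p H e (χ : G → ℂ) u) (secPart p H e (ψ : G → ℂ) u) *
      conj (Cfsg.classInner (secPart p H e (χ : G → ℂ) u) (secPart p H e (ψ : G → ℂ) u))
      else 0).re) (fun ψ _ => h3 ψ) (Finset.mem_univ χ)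
    rw [h2, if_pos hχ, hr, Complex.mul_conj, Complex.ofReal_re, Complex.normSq_ofReal] at h5
    exact h5
  by_contra hcon
  push Not at hcon
  nlinarith

open Classical in
/-- **bounds for the averaged diagonal contribution** -/
theorem avg_invariant_bounds [Fintype G] (hM : Cfsg.IsPModular 2 M)
    (B : Set (Cfsg.IrrCharacter G))
    (y : G) (hy : ∃ k : ℕ, orderOf y = 2 ^ k) (H : Subgroup G)
    (hH : H = Subgroup.centralizer ({y} : Set G)) [Fintype H]
    [Fintype (Cfsg.IrrCharacter G)] [Fintype (Cfsg.IrrCharacter H)]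
    (e : Set (Cfsg.IrrCharacter H)) (he : Cfsg.IsInducedBlock M H e B)
    (n : ℕ) [NeZero n] (hn : orderOf y = n) (D : ℕ)
    (T : Cfsg.IrrCharacter G → ℤ)
    (hT : ∀ χ : Cfsg.IrrCharacter G, ∑ k : (ZMod n)ˣ,
        ((2 : ℕ) : ℂ) ^ D *
          Cfsg.classInner (secPart 2 H e (χ : G → ℂ) (y ^ (k : ZMod n).val))
            (secPart 2 H e (χ : G → ℂ) (y ^ (k : ZMod n).val)) =
        (Fintype.card (ZMod n)ˣ : ℂ) * (T χ : ℂ))
    (χ : Cfsg.IrrCharacter G) (hχ : χ ∈ B) (hne : secPart 2 H e (χ : G → ℂ) y ≠ 0) :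
    0 < T χ ∧ T χ ≤ 2 ^ D := by
  have hφ : (0 : ℝ) < (Fintype.card (ZMod n)ˣ : ℝ) := by
    exact_mod_cast Fintype.card_pos
  have hex : ∀ k : (ZMod n)ˣ, ∃ r : ℝ, 0 ≤ r ∧ r ≤ 1 ∧
      Cfsg.classInner (secPart 2 H e (χ : G → ℂ) (y ^ (k : ZMod n).val))
        (secPart 2 H e (χ : G → ℂ) (y ^ (k : ZMod n).val)) = (r : ℂ) := by
    intro k
    obtain ⟨hyk, hHk⟩ := unit_power_data y hy H hH n hn k
    exact diag_contribution_le_one hM B _ hyk H hHk e he χ hχ
  choose r hr0 hr1 hr using hex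
  have hsum : (Fintype.card (ZMod n)ˣ : ℝ) * (T χ : ℝ) = ∑ k : (ZMod n)ˣ, (2 : ℝ) ^ D * r k := by
    have h1 := hT χ
    rw [Finset.sum_congr rfl (fun k _ => by rw [hr k])] at h1
    have h2 : ((Fintype.card (ZMod n)ˣ : ℝ) * (T χ : ℝ) : ℂ) =
        ((∑ k : (ZMod n)ˣ, (2 : ℝ) ^ D * r k : ℝ) : ℂ) := by
      push_cast
      rw [← h1]
      apply Finset.sum_congr rfl
      intro k _
      norm_num
    exact_mod_cast h2
  have h2D : (0 : ℝ) < (2 : ℝ) ^ D := by positivity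
  constructor
  · -- the term of `k = 1`
    have hy1 : y ^ ((1 : (ZMod n)ˣ) : ZMod n).val = y := by
      rw [Units.val_one, ZMod.val_one_eq_one_mod, ← hn, pow_mod_orderOf, pow_one]
    have hr1pos : 0 < r 1 := by
      rcases (hr0 1).lt_or_eq with h | h
      · exact h
      · exfalso
        apply hne
        apply classInner_self_eq_zero
        have h3 := hr 1
        rw [hy1, ← h] at h3
        rw [h3, Complex.ofReal_zero]
    have hpos : 0 < ∑ k : (ZMod n)ˣ, (2 : ℝ) ^ D * r k := by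
      apply Finset.sum_pos'
      · intro k _
        exact mul_nonneg h2D.le (hr0 k)
      · exact ⟨1, Finset.mem_univ _, mul_pos h2D hr1pos⟩
    rw [← hsum] at hpos
    have h4 : (0 : ℝ) < (T χ : ℝ) := by
      by_contra hcon
      push Not at hcon
      nlinarith
    exact_mod_cast h4
  · have hle : ∑ k : (ZMod n)ˣ, (2 : ℝ) ^ D * r k ≤ ∑ _k : (ZMod n)ˣ, (2 : ℝ) ^ D := by
      apply Finset.sum_le_sum
      intro k _
      have := hr1 k
      nlinarith
    rw [← hsum, Finset.sum_const, Finset.card_univ, nsmul_eq_mul] at hle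
    have h4 : (T χ : ℝ) ≤ (2 : ℝ) ^ D := le_of_mul_le_mul_left hle hφ
    exact_mod_cast h4

end Cfsg.Agent.Helper6.Q3
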