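import Mathlib
import Cfsg.Prelude.Def_Characters
import Cfsg.Prelude.Def_Blocks
import Cfsg.Prelude.Def_BlockRank
import Cfsg.Agent.Helper6.Q3g
import Cfsg.Agent.Helper6.Q2f

/-!
# Brauer's inequality `∑ 4 ^ h(ψ) ≤ 2 ^ d T(χ₁)` for a character `χ₁` of height zero
-/

set_option autoImplicit false
set_option linter.style.haveILetI false

namespace Cfsg.Agent.Helper6.Q3

open Cfsg.Agent.Helper6 Cfsg.Agent.Helper6.Maj Cfsg.Agent.Helper6.NilAb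
open Cfsg.Agent.Helper6.Q2
open Module
open scoped ComplexConjugate

universe u

variable {G : Type u} [Group G] {M : Ideal Cfsg.AlgInt}

/-- a non-zero integer combination of roots of unity all of whose conjugates are locally divisible
by `p ^ h` has Galois sum at least `p ^ (2 h) φ(n)` -/
theorem galois_sum_ge_pow {p : ℕ} [hp : Fact p.Prime] (hM : Cfsg.IsPModular p M)
    (n : ℕ) [NeZero n] {ι : Type*} [Fintype ι] (W : ι → ℤ) (μ : ι → ℂ) (hμ : ∀ i, μ i ^ n = 1)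
    (hne : (∑ i, (W i : ℂ) * μ i) ≠ 0) (h : ℕ)
    (hdiv : ∀ k : (ZMod n)ˣ, Cfsg.MemLocalRing M
      ((∑ i, (W i : ℂ) * μ i ^ (k : ZMod n).val) / (p : ℂ) ^ h)) :
    ((p : ℝ) ^ h) ^ 2 * (Fintype.card (ZMod n)ˣ : ℝ) ≤
      ∑ k : (ZMod n)ˣ, ‖∑ i, (W i : ℂ) * μ i ^ (k : ZMod n).val‖ ^ 2 := by
  obtain ⟨⟨m, hm⟩, hnz⟩ := wpowSum_facts n W μ hμ
  have hnz' := hnz hne
  have hm0 : m ≠ 0 := by
    intro h0
    rw [h0, Int.cast_zero] at hm
    obtain ⟨k, _, hk⟩ := Finset.prod_eq_zero_iff.mp hm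
    exact hnz' k hk
  have hp0 : (p : ℂ) ≠ 0 := by exact_mod_cast hp.out.ne_zero
  have hloc : Cfsg.MemLocalRing M ((m : ℂ) / (p : ℂ) ^ (h * Fintype.card (ZMod n)ˣ)) := by
    have h2 : (m : ℂ) / (p : ℂ) ^ (h * Fintype.card (ZMod n)ˣ) =
        ∏ k : (ZMod n)ˣ, ((∑ i, (W i : ℂ) * μ i ^ (k : ZMod n).val) / (p : ℂ) ^ h) := by
      rw [Finset.prod_div_distrib, hm, Finset.prod_const, Finset.card_univ, ← pow_mul]
    rw [h2]
    apply MemLocalRing.prod' hM.2.1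
    intro k _
    exact hdiv k
  have hdvd := pow_dvd_of_memLocalRing_div hM m hm0 _ hloc
  have hge : ((p : ℝ) ^ h) ^ Fintype.card (ZMod n)ˣ ≤ |(m : ℝ)| := by
    have h3 : ((p : ℤ) ^ (h * Fintype.card (ZMod n)ˣ)) ≤ |m| :=
      Int.le_of_dvd (abs_pos.mpr hm0) ((dvd_abs _ _).mpr hdvd)
    rw [← pow_mul]
    exact_mod_cast h3
  exact sum_norm_sq_ge_of_prod
    (fun k : (ZMod n)ˣ => ∑ i, (W i : ℂ) * μ i ^ (k : ZMod n).val) ((p : ℝ) ^ h)
    (by have : (0 : ℝ) < (p : ℝ) := by exact_mod_cast hp.out.pos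
        positivity) hnz' (by rw [hm, Complex.norm_intCast]; exact hge)

open Classical in
/-- **Brauer's inequality** at a character of height zero -/
theorem sum_four_pow_height_le [Fintype G] (hM : Cfsg.IsPModular 2 M)
    (B : Set (Cfsg.IrrCharacter G)) (hB : Cfsg.IsPBlock M B)
    (y : G) (hy : ∃ k : ℕ, orderOf y = 2 ^ k) (H : Subgroup G)
    (hH : H = Subgroup.centralizer ({y} : Set G)) [Fintype H]
    [Fintype (Cfsg.IrrCharacter G)] [Fintype (Cfsg.IrrCharacter H)]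
    (e : Set (Cfsg.IrrCharacter H)) (he : Cfsg.IsInducedBlock M H e B)
    (hmaj : Cfsg.blockDefect 2 e = Cfsg.blockDefect 2 B)
    (hyH : y ∈ H) (n : ℕ) [NeZero n] (hn : orderOf y = n)
    (ε : Cfsg.IrrCharacter H → ℂ) (hεn : ∀ θ, ε θ ^ n = 1) (hε1 : ∀ θ, ε θ * conj (ε θ) = 1)
    (hε : ∀ (θ : Cfsg.IrrCharacter H) (k : ℕ) (c : H),
      (θ : H → ℂ) ((⟨y, hyH⟩ : H) ^ k * c) = ε θ ^ k * (θ : H → ℂ) c)
    (T : Cfsg.IrrCharacter G → ℤ)
    (hT : ∀ χ : Cfsg.IrrCharacter G, ∑ k : (ZMod n)ˣ,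
        ((2 : ℕ) : ℂ) ^ Cfsg.blockDefect 2 B *
          Cfsg.classInner (secPart 2 H e (χ : G → ℂ) (y ^ (k : ZMod n).val))
            (secPart 2 H e (χ : G → ℂ) (y ^ (k : ZMod n).val)) =
        (Fintype.card (ZMod n)ˣ : ℂ) * (T χ : ℂ))
    (χ₁ : Cfsg.IrrCharacter G) (hχ₁ : χ₁ ∈ B)
    (h0χ₁ : Cfsg.blockHeight 2 B (χ₁ : G → ℂ) = 0) :
    ∑ ψ ∈ Finset.univ.filter (fun ψ : Cfsg.IrrCharacter G => ψ ∈ B),
      (4 : ℝ) ^ Cfsg.blockHeight 2 B (ψ : G → ℂ) ≤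
      (2 : ℝ) ^ Cfsg.blockDefect 2 B * (T χ₁ : ℝ) := by
  have hcomm : ∀ t : H, y * (t : G) = (t : G) * y := fun t =>
    Subgroup.mem_centralizer_iff.mp (hH ▸ t.2) y (Set.mem_singleton y)
  have hn0 : 0 < n := Nat.pos_of_ne_zero (NeZero.ne n)
  have hφ : (0 : ℝ) < (Fintype.card (ZMod n)ˣ : ℝ) := by
    exact_mod_cast Fintype.card_pos
  set FB := Finset.univ.filter (fun ψ : Cfsg.IrrCharacter G => ψ ∈ B) with hFB
  have hχ₁c := IsIrrCharacter.isCharacter χ₁.2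
  set μ : Cfsg.IrrCharacter H × Cfsg.IrrCharacter H → ℂ :=
    fun i => ε i.1 * conj (ε i.2) with hμdef
  have hμ : ∀ i, μ i ^ n = 1 := by
    intro i
    rw [hμdef]
    simp only
    rw [mul_pow, ← map_pow, hεn, hεn, map_one, one_mul]
  have hW : ∀ ψ : Cfsg.IrrCharacter G,
      ∃ W : Cfsg.IrrCharacter H × Cfsg.IrrCharacter H → ℤ, ∀ i,
      (((2 : ℕ) : ℂ) ^ Cfsg.blockDefect 2 e) * (if i.1 ∈ e ∧ i.2 ∈ e then
        Cfsg.classInner (fun c : H => (ψ : G → ℂ) (c : G)) (i.1 : H → ℂ) *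
        conj (Cfsg.classInner (fun c : H => (χ₁ : G → ℂ) (c : G)) (i.2 : H → ℂ)) *
        Cfsg.classInner (Cfsg.pRegularPart 2 (i.1 : H → ℂ))
          (Cfsg.pRegularPart 2 (i.2 : H → ℂ)) else 0) = (W i : ℂ) := fun ψ =>
    exists_int_weights hM H e (IsIrrCharacter.isCharacter ψ.2) hχ₁c
  choose W hW using hW
  have hAform : ∀ (j : ℕ) (ψ : Cfsg.IrrCharacter G),
      ((2 : ℕ) : ℂ) ^ Cfsg.blockDefect 2 B *
        Cfsg.classInner (secPart 2 H e (ψ : G → ℂ) (y ^ j))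
        (secPart 2 H e (χ₁ : G → ℂ) (y ^ j)) = ∑ i, (W ψ i : ℂ) * μ i ^ j := by
    intro j ψ
    rw [classInner_secPart_pow 2 H e _ _ y hyH ε hε1 hε j, Finset.mul_sum]
    apply Finset.sum_congr rfl
    intro i _
    rw [← mul_assoc, ← hmaj, hW ψ i]
  -- the lower bound for every `ψ`
  have hlow : ∀ ψ ∈ FB, (4 : ℝ) ^ Cfsg.blockHeight 2 B (ψ : G → ℂ) *
      (Fintype.card (ZMod n)ˣ : ℝ) ≤ ∑ k : (ZMod n)ˣ,
        ‖((2 : ℕ) : ℂ) ^ Cfsg.blockDefect 2 B *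
          Cfsg.classInner (secPart 2 H e (ψ : G → ℂ) (y ^ (k : ZMod n).val))
            (secPart 2 H e (χ₁ : G → ℂ) (y ^ (k : ZMod n).val))‖ ^ 2 := by
    intro ψ hψ
    have hψB : ψ ∈ B := (Finset.mem_filter.mp hψ).2
    have hne : (∑ i, (W ψ i : ℂ) * μ i) ≠ 0 := by
      have h1 := hAform 1 ψ
      simp only [pow_one] at h1
      rw [← h1]
      apply mul_ne_zero
      · exact pow_ne_zero _ (by norm_num)
      · exact contribution_ne_zero_of_major hM B hB ψ χ₁ hψB hχ₁ h0χ₁ y hy H hyH hcomm e he hmaj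
    have hdiv : ∀ k : (ZMod n)ˣ, Cfsg.MemLocalRing M
        ((∑ i, (W ψ i : ℂ) * μ i ^ (k : ZMod n).val) /
          ((2 : ℕ) : ℂ) ^ Cfsg.blockHeight 2 B (ψ : G → ℂ)) := by
      intro k
      rw [← hAform]
      have hy'H : y ^ (k : ZMod n).val ∈ H := H.pow_mem hyH _
      have hcomm' : ∀ t : H, y ^ (k : ZMod n).val * (t : G) = (t : G) * y ^ (k : ZMod n).val :=
        fun t => (Commute.pow_left (hcomm t) _)
      have hloc' : Cfsg.MemLocalRing M (((2 : ℕ) : ℂ) ^ Cfsg.blockDefect 2 B *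
          Cfsg.classInner (secPart 2 H e (χ₁ : G → ℂ) (y ^ (k : ZMod n).val))
            (secPart 2 H e (χ₁ : G → ℂ) (y ^ (k : ZMod n).val))) := by
        have h1 := scaled_contribution_memLocalRing hM H e hχ₁c hχ₁c y hyH n hn0 ε hεn hε1 hε
          (k : ZMod n).val
        rw [hmaj] at h1
        exact h1
      exact (scaled_contribution_div_pow hM B hB ψ χ₁ hψB hχ₁ h0χ₁ (χ₁ : G → ℂ) hχ₁c
        (y ^ (k : ZMod n).val) H hy'H hcomm' e he.1 hloc').1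
    have hmain := galois_sum_ge_pow hM n (W ψ) μ hμ hne _ hdiv
    have h4 : (((2 : ℕ) : ℝ) ^ Cfsg.blockHeight 2 B (ψ : G → ℂ)) ^ 2 =
        (4 : ℝ) ^ Cfsg.blockHeight 2 B (ψ : G → ℂ) := by
      rw [← pow_mul, mul_comm, pow_mul]
      norm_num
    rw [h4] at hmain
    refine hmain.trans (le_of_eq ?_)
    apply Finset.sum_congr rfl
    intro k _
    rw [hAform]
  -- the total
  have htotal : ∑ ψ ∈ FB, ∑ k : (ZMod n)ˣ,
      ‖((2 : ℕ) : ℂ) ^ Cfsg.blockDefect 2 B *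
        Cfsg.classInner (secPart 2 H e (ψ : G → ℂ) (y ^ (k : ZMod n).val))
          (secPart 2 H e (χ₁ : G → ℂ) (y ^ (k : ZMod n).val))‖ ^ 2 =
      (2 : ℝ) ^ Cfsg.blockDefect 2 B * ((Fintype.card (ZMod n)ˣ : ℝ) * (T χ₁ : ℝ)) := by
    rw [Finset.sum_comm]
    have hk : ∀ k : (ZMod n)ˣ, ∑ ψ ∈ FB,
        ‖((2 : ℕ) : ℂ) ^ Cfsg.blockDefect 2 B *
          Cfsg.classInner (secPart 2 H e (ψ : G → ℂ) (y ^ (k : ZMod n).val))
            (secPart 2 H e (χ₁ : G → ℂ) (y ^ (k : ZMod n).val))‖ ^ 2 =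
        (2 : ℝ) ^ Cfsg.blockDefect 2 B * (((2 : ℕ) : ℂ) ^ Cfsg.blockDefect 2 B *
          Cfsg.classInner (secPart 2 H e (χ₁ : G → ℂ) (y ^ (k : ZMod n).val))
            (secPart 2 H e (χ₁ : G → ℂ) (y ^ (k : ZMod n).val))).re := by
      intro k
      obtain ⟨hyk, hHk⟩ := unit_power_data y hy H hH n hn k
      have h1 := sum_normSq_pairing hM B _ hyk H hHk e he
        (secPart 2 H e (χ₁ : G → ℂ) (y ^ (k : ZMod n).val))
        (secPart_mem_span 2 H e (χ₁ : G → ℂ) _)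
      obtain ⟨r, _, hr⟩ := classInner_self_ofReal
        (secPart 2 H e (χ₁ : G → ℂ) (y ^ (k : ZMod n).val))
      have h2 : ∀ ψ ∈ FB, ‖((2 : ℕ) : ℂ) ^ Cfsg.blockDefect 2 B *
          Cfsg.classInner (secPart 2 H e (ψ : G → ℂ) (y ^ (k : ZMod n).val))
            (secPart 2 H e (χ₁ : G → ℂ) (y ^ (k : ZMod n).val))‖ ^ 2 =
          ((2 : ℝ) ^ Cfsg.blockDefect 2 B) ^ 2 *
            ‖Cfsg.classInner (secPart 2 H e (ψ : G → ℂ) (y ^ (k : ZMod n).val))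
              (secPart 2 H e (χ₁ : G → ℂ) (y ^ (k : ZMod n).val))‖ ^ 2 := by
        intro ψ _
        rw [norm_mul, mul_pow, norm_pow, Complex.norm_natCast]
        norm_num
      rw [Finset.sum_congr rfl h2, ← Finset.mul_sum, h1, hr]
      have h3 : (((2 : ℕ) : ℂ) ^ Cfsg.blockDefect 2 B * (r : ℂ)).re =
          (2 : ℝ) ^ Cfsg.blockDefect 2 B * r := by
        have : ((2 : ℕ) : ℂ) ^ Cfsg.blockDefect 2 B * (r : ℂ) =
            (((2 : ℝ) ^ Cfsg.blockDefect 2 B * r : ℝ) : ℂ) := by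
          push_cast
          ring
        rw [this, Complex.ofReal_re]
      rw [h3, Complex.ofReal_re]
      ring
    rw [Finset.sum_congr rfl (fun k _ => hk k), ← Finset.mul_sum, ← Complex.re_sum, hT χ₁]
    congr 1
    have : (Fintype.card (ZMod n)ˣ : ℂ) * (T χ₁ : ℂ) =
        (((Fintype.card (ZMod n)ˣ : ℝ) * (T χ₁ : ℝ) : ℝ) : ℂ) := by
      push_cast
      ring
    rw [this, Complex.ofReal_re]
  have hfin : (∑ ψ ∈ FB, (4 : ℝ) ^ Cfsg.blockHeight 2 B (ψ : G → ℂ)) *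
      (Fintype.card (ZMod n)ˣ : ℝ) ≤
      ((2 : ℝ) ^ Cfsg.blockDefect 2 B * (T χ₁ : ℝ)) * (Fintype.card (ZMod n)ˣ : ℝ) := by
    rw [Finset.sum_mul]
    calc ∑ ψ ∈ FB, (4 : ℝ) ^ Cfsg.blockHeight 2 B (ψ : G → ℂ) * (Fintype.card (ZMod n)ˣ : ℝ)
        ≤ ∑ ψ ∈ FB, ∑ k : (ZMod n)ˣ,
          ‖((2 : ℕ) : ℂ) ^ Cfsg.blockDefect 2 B *
            Cfsg.classInner (secPart 2 H e (ψ : G → ℂ) (y ^ (k : ZMod n).val))
              (secPart 2 H e (χ₁ : G → ℂ) (y ^ (k : ZMod n).val))‖ ^ 2 :=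
          Finset.sum_le_sum hlow
      _ = (2 : ℝ) ^ Cfsg.blockDefect 2 B * (T χ₁ : ℝ) * (Fintype.card (ZMod n)ˣ : ℝ) := by
          rw [htotal]
          ring
  exact le_of_mul_le_mul_right hfin hφ

end Cfsg.Agent.Helper6.Q3
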