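import Mathlib
import Cfsg.Prelude.Def_Characters
import Cfsg.Prelude.Def_Blocks
import Cfsg.Prelude.Def_BlockRank
import Cfsg.Agent.Helper6.Q3h

/-!
# Olsson's inequality for a major `2`-subsection of rank at most three
-/

set_option autoImplicit false
set_option linter.style.haveILetI false

namespace Cfsg.Agent.Helper6.Q3

open Cfsg.Agent.Helper6 Cfsg.Agent.Helper6.Maj Cfsg.Agent.Helper6.NilAb
open Cfsg.Agent.Helper6.Q2
open Module
open scoped ComplexConjugate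

universe u

variable {G : Type u} [Group G] {M : Ideal Cfsg.AlgInt}

open Classical in
/-- conversion of the counting expressions of the statement into one weighted sum -/
theorem weighted_count_eq {α : Type*} [Fintype α] (B : Set α) (h : α → ℕ) :
    3 * Nat.card {χ : α // χ ∈ B ∧ h χ = 0} +
      2 * (∑ᶠ χ ∈ {χ : α | χ ∈ B ∧ 1 ≤ h χ}, 2 ^ h χ) =
    ∑ χ ∈ Finset.univ.filter (fun χ : α => χ ∈ B),
      (if h χ = 0 then 3 else 2 * 2 ^ h χ) := by
  rw [Finset.sum_ite, Finset.sum_const, smul_eq_mul, ← Finset.mul_sum, Finset.filter_filter,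
    Finset.filter_filter, Nat.card_eq_fintype_card, Fintype.card_subtype, mul_comm 3]
  congr 2
  rw [finsum_mem_eq_sum_of_inter_support_eq (t := Finset.univ.filter
    (fun χ : α => χ ∈ B ∧ ¬ h χ = 0))]
  congr 1
  ext χ
  simp only [Finset.coe_filter, Finset.mem_univ, true_and]
  constructor
  · intro hx
    exact ⟨hx.1, by have := hx.2; omega⟩
  · intro hx
    exact ⟨hx.1, by have := hx.2; omega⟩

open Classical in
/-- **Olsson's inequality**, in weighted form -/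
theorem weighted_sum_le_of_rank_le_three [Fintype G] (hM : Cfsg.IsPModular 2 M)
    (B : Set (Cfsg.IrrCharacter G)) (hB : Cfsg.IsPBlock M B)
    (y : G) (a : ℕ) (hya : orderOf y = 2 ^ a) (H : Subgroup G)
    (hH : H = Subgroup.centralizer ({y} : Set G)) [Fintype H]
    [Fintype (Cfsg.IrrCharacter G)] [Fintype (Cfsg.IrrCharacter H)]
    (e : Set (Cfsg.IrrCharacter H)) (he : Cfsg.IsInducedBlock M H e B)
    (hmaj : Cfsg.blockDefect 2 e = Cfsg.blockDefect 2 B)
    (hl : Cfsg.blockRank 2 e ≤ 3) :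
    ∑ χ ∈ Finset.univ.filter (fun χ : Cfsg.IrrCharacter G => χ ∈ B),
      (if Cfsg.blockHeight 2 B (χ : G → ℂ) = 0 then 3
        else 2 * 2 ^ Cfsg.blockHeight 2 B (χ : G → ℂ)) ≤ 3 * 2 ^ Cfsg.blockDefect 2 B := by
  have hy : ∃ k : ℕ, orderOf y = 2 ^ k := ⟨a, hya⟩
  set n := orderOf y with hn
  haveI : NeZero n := ⟨(orderOf_pos y).ne'⟩
  have hyH : y ∈ H := by
    rw [hH, Subgroup.mem_centralizer_singleton_iff]
  have hcomm : ∀ t : H, y * (t : G) = (t : G) * y := fun t =>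
    Subgroup.mem_centralizer_iff.mp (hH ▸ t.2) y (Set.mem_singleton y)
  have hz : (⟨y, hyH⟩ : H) ∈ Subgroup.center H := by
    rw [Subgroup.mem_center_iff]
    intro t
    apply Subtype.ext
    simp only [Subgroup.coe_mul]
    exact (hcomm t).symm
  have hzo : orderOf (⟨y, hyH⟩ : H) = n := Subgroup.orderOf_mk y hyH
  choose ε hεn hε1 hε using fun θ : Cfsg.IrrCharacter H => exists_center_twist θ ⟨y, hyH⟩ hz
  have hεn' : ∀ θ, ε θ ^ n = 1 := fun θ => hzo ▸ hεn θ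
  obtain ⟨T, hT, hTodd, hTdvd⟩ := exists_avg_invariant hM B hB y a hya H hH e he hmaj hyH n
    hn.symm ε hεn' hε1 hε
  set FB := Finset.univ.filter (fun χ : Cfsg.IrrCharacter G => χ ∈ B) with hFB
  obtain ⟨ψ₀, hψ₀, h0ψ₀⟩ : ∃ ψ₀ ∈ B, Cfsg.blockHeight 2 B (ψ₀ : G → ℂ) = 0 := by
    obtain ⟨χ', hχ'⟩ := hB
    exact exists_height_zero 2 B ⟨χ', hχ' ▸ mem_blockOf_self hM.2.1 χ'⟩
  have hδne : ∀ χ ∈ B, secPart 2 H e (χ : G → ℂ) y ≠ 0 := by
    intro χ hχ h0
    apply contribution_ne_zero_of_major hM B hB χ ψ₀ hχ hψ₀ h0ψ₀ y hy H hyH hcomm e he hmaj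
    rw [h0]
    exact classInner_zero_left _
  have hTpos : ∀ χ ∈ B, 0 < T χ := fun χ hχ =>
    (avg_invariant_bounds hM B y hy H hH e he n hn.symm _ T hT χ hχ (hδne χ hχ)).1
  have hsum := sum_avg_invariant hM B y hy H hH e he n hn.symm _ T hT
  by_cases hA : ∃ χ₁ ∈ B, Cfsg.blockHeight 2 B (χ₁ : G → ℂ) = 0 ∧ T χ₁ = 1
  · -- some character of height zero has value one
    obtain ⟨χ₁, hχ₁, h0χ₁, hT1⟩ := hA
    have h1 := sum_four_pow_height_le hM B hB y hy H hH e he hmaj hyH n hn.symm ε hεn' hε1 hε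
      T hT χ₁ hχ₁ h0χ₁
    rw [hT1] at h1
    have h2 : ∀ χ ∈ FB, ((if Cfsg.blockHeight 2 B (χ : G → ℂ) = 0 then 3
        else 2 * 2 ^ Cfsg.blockHeight 2 B (χ : G → ℂ) : ℕ) : ℝ) ≤
        3 * (4 : ℝ) ^ Cfsg.blockHeight 2 B (χ : G → ℂ) := by
      intro χ _
      split_ifs with h0
      · rw [h0]
        norm_num
      · push_cast
        have h3 : (2 : ℝ) ^ Cfsg.blockHeight 2 B (χ : G → ℂ) ≤
            (4 : ℝ) ^ Cfsg.blockHeight 2 B (χ : G → ℂ) :=
          pow_le_pow_left₀ (by norm_num) (by norm_num) _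
        have h4 : (0 : ℝ) < (2 : ℝ) ^ Cfsg.blockHeight 2 B (χ : G → ℂ) := by positivity
        linarith
    have h5 : ((∑ χ ∈ FB, (if Cfsg.blockHeight 2 B (χ : G → ℂ) = 0 then 3
        else 2 * 2 ^ Cfsg.blockHeight 2 B (χ : G → ℂ)) : ℕ) : ℝ) ≤
        ((3 * 2 ^ Cfsg.blockDefect 2 B : ℕ) : ℝ) := by
      rw [Nat.cast_sum]
      calc ∑ χ ∈ FB, ((if Cfsg.blockHeight 2 B (χ : G → ℂ) = 0 then 3
            else 2 * 2 ^ Cfsg.blockHeight 2 B (χ : G → ℂ) : ℕ) : ℝ)
          ≤ ∑ χ ∈ FB, 3 * (4 : ℝ) ^ Cfsg.blockHeight 2 B (χ : G → ℂ) := Finset.sum_le_sum h2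
        _ = 3 * ∑ χ ∈ FB, (4 : ℝ) ^ Cfsg.blockHeight 2 B (χ : G → ℂ) := by
            rw [Finset.mul_sum]
        _ ≤ 3 * ((2 : ℝ) ^ Cfsg.blockDefect 2 B * ((1 : ℤ) : ℝ)) :=
            mul_le_mul_of_nonneg_left h1 (by norm_num)
        _ = ((3 * 2 ^ Cfsg.blockDefect 2 B : ℕ) : ℝ) := by
            push_cast
            ring
    exact_mod_cast h5
  · -- every character of height zero has value at least three
    push Not at hA
    have h2 : ∀ χ ∈ FB, ((if Cfsg.blockHeight 2 B (χ : G → ℂ) = 0 then 3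
        else 2 * 2 ^ Cfsg.blockHeight 2 B (χ : G → ℂ) : ℕ) : ℤ) ≤ T χ := by
      intro χ hχ
      have hχB : χ ∈ B := (Finset.mem_filter.mp hχ).2
      have hpos := hTpos χ hχB
      split_ifs with h0
      · have hodd := hTodd χ hχB h0
        have hne1 := hA χ hχB h0
        push_cast
        by_contra hcon
        push Not at hcon
        have : T χ = 2 := by omega
        exact hodd ⟨1, by rw [this]; rfl⟩
      · have hdvd := hTdvd χ hχB (Nat.one_le_iff_ne_zero.mpr h0)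
        have h3 := Int.le_of_dvd hpos hdvd
        push_cast
        rw [pow_succ] at h3
        linarith
    have h5 : ((∑ χ ∈ FB, (if Cfsg.blockHeight 2 B (χ : G → ℂ) = 0 then 3
        else 2 * 2 ^ Cfsg.blockHeight 2 B (χ : G → ℂ)) : ℕ) : ℤ) ≤
        ((3 * 2 ^ Cfsg.blockDefect 2 B : ℕ) : ℤ) := by
      rw [Nat.cast_sum]
      calc ∑ χ ∈ FB, ((if Cfsg.blockHeight 2 B (χ : G → ℂ) = 0 then 3
            else 2 * 2 ^ Cfsg.blockHeight 2 B (χ : G → ℂ) : ℕ) : ℤ)
          ≤ ∑ χ ∈ FB, T χ := Finset.sum_le_sum h2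
        _ = 2 ^ Cfsg.blockDefect 2 B * (Cfsg.blockRank 2 e : ℤ) := hsum
        _ ≤ 2 ^ Cfsg.blockDefect 2 B * 3 := by
            apply mul_le_mul_of_nonneg_left _ (by positivity)
            exact_mod_cast hl
        _ = ((3 * 2 ^ Cfsg.blockDefect 2 B : ℕ) : ℤ) := by
            push_cast
            ring
    exact_mod_cast h5

end Cfsg.Agent.Helper6.Q3
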