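import Mathlib
import Cfsg.Prelude.Def_Characters
import Cfsg.Prelude.Def_Blocks
import Cfsg.Prelude.Def_BlockRank
import Cfsg.Agent.Helper6.Q3i

/-!
# Olsson's theorem: a major `2`-subsection of rank at most three
-/

set_option autoImplicit false
set_option linter.style.haveILetI false

namespace Cfsg.Agent.Helper6.Q3

open Cfsg.Agent.Helper6 Cfsg.Agent.Helper6.Maj Cfsg.Agent.Helper6.NilAb
open Cfsg.Agent.Helper6.Q2
open Module
open scoped ComplexConjugate

universe u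

variable {G : Type u} [Group G] {M : Ideal Cfsg.AlgInt}

open Classical in
/-- **Olsson's theorem** for a major `2`-subsection `(y, b)` with `l(b) ≤ 3` -/
theorem olsson_bound [Finite G] (hM : Cfsg.IsPModular 2 M)
    (B : Set (Cfsg.IrrCharacter G)) (hB : Cfsg.IsPBlock M B)
    (y : G) (hy : ∃ k : ℕ, orderOf y = 2 ^ k)
    (H : Subgroup G) (hHdef : H = Subgroup.centralizer ({y} : Set G))
    (b : Set (Cfsg.IrrCharacter H))
    (hind : Cfsg.IsInducedBlock M H b B)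
    (hmaj : Cfsg.blockDefect 2 b = Cfsg.blockDefect 2 B)
    (hl : Cfsg.blockRank 2 b ≤ 3) :
    3 * Nat.card B ≤ 3 * Nat.card {χ : Cfsg.IrrCharacter G //
        χ ∈ B ∧ Cfsg.blockHeight 2 B (χ : G → ℂ) = 0} +
      2 * (∑ᶠ χ ∈ {χ : Cfsg.IrrCharacter G | χ ∈ B ∧ 1 ≤ Cfsg.blockHeight 2 B (χ : G → ℂ)},
        2 ^ Cfsg.blockHeight 2 B (χ : G → ℂ)) ∧
    3 * Nat.card {χ : Cfsg.IrrCharacter G //
        χ ∈ B ∧ Cfsg.blockHeight 2 B (χ : G → ℂ) = 0} +
      2 * (∑ᶠ χ ∈ {χ : Cfsg.IrrCharacter G | χ ∈ B ∧ 1 ≤ Cfsg.blockHeight 2 B (χ : G → ℂ)},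
        2 ^ Cfsg.blockHeight 2 B (χ : G → ℂ)) ≤ 3 * 2 ^ Cfsg.blockDefect 2 B := by
  haveI : Fintype G := Fintype.ofFinite G
  haveI : Fintype H := Fintype.ofFinite H
  haveI : Finite (Cfsg.IrrCharacter G) := irr_finite
  haveI : Finite (Cfsg.IrrCharacter H) := irr_finite
  haveI : Fintype (Cfsg.IrrCharacter G) := Fintype.ofFinite _
  haveI : Fintype (Cfsg.IrrCharacter H) := Fintype.ofFinite _
  obtain ⟨a, hya⟩ := hy
  rw [weighted_count_eq B (fun χ : Cfsg.IrrCharacter G => Cfsg.blockHeight 2 B (χ : G → ℂ))]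
  constructor
  · have hcard : Nat.card B =
        (Finset.univ.filter (fun χ : Cfsg.IrrCharacter G => χ ∈ B)).card := by
      rw [Nat.card_eq_fintype_card, Fintype.card_subtype]
    rw [hcard, mul_comm, ← smul_eq_mul, ← Finset.sum_const]
    apply Finset.sum_le_sum
    intro χ _
    split_ifs with h0
    · exact le_refl _
    · have h1 : 1 ≤ Cfsg.blockHeight 2 B (χ : G → ℂ) := Nat.one_le_iff_ne_zero.mpr h0
      have h2 : 2 ^ 1 ≤ 2 ^ Cfsg.blockHeight 2 B (χ : G → ℂ) :=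
        Nat.pow_le_pow_right (by norm_num) h1
      omega
  · exact weighted_sum_le_of_rank_le_three hM B hB y a hya H hHdef b hind hmaj hl

end Cfsg.Agent.Helper6.Q3
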