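import Mathlib
import Cfsg.Prelude.Def_Characters
import Cfsg.Prelude.Def_Blocks
import Cfsg.Prelude.Def_BlockRank
import Cfsg.Agent.Helper6.Q3h

/-!
# Column sums and Galois sums of the contributions against a character of height zero
-/

set_option autoImplicit false
set_option linter.style.haveILetI false

namespace Cfsg.Agent.Helper6.Q3

open Cfsg.Agent.Helper6 Cfsg.Agent.Helper6.Maj Cfsg.Agent.Helper6.NilAb
open Cfsg.Agent.Helper6.Q2
open Module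
open scoped ComplexConjugate

universe u

variable {G : Type u} [Group G] {M : Ideal Cfsg.AlgInt}

open Classical in
/-- the Galois sum of the scaled contribution of `ψ` against a character `χ₁` of height zero is at
least `4 ^ h(ψ) φ(n)` -/
theorem galois_sum_contribution_ge [Fintype G] (hM : Cfsg.IsPModular 2 M)
    (B : Set (Cfsg.IrrCharacter G)) (hB : Cfsg.IsPBlock M B)
    (y : G) (hy : ∃ k : ℕ, orderOf y = 2 ^ k) (H : Subgroup G)
    (hH : H = Subgroup.centralizer ({y} : Set G)) [Fintype H]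
    [Fintype (Cfsg.IrrCharacter G)] [Fintype (Cfsg.IrrCharacter H)]
    (e : Set (Cfsg.IrrCharacter H)) (he : Cfsg.IsInducedBlock M H e B)
    (hmaj : Cfsg.blockDefect 2 e = Cfsg.blockDefect 2 B)
    (hyH : y ∈ H) (n : ℕ) [NeZero n] (hn : orderOf y = n)
    (ε : Cfsg.IrrCharacter H → ℂ) (hεn : ∀ θ, ε θ ^ n = 1) (hε1 : ∀ θ, ε θ * conj (ε θ) = 1)
    (hε : ∀ (θ : Cfsg.IrrCharacter H) (k : ℕ) (c : H),
      (θ : H → ℂ) ((⟨y, hyH⟩ : H) ^ k * c) = ε θ ^ k * (θ : H → ℂ) c)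
    (χ₁ : Cfsg.IrrCharacter G) (hχ₁ : χ₁ ∈ B)
    (h0χ₁ : Cfsg.blockHeight 2 B (χ₁ : G → ℂ) = 0)
    (ψ : Cfsg.IrrCharacter G) (hψB : ψ ∈ B) :
    (4 : ℝ) ^ Cfsg.blockHeight 2 B (ψ : G → ℂ) * (Fintype.card (ZMod n)ˣ : ℝ) ≤
      ∑ k : (ZMod n)ˣ,
        ‖((2 : ℕ) : ℂ) ^ Cfsg.blockDefect 2 B *
          Cfsg.classInner (secPart 2 H e (ψ : G → ℂ) (y ^ (k : ZMod n).val))
            (secPart 2 H e (χ₁ : G → ℂ) (y ^ (k : ZMod n).val))‖ ^ 2 := by
  have hcomm : ∀ t : H, y * (t : G) = (t : G) * y := fun t =>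
    Subgroup.mem_centralizer_iff.mp (hH ▸ t.2) y (Set.mem_singleton y)
  have hn0 : 0 < n := Nat.pos_of_ne_zero (NeZero.ne n)
  have hχ₁c := IsIrrCharacter.isCharacter χ₁.2
  set μ : Cfsg.IrrCharacter H × Cfsg.IrrCharacter H → ℂ :=
    fun i => ε i.1 * conj (ε i.2) with hμdef
  have hμ : ∀ i, μ i ^ n = 1 := by
    intro i
    rw [hμdef]
    simp only
    rw [mul_pow, ← map_pow, hεn, hεn, map_one, one_mul]
  obtain ⟨W, hW⟩ := exists_int_weights hM H e (IsIrrCharacter.isCharacter ψ.2) hχ₁c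
  have hAform : ∀ (j : ℕ),
      ((2 : ℕ) : ℂ) ^ Cfsg.blockDefect 2 B *
        Cfsg.classInner (secPart 2 H e (ψ : G → ℂ) (y ^ j))
        (secPart 2 H e (χ₁ : G → ℂ) (y ^ j)) = ∑ i, (W i : ℂ) * μ i ^ j := by
    intro j
    rw [classInner_secPart_pow 2 H e _ _ y hyH ε hε1 hε j, Finset.mul_sum]
    apply Finset.sum_congr rfl
    intro i _
    rw [← mul_assoc, ← hmaj, hW i]
  have hne : (∑ i, (W i : ℂ) * μ i) ≠ 0 := by
    have h1 := hAform 1
    simp only [pow_one] at h1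
    rw [← h1]
    apply mul_ne_zero
    · exact pow_ne_zero _ (by norm_num)
    · exact contribution_ne_zero_of_major hM B hB ψ χ₁ hψB hχ₁ h0χ₁ y hy H hyH hcomm e he hmaj
  have hdiv : ∀ k : (ZMod n)ˣ, Cfsg.MemLocalRing M
      ((∑ i, (W i : ℂ) * μ i ^ (k : ZMod n).val) /
        ((2 : ℕ) : ℂ) ^ Cfsg.blockHeight 2 B (ψ : G → ℂ)) := by
    intro k
    rw [← hAform]
    have hy'H : y ^ (k : ZMod n).val ∈ H := H.pow_mem hyH _
    have hcomm' : ∀ t : H, y ^ (k : ZMod n).val * (t : G) = (t : G) * y ^ (k : ZMod n).val :=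
      fun t => (Commute.pow_left (hcomm t) _)
    have hloc' : Cfsg.MemLocalRing M (((2 : ℕ) : ℂ) ^ Cfsg.blockDefect 2 B *
        Cfsg.classInner (secPart 2 H e (χ₁ : G → ℂ) (y ^ (k : ZMod n).val))
          (secPart 2 H e (χ₁ : G → ℂ) (y ^ (k : ZMod n).val))) := by
      have h1 := scaled_contribution_memLocalRing hM H e hχ₁c hχ₁c y hyH n hn0 ε hεn hε1 hε
        (k : ZMod n).val
      rw [hmaj] at h1
      exact h1
    exact (scaled_contribution_div_pow hM B hB ψ χ₁ hψB hχ₁ h0χ₁ (χ₁ : G → ℂ) hχ₁c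
      (y ^ (k : ZMod n).val) H hy'H hcomm' e he.1 hloc').1
  have hmain := galois_sum_ge_pow hM n W μ hμ hne _ hdiv
  have h4 : (((2 : ℕ) : ℝ) ^ Cfsg.blockHeight 2 B (ψ : G → ℂ)) ^ 2 =
      (4 : ℝ) ^ Cfsg.blockHeight 2 B (ψ : G → ℂ) := by
    rw [← pow_mul, mul_comm, pow_mul]
    norm_num
  rw [h4] at hmain
  refine hmain.trans (le_of_eq ?_)
  apply Finset.sum_congr rfl
  intro k _
  rw [hAform]

open Classical in
/-- the column sum of the squared scaled contributions at one power of `y` -/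
theorem sum_normSq_scaled_contribution [Fintype G] (hM : Cfsg.IsPModular 2 M)
    (B : Set (Cfsg.IrrCharacter G))
    (y : G) (hy : ∃ k : ℕ, orderOf y = 2 ^ k) (H : Subgroup G)
    (hH : H = Subgroup.centralizer ({y} : Set G)) [Fintype H]
    [Fintype (Cfsg.IrrCharacter G)] [Fintype (Cfsg.IrrCharacter H)]
    (e : Set (Cfsg.IrrCharacter H)) (he : Cfsg.IsInducedBlock M H e B)
    (n : ℕ) [NeZero n] (hn : orderOf y = n) (D : ℕ)
    (χ₁ : Cfsg.IrrCharacter G) (k : (ZMod n)ˣ) (r : ℝ)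
    (hr : Cfsg.classInner (secPart 2 H e (χ₁ : G → ℂ) (y ^ (k : ZMod n).val))
      (secPart 2 H e (χ₁ : G → ℂ) (y ^ (k : ZMod n).val)) = (r : ℂ)) :
    ∑ ψ ∈ Finset.univ.filter (fun ψ : Cfsg.IrrCharacter G => ψ ∈ B),
      ‖((2 : ℕ) : ℂ) ^ D *
        Cfsg.classInner (secPart 2 H e (ψ : G → ℂ) (y ^ (k : ZMod n).val))
          (secPart 2 H e (χ₁ : G → ℂ) (y ^ (k : ZMod n).val))‖ ^ 2 =
      (2 : ℝ) ^ D * ((2 : ℝ) ^ D * r) := by
  obtain ⟨hyk, hHk⟩ := unit_power_data y hy H hH n hn k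
  have h1 := sum_normSq_pairing hM B _ hyk H hHk e he
    (secPart 2 H e (χ₁ : G → ℂ) (y ^ (k : ZMod n).val))
    (secPart_mem_span 2 H e (χ₁ : G → ℂ) _)
  have h2 : ∀ ψ ∈ Finset.univ.filter (fun ψ : Cfsg.IrrCharacter G => ψ ∈ B),
      ‖((2 : ℕ) : ℂ) ^ D *
        Cfsg.classInner (secPart 2 H e (ψ : G → ℂ) (y ^ (k : ZMod n).val))
          (secPart 2 H e (χ₁ : G → ℂ) (y ^ (k : ZMod n).val))‖ ^ 2 =
      ((2 : ℝ) ^ D) ^ 2 *
        ‖Cfsg.classInner (secPart 2 H e (ψ : G → ℂ) (y ^ (k : ZMod n).val))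
          (secPart 2 H e (χ₁ : G → ℂ) (y ^ (k : ZMod n).val))‖ ^ 2 := by
    intro ψ _
    rw [norm_mul, mul_pow, norm_pow, Complex.norm_natCast]
    norm_num
  rw [Finset.sum_congr rfl h2, ← Finset.mul_sum, h1, hr, Complex.ofReal_re]
  ring

end Cfsg.Agent.Helper6.Q3
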