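import Mathlib
import Cfsg.Prelude.Def_Characters
import Cfsg.Prelude.Def_Blocks
import Cfsg.Prelude.Def_BlockRank
import Cfsg.Agent.Helper6.Q3k
import Cfsg.Agent.Helper6.Q3i

/-!
# Olsson's theorem: `k(B) - l(b) ≤ 3` at a major `2`-subsection forces `k(B) ≤ 2 ^ d`
-/

set_option autoImplicit false
set_option linter.style.haveILetI false

namespace Cfsg.Agent.Helper6.Q3

open Cfsg.Agent.Helper6 Cfsg.Agent.Helper6.Maj Cfsg.Agent.Helper6.NilAb
open Cfsg.Agent.Helper6.Q2
open Module
open scoped ComplexConjugate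

universe u

variable {G : Type u} [Group G] {M : Ideal Cfsg.AlgInt}

open Classical in
/-- if the diagonal contribution of `χ` is `1`, then `B = {χ}` -/
theorem card_le_one_of_diag_eq_one [Fintype G] {p : ℕ} [hp : Fact p.Prime]
    (hM : Cfsg.IsPModular p M)
    (B : Set (Cfsg.IrrCharacter G)) (hB : Cfsg.IsPBlock M B)
    (y : G) (hy : ∃ k : ℕ, orderOf y = p ^ k) (H : Subgroup G)
    (hH : H = Subgroup.centralizer ({y} : Set G)) [Fintype H]
    [Fintype (Cfsg.IrrCharacter G)] [Fintype (Cfsg.IrrCharacter H)]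
    (e : Set (Cfsg.IrrCharacter H)) (he : Cfsg.IsInducedBlock M H e B)
    (hmaj : Cfsg.blockDefect p e = Cfsg.blockDefect p B)
    (χ : Cfsg.IrrCharacter G) (hχ : χ ∈ B)
    (h1 : Cfsg.classInner (secPart p H e (χ : G → ℂ) y) (secPart p H e (χ : G → ℂ) y) = 1) :
    ∀ ψ ∈ B, ψ = χ := by
  have hyH : y ∈ H := by
    rw [hH, Subgroup.mem_centralizer_singleton_iff]
  have hcomm : ∀ t : H, y * (t : G) = (t : G) * y := fun t =>
    Subgroup.mem_centralizer_iff.mp (hH ▸ t.2) y (Set.mem_singleton y)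
  -- all other contributions of `χ` vanish
  have hzero : ∀ ψ ∈ B, ψ ≠ χ →
      Cfsg.classInner (secPart p H e (χ : G → ℂ) y) (secPart p H e (ψ : G → ℂ) y) = 0 := by
    intro ψ hψ hne
    have h2 := sum_secPart_sq hM B y hy H hH e he (χ : G → ℂ)
    rw [h1] at h2
    have h3 := congrArg Complex.re h2
    rw [Complex.re_sum, Complex.one_re] at h3
    have hnn : ∀ ψ' : Cfsg.IrrCharacter G, 0 ≤ (if ψ' ∈ B then
        Cfsg.classInner (secPart p H e (χ : G → ℂ) y) (secPart p H e (ψ' : G → ℂ) y) *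
        conj (Cfsg.classInner (secPart p H e (χ : G → ℂ) y) (secPart p H e (ψ' : G → ℂ) y))
        else 0).re := by
      intro ψ'
      split_ifs
      · rw [Complex.mul_conj, Complex.ofReal_re]
        exact Complex.normSq_nonneg _
      · rw [Complex.zero_re]
    -- the terms of `χ` and `ψ` together are at most the sum
    have h4 : (if χ ∈ B then
        Cfsg.classInner (secPart p H e (χ : G → ℂ) y) (secPart p H e (χ : G → ℂ) y) *
        conj (Cfsg.classInner (secPart p H e (χ : G → ℂ) y) (secPart p H e (χ : G → ℂ) y))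
        else 0).re + (if ψ ∈ B then
        Cfsg.classInner (secPart p H e (χ : G → ℂ) y) (secPart p H e (ψ : G → ℂ) y) *
        conj (Cfsg.classInner (secPart p H e (χ : G → ℂ) y) (secPart p H e (ψ : G → ℂ) y))
        else 0).re ≤ 1 := by
      rw [← h3]
      have h5 : ({χ, ψ} : Finset (Cfsg.IrrCharacter G)) ⊆ Finset.univ := Finset.subset_univ _
      have h6 := Finset.sum_le_sum_of_subset_of_nonneg h5 (f := fun ψ' : Cfsg.IrrCharacter G =>
        (if ψ' ∈ B then
        Cfsg.classInner (secPart p H e (χ : G → ℂ) y) (secPart p H e (ψ' : G → ℂ) y) *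
        conj (Cfsg.classInner (secPart p H e (χ : G → ℂ) y) (secPart p H e (ψ' : G → ℂ) y))
        else 0).re) (fun ψ' _ _ => hnn ψ')
      rw [Finset.sum_pair (Ne.symm hne)] at h6
      exact h6
    rw [if_pos hχ, if_pos hψ, h1, map_one, mul_one, Complex.one_re, Complex.mul_conj,
      Complex.ofReal_re] at h4
    have h7 : Complex.normSq (Cfsg.classInner (secPart p H e (χ : G → ℂ) y)
        (secPart p H e (ψ : G → ℂ) y)) = 0 := by
      have := Complex.normSq_nonneg (Cfsg.classInner (secPart p H e (χ : G → ℂ) y)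
        (secPart p H e (ψ : G → ℂ) y))
      linarith
    exact Complex.normSq_eq_zero.mp h7
  obtain ⟨ψ₀, hψ₀, h0ψ₀⟩ : ∃ ψ₀ ∈ B, Cfsg.blockHeight p B (ψ₀ : G → ℂ) = 0 := by
    obtain ⟨χ', hχ'⟩ := hB
    exact exists_height_zero p B ⟨χ', hχ' ▸ mem_blockOf_self hM.2.1 χ'⟩
  by_cases h0 : ψ₀ = χ
  · subst h0
    intro ψ hψ
    by_contra hne
    have h2 := contribution_ne_zero_of_major hM B hB ψ ψ₀ hψ hψ₀ h0ψ₀ y hy H hyH hcomm e he hmaj
    apply h2
    rw [classInner_conj_symm, hzero ψ hψ hne, map_zero]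
  · exfalso
    exact contribution_ne_zero_of_major hM B hB χ ψ₀ hχ hψ₀ h0ψ₀ y hy H hyH hcomm e he hmaj
      (hzero ψ₀ hψ₀ h0)

end Cfsg.Agent.Helper6.Q3
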