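import Mathlib
import Cfsg.Prelude.Def_Characters
import Cfsg.Prelude.Def_Blocks
import Cfsg.Prelude.Def_BlockRank
import Cfsg.Agent.Helper6.Q3l

/-!
# Olsson's theorem: `k(B) - l(b) ≤ 3` at a major `2`-subsection forces `k(B) ≤ 2 ^ d`
-/

set_option autoImplicit false
set_option linter.style.haveILetI false

namespace Cfsg.Agent.Helper6.Q3

open Cfsg.Agent.Helper6 Cfsg.Agent.Helper6.Maj Cfsg.Agent.Helper6.NilAb
open Cfsg.Agent.Helper6.Q2
open Module
open scoped ComplexConjugate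

universe u

variable {G : Type u} [Group G] {M : Ideal Cfsg.AlgInt}

/-- real-number core of the first case: from the column sums and the Galois sums -/
theorem card_le_of_column_sums {ι : Type*} [Fintype ι] (φ Nn c : ℝ) (hφ : 0 < φ)
    (hφc : φ = (Fintype.card ι : ℝ)) (x S : ι → ℝ)
    (hx : ∑ k, x k = φ) (hS : ∀ k, S k = Nn * x k - x k ^ 2)
    (hc : c * φ ≤ ∑ k, S k) : c ≤ Nn - 1 := by
  have h1 : (∑ k, x k) ^ 2 ≤ (Fintype.card ι : ℝ) * ∑ k, x k ^ 2 := by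
    have := sq_sum_le_card_mul_sum_sq (s := (Finset.univ : Finset ι)) (f := x)
    simpa using this
  rw [hx, ← hφc] at h1
  have h2 : φ ≤ ∑ k, x k ^ 2 := by
    have h3 : φ * φ ≤ φ * ∑ k, x k ^ 2 := by
      rw [← sq]
      exact h1
    exact le_of_mul_le_mul_left h3 hφ
  have h4 : ∑ k, S k = Nn * φ - ∑ k, x k ^ 2 := by
    rw [Finset.sum_congr rfl (fun k _ => hS k), Finset.sum_sub_distrib, ← Finset.mul_sum, hx]
  have h5 : c * φ ≤ (Nn - 1) * φ := by
    rw [h4] at hc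
    linarith
  exact le_of_mul_le_mul_right h5 hφ

open Classical in
/-- **Olsson's theorem** (`k(B) - l(b) ≤ 3` implies `k(B) ≤ 2 ^ d`), in `Fintype` form -/
theorem card_le_of_card_le_rank_add_three [Fintype G] (hM : Cfsg.IsPModular 2 M)
    (B : Set (Cfsg.IrrCharacter G)) (hB : Cfsg.IsPBlock M B)
    (y : G) (a : ℕ) (hya : orderOf y = 2 ^ a) (H : Subgroup G)
    (hH : H = Subgroup.centralizer ({y} : Set G)) [Fintype H]
    [Fintype (Cfsg.IrrCharacter G)] [Fintype (Cfsg.IrrCharacter H)]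
    (e : Set (Cfsg.IrrCharacter H)) (he : Cfsg.IsInducedBlock M H e B)
    (hmaj : Cfsg.blockDefect 2 e = Cfsg.blockDefect 2 B)
    (hl : (Finset.univ.filter (fun χ : Cfsg.IrrCharacter G => χ ∈ B)).card ≤
      Cfsg.blockRank 2 e + 3) :
    (Finset.univ.filter (fun χ : Cfsg.IrrCharacter G => χ ∈ B)).card ≤
      2 ^ Cfsg.blockDefect 2 B := by
  have hy : ∃ k : ℕ, orderOf y = 2 ^ k := ⟨a, hya⟩
  set n := orderOf y with hn
  haveI : NeZero n := ⟨(orderOf_pos y).ne'⟩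
  have hyH : y ∈ H := by
    rw [hH, Subgroup.mem_centralizer_singleton_iff]
  have hcomm : ∀ t : H, y * (t : G) = (t : G) * y := fun t =>
    Subgroup.mem_centralizer_iff.mp (hH ▸ t.2) y (Set.mem_singleton y)
  have hz : (⟨y, hyH⟩ : H) ∈ Subgroup.center H := by
    rw [Subgroup.mem_center_iff]
    intro t
    apply Subtype.ext
    simp only [Subgroup.coe_mul]
    exact (hcomm t).symm
  have hzo : orderOf (⟨y, hyH⟩ : H) = n := Subgroup.orderOf_mk y hyH
  choose ε hεn hε1 hε using fun θ : Cfsg.IrrCharacter H => exists_center_twist θ ⟨y, hyH⟩ hz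
  have hεn' : ∀ θ, ε θ ^ n = 1 := fun θ => hzo ▸ hεn θ
  obtain ⟨T, hT, hTodd, hTdvd⟩ := exists_avg_invariant hM B hB y a hya H hH e he hmaj hyH n
    hn.symm ε hεn' hε1 hε
  set FB := Finset.univ.filter (fun χ : Cfsg.IrrCharacter G => χ ∈ B) with hFB
  obtain ⟨ψ₀, hψ₀, h0ψ₀⟩ : ∃ ψ₀ ∈ B, Cfsg.blockHeight 2 B (ψ₀ : G → ℂ) = 0 := by
    obtain ⟨χ', hχ'⟩ := hB
    exact exists_height_zero 2 B ⟨χ', hχ' ▸ mem_blockOf_self hM.2.1 χ'⟩
  have hδne : ∀ χ ∈ B, secPart 2 H e (χ : G → ℂ) y ≠ 0 := by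
    intro χ hχ h0
    apply contribution_ne_zero_of_major hM B hB χ ψ₀ hχ hψ₀ h0ψ₀ y hy H hyH hcomm e he hmaj
    rw [h0]
    exact classInner_zero_left _
  have hTpos : ∀ χ ∈ B, 0 < T χ := fun χ hχ =>
    (avg_invariant_bounds hM B y hy H hH e he n hn.symm _ T hT χ hχ (hδne χ hχ)).1
  have hTle : ∀ χ ∈ B, T χ ≤ 2 ^ Cfsg.blockDefect 2 B := fun χ hχ =>
    (avg_invariant_bounds hM B y hy H hH e he n hn.symm _ T hT χ hχ (hδne χ hχ)).2
  have hsum := sum_avg_invariant hM B y hy H hH e he n hn.symm _ T hT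
  -- the diagonal contributions
  have hdiag : ∀ χ : Cfsg.IrrCharacter G, χ ∈ B → ∀ k : (ZMod n)ˣ, ∃ r : ℝ, 0 ≤ r ∧ r ≤ 1 ∧
      Cfsg.classInner (secPart 2 H e (χ : G → ℂ) (y ^ (k : ZMod n).val))
        (secPart 2 H e (χ : G → ℂ) (y ^ (k : ZMod n).val)) = (r : ℂ) := by
    intro χ hχ k
    obtain ⟨hyk, hHk⟩ := unit_power_data y hy H hH n hn.symm k
    exact diag_contribution_le_one hM B _ hyk H hHk e he χ hχ
  have hφpos : (0 : ℝ) < (Fintype.card (ZMod n)ˣ : ℝ) := by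
    exact_mod_cast Fintype.card_pos
  -- the real form of the averaging identity
  have hTr : ∀ χ : Cfsg.IrrCharacter G, ∀ r : (ZMod n)ˣ → ℝ,
      (∀ k : (ZMod n)ˣ, Cfsg.classInner (secPart 2 H e (χ : G → ℂ) (y ^ (k : ZMod n).val))
        (secPart 2 H e (χ : G → ℂ) (y ^ (k : ZMod n).val)) = (r k : ℂ)) →
      ∑ k : (ZMod n)ˣ, (2 : ℝ) ^ Cfsg.blockDefect 2 B * r k =
        (Fintype.card (ZMod n)ˣ : ℝ) * (T χ : ℝ) := by
    intro χ r hr
    have h1 : ∑ k : (ZMod n)ˣ, ((2 : ℕ) : ℂ) ^ Cfsg.blockDefect 2 B * (r k : ℂ) =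
        (Fintype.card (ZMod n)ˣ : ℂ) * (T χ : ℂ) := by
      rw [← hT χ]
      apply Finset.sum_congr rfl
      intro k _
      rw [hr k]
    exact_mod_cast h1
  by_cases hc : FB.card ≤ 1
  · exact hc.trans Nat.one_le_two_pow
  push Not at hc
  -- no invariant attains the maximal value
  have hTlt : ∀ χ ∈ B, T χ < 2 ^ Cfsg.blockDefect 2 B := by
    intro χ hχ
    refine lt_of_le_of_ne (hTle χ hχ) ?_
    intro heq
    choose r hr0 hr1 hr using hdiag χ hχ
    have h1 := hTr χ r hr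
    rw [heq] at h1
    push_cast at h1
    rw [← Finset.mul_sum, mul_comm] at h1
    have h2 : ∑ k : (ZMod n)ˣ, r k = (Fintype.card (ZMod n)ˣ : ℝ) := by
      have h3 : (0 : ℝ) < (2 : ℝ) ^ Cfsg.blockDefect 2 B := by positivity
      exact mul_right_cancel₀ h3.ne' h1
    have h4 : ∑ k : (ZMod n)ˣ, (1 - r k) = 0 := by
      rw [Finset.sum_sub_distrib, h2, Finset.sum_const, Finset.card_univ, nsmul_eq_mul, mul_one,
        sub_self]
    have h5 := (Finset.sum_eq_zero_iff_of_nonneg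
      (fun k _ => sub_nonneg.mpr (hr1 k))).mp h4 1 (Finset.mem_univ _)
    have h6 : r 1 = 1 := by linarith
    have h7 : y ^ (((1 : (ZMod n)ˣ) : ZMod n)).val = y := by
      rw [Units.val_one, ZMod.val_one_eq_one_mod, hn, pow_mod_orderOf, pow_one]
    have h8 := hr 1
    rw [h7, h6, Complex.ofReal_one] at h8
    have h9 := card_le_one_of_diag_eq_one hM B hB y hy H hH e he hmaj χ hχ h8
    have h10 : FB.card ≤ 1 := by
      rw [Finset.card_le_one]
      intro ψ₁ hψ₁ ψ₂ hψ₂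
      rw [h9 ψ₁ (Finset.mem_filter.mp hψ₁).2, h9 ψ₂ (Finset.mem_filter.mp hψ₂).2]
    omega
  by_cases hA : ∃ χ₁ ∈ B, Cfsg.blockHeight 2 B (χ₁ : G → ℂ) = 0 ∧
      T χ₁ = 2 ^ Cfsg.blockDefect 2 B - 1
  · -- some character of height zero has the value `2 ^ d - 1`
    obtain ⟨χ₁, hχ₁, h0χ₁, hT1⟩ := hA
    choose r hr0 hr1 hr using hdiag χ₁ hχ₁
    have h1 := hTr χ₁ r hr
    rw [hT1] at h1
    push_cast at h1
    have hχ₁FB : χ₁ ∈ FB := Finset.mem_filter.mpr ⟨Finset.mem_univ _, hχ₁⟩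
    -- the column sums
    have hcol : ∀ k : (ZMod n)ˣ,
        ∑ ψ ∈ FB.erase χ₁, ‖((2 : ℕ) : ℂ) ^ Cfsg.blockDefect 2 B *
          Cfsg.classInner (secPart 2 H e (ψ : G → ℂ) (y ^ (k : ZMod n).val))
            (secPart 2 H e (χ₁ : G → ℂ) (y ^ (k : ZMod n).val))‖ ^ 2 =
        (2 : ℝ) ^ Cfsg.blockDefect 2 B *
          ((2 : ℝ) ^ Cfsg.blockDefect 2 B - (2 : ℝ) ^ Cfsg.blockDefect 2 B * r k) -
          ((2 : ℝ) ^ Cfsg.blockDefect 2 B - (2 : ℝ) ^ Cfsg.blockDefect 2 B * r k) ^ 2 := by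
      intro k
      have h2 := sum_normSq_scaled_contribution hM B y hy H hH e he n hn.symm
        (Cfsg.blockDefect 2 B) χ₁ k (r k) (hr k)
      rw [← Finset.add_sum_erase FB _ hχ₁FB, hr k, norm_mul, norm_pow, Complex.norm_natCast,
        Complex.norm_real, Real.norm_of_nonneg (hr0 k)] at h2
      have h3 : ((2 : ℕ) : ℝ) = 2 := by norm_num
      rw [h3] at h2
      linarith
    -- the Galois sums
    have hgal : ((FB.erase χ₁).card : ℝ) * (Fintype.card (ZMod n)ˣ : ℝ) ≤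
        ∑ k : (ZMod n)ˣ, ∑ ψ ∈ FB.erase χ₁, ‖((2 : ℕ) : ℂ) ^ Cfsg.blockDefect 2 B *
          Cfsg.classInner (secPart 2 H e (ψ : G → ℂ) (y ^ (k : ZMod n).val))
            (secPart 2 H e (χ₁ : G → ℂ) (y ^ (k : ZMod n).val))‖ ^ 2 := by
      rw [Finset.sum_comm, ← nsmul_eq_mul, ← Finset.sum_const]
      apply Finset.sum_le_sum
      intro ψ hψ
      have hψB : ψ ∈ B := (Finset.mem_filter.mp (Finset.mem_of_mem_erase hψ)).2
      have h2 := galois_sum_contribution_ge hM B hB y hy H hH e he hmaj hyH n hn.symm ε hεn' hε1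
        hε χ₁ hχ₁ h0χ₁ ψ hψB
      refine le_trans ?_ h2
      have h3 : (1 : ℝ) ≤ (4 : ℝ) ^ Cfsg.blockHeight 2 B (ψ : G → ℂ) :=
        one_le_pow₀ (by norm_num)
      nlinarith
    have hx : ∑ k : (ZMod n)ˣ,
        ((2 : ℝ) ^ Cfsg.blockDefect 2 B - (2 : ℝ) ^ Cfsg.blockDefect 2 B * r k) =
        (Fintype.card (ZMod n)ˣ : ℝ) := by
      rw [Finset.sum_sub_distrib, h1, Finset.sum_const, Finset.card_univ, nsmul_eq_mul]
      ring
    have h4 := card_le_of_column_sums (Fintype.card (ZMod n)ˣ : ℝ)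
      ((2 : ℝ) ^ Cfsg.blockDefect 2 B) ((FB.erase χ₁).card : ℝ) hφpos rfl
      (fun k => (2 : ℝ) ^ Cfsg.blockDefect 2 B - (2 : ℝ) ^ Cfsg.blockDefect 2 B * r k)
      (fun k => ∑ ψ ∈ FB.erase χ₁, ‖((2 : ℕ) : ℂ) ^ Cfsg.blockDefect 2 B *
          Cfsg.classInner (secPart 2 H e (ψ : G → ℂ) (y ^ (k : ZMod n).val))
            (secPart 2 H e (χ₁ : G → ℂ) (y ^ (k : ZMod n).val))‖ ^ 2) hx hcol hgal
    rw [Finset.card_erase_of_mem hχ₁FB] at h4
    have h5 : 1 ≤ FB.card := by omega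
    rw [Nat.cast_sub h5] at h4
    have h6 : (FB.card : ℝ) ≤ ((2 ^ Cfsg.blockDefect 2 B : ℕ) : ℝ) := by
      push_cast
      push_cast at h4
      linarith
    exact_mod_cast h6
  · -- every character has `2 ^ d - T χ ≥ 3`
    push Not at hA
    have hDpos : 1 ≤ Cfsg.blockDefect 2 B := by
      by_contra hD0
      have hD0' : Cfsg.blockDefect 2 B = 0 := by omega
      have h1 := hTlt ψ₀ hψ₀
      have h2 := hTpos ψ₀ hψ₀
      rw [hD0', pow_zero] at h1
      omega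
    have heven : (2 : ℤ) ∣ 2 ^ Cfsg.blockDefect 2 B := dvd_pow_self 2 (by omega)
    have h2 : ∀ χ ∈ FB, (3 : ℤ) ≤ 2 ^ Cfsg.blockDefect 2 B - T χ := by
      intro χ hχ
      have hχB : χ ∈ B := (Finset.mem_filter.mp hχ).2
      have hpos := hTpos χ hχB
      have hlt := hTlt χ hχB
      by_cases h0 : Cfsg.blockHeight 2 B (χ : G → ℂ) = 0
      · have hodd := hTodd χ hχB h0
        have hne1 := hA χ hχB h0
        by_contra hcon
        push Not at hcon
        have h3 : 2 ^ Cfsg.blockDefect 2 B - T χ = 2 := by omega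
        apply hodd
        have h4 : T χ = 2 ^ Cfsg.blockDefect 2 B - 2 := by omega
        rw [h4]
        exact dvd_sub heven (dvd_refl 2)
      · have h1h : 1 ≤ Cfsg.blockHeight 2 B (χ : G → ℂ) := Nat.one_le_iff_ne_zero.mpr h0
        have hdvd := hTdvd χ hχB h1h
        have h3 := Int.le_of_dvd hpos hdvd
        have h4 : (2 : ℤ) ^ (Cfsg.blockHeight 2 B (χ : G → ℂ) + 1) <
            2 ^ Cfsg.blockDefect 2 B := lt_of_le_of_lt h3 hlt
        have h5 : Cfsg.blockHeight 2 B (χ : G → ℂ) + 1 < Cfsg.blockDefect 2 B :=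
          (pow_lt_pow_iff_right₀ (by norm_num : (1 : ℤ) < 2)).mp h4
        have h6 : (2 : ℤ) ^ (Cfsg.blockHeight 2 B (χ : G → ℂ) + 1) ∣
            2 ^ Cfsg.blockDefect 2 B := pow_dvd_pow 2 h5.le
        have h7 := Int.le_of_dvd (by linarith) (dvd_sub h6 hdvd)
        have h8 : (2 : ℤ) ^ 1 ≤ 2 ^ Cfsg.blockHeight 2 B (χ : G → ℂ) :=
          pow_le_pow_right₀ (by norm_num) h1h
        rw [pow_succ] at h7
        linarith
    have h5 : (3 : ℤ) * (FB.card : ℤ) ≤ 3 * 2 ^ Cfsg.blockDefect 2 B := by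
      calc (3 : ℤ) * (FB.card : ℤ) = ∑ χ ∈ FB, (3 : ℤ) := by
            rw [Finset.sum_const, nsmul_eq_mul, mul_comm]
        _ ≤ ∑ χ ∈ FB, (2 ^ Cfsg.blockDefect 2 B - T χ) := Finset.sum_le_sum h2
        _ = (FB.card : ℤ) * 2 ^ Cfsg.blockDefect 2 B -
              2 ^ Cfsg.blockDefect 2 B * (Cfsg.blockRank 2 e : ℤ) := by
            rw [Finset.sum_sub_distrib, hsum, Finset.sum_const, nsmul_eq_mul]
        _ = 2 ^ Cfsg.blockDefect 2 B * ((FB.card : ℤ) - (Cfsg.blockRank 2 e : ℤ)) := by ring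
        _ ≤ 2 ^ Cfsg.blockDefect 2 B * 3 := by
            apply mul_le_mul_of_nonneg_left _ (by positivity)
            have : (FB.card : ℤ) ≤ (Cfsg.blockRank 2 e : ℤ) + 3 := by exact_mod_cast hl
            linarith
        _ = 3 * 2 ^ Cfsg.blockDefect 2 B := by ring
    have h6 : (FB.card : ℤ) ≤ ((2 ^ Cfsg.blockDefect 2 B : ℕ) : ℤ) := by
      push_cast
      linarith
    exact_mod_cast h6

open Classical in
/-- **Olsson's theorem** for a major `2`-subsection `(y, b)` with `k(B) ≤ l(b) + 3` -/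
theorem olsson_card_bound [Finite G] (hM : Cfsg.IsPModular 2 M)
    (B : Set (Cfsg.IrrCharacter G)) (hB : Cfsg.IsPBlock M B)
    (y : G) (hy : ∃ k : ℕ, orderOf y = 2 ^ k)
    (H : Subgroup G) (hHdef : H = Subgroup.centralizer ({y} : Set G))
    (b : Set (Cfsg.IrrCharacter H))
    (hind : Cfsg.IsInducedBlock M H b B)
    (hmaj : Cfsg.blockDefect 2 b = Cfsg.blockDefect 2 B)
    (hl : Nat.card B ≤ Cfsg.blockRank 2 b + 3) :
    Nat.card B ≤ 2 ^ Cfsg.blockDefect 2 B := by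
  haveI : Fintype G := Fintype.ofFinite G
  haveI : Fintype H := Fintype.ofFinite H
  haveI : Finite (Cfsg.IrrCharacter G) := irr_finite
  haveI : Finite (Cfsg.IrrCharacter H) := irr_finite
  haveI : Fintype (Cfsg.IrrCharacter G) := Fintype.ofFinite _
  haveI : Fintype (Cfsg.IrrCharacter H) := Fintype.ofFinite _
  obtain ⟨a, hya⟩ := hy
  have hcard : Nat.card B =
      (Finset.univ.filter (fun χ : Cfsg.IrrCharacter G => χ ∈ B)).card := by
    rw [Nat.card_eq_fintype_card, Fintype.card_subtype]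
  rw [hcard] at hl ⊢
  exact card_le_of_card_le_rank_add_three hM B hB y a hya H hHdef b hind hmaj hl

end Cfsg.Agent.Helper6.Q3
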