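import Mathlib

/-!
# The quaternion group inside `GL_2(F_3)` (helper6)

Over a field `F` with three elements, `Qm hq` is the set of the eight `2 × 2` matrices `±1, ±I, ±J, ±IJ`
(`I = !![0,-1;1,0]`, `J = !![1,1;1,-1]`), defined as the preimage of the explicit set `Q3` over `ZMod 3` under the
ring isomorphism `M_2(F) ≃ M_2(ZMod 3)`.  All the facts are decided over `ZMod 3`: closed under products, squares
`±1`, commutators `±1`, every element other than `±1` anticommutes with an element of square `-1`, determinant one,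
invariance under conjugation (`a ∈ Q3 ↔ det a = 1 ∧ (a = ±1 ∨ tr a = 0)`), and the eight matrices span `M_2`.
-/

set_option autoImplicit false

namespace Cfsg.Agent.Helper6.Q8F3

open Matrix

/-- `I` over `ZMod 3` -/
def I3 : Matrix (Fin 2) (Fin 2) (ZMod 3) := !![0, -1; 1, 0]
/-- `J` over `ZMod 3` -/
def J3 : Matrix (Fin 2) (Fin 2) (ZMod 3) := !![1, 1; 1, -1]
/-- the quaternion group over `ZMod 3` -/
def Q3 : Finset (Matrix (Fin 2) (Fin 2) (ZMod 3)) := {1, -1, I3, -I3, J3, -J3, I3 * J3, -(I3 * J3)}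

theorem q3_one : (1 : Matrix (Fin 2) (Fin 2) (ZMod 3)) ∈ Q3 := by decide
theorem q3_neg_one : (-1 : Matrix (Fin 2) (Fin 2) (ZMod 3)) ∈ Q3 := by decide
set_option maxRecDepth 100000 in
theorem q3_mul : ∀ a ∈ Q3, ∀ b ∈ Q3, a * b ∈ Q3 := by decide
set_option maxRecDepth 100000 in
theorem q3_sq : ∀ a ∈ Q3, a * a = 1 ∨ a * a = -1 := by decide
set_option maxRecDepth 100000 in
theorem q3_comm : ∀ a ∈ Q3, ∀ b ∈ Q3, a * b = b * a ∨ a * b = -(b * a) := by decide
set_option maxRecDepth 100000 in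
theorem q3_anti : ∀ a ∈ Q3, a ≠ 1 → a ≠ -1 → ∃ c ∈ Q3, c * c = -1 ∧ a * c = -(c * a) := by decide
set_option maxRecDepth 100000 in
theorem q3_inv : ∀ a ∈ Q3, ∃ b ∈ Q3, a * b = 1 := by decide

set_option maxRecDepth 100000 in
theorem q3_iff : ∀ p q r s : ZMod 3, (!![p, q; r, s] ∈ Q3 ↔ (p * s - q * r = 1 ∧
    (!![p, q; r, s] = (1 : Matrix (Fin 2) (Fin 2) (ZMod 3)) ∨
      !![p, q; r, s] = (-1 : Matrix (Fin 2) (Fin 2) (ZMod 3)) ∨ p + s = 0))) := by decide

theorem mem_Q3_iff (a : Matrix (Fin 2) (Fin 2) (ZMod 3)) :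
    a ∈ Q3 ↔ a.det = 1 ∧ (a = 1 ∨ a = -1 ∨ a.trace = 0) := by
  have h := q3_iff (a 0 0) (a 0 1) (a 1 0) (a 1 1)
  rw [← Matrix.eta_fin_two a] at h
  rw [Matrix.det_fin_two, Matrix.trace_fin_two]
  exact h

set_option maxRecDepth 100000 in
/-- the four matrices `1, I, J, IJ` span -/
theorem q3_span : ∀ p q r s : ZMod 3, (!![p, q; r, s] : Matrix (Fin 2) (Fin 2) (ZMod 3)) =
    (-(p + s)) • (1 : Matrix (Fin 2) (Fin 2) (ZMod 3)) + (-(r - q)) • I3 + (p - s + q + r) • J3 +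
      (q + r - p + s) • (I3 * J3) := by decide

variable {F : Type*} [Field F] [Fintype F]

theorem charP_three (hq : Fintype.card F = 3) : CharP F 3 :=
  haveI : Fact (Nat.Prime 3) := ⟨Nat.prime_three⟩
  charP_of_card_eq_prime hq

/-- the field isomorphism -/
noncomputable def psi (hq : Fintype.card F = 3) : ZMod 3 ≃+* F :=
  haveI := charP_three hq
  ZMod.ringEquiv F hq

/-- the isomorphism of matrix rings -/
noncomputable def Psi (hq : Fintype.card F = 3) :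
    Matrix (Fin 2) (Fin 2) (ZMod 3) ≃+* Matrix (Fin 2) (Fin 2) F :=
  (psi hq).mapMatrix

/-- the quaternion group, as a set of matrices over `F` -/
def Qm (hq : Fintype.card F = 3) : Set (Matrix (Fin 2) (Fin 2) F) := {a | (Psi hq).symm a ∈ Q3}

theorem mem_Qm (hq : Fintype.card F = 3) (a : Matrix (Fin 2) (Fin 2) F) :
    a ∈ Qm hq ↔ (Psi hq).symm a ∈ Q3 := Iff.rfl

theorem one_mem (hq : Fintype.card F = 3) : (1 : Matrix (Fin 2) (Fin 2) F) ∈ Qm hq := by
  rw [mem_Qm, map_one]; exact q3_one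

theorem neg_one_mem (hq : Fintype.card F = 3) : (-1 : Matrix (Fin 2) (Fin 2) F) ∈ Qm hq := by
  rw [mem_Qm, map_neg, map_one]; exact q3_neg_one

theorem mul_mem (hq : Fintype.card F = 3) {a b : Matrix (Fin 2) (Fin 2) F} (ha : a ∈ Qm hq) (hb : b ∈ Qm hq) :
    a * b ∈ Qm hq := by
  rw [mem_Qm, map_mul]; exact q3_mul _ ha _ hb

theorem neg_mem (hq : Fintype.card F = 3) {a : Matrix (Fin 2) (Fin 2) F} (ha : a ∈ Qm hq) : -a ∈ Qm hq := by
  have := mul_mem hq (neg_one_mem hq) ha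
  rwa [neg_one_mul] at this

theorem apply_symm_eq (hq : Fintype.card F = 3) {a : Matrix (Fin 2) (Fin 2) F}
    {b : Matrix (Fin 2) (Fin 2) (ZMod 3)} (h : (Psi hq).symm a = b) : a = Psi hq b := by
  rw [← h, RingEquiv.apply_symm_apply]

theorem sq (hq : Fintype.card F = 3) {a : Matrix (Fin 2) (Fin 2) F} (ha : a ∈ Qm hq) :
    a * a = 1 ∨ a * a = -1 := by
  rcases q3_sq _ ha with h | h
  · left
    rw [← map_mul] at h
    rw [apply_symm_eq hq h, map_one]
  · right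
    rw [← map_mul] at h
    rw [apply_symm_eq hq h, map_neg, map_one]

theorem comm (hq : Fintype.card F = 3) {a b : Matrix (Fin 2) (Fin 2) F} (ha : a ∈ Qm hq) (hb : b ∈ Qm hq) :
    a * b = b * a ∨ a * b = -(b * a) := by
  rcases q3_comm _ ha _ hb with h | h
  · left
    rw [← map_mul, ← map_mul] at h
    exact (Psi hq).symm.injective h
  · right
    rw [← map_mul, ← map_mul, ← map_neg] at h
    exact (Psi hq).symm.injective h

theorem anti (hq : Fintype.card F = 3) {a : Matrix (Fin 2) (Fin 2) F} (ha : a ∈ Qm hq) (h1 : a ≠ 1)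
    (h2 : a ≠ -1) : ∃ c ∈ Qm hq, c * c = -1 ∧ a * c = -(c * a) := by
  have h1' : (Psi hq).symm a ≠ 1 := by
    intro h
    apply h1
    rw [apply_symm_eq hq h, map_one]
  have h2' : (Psi hq).symm a ≠ -1 := by
    intro h
    apply h2
    rw [apply_symm_eq hq h, map_neg, map_one]
  obtain ⟨c, hc, hcc, hac⟩ := q3_anti _ ha h1' h2'
  refine ⟨Psi hq c, ?_, ?_, ?_⟩
  · rw [mem_Qm, RingEquiv.symm_apply_apply]; exact hc
  · rw [← map_mul, hcc, map_neg, map_one]
  · have : a = Psi hq ((Psi hq).symm a) := (RingEquiv.apply_symm_apply _ _).symm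
    rw [this, ← map_mul, ← map_mul, hac, map_neg]

theorem exists_inv (hq : Fintype.card F = 3) {a : Matrix (Fin 2) (Fin 2) F} (ha : a ∈ Qm hq) :
    ∃ b ∈ Qm hq, a * b = 1 := by
  obtain ⟨b, hb, hab⟩ := q3_inv _ ha
  refine ⟨Psi hq b, ?_, ?_⟩
  · rw [mem_Qm, RingEquiv.symm_apply_apply]; exact hb
  · have : a = Psi hq ((Psi hq).symm a) := (RingEquiv.apply_symm_apply _ _).symm
    rw [this, ← map_mul, hab, map_one]

theorem det_Psi (hq : Fintype.card F = 3) (b : Matrix (Fin 2) (Fin 2) (ZMod 3)) :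
    (Psi hq b).det = psi hq b.det := by
  have := RingHom.map_det (psi hq).toRingHom b
  exact this.symm

theorem det_eq_one (hq : Fintype.card F = 3) {a : Matrix (Fin 2) (Fin 2) F} (ha : a ∈ Qm hq) : a.det = 1 := by
  have h := ((mem_Q3_iff _).1 ha).1
  have : a = Psi hq ((Psi hq).symm a) := (RingEquiv.apply_symm_apply _ _).symm
  rw [this, det_Psi, h, map_one]

/-- invariance under conjugation -/
theorem conj_mem (hq : Fintype.card F = 3) {a g h : Matrix (Fin 2) (Fin 2) F} (ha : a ∈ Qm hq)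
    (hgh : g * h = 1) : g * a * h ∈ Qm hq := by
  have hhg : h * g = 1 := mul_eq_one_comm.1 hgh
  obtain ⟨a₃, ha₃⟩ : ∃ x, x = (Psi hq).symm a := ⟨_, rfl⟩
  obtain ⟨g₃, hg₃⟩ : ∃ x, x = (Psi hq).symm g := ⟨_, rfl⟩
  obtain ⟨h₃, hh₃⟩ : ∃ x, x = (Psi hq).symm h := ⟨_, rfl⟩
  have ha' : a₃ ∈ Q3 := by rw [ha₃]; exact ha
  have hgh₃ : g₃ * h₃ = 1 := by rw [hg₃, hh₃, ← map_mul, hgh, map_one]
  have hhg₃ : h₃ * g₃ = 1 := by rw [hg₃, hh₃, ← map_mul, hhg, map_one]
  obtain ⟨hdet, hcase⟩ := (mem_Q3_iff a₃).1 ha'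
  rw [mem_Qm, map_mul, map_mul, ← ha₃, ← hg₃, ← hh₃, mem_Q3_iff]
  refine ⟨?_, ?_⟩
  · rw [Matrix.det_mul, Matrix.det_mul, hdet, mul_one, ← Matrix.det_mul, hgh₃, Matrix.det_one]
  · rcases hcase with h1 | h1 | h1
    · left
      rw [h1, mul_one, hgh₃]
    · right; left
      rw [h1, mul_neg, mul_one, neg_mul, hgh₃]
    · right; right
      rw [Matrix.trace_mul_comm, ← mul_assoc, hhg₃, one_mul, h1]

/-- every matrix is a combination of four elements of the quaternion group -/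
theorem exists_decomp (hq : Fintype.card F = 3) (M : Matrix (Fin 2) (Fin 2) F) :
    ∃ (c : Fin 4 → F) (a : Fin 4 → Matrix (Fin 2) (Fin 2) F), (∀ i, a i ∈ Qm hq) ∧ M = ∑ i, c i • a i := by
  set M₃ := (Psi hq).symm M with hM₃
  have h := q3_span (M₃ 0 0) (M₃ 0 1) (M₃ 1 0) (M₃ 1 1)
  rw [← Matrix.eta_fin_two M₃] at h
  have hmem : ∀ b ∈ Q3, Psi hq b ∈ Qm hq := by
    intro b hb
    rw [mem_Qm, RingEquiv.symm_apply_apply]; exact hb
  have hsm : ∀ (x : ZMod 3) (b : Matrix (Fin 2) (Fin 2) (ZMod 3)), Psi hq (x • b) = psi hq x • Psi hq b := by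
    intro x b
    ext i j
    show psi hq ((x • b) i j) = psi hq x * psi hq (b i j)
    rw [Matrix.smul_apply, smul_eq_mul, map_mul]
  refine ⟨![psi hq (-(M₃ 0 0 + M₃ 1 1)), psi hq (-(M₃ 1 0 - M₃ 0 1)),
      psi hq (M₃ 0 0 - M₃ 1 1 + M₃ 0 1 + M₃ 1 0), psi hq (M₃ 0 1 + M₃ 1 0 - M₃ 0 0 + M₃ 1 1)],
    ![Psi hq 1, Psi hq I3, Psi hq J3, Psi hq (I3 * J3)], ?_, ?_⟩
  · intro i
    fin_cases i
    · exact hmem _ (by decide)
    · exact hmem _ (by decide)
    · exact hmem _ (by decide)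
    · exact hmem _ (by decide)
  · have hM : M = Psi hq M₃ := (RingEquiv.apply_symm_apply _ _).symm
    rw [hM]
    conv_lhs => rw [h]
    rw [map_add, map_add, map_add, hsm, hsm, hsm, hsm, Fin.sum_univ_four]
    rfl

end Cfsg.Agent.Helper6.Q8F3
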