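import Mathlib

/-!
# Extraspecial-like `2`-groups (helper6): every characteristic abelian subgroup is cyclic

`G` is a finite group with a central involution `z` such that every square is `1` or `z`, every commutator is `1` or
`z`, and every element `x ∉ {1, z}` anticommutes with some `c` with `c² = z`.  Then the centre of `G` is `{1, z}`,
the exponent of `G` is `4`, `G` is a `2`-group and every characteristic abelian subgroup of `G` lies in `{1, z}`
(so it is cyclic): for `c` with `c² = z` the map `x ↦ x` (if `x` commutes with `c`), `x ↦ x c` (otherwise) is an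
automorphism of `G`, and it moves a non-central `a` not commuting with `c` to `a c`, which does not commute with `a`.
-/

set_option autoImplicit false

namespace Cfsg.Agent.Helper6.XS

/-- the hypotheses on `(G, z)` -/
structure IsXS (G : Type*) [Group G] (z : G) : Prop where
  ne_one : z ≠ 1
  sq_one : z * z = 1
  central : ∀ x : G, x * z = z * x
  sq : ∀ x : G, x * x = 1 ∨ x * x = z
  comm : ∀ x y : G, x * y = y * x ∨ x * y = z * (y * x)
  anti : ∀ x : G, x ≠ 1 → x ≠ z → ∃ c : G, c * c = z ∧ x * c = z * (c * x)
  nontrivial : ∃ x : G, x ≠ 1 ∧ x ≠ z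

variable {G : Type*} [Group G] {z : G}

namespace IsXS

theorem pow_four (h : IsXS G z) (x : G) : x ^ 4 = 1 := by
  have h4 : x ^ 4 = (x * x) * (x * x) := by simp [pow_succ, mul_assoc]
  rw [h4]
  rcases h.sq x with h1 | h1
  · rw [h1, one_mul]
  · rw [h1, h.sq_one]

/-- the twisting map attached to `c` -/
noncomputable def twist (c : G) (x : G) : G := by
  classical
  exact if x * c = c * x then x else x * c

theorem twist_comm {c x : G} (hx : x * c = c * x) : twist c x = x := by
  classical
  unfold twist
  rw [if_pos hx]

theorem twist_not_comm {c x : G} (hx : x * c ≠ c * x) : twist c x = x * c := by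
  classical
  unfold twist
  rw [if_neg hx]

theorem anti_of_not_comm (h : IsXS G z) {c x : G} (hx : x * c ≠ c * x) : x * c = z * (c * x) :=
  (h.comm x c).resolve_left hx

theorem twist_mul (h : IsXS G z) {c : G} (hc : c * c = z) (x y : G) :
    twist c (x * y) = twist c x * twist c y := by
  have hzc : ∀ g : G, g * z = z * g := h.central
  by_cases hx : x * c = c * x <;> by_cases hy : y * c = c * y
  · have hxy : x * y * c = c * (x * y) := by
      rw [mul_assoc, hy, ← mul_assoc, hx, mul_assoc]
    rw [twist_comm hx, twist_comm hy, twist_comm hxy]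
  · have hy' := h.anti_of_not_comm hy
    have hxy : x * y * c ≠ c * (x * y) := by
      intro hc'
      apply hy
      have h1 : x * (y * c) = x * (c * y) := by
        rw [← mul_assoc, hc', ← mul_assoc, ← hx, mul_assoc]
      exact mul_left_cancel h1
    rw [twist_comm hx, twist_not_comm hy, twist_not_comm hxy, mul_assoc]
  · have hx' := h.anti_of_not_comm hx
    have hxy : x * y * c ≠ c * (x * y) := by
      intro hc'
      apply hx
      have h1 : x * c * y = c * x * y := by
        rw [mul_assoc x c y, ← hy, ← mul_assoc, hc', mul_assoc]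
      exact mul_right_cancel h1
    rw [twist_not_comm hx, twist_comm hy, twist_not_comm hxy, mul_assoc, mul_assoc, hy]
  · have hx' := h.anti_of_not_comm hx
    have hy' := h.anti_of_not_comm hy
    have hxy : x * y * c = c * (x * y) := by
      calc x * y * c = x * (y * c) := by rw [mul_assoc]
        _ = x * (z * (c * y)) := by rw [hy']
        _ = z * (x * c) * y := by
            rw [← mul_assoc x z, hzc x]; simp only [mul_assoc]
        _ = z * (z * (c * x)) * y := by rw [hx']
        _ = c * (x * y) := by
            rw [← mul_assoc z z, h.sq_one, one_mul, mul_assoc]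
    rw [twist_not_comm hx, twist_not_comm hy, twist_comm hxy]
    have key : c * (y * c) = y := by
      calc c * (y * c) = c * (z * (c * y)) := by rw [hy']
        _ = z * (c * c) * y := by
            rw [← mul_assoc c z, hzc c]; simp only [mul_assoc]
        _ = y := by rw [hc, h.sq_one, one_mul]
    rw [mul_assoc x c, key]

theorem twist_injective (c : G) : Function.Injective (twist c) := by
  intro x y hxy
  by_cases hx : x * c = c * x <;> by_cases hy : y * c = c * y
  · rwa [twist_comm hx, twist_comm hy] at hxy
  · rw [twist_comm hx, twist_not_comm hy] at hxy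
    exfalso
    apply hy
    -- y = x c⁻¹ commutes with c
    have hyx : y = x * c⁻¹ := by rw [hxy, mul_inv_cancel_right]
    rw [hyx, mul_assoc, inv_mul_cancel, mul_one, ← mul_assoc, ← hx, mul_assoc, mul_inv_cancel, mul_one]
  · rw [twist_not_comm hx, twist_comm hy] at hxy
    exfalso
    apply hx
    have hyx : x = y * c⁻¹ := by rw [← hxy, mul_inv_cancel_right]
    rw [hyx, mul_assoc, inv_mul_cancel, mul_one, ← mul_assoc, ← hy, mul_assoc, mul_inv_cancel, mul_one]
  · rw [twist_not_comm hx, twist_not_comm hy] at hxy
    exact mul_right_cancel hxy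

/-- the twisting automorphism -/
noncomputable def twistEquiv [Finite G] (h : IsXS G z) {c : G} (hc : c * c = z) : G ≃* G :=
  MulEquiv.ofBijective
    ({ toFun := twist c
       map_one' := by rw [twist_comm (by rw [one_mul, mul_one])]
       map_mul' := h.twist_mul hc } : G →* G)
    (Finite.injective_iff_bijective.1 (twist_injective c))

theorem twistEquiv_apply [Finite G] (h : IsXS G z) {c : G} (hc : c * c = z) (x : G) :
    h.twistEquiv hc x = twist c x := rfl

/-- a characteristic abelian subgroup lies in `{1, z}` -/
theorem le_of_characteristic [Finite G] (h : IsXS G z) (A : Subgroup G) (hA : A.Characteristic)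
    (hc : IsMulCommutative A) : ∀ a ∈ A, a = 1 ∨ a = z := by
  intro a ha
  by_contra hne
  rw [not_or] at hne
  obtain ⟨c, hcc, hac⟩ := h.anti a hne.1 hne.2
  have hnc : a * c ≠ c * a := by
    intro heq
    rw [heq] at hac
    have : z = 1 := by
      have h1 : 1 * (c * a) = z * (c * a) := by rw [one_mul]; exact hac
      exact (mul_right_cancel h1).symm
    exact h.ne_one this
  have hmem : h.twistEquiv hcc a ∈ A := by
    have h1 := (Subgroup.characteristic_iff_comap_eq.1 hA) (h.twistEquiv hcc)
    have : a ∈ A.comap (h.twistEquiv hcc).toMonoidHom := by rw [h1]; exact ha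
    exact this
  rw [twistEquiv_apply, twist_not_comm hnc] at hmem
  have hcA : c ∈ A := by
    have := A.mul_mem (A.inv_mem ha) hmem
    rwa [inv_mul_cancel_left] at this
  have hcomm := hc.is_comm.comm ⟨a, ha⟩ ⟨c, hcA⟩
  exact hnc (congrArg Subtype.val hcomm)

theorem cyclic_of_characteristic [Finite G] (h : IsXS G z) (A : Subgroup G) (hA : A.Characteristic)
    (hc : IsMulCommutative A) : IsCyclic A := by
  have hle := h.le_of_characteristic A hA hc
  by_cases hz : z ∈ A
  · refine ⟨⟨⟨z, hz⟩, fun x => ?_⟩⟩
    rcases hle x x.2 with h1 | h1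
    · exact Subgroup.mem_zpowers_iff.2 ⟨0, by rw [zpow_zero]; exact Subtype.ext h1.symm⟩
    · exact Subgroup.mem_zpowers_iff.2 ⟨1, by rw [zpow_one]; exact Subtype.ext h1.symm⟩
  · refine ⟨⟨1, fun x => ?_⟩⟩
    rcases hle x x.2 with h1 | h1
    · exact Subgroup.mem_zpowers_iff.2 ⟨0, by rw [zpow_zero]; exact Subtype.ext h1.symm⟩
    · exact absurd (h1 ▸ x.2) hz

theorem exponent_eq (h : IsXS G z) : Monoid.exponent G = 4 := by
  obtain ⟨x, hx1, hxz⟩ := h.nontrivial
  obtain ⟨c, hcc, -⟩ := h.anti x hx1 hxz
  apply Nat.dvd_antisymm
  · exact Monoid.exponent_dvd_of_forall_pow_eq_one h.pow_four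
  · have ho : orderOf c = 2 ^ (1 + 1) := by
      apply orderOf_eq_prime_pow
      · rw [pow_one, pow_two, hcc]; exact h.ne_one
      · have := h.pow_four c
        norm_num
        exact this
    have h4 : orderOf c = 4 := by rw [ho]; norm_num
    rw [← h4]
    exact Monoid.order_dvd_exponent c

theorem isPGroup (h : IsXS G z) : IsPGroup 2 G := by
  intro x
  refine ⟨2, ?_⟩
  have := h.pow_four x
  norm_num
  exact this

theorem mem_center_iff (h : IsXS G z) (x : G) : x ∈ Subgroup.center G ↔ x = 1 ∨ x = z := by
  constructor
  · intro hx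
    by_contra hne
    rw [not_or] at hne
    obtain ⟨c, hcc, hac⟩ := h.anti x hne.1 hne.2
    have h1 := (Subgroup.mem_center_iff.1 hx) c
    rw [← h1] at hac
    have h2 : 1 * (c * x) = z * (c * x) := by rw [one_mul]; exact hac
    exact h.ne_one (mul_right_cancel h2).symm
  · rintro (rfl | rfl)
    · exact Subgroup.one_mem _
    · rw [Subgroup.mem_center_iff]
      intro g
      exact h.central g

theorem card_center (h : IsXS G z) : Nat.card (Subgroup.center G) = 2 := by
  rw [Nat.card_eq_two_iff]
  refine ⟨1, ⟨z, (h.mem_center_iff z).2 (Or.inr rfl)⟩, ?_, ?_⟩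
  · intro heq
    exact h.ne_one (congrArg Subtype.val heq).symm
  · ext x
    simp only [Set.mem_insert_iff, Set.mem_singleton_iff, Set.mem_univ, iff_true]
    rcases (h.mem_center_iff x).1 x.2 with h1 | h1
    · left; exact Subtype.ext h1
    · right; exact Subtype.ext h1

end IsXS

end Cfsg.Agent.Helper6.XS
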