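import Mathlib
import Cfsg.Prelude.Def_GeometricClasses
import Cfsg.Agent.Helper4.AschTIE
import Cfsg.Agent.Helper4.AschTIT4A
import Cfsg.Agent.Helper6.XSGroup
import Cfsg.Agent.Helper6.Q8F3

/-!
# Tensor powers of the quaternion group over the field with three elements (helper6)

`Rk hq k ≤ GL (Fin k → Fin 2) F` is the group of the pure tensors `a₁ ⊗ ⋯ ⊗ a_k` of elements of the quaternion group
`Qm hq ⊆ M_2(F)` (`|F| = 3`).  For `k ≥ 1` it is extraspecial-like (`IsXS` with `z = -1`), its matrices span the matrix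
algebra, its elements are pure tensors of matrices of determinant one, and it is normalised by the standard tensor-wreath
group `GL_2(F) ≀ S_k`.
-/

set_option autoImplicit false
set_option linter.unusedVariables false

namespace Cfsg.Agent.Helper6.Q8Cube

open Cfsg Cfsg.Geo Cfsg.Agent.Helper4.AschTI Cfsg.Agent.Helper9.AschC6 Cfsg.Agent.Helper6.Q8F3
  Cfsg.Agent.Helper6.XS
open scoped MatrixGroups Matrix

variable {F : Type*} [Field F] {d k : ℕ}

/-! ### signs in pure tensors -/

theorem prod_pm {ι : Type*} (s : Finset ι) (ε : ι → F) (h : ∀ i ∈ s, ε i = 1 ∨ ε i = -1) :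
    ∏ i ∈ s, ε i = 1 ∨ ∏ i ∈ s, ε i = -1 := by
  classical
  induction s using Finset.induction_on with
  | empty => left; simp
  | insert a s ha ih =>
    rw [Finset.prod_insert ha]
    rcases h a (Finset.mem_insert_self a s) with h1 | h1 <;>
      rcases ih (fun i hi => h i (Finset.mem_insert_of_mem hi)) with h2 | h2 <;> rw [h1, h2]
    · left; ring
    · right; ring
    · right; ring
    · left; ring

/-- changing signs of the factors changes the sign of the pure tensor -/
theorem ptens_pm (a b : Fin k → Matrix (Fin d) (Fin d) F) (h : ∀ i, a i = b i ∨ a i = -(b i)) :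
    ptens a = ptens b ∨ ptens a = -(ptens b) := by
  classical
  have hε : ∀ i, ∃ ε : F, (ε = 1 ∨ ε = -1) ∧ a i = ε • b i := by
    intro i
    rcases h i with h1 | h1
    · exact ⟨1, Or.inl rfl, by rw [one_smul]; exact h1⟩
    · exact ⟨-1, Or.inr rfl, by rw [neg_smul, one_smul]; exact h1⟩
  choose ε hε1 hε2 using hε
  have h1 : a = fun i => ε i • b i := funext hε2
  rw [h1, ptens_smul]
  rcases prod_pm Finset.univ ε (fun i _ => hε1 i) with h2 | h2
  · left; rw [h2, one_smul]
  · right; rw [h2, neg_smul, one_smul]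

/-- changing the sign of one factor changes the sign of the pure tensor -/
theorem ptens_neg_at (a b : Fin k → Matrix (Fin d) (Fin d) F) (i : Fin k) (hi : a i = -(b i))
    (hne : ∀ j, j ≠ i → a j = b j) : ptens a = -(ptens b) := by
  classical
  have h1 : a = fun j => (if j = i then (-1 : F) else 1) • b j := by
    funext j
    by_cases hj : j = i
    · subst hj
      rw [if_pos rfl, neg_smul, one_smul]; exact hi
    · rw [if_neg hj, one_smul]; exact hne j hj
  rw [h1, ptens_smul, Finset.prod_ite_eq' Finset.univ i (fun _ => (-1 : F)), if_pos (Finset.mem_univ i),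
    neg_smul, one_smul]

theorem ptens_congr (a b : Fin k → Matrix (Fin d) (Fin d) F) (h : ∀ i, a i = b i) : ptens a = ptens b := by
  rw [funext h]

/-! ### the group -/

variable [Fintype F] (hq : Fintype.card F = 3)

/-- the tensor power of the quaternion group -/
def Rk (k : ℕ) : Subgroup (GL (Fin k → Fin 2) F) where
  carrier := {g | ∃ a : Fin k → Matrix (Fin 2) (Fin 2) F, (∀ i, a i ∈ Qm hq) ∧
    (g : Matrix (Fin k → Fin 2) (Fin k → Fin 2) F) = ptens a}
  one_mem' := ⟨fun _ => 1, fun _ => one_mem hq, by rw [Units.val_one, ptens_one]⟩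
  mul_mem' := by
    rintro g h ⟨a, ha, hga⟩ ⟨b, hb, hgb⟩
    exact ⟨fun i => a i * b i, fun i => mul_mem hq (ha i) (hb i), by rw [Units.val_mul, hga, hgb, ptens_mul]⟩
  inv_mem' := by
    rintro g ⟨a, ha, hga⟩
    choose b hb hab using fun i => exists_inv hq (ha i)
    refine ⟨b, hb, ?_⟩
    have h1 : (g : Matrix (Fin k → Fin 2) (Fin k → Fin 2) F) * ptens b = 1 := by
      rw [hga, ptens_mul, funext hab, ptens_one]
    calc ((g⁻¹ : GL (Fin k → Fin 2) F) : Matrix (Fin k → Fin 2) (Fin k → Fin 2) F)
        = ((g⁻¹ : GL (Fin k → Fin 2) F) : Matrix (Fin k → Fin 2) (Fin k → Fin 2) F) *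
            ((g : Matrix (Fin k → Fin 2) (Fin k → Fin 2) F) * ptens b) := by rw [h1, mul_one]
      _ = ptens b := by rw [← mul_assoc, ← Units.val_mul, inv_mul_cancel, Units.val_one, one_mul]

theorem mem_Rk {g : GL (Fin k → Fin 2) F} : g ∈ Rk hq k ↔ ∃ a : Fin k → Matrix (Fin 2) (Fin 2) F,
    (∀ i, a i ∈ Qm hq) ∧ (g : Matrix (Fin k → Fin 2) (Fin k → Fin 2) F) = ptens a := Iff.rfl

include hq in
theorem two_ne_zero_of_card : (2 : F) ≠ 0 := by
  haveI := charP_three hq
  intro h
  have h2 : ((2 : ℕ) : F) = 0 := by exact_mod_cast h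
  have := (CharP.cast_eq_zero_iff F 3 2).1 h2
  omega

include hq in
theorem neg_one_ne_one {X : Type*} [Fintype X] [DecidableEq X] [Nonempty X] :
    (-1 : Matrix X X F) ≠ 1 := by
  intro h
  obtain ⟨x⟩ := ‹Nonempty X›
  have := congrFun (congrFun h x) x
  rw [Matrix.neg_apply, Matrix.one_apply_eq] at this
  apply two_ne_zero_of_card hq
  linear_combination -this

theorem neg_one_mem_Rk (hk : 0 < k) : (-1 : GL (Fin k → Fin 2) F) ∈ Rk hq k := by
  classical
  refine ⟨Function.update (fun _ => 1) ⟨0, hk⟩ (-1), ?_, ?_⟩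
  · intro i
    by_cases hi : i = ⟨0, hk⟩
    · rw [hi, Function.update_self]; exact neg_one_mem hq
    · rw [Function.update_of_ne hi]; exact one_mem hq
  · rw [Units.val_neg, Units.val_one, ← ptens_one (k := k) (d := 2)]
    symm
    apply ptens_neg_at _ _ ⟨0, hk⟩
    · rw [Function.update_self]
    · intro j hj
      rw [Function.update_of_ne hj]

/-- squares are `±1` -/
theorem sq_Rk {g : GL (Fin k → Fin 2) F} (hg : g ∈ Rk hq k) : g * g = 1 ∨ g * g = -1 := by
  obtain ⟨a, ha, hga⟩ := hg
  have h1 : ((g * g : GL (Fin k → Fin 2) F) : Matrix (Fin k → Fin 2) (Fin k → Fin 2) F) =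
      ptens (fun i => a i * a i) := by rw [Units.val_mul, hga, ptens_mul]
  rcases ptens_pm (fun i => a i * a i) (fun _ => 1) (fun i => sq hq (ha i)) with h2 | h2
  · left
    apply Units.ext
    rw [h1, h2, ptens_one, Units.val_one]
  · right
    apply Units.ext
    rw [h1, h2, ptens_one, Units.val_neg, Units.val_one]

/-- commutators are `±1` -/
theorem comm_Rk {g h : GL (Fin k → Fin 2) F} (hg : g ∈ Rk hq k) (hh : h ∈ Rk hq k) :
    g * h = h * g ∨ g * h = -1 * (h * g) := by
  obtain ⟨a, ha, hga⟩ := hg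
  obtain ⟨b, hb, hhb⟩ := hh
  have h1 : ((g * h : GL (Fin k → Fin 2) F) : Matrix (Fin k → Fin 2) (Fin k → Fin 2) F) =
      ptens (fun i => a i * b i) := by rw [Units.val_mul, hga, hhb, ptens_mul]
  have h2 : ((h * g : GL (Fin k → Fin 2) F) : Matrix (Fin k → Fin 2) (Fin k → Fin 2) F) =
      ptens (fun i => b i * a i) := by rw [Units.val_mul, hga, hhb, ptens_mul]
  rcases ptens_pm (fun i => a i * b i) (fun i => b i * a i) (fun i => comm hq (ha i) (hb i)) with h3 | h3
  · left
    apply Units.ext
    rw [h1, h3, h2]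
  · right
    apply Units.ext
    rw [h1, h3, Units.val_mul, Units.val_neg, Units.val_one, neg_one_mul, h2]

/-- an element other than `±1` anticommutes with an element of square `-1` -/
theorem anti_Rk {g : GL (Fin k → Fin 2) F} (hg : g ∈ Rk hq k) (h1 : g ≠ 1) (h2 : g ≠ -1) :
    ∃ c ∈ Rk hq k, c * c = -1 ∧ g * c = -1 * (c * g) := by
  classical
  obtain ⟨a, ha, hga⟩ := hg
  -- some factor is not `±1`
  have hex : ∃ i, a i ≠ 1 ∧ a i ≠ -1 := by
    by_contra hno'
    have hno : ∀ i, a i ≠ 1 → a i = -1 := fun i hi => by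
      by_contra hc
      exact hno' ⟨i, hi, hc⟩
    have h3 : ∀ i, a i = (fun _ => (1 : Matrix (Fin 2) (Fin 2) F)) i ∨
        a i = -((fun _ => (1 : Matrix (Fin 2) (Fin 2) F)) i) := by
      intro i
      by_cases hi : a i = 1
      · exact Or.inl hi
      · exact Or.inr (by
          by_contra hc
          exact hc (hno i hi))
    rcases ptens_pm a (fun _ => 1) h3 with h4 | h4
    · apply h1
      apply Units.ext
      rw [hga, h4, ptens_one, Units.val_one]
    · apply h2
      apply Units.ext
      rw [hga, h4, ptens_one, Units.val_neg, Units.val_one]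
  obtain ⟨i, hi1, hi2⟩ := hex
  obtain ⟨c₀, hc₀, hcc, hac⟩ := anti hq (ha i) hi1 hi2
  obtain ⟨c₁, hc₁, hc₀₁⟩ := exists_inv hq hc₀
  set cm : Fin k → Matrix (Fin 2) (Fin 2) F := Function.update (fun _ => 1) i c₀ with hcm
  set cm' : Fin k → Matrix (Fin 2) (Fin 2) F := Function.update (fun _ => 1) i c₁ with hcm'
  have hprod : ptens cm * ptens cm' = 1 := by
    rw [ptens_mul, ← ptens_one (k := k) (d := 2)]
    apply ptens_congr
    intro j
    by_cases hj : j = i
    · subst hj
      rw [hcm, hcm', Function.update_self, Function.update_self, hc₀₁]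
    · rw [hcm, hcm', Function.update_of_ne hj, Function.update_of_ne hj, mul_one]
  have hprod' : ptens cm' * ptens cm = 1 := mul_eq_one_comm.1 hprod
  let c : GL (Fin k → Fin 2) F := ⟨ptens cm, ptens cm', hprod, hprod'⟩
  have hcmem : ∀ j, cm j ∈ Qm hq := by
    intro j
    by_cases hj : j = i
    · subst hj
      rw [hcm, Function.update_self]; exact hc₀
    · rw [hcm, Function.update_of_ne hj]; exact one_mem hq
  refine ⟨c, ⟨cm, hcmem, rfl⟩, ?_, ?_⟩
  · apply Units.ext
    rw [Units.val_mul, Units.val_neg, Units.val_one]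
    show ptens cm * ptens cm = -1
    rw [ptens_mul, ← ptens_one (k := k) (d := 2)]
    apply ptens_neg_at _ _ i
    · rw [hcm, Function.update_self, hcc]
    · intro j hj
      rw [hcm, Function.update_of_ne hj, mul_one]
  · apply Units.ext
    rw [Units.val_mul, Units.val_mul, Units.val_mul, Units.val_neg, Units.val_one, neg_one_mul, hga]
    show ptens a * ptens cm = -(ptens cm * ptens a)
    rw [ptens_mul, ptens_mul]
    apply ptens_neg_at _ _ i
    · rw [hcm, Function.update_self, hac]
    · intro j hj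
      rw [hcm, Function.update_of_ne hj, mul_one, one_mul]

/-! ### the extraspecial-like structure -/

/-- a unit with a given pure tensor of quaternion matrices as its matrix -/
theorem exists_unit (a : Fin k → Matrix (Fin 2) (Fin 2) F) (ha : ∀ i, a i ∈ Qm hq) :
    ∃ g : GL (Fin k → Fin 2) F, g ∈ Rk hq k ∧ (g : Matrix (Fin k → Fin 2) (Fin k → Fin 2) F) = ptens a := by
  choose b hb hab using fun i => exists_inv hq (ha i)
  have h1 : ptens a * ptens b = 1 := by rw [ptens_mul, funext hab, ptens_one]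
  exact ⟨⟨ptens a, ptens b, h1, mul_eq_one_comm.1 h1⟩, ⟨a, ha, rfl⟩, rfl⟩

/-- the central involution -/
def zR (hk : 0 < k) : Rk hq k := ⟨-1, neg_one_mem_Rk hq hk⟩

theorem I3_ne : I3 ≠ 1 ∧ I3 ≠ -1 := by decide

theorem exists_nontrivial (hk : 0 < k) : ∃ g ∈ Rk hq k, g ≠ 1 ∧ g ≠ -1 := by
  classical
  set m : Matrix (Fin 2) (Fin 2) F := Psi hq I3 with hm
  have hmQ : m ∈ Qm hq := by
    rw [mem_Qm, hm, RingEquiv.symm_apply_apply]; decide
  have hm1 : m ≠ 1 := by
    intro h
    apply I3_ne.1
    apply (Psi hq).injective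
    rw [← hm, h, map_one]
  have hm2 : m ≠ -1 := by
    intro h
    apply I3_ne.2
    apply (Psi hq).injective
    rw [← hm, h, map_neg, map_one]
  obtain ⟨g, hgR, hg⟩ := exists_unit hq (Function.update (fun _ => 1) ⟨0, hk⟩ m) (by
    intro i
    by_cases hi : i = ⟨0, hk⟩
    · rw [hi, Function.update_self]; exact hmQ
    · rw [Function.update_of_ne hi]; exact one_mem hq)
  rw [← stdEmb_eq_ptens] at hg
  refine ⟨g, hgR, ?_, ?_⟩
  · intro h
    apply hm1
    apply stdEmb_injective (by norm_num : 0 < 2) (⟨0, hk⟩ : Fin k)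
    rw [← hg, h, Units.val_one, stdEmb_one]
  · intro h
    apply hm2
    apply stdEmb_injective (by norm_num : 0 < 2) (⟨0, hk⟩ : Fin k)
    have h1 : (-1 : Matrix (Fin 2) (Fin 2) F) = (-1 : F) • 1 := by rw [neg_smul, one_smul]
    rw [← hg, h, Units.val_neg, Units.val_one, h1, stdEmb_smul', stdEmb_one, neg_smul, one_smul]

theorem isXS_Rk (hk : 0 < k) : IsXS (Rk hq k) (zR hq hk) where
  ne_one := by
    intro h
    have h1 : ((-1 : GL (Fin k → Fin 2) F) : Matrix (Fin k → Fin 2) (Fin k → Fin 2) F) = 1 := by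
      have := congrArg (fun x : Rk hq k => ((x : GL (Fin k → Fin 2) F) :
        Matrix (Fin k → Fin 2) (Fin k → Fin 2) F)) h
      exact this
    rw [Units.val_neg, Units.val_one] at h1
    exact neg_one_ne_one hq h1
  sq_one := Subtype.ext (by
    show (-1 : GL (Fin k → Fin 2) F) * -1 = 1
    rw [neg_mul_neg, one_mul])
  central := fun x => Subtype.ext (by
    show (x : GL (Fin k → Fin 2) F) * -1 = -1 * x
    rw [mul_neg, mul_one, neg_mul, one_mul])
  sq := fun x => by
    rcases sq_Rk hq x.2 with h | h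
    · left; exact Subtype.ext h
    · right; exact Subtype.ext h
  comm := fun x y => by
    rcases comm_Rk hq x.2 y.2 with h | h
    · left; exact Subtype.ext h
    · right; exact Subtype.ext h
  anti := fun x h1 h2 => by
    obtain ⟨c, hc, hcc, hxc⟩ := anti_Rk hq x.2 (fun h => h1 (Subtype.ext h)) (fun h => h2 (Subtype.ext h))
    exact ⟨⟨c, hc⟩, Subtype.ext hcc, Subtype.ext hxc⟩
  nontrivial := by
    obtain ⟨g, hg, h1, h2⟩ := exists_nontrivial hq hk
    exact ⟨⟨g, hg⟩, fun h => h1 (congrArg Subtype.val h), fun h => h2 (congrArg Subtype.val h)⟩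

/-! ### the matrices of the group span the matrix algebra -/

theorem ptens_update_apply (M : Fin k → Matrix (Fin d) (Fin d) F) (j : Fin k) (m : Matrix (Fin d) (Fin d) F)
    (x y : Fin k → Fin d) :
    ptens (Function.update M j m) x y = m (x j) (y j) * ∏ i ∈ Finset.univ.erase j, M i (x i) (y i) := by
  classical
  rw [ptens_apply, ← Finset.mul_prod_erase Finset.univ _ (Finset.mem_univ j), Function.update_self]
  congr 1
  refine Finset.prod_congr rfl (fun i hi => ?_)
  rw [Function.update_of_ne (Finset.ne_of_mem_erase hi)]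

theorem ptens_update_sum {ι : Type*} (s : Finset ι) (M : Fin k → Matrix (Fin d) (Fin d) F) (j : Fin k) (c : ι → F)
    (a : ι → Matrix (Fin d) (Fin d) F) :
    ptens (Function.update M j (∑ l ∈ s, c l • a l)) = ∑ l ∈ s, c l • ptens (Function.update M j (a l)) := by
  classical
  ext x y
  rw [ptens_update_apply, Matrix.sum_apply, Matrix.sum_apply, Finset.sum_mul]
  refine Finset.sum_congr rfl (fun l _ => ?_)
  rw [Matrix.smul_apply, Matrix.smul_apply, ptens_update_apply, smul_eq_mul, smul_eq_mul, mul_assoc]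

theorem ptens_mem_span (M : Fin k → Matrix (Fin 2) (Fin 2) F) :
    ptens M ∈ Submodule.span F (matrixSet (Rk hq k)) := by
  classical
  have key : ∀ s : Finset (Fin k), ∀ M : Fin k → Matrix (Fin 2) (Fin 2) F, (∀ i, i ∉ s → M i ∈ Qm hq) →
      ptens M ∈ Submodule.span F (matrixSet (Rk hq k)) := by
    intro s
    induction s using Finset.induction_on with
    | empty =>
      intro M hM
      obtain ⟨g, hg, hgM⟩ := exists_unit hq M (fun i => hM i (Finset.notMem_empty i))
      exact Submodule.subset_span ⟨g, hg, hgM⟩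
    | insert j s hj ih =>
      intro M hM
      obtain ⟨c, a, ha, hdec⟩ := exists_decomp hq (M j)
      have h1 : M = Function.update M j (∑ l, c l • a l) := by
        rw [← hdec, Function.update_eq_self]
      rw [h1, ptens_update_sum]
      refine Submodule.sum_mem _ (fun l _ => Submodule.smul_mem _ _ (ih _ ?_))
      intro i hi
      by_cases hij : i = j
      · subst hij
        rw [Function.update_self]; exact ha l
      · rw [Function.update_of_ne hij]
        apply hM
        intro h
        rcases Finset.mem_insert.1 h with h | h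
        · exact hij h
        · exact hi h
  exact key Finset.univ M (fun i hi => absurd (Finset.mem_univ i) hi)

theorem span_Rk : Submodule.span F (matrixSet (Rk hq k)) = ⊤ := by
  classical
  rw [eq_top_iff]
  intro A _
  rw [Matrix.matrix_eq_sum_single A]
  refine Submodule.sum_mem _ (fun x _ => Submodule.sum_mem _ (fun y _ => ?_))
  have h1 : Matrix.single x y (A x y) =
      A x y • ptens (fun i => Matrix.single (x i) (y i) (1 : F)) := by
    ext x' y'
    rw [Matrix.smul_apply, ptens_apply, smul_eq_mul]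
    simp only [Matrix.single_apply]
    rw [Finset.prod_ite_zero, Finset.prod_const_one]
    by_cases h : x = x' ∧ y = y'
    · obtain ⟨rfl, rfl⟩ := h
      rw [if_pos ⟨rfl, rfl⟩, if_pos (fun i _ => ⟨rfl, rfl⟩), mul_one]
    · rw [if_neg h, if_neg, mul_zero]
      intro h'
      apply h
      exact ⟨funext (fun i => (h' i (Finset.mem_univ i)).1), funext (fun i => (h' i (Finset.mem_univ i)).2)⟩
  rw [h1]
  exact Submodule.smul_mem _ _ (ptens_mem_span hq _)

/-! ### the tensor power of the alternating form is fixed -/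

theorem Omega_fixed {g : GL (Fin k → Fin 2) F} (hg : g ∈ Rk hq k) :
    (g : Matrix (Fin k → Fin 2) (Fin k → Fin 2) F)ᵀ * Cfsg.Agent.Helper4.AschTI.Omega k *
      (g : Matrix (Fin k → Fin 2) (Fin k → Fin 2) F) = Cfsg.Agent.Helper4.AschTI.Omega k := by
  obtain ⟨a, ha, hga⟩ := hg
  rw [hga, Omega_ptens]
  have : ∏ i, (a i).det = 1 := Finset.prod_eq_one (fun i _ => det_eq_one hq (ha i))
  rw [this, one_smul]

/-! ### the tensor-wreath group normalises -/

theorem mem_normalizer_of_conj {G : Type*} [Group G] (R : Subgroup G) (g : G) (h1 : ∀ r ∈ R, g * r * g⁻¹ ∈ R)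
    (h2 : ∀ r ∈ R, g⁻¹ * r * g ∈ R) : g ∈ Subgroup.normalizer (R : Set G) := by
  rw [Subgroup.mem_normalizer_iff]
  intro r
  constructor
  · exact h1 r
  · intro h
    have := h2 _ h
    simpa [mul_assoc] using this

theorem conj_pure {gs : Fin k → GL (Fin 2) F} {r : GL (Fin k → Fin 2) F} (hr : r ∈ Rk hq k) :
    ptensGL gs * r * (ptensGL gs)⁻¹ ∈ Rk hq k := by
  obtain ⟨a, ha, hra⟩ := hr
  refine ⟨fun i => (gs i : Matrix (Fin 2) (Fin 2) F) * a i * ((gs i)⁻¹ : GL (Fin 2) F), fun i => ?_, ?_⟩
  · apply conj_mem hq (ha i)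
    rw [← Units.val_mul, mul_inv_cancel, Units.val_one]
  · rw [Units.val_mul, Units.val_mul, ptensGL_val, ptensGL_inv_val, hra, ptens_mul, ptens_mul]

theorem conj_perm (σ : Equiv.Perm (Fin k)) {r : GL (Fin k → Fin 2) F} (hr : r ∈ Rk hq k) :
    (fpermGL σ : GL (Fin k → Fin 2) F) * r * (fpermGL σ)⁻¹ ∈ Rk hq k := by
  obtain ⟨a, ha, hra⟩ := hr
  refine ⟨fun i => a (σ⁻¹ i), fun i => ha _, ?_⟩
  rw [Units.val_mul, Units.val_mul, hra]
  show (fperm σ : Matrix (Fin k → Fin 2) (Fin k → Fin 2) F) * ptens a * fperm σ⁻¹ = _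
  ext x y
  rw [mul_fperm_apply, fperm_mul_apply, ptens_apply, ptens_apply]
  have : ∀ i, a i ((x ∘ σ) i) ((y ∘ (σ⁻¹).symm) i) = (fun j => a (σ⁻¹ j) (x j) (y j)) (σ i) := by
    intro i
    show a i (x (σ i)) (y (σ i)) = a (σ⁻¹ (σ i)) (x (σ i)) (y (σ i))
    rw [Equiv.Perm.inv_def, Equiv.symm_apply_apply]
  rw [Finset.prod_congr rfl (fun i _ => this i)]
  exact Equiv.prod_comp σ (fun j => a (σ⁻¹ j) (x j) (y j))

theorem tensorWreathStandard_le_normalizer :
    tensorWreathStandard 2 k F ≤ Subgroup.normalizer (Rk hq k : Set (GL (Fin k → Fin 2) F)) := by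
  unfold tensorWreathStandard
  rw [Subgroup.closure_le]
  rintro g (⟨gs, hgs⟩ | ⟨σ, hσ⟩)
  · have hg : g = ptensGL gs := by
      apply Units.ext
      ext x y
      rw [hgs, ptensGL_val, ptens_apply]
    rw [hg]
    apply mem_normalizer_of_conj
    · intro r hr
      exact conj_pure hq hr
    · intro r hr
      have h1 : (ptensGL gs)⁻¹ = ptensGL (fun i => (gs i)⁻¹) := by
        apply Units.ext
        rw [ptensGL_inv_val, ptensGL_val]
      have := conj_pure hq (gs := fun i => (gs i)⁻¹) hr
      rw [← h1, inv_inv] at this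
      exact this
  · have hg : g = fpermGL σ := by
      apply Units.ext
      ext x y
      rw [hσ]
      rfl
    rw [hg]
    apply mem_normalizer_of_conj
    · intro r hr
      exact conj_perm hq σ hr
    · intro r hr
      have h1 : (fpermGL σ : GL (Fin k → Fin 2) F)⁻¹ = fpermGL σ⁻¹ := by
        apply Units.ext
        rfl
      have := conj_perm hq σ⁻¹ hr
      rw [← h1, inv_inv] at this
      exact this

end Cfsg.Agent.Helper6.Q8Cube
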