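import Mathlib
import Cfsg.Prelude.Def_GeometricClasses
import Cfsg.Agent.Lead.AschBase
import Cfsg.Agent.Helper4.AschTIE
import Cfsg.Agent.Helper4.AschTIT4A
import Cfsg.Agent.Helper6.XSGroup
import Cfsg.Agent.Helper6.Q8F3
import Cfsg.Agent.Helper6.Q8Cube

/-!
# `Q_8 ⊗ ⋯ ⊗ Q_8` over the field with three elements (helper6), part B: symplectic type, centre, the fixed form

* `isSymplecticTypeGroup_Rk`, `card_center_Rk`;
* `isSymplecticForm_Omega` (`k` odd), `fixesForm_Rk`;
* `gramMatrix_eq_smul_omega2` (a symplectic form on `F^2`), `tensorPower_eq_bform`: a tensor-power form structure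
  with a symplectic form on `F^2` is a multiple of `bform (Omega k)`.
-/

set_option autoImplicit false
set_option linter.unusedVariables false
set_option linter.unusedSectionVars false

namespace Cfsg.Agent.Helper6.Q8Cube

open Cfsg Cfsg.Geo Cfsg.Agent.Helper4.AschTI Cfsg.Agent.Helper6.Q8F3
open Cfsg.Agent.Helper6.XS
open scoped MatrixGroups Matrix

variable {F : Type*} [Field F] {k : ℕ}

section general

theorem isSymplecticForm_Omega (hk : Odd k) :
    IsSymplecticForm (bform (Cfsg.Agent.Helper4.AschTI.Omega k : Matrix (Fin k → Fin 2) (Fin k → Fin 2) F)) := by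
  have hk0 : 0 < k := hk.pos
  have hpow : ((-1 : F)) ^ k = -1 := hk.neg_one_pow
  have hT : (Cfsg.Agent.Helper4.AschTI.Omega k : Matrix (Fin k → Fin 2) (Fin k → Fin 2) F)ᵀ =
      -Cfsg.Agent.Helper4.AschTI.Omega k := by
    rw [Omega_transpose, hpow, neg_one_smul]
  refine ⟨bform_isBilinear _, ?_, ?_, ?_⟩
  · intro v w
    rw [bform_swap, hT]
    have : (-Cfsg.Agent.Helper4.AschTI.Omega k : Matrix (Fin k → Fin 2) (Fin k → Fin 2) F) =
        (-1 : F) • Cfsg.Agent.Helper4.AschTI.Omega k := by rw [neg_one_smul]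
    rw [this, bform_smul, neg_one_mul]
  · intro v
    exact bform_self_eq_zero _ hT (Omega_diag hk0) v
  · refine bform_nondegenerate _ (-Cfsg.Agent.Helper4.AschTI.Omega k) ?_ (-1) (by simp) ?_
    · rw [neg_mul, Omega_mul_self, hpow, neg_one_smul, neg_neg]
    · rw [Omega_transpose, hpow]

/-- the Gram matrix of a symplectic form on `F^2` -/
theorem gramMatrix_eq_smul_omega2 {g : (Fin 2 → F) → (Fin 2 → F) → F} (hg : IsSymplecticForm g) :
    gramMatrix g = g (Pi.single 0 1) (Pi.single 1 1) • (omega2 : Matrix (Fin 2) (Fin 2) F) := by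
  ext i j
  unfold gramMatrix
  fin_cases i <;> fin_cases j
  · simp [omega2, hg.alternating]
  · simp [omega2]
  · simp only [omega2, Fin.mk_one, Fin.isValue, Fin.zero_eta, Matrix.smul_apply, Matrix.of_apply,
      Matrix.cons_val', Matrix.cons_val_zero, Matrix.cons_val_fin_one, Matrix.cons_val_one, smul_eq_mul, mul_neg,
      mul_one]
    exact hg.skew _ _
  · simp [omega2, hg.alternating]

/-- a tensor-power form structure with a symplectic form on `F^2` -/
theorem tensorPower_eq_bform {ι : Type} [Fintype ι] [DecidableEq ι] {f : (ι → F) → (ι → F) → F}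
    {g : (Fin 2 → F) → (Fin 2 → F) → F} (hg : IsSymplecticForm g) {e : ι ≃ (Fin k → Fin 2)} {P : GL ι F}
    (hT : IsTensorPowerFormStructure id f g e P) :
    ∃ c : F, ∀ x y : (Fin k → Fin 2) → F,
      f ((P : Matrix ι ι F) *ᵥ (x ∘ e)) ((P : Matrix ι ι F) *ᵥ (y ∘ e)) =
        c * bform (Cfsg.Agent.Helper4.AschTI.Omega k : Matrix (Fin k → Fin 2) (Fin k → Fin 2) F) x y := by
  obtain ⟨c, hc, h⟩ := hT
  set γ : F := g (Pi.single 0 1) (Pi.single 1 1) with hγ
  refine ⟨c * γ ^ k, fun x y => ?_⟩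
  rw [h x y, mul_assoc]
  congr 1
  have h1 : ∀ a b : Fin k → Fin 2, (∏ i, gramMatrix g (a i) (b i)) =
      γ ^ k * (Cfsg.Agent.Helper4.AschTI.Omega k : Matrix (Fin k → Fin 2) (Fin k → Fin 2) F) a b := by
    intro a b
    unfold Cfsg.Agent.Helper4.AschTI.Omega
    rw [ptens_apply, gramMatrix_eq_smul_omega2 hg]
    simp only [Matrix.smul_apply, smul_eq_mul]
    rw [Finset.prod_mul_distrib, Finset.prod_const, Finset.card_univ, Fintype.card_fin]
  unfold bform dotProduct Matrix.mulVec dotProduct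
  rw [Finset.mul_sum]
  refine Finset.sum_congr rfl (fun a _ => ?_)
  rw [Finset.mul_sum, Finset.mul_sum]
  refine Finset.sum_congr rfl (fun b _ => ?_)
  rw [h1 a b]
  simp only [id]
  ring

end general

section three

variable [Fintype F] (hq : Fintype.card F = 3)

theorem isSymplecticTypeGroup_Rk (hk : 0 < k) : IsSymplecticTypeGroup 2 (Rk hq k) := by
  have h := isXS_Rk hq hk
  haveI : Finite (GL (Fin k → Fin 2) F) := inferInstance
  refine ⟨Nat.prime_two, h.isPGroup, fun A hA hc => h.cyclic_of_characteristic A hA hc, ?_⟩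
  rw [h.exponent_eq]
  rfl

theorem card_center_Rk (hk : 0 < k) : Nat.card (Subgroup.center (Rk hq k)) = 2 :=
  (isXS_Rk hq hk).card_center

theorem fixesForm_Rk :
    FixesForm (matrixSet (Rk hq k))
      (bform (Cfsg.Agent.Helper4.AschTI.Omega k : Matrix (Fin k → Fin 2) (Fin k → Fin 2) F)) := by
  rintro s ⟨r, hr, rfl⟩ u v
  show bform _ ((r : Matrix (Fin k → Fin 2) (Fin k → Fin 2) F) *ᵥ u) ((r : Matrix _ _ F) *ᵥ v) = _
  rw [bform_mulVec, Omega_fixed hq hr]

end three

end Cfsg.Agent.Helper6.Q8Cube
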