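import Mathlib
import Cfsg.Prelude.Def_GeometricClasses
import Cfsg.Agent.Lead.AschBase
import Cfsg.Agent.Lead.AschSymA
import Cfsg.Agent.Helper2.AschTrA
import Cfsg.Agent.Helper2.AschTrB
import Cfsg.Agent.Helper2.AschTrD
import Cfsg.Agent.Helper6.AschCompSym
import Cfsg.Agent.Helper6.AschGSpC6
import Cfsg.Agent.Helper6.AschGSpMinusB
import Cfsg.Agent.Helper6.AschGSpTr

/-!
# Order and minus type of an absolutely irreducible group with commutators `±1` fixing a symplectic form (helper6)

`card_and_minus_of_symplectic`: `R ≤ GL(X, F)`, `|X| = 2 ^ a`, `2 ≠ 0`, `-1 ∈ R`, absolutely irreducible, any two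
elements commute or anticommute, fixing a symplectic form: `|R| = 2 ^ (1 + 2a)` and `R` is of minus type.
-/

set_option autoImplicit false
set_option linter.unusedVariables false

namespace Cfsg.Agent.Helper6.SympMinus

open Cfsg Cfsg.Geo Cfsg.Agent.Lead.Asch Cfsg.Agent.Helper6.AschComp Cfsg.Agent.Helper6.AschGSp
open Cfsg.Agent.Helper2.AschTr
open scoped MatrixGroups Matrix commutatorElement

variable {X : Type} [Fintype X] [DecidableEq X] {F : Type*} [Field F]

theorem glReindex_neg_one {ι κ : Type} [Fintype ι] [DecidableEq ι] [Fintype κ] [DecidableEq κ] (e : ι ≃ κ) :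
    glReindex e (-1 : GL ι F) = -1 := by
  apply Units.ext
  rw [glReindex_val]
  ext i j
  simp [Matrix.one_apply]

theorem card_and_minus_of_symplectic [Fintype F] (R : Subgroup (GL X F)) (a : ℕ) (hX : Fintype.card X = 2 ^ a)
    (h2 : (2 : F) ≠ 0) (habs : ActsAbsolutelyIrreducibly (matrixSet R)) (hneg : (-1 : GL X F) ∈ R)
    (hcomm : ∀ x ∈ R, ∀ y ∈ R, x * y = y * x ∨ x * y = -1 * (y * x))
    (f : (X → F) → (X → F) → F) (hf : IsSymplecticForm f) (hfix : FixesForm (matrixSet R) f) :
    Nat.card R = 2 ^ (1 + 2 * a) ∧ IsOfMinusType a R := by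
  classical
  haveI : Finite (GL (Fin (2 ^ a)) F) := inferInstance
  let e : Fin (2 ^ a) ≃ X := (Fintype.equivFinOfCardEq hX).symm
  set N : Subgroup (GL (Fin (2 ^ a)) F) := pb e R with hN
  have hn0 : 0 < 2 ^ a := pow_pos (by norm_num) a
  -- `SymC`
  have hS : SymC (2 ^ a) F N := by
    refine ⟨hn0, actsAbsolutelyIrreducibly_pb e habs, ?_⟩
    rw [Subgroup.commutator_le]
    intro x hx y hy
    rw [← glReindex_mem_scalars_iff e, map_commutatorElement]
    rcases hcomm _ ((mem_pb e).1 hx) _ ((mem_pb e).1 hy) with h | h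
    · have : ⁅glReindex e x, glReindex e y⁆ = 1 := by
        rw [commutatorElement_eq_one_iff_mul_comm]; exact h
      rw [this]; exact Subgroup.one_mem _
    · have : ⁅glReindex e x, glReindex e y⁆ = -1 := by
        rw [commutatorElement_def, h]
        group
      rw [this, mem_scalars_iff]
      exact ⟨-1, by simp⟩
  -- the form on `Fin n`
  have hf₈ : IsSymplecticForm (pf e.symm f) := isSymplecticForm_pf e.symm hf
  have hfix₈ : FixesForm (matrixSet N) (pf e.symm f) := by
    rintro _ ⟨g, hg, rfl⟩ u v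
    show f (th e.symm _) (th e.symm _) = f (th e.symm u) (th e.symm v)
    rw [th_symm_eq, th_symm_eq, th_symm_eq, th_symm_eq, ← mulVec_th_symm, ← mulVec_th_symm]
    exact hfix _ ⟨glReindex e g, (mem_pb e).1 hg, rfl⟩ _ _
  -- the scalars of `N`
  have hnegN : (-1 : GL (Fin (2 ^ a)) F) ∈ N := by
    rw [hN, mem_pb, glReindex_neg_one]; exact hneg
  have hne : (⟨-1, hnegN⟩ : N) ≠ 1 := by
    intro h
    have h1 : (-1 : GL (Fin (2 ^ a)) F) = 1 := congrArg Subtype.val h
    have h3 := congrFun (congrFun (congrArg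
      (fun g : GL (Fin (2 ^ a)) F => (g : Matrix (Fin (2 ^ a)) (Fin (2 ^ a)) F)) h1) ⟨0, hn0⟩) ⟨0, hn0⟩
    simp only [Units.val_neg, Units.val_one, Matrix.neg_apply, Matrix.one_apply_eq] at h3
    apply h2
    linear_combination -h3
  have hZ : Nat.card ((scalars (Fin (2 ^ a)) F).subgroupOf N) = 2 := by
    rw [Nat.card_eq_two_iff]
    refine ⟨⟨⟨-1, hnegN⟩, ?_⟩, ⟨1, Subgroup.one_mem _⟩, ?_, ?_⟩
    · rw [Subgroup.mem_subgroupOf, mem_scalars_iff]
      exact ⟨-1, by simp⟩
    · intro h
      exact hne (congrArg Subtype.val h)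
    · rw [Set.eq_univ_iff_forall]
      rintro ⟨⟨x, hxN⟩, hx⟩
      rw [Subgroup.mem_subgroupOf] at hx
      obtain ⟨c, rfl⟩ := hx
      have hsq := scalar_sq_of_fixes hn0 hf₈ hfix₈ c hxN
      have hc : (c : F) = 1 ∨ (c : F) = -1 := by
        have : ((c : F) - 1) * ((c : F) + 1) = 0 := by linear_combination hsq
        rcases mul_eq_zero.1 this with h | h
        · left; linear_combination h
        · right; linear_combination h
      rcases hc with hc | hc
      · right
        have : c = 1 := Units.ext hc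
        subst this
        rw [Set.mem_singleton_iff]
        apply Subtype.ext
        apply Subtype.ext
        exact map_one _
      · left
        apply Subtype.ext
        apply Subtype.ext
        apply Units.ext
        show ((sc (2 ^ a) F c : GL (Fin (2 ^ a)) F) : Matrix (Fin (2 ^ a)) (Fin (2 ^ a)) F) = _
        rw [sc_val, hc]
        simp
  have hcardN : Nat.card N = 2 ^ (1 + 2 * a) := by
    rw [Subgroup.card_eq_card_quotient_mul_card_subgroup ((scalars (Fin (2 ^ a)) F).subgroupOf N), hZ]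
    have := hS.card_Q
    unfold SymC.Q at this
    rw [this]
    ring
  refine ⟨?_, ?_⟩
  · rw [← Nat.card_congr (pbEquiv e R).toEquiv]; exact hcardN
  · exact isOfMinusType_of_mulEquiv (pbEquiv e R).symm
      (isOfMinusType_of_symplectic hS h2 hf₈ hfix₈ rfl hZ.le)

end Cfsg.Agent.Helper6.SympMinus
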