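import Mathlib
import Cfsg.Prelude.Def_GeometricClasses
import Cfsg.Agent.Lead.AschBase
import Cfsg.Agent.Helper2.AschTrA
import Cfsg.Agent.Helper2.AschTrB

/-!
# Transport of subgroups along `g ↦ P (glReindex e.symm g) P⁻¹` (helper6)

`tw e P R₀ = P (R₀ transported along e) P⁻¹` — the shape of `tensorWreathSubgroup`
(`tensorWreathSubgroup m t e P = tw e P (tensorWreathStandard m t F)` by `rfl`): the isomorphism `twEquiv`, the action
on vectors `P (x ∘ e)`, absolute irreducibility, fixed forms, normalisers.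
-/

set_option autoImplicit false
set_option linter.unusedVariables false
set_option linter.unusedSectionVars false

namespace Cfsg.Agent.Helper6.Tw

open Cfsg Cfsg.Geo Cfsg.Agent.Lead.Asch Cfsg.Agent.Helper2.AschTr
open scoped MatrixGroups Matrix

variable {ι X : Type} [Fintype ι] [DecidableEq ι] [Fintype X] [DecidableEq X] {F : Type*} [Field F]

/-- `P (R₀ transported along e) P⁻¹`: the shape of `tensorWreathSubgroup` -/
def tw (e : ι ≃ X) (P : GL ι F) (R₀ : Subgroup (GL X F)) : Subgroup (GL ι F) :=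
  (R₀.map (glReindex e.symm).toMonoidHom).map (MulAut.conj P).toMonoidHom

theorem tensorWreathSubgroup_eq_tw (m t : ℕ) (e : ι ≃ (Fin t → Fin m)) (P : GL ι F) :
    tensorWreathSubgroup m t e P = tw e P (tensorWreathStandard m t F) := rfl

theorem mem_tw (e : ι ≃ X) (P : GL ι F) (R₀ : Subgroup (GL X F)) (g : GL ι F) :
    g ∈ tw e P R₀ ↔ ∃ r ∈ R₀, g = P * glReindex e.symm r * P⁻¹ := by
  unfold tw
  constructor
  · rintro ⟨_, ⟨r, hr, rfl⟩, rfl⟩
    exact ⟨r, hr, rfl⟩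
  · rintro ⟨r, hr, rfl⟩
    exact ⟨_, ⟨r, hr, rfl⟩, rfl⟩

/-- the isomorphism `r ↦ P (glReindex e.symm r) P⁻¹` of the ambient groups -/
def twHom (e : ι ≃ X) (P : GL ι F) : GL X F ≃* GL ι F := (glReindex e.symm).trans (MulAut.conj P)

theorem twHom_apply (e : ι ≃ X) (P : GL ι F) (r : GL X F) : twHom e P r = P * glReindex e.symm r * P⁻¹ := rfl

theorem tw_eq_map (e : ι ≃ X) (P : GL ι F) (R₀ : Subgroup (GL X F)) :
    tw e P R₀ = R₀.map (twHom e P).toMonoidHom := by
  unfold tw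
  rw [Subgroup.map_map]
  rfl

/-- the isomorphism `r ↦ P (glReindex e.symm r) P⁻¹` -/
noncomputable def twEquiv (e : ι ≃ X) (P : GL ι F) (R₀ : Subgroup (GL X F)) : R₀ ≃* tw e P R₀ :=
  (R₀.equivMapOfInjective (twHom e P).toMonoidHom (twHom e P).injective).trans
    (MulEquiv.subgroupCongr (tw_eq_map e P R₀).symm)

theorem twEquiv_val (e : ι ≃ X) (P : GL ι F) (R₀ : Subgroup (GL X F)) (r : R₀) :
    ((twEquiv e P R₀ r : tw e P R₀) : GL ι F) = P * glReindex e.symm (r : GL X F) * P⁻¹ := rfl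

theorem glReindex_symm_mulVec (e : ι ≃ X) (r : GL X F) (x : X → F) :
    ((glReindex e.symm r : GL ι F) : Matrix ι ι F) *ᵥ (x ∘ e) = ((r : Matrix X X F) *ᵥ x) ∘ e := by
  rw [glReindex_val]
  show ((r : Matrix X X F).submatrix e e) *ᵥ (x ∘ e) = _
  rw [Matrix.submatrix_mulVec_equiv]
  congr 2
  funext i
  simp

/-- the action: `P (glReindex e.symm r) P⁻¹` maps `P (x ∘ e)` to `P ((r x) ∘ e)` -/
theorem tw_mulVec (e : ι ≃ X) (P : GL ι F) (r : GL X F) (x : X → F) :
    ((P * glReindex e.symm r * P⁻¹ : GL ι F) : Matrix ι ι F) *ᵥ ((P : Matrix ι ι F) *ᵥ (x ∘ e)) =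
      (P : Matrix ι ι F) *ᵥ (((r : Matrix X X F) *ᵥ x) ∘ e) := by
  rw [Matrix.mulVec_mulVec, ← Units.val_mul, inv_mul_cancel_right, Units.val_mul, ← Matrix.mulVec_mulVec,
    glReindex_symm_mulVec]

/-- every vector is `P (x ∘ e)` -/
theorem exists_eq_mulVec_comp (e : ι ≃ X) (P : GL ι F) (u : ι → F) :
    ∃ x : X → F, u = (P : Matrix ι ι F) *ᵥ (x ∘ e) := by
  refine ⟨(((P⁻¹ : GL ι F) : Matrix ι ι F) *ᵥ u) ∘ e.symm, ?_⟩
  have h1 : ((((P⁻¹ : GL ι F) : Matrix ι ι F) *ᵥ u) ∘ e.symm) ∘ e = ((P⁻¹ : GL ι F) : Matrix ι ι F) *ᵥ u := by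
    funext i
    simp
  rw [h1, Matrix.mulVec_mulVec, ← Units.val_mul, mul_inv_cancel, Units.val_one, Matrix.one_mulVec]

/-- conjugation preserves absolute irreducibility -/
theorem absIrred_conj (P : GL ι F) {R : Subgroup (GL ι F)} (h : ActsAbsolutelyIrreducibly (matrixSet R)) :
    ActsAbsolutelyIrreducibly (matrixSet (R.map (MulAut.conj P).toMonoidHom)) := by
  have hPP : ((P⁻¹ : GL ι F) : Matrix ι ι F) * (P : Matrix ι ι F) = 1 := by
    rw [← Units.val_mul, inv_mul_cancel, Units.val_one]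
  have hPP' : (P : Matrix ι ι F) * ((P⁻¹ : GL ι F) : Matrix ι ι F) = 1 := by
    rw [← Units.val_mul, mul_inv_cancel, Units.val_one]
  refine ⟨?_, ?_⟩
  · intro W hW
    have h0 := h.1 (W.comap (Matrix.toLin' (P : Matrix ι ι F))) (by
      rintro s ⟨r, hr, rfl⟩ _ ⟨v, hv, rfl⟩
      have hv : Matrix.toLin' (P : Matrix ι ι F) v ∈ W := hv
      show Matrix.toLin' (P : Matrix ι ι F) (Matrix.toLin' (r : Matrix ι ι F) v) ∈ W
      rw [Matrix.toLin'_apply] at hv ⊢
      rw [Matrix.toLin'_apply]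
      have h1 : ((P * r * P⁻¹ : GL ι F) : Matrix ι ι F) ∈
          matrixSet (R.map (MulAut.conj P).toMonoidHom) := ⟨_, ⟨r, hr, rfl⟩, rfl⟩
      have h2 := hW _ h1 ⟨_, hv, rfl⟩
      rw [Matrix.toLin'_apply, Matrix.mulVec_mulVec, ← Units.val_mul, inv_mul_cancel_right, Units.val_mul,
        ← Matrix.mulVec_mulVec] at h2
      exact h2)
    have hmem : ∀ w : ι → F, w ∈ W ↔ ((P⁻¹ : GL ι F) : Matrix ι ι F) *ᵥ w ∈
        W.comap (Matrix.toLin' (P : Matrix ι ι F)) := by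
      intro w
      rw [Submodule.mem_comap, Matrix.toLin'_apply, Matrix.mulVec_mulVec, hPP', Matrix.one_mulVec]
    rcases h0 with h0 | h0
    · left
      rw [eq_bot_iff]
      intro w hw
      rw [hmem, h0, Submodule.mem_bot] at hw
      rw [Submodule.mem_bot]
      have := congrArg (fun v => (P : Matrix ι ι F) *ᵥ v) hw
      simpa [Matrix.mulVec_mulVec, hPP'] using this
    · right
      rw [eq_top_iff]
      intro w _
      rw [hmem, h0]
      exact Submodule.mem_top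
  · intro M hM
    obtain ⟨c, hc⟩ := h.2 (((P⁻¹ : GL ι F) : Matrix ι ι F) * M * (P : Matrix ι ι F)) (by
      rintro s ⟨r, hr, rfl⟩
      have h1 : ((P * r * P⁻¹ : GL ι F) : Matrix ι ι F) ∈
          matrixSet (R.map (MulAut.conj P).toMonoidHom) := ⟨_, ⟨r, hr, rfl⟩, rfl⟩
      have h2 := hM _ h1
      rw [Units.val_mul, Units.val_mul] at h2
      calc ((P⁻¹ : GL ι F) : Matrix ι ι F) * M * (P : Matrix ι ι F) * (r : Matrix ι ι F)
          = ((P⁻¹ : GL ι F) : Matrix ι ι F) * (M * ((P : Matrix ι ι F) * (r : Matrix ι ι F) *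
              ((P⁻¹ : GL ι F) : Matrix ι ι F))) * (P : Matrix ι ι F) := by
            simp only [Matrix.mul_assoc, hPP, Matrix.mul_one]
        _ = ((P⁻¹ : GL ι F) : Matrix ι ι F) * ((P : Matrix ι ι F) * (r : Matrix ι ι F) *
              ((P⁻¹ : GL ι F) : Matrix ι ι F) * M) * (P : Matrix ι ι F) := by rw [h2]
        _ = (r : Matrix ι ι F) * (((P⁻¹ : GL ι F) : Matrix ι ι F) * M * (P : Matrix ι ι F)) := by
            simp only [Matrix.mul_assoc]
            rw [← Matrix.mul_assoc ((P⁻¹ : GL ι F) : Matrix ι ι F) (P : Matrix ι ι F), hPP, Matrix.one_mul])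
    refine ⟨c, ?_⟩
    calc M = (P : Matrix ι ι F) * (((P⁻¹ : GL ι F) : Matrix ι ι F) * M * (P : Matrix ι ι F)) *
          ((P⁻¹ : GL ι F) : Matrix ι ι F) := by
          simp only [Matrix.mul_assoc, hPP', Matrix.mul_one]
          rw [← Matrix.mul_assoc, hPP', Matrix.one_mul]
      _ = c • (1 : Matrix ι ι F) := by
          rw [hc, Matrix.mul_smul, Matrix.smul_mul, Matrix.mul_one, hPP']

theorem absIrred_tw (e : ι ≃ X) (P : GL ι F) {R₀ : Subgroup (GL X F)}
    (h : ActsAbsolutelyIrreducibly (matrixSet R₀)) : ActsAbsolutelyIrreducibly (matrixSet (tw e P R₀)) := by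
  unfold tw
  apply absIrred_conj
  have h1 : R₀.map (glReindex e.symm : GL X F ≃* GL ι F).toMonoidHom = pb e R₀ := by
    ext g
    rw [mem_pb]
    constructor
    · rintro ⟨r, hr, rfl⟩
      have : glReindex e (glReindex e.symm r) = r := by
        apply Units.ext
        rw [glReindex_val, glReindex_val]
        ext i j
        simp
      show glReindex e (glReindex e.symm r) ∈ R₀
      rw [this]; exact hr
    · intro hg
      refine ⟨glReindex e g, hg, ?_⟩
      apply Units.ext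
      show ((glReindex e.symm (glReindex e g) : GL ι F) : Matrix ι ι F) = _
      rw [glReindex_val, glReindex_val]
      ext i j
      simp
  rw [h1]
  exact actsAbsolutelyIrreducibly_pb e h

theorem fixesForm_tw (e : ι ≃ X) (P : GL ι F) {R₀ : Subgroup (GL X F)} (f : (ι → F) → (ι → F) → F)
    (h : ∀ r ∈ R₀, ∀ x y : X → F,
      f ((P : Matrix ι ι F) *ᵥ (((r : Matrix X X F) *ᵥ x) ∘ e)) ((P : Matrix ι ι F) *ᵥ (((r : Matrix X X F) *ᵥ y) ∘ e)) =
        f ((P : Matrix ι ι F) *ᵥ (x ∘ e)) ((P : Matrix ι ι F) *ᵥ (y ∘ e))) :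
    FixesForm (matrixSet (tw e P R₀)) f := by
  rintro _ ⟨g, hg, rfl⟩ u v
  obtain ⟨r, hr, rfl⟩ := (mem_tw e P R₀ g).1 hg
  obtain ⟨x, rfl⟩ := exists_eq_mulVec_comp e P u
  obtain ⟨y, rfl⟩ := exists_eq_mulVec_comp e P v
  show f (((P * glReindex e.symm r * P⁻¹ : GL ι F) : Matrix ι ι F) *ᵥ _)
    (((P * glReindex e.symm r * P⁻¹ : GL ι F) : Matrix ι ι F) *ᵥ _) = _
  rw [tw_mulVec, tw_mulVec]
  exact h r hr x y

theorem tw_le_normalizer (e : ι ≃ X) (P : GL ι F) {H₀ R₀ : Subgroup (GL X F)}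
    (h : H₀ ≤ Subgroup.normalizer (R₀ : Set (GL X F))) : tw e P H₀ ≤ subgroupNormalizer (tw e P R₀) := by
  intro g hg
  rw [tw_eq_map] at hg
  obtain ⟨h₀, hh₀, rfl⟩ := hg
  have hn := h hh₀
  unfold subgroupNormalizer
  rw [Subgroup.mem_normalizer_iff] at hn ⊢
  intro y
  rw [tw_eq_map, Subgroup.mem_map_equiv, Subgroup.mem_map_equiv, hn ((twHom e P).symm y)]
  have : (twHom e P).symm ((twHom e P).toMonoidHom h₀ * y * ((twHom e P).toMonoidHom h₀)⁻¹) =
      h₀ * (twHom e P).symm y * h₀⁻¹ := by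
    rw [map_mul, map_mul, map_inv]
    show (twHom e P).symm ((twHom e P) h₀) * _ * ((twHom e P).symm ((twHom e P) h₀))⁻¹ = _
    rw [MulEquiv.symm_apply_apply]
  rw [this]

end Cfsg.Agent.Helper6.Tw
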