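import Mathlib
import Cfsg.Prelude.Def_GeometricClasses
import Cfsg.Agent.Lead.AschBase
import Cfsg.Agent.Helper7.AbsIrredSpan
import Cfsg.Agent.Helper6.AschGSpTr
import Cfsg.Agent.Helper6.Q8Cube
import Cfsg.Agent.Helper6.Q8CubeB
import Cfsg.Agent.Helper6.SympMinus
import Cfsg.Agent.Helper6.TwTransport

/-!
# Sp_8(q) (S5823), slot F2 (helper6): the tensor cube over the field with three elements

`class6_of_tensor_cube_three`: over the field with three elements the stabiliser of a tensor-cube structure of the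
symplectic form `f` normalises `R = P (Q_8 ⊗ Q_8 ⊗ Q_8) P⁻¹ ≅ 2_-^{1+6}`, which has the class-6 data.
-/

set_option autoImplicit false
set_option linter.unusedVariables false

namespace Cfsg.Agent.Helper6.Q8Cube

open Cfsg Cfsg.Geo Cfsg.Agent.Lead.Asch Cfsg.Agent.Helper4.AschTI Cfsg.Agent.Helper6.Q8F3
open Cfsg.Agent.Helper6.XS Cfsg.Agent.Helper6.AschGSp Cfsg.Agent.Helper6.Tw Cfsg.Agent.Helper6.SympMinus
open scoped MatrixGroups Matrix

/-- **F2**: over the field with three elements the stabiliser of a tensor-cube structure of the symplectic form `f`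
normalises `R = P (Q_8 ⊗ Q_8 ⊗ Q_8) P⁻¹ ≅ 2_-^{1+6}`, which has the class-6 data. -/
theorem class6_of_tensor_cube_three {ι : Type} [Fintype ι] [DecidableEq ι] {F : Type*} [Field F] [Fintype F]
    (hq : Fintype.card F = 3) (f : (ι → F) → (ι → F) → F) (hf : IsSymplecticForm f)
    (e : ι ≃ (Fin 3 → Fin 2)) (P : GL ι F) (g : (Fin 2 → F) → (Fin 2 → F) → F) (hg : IsSymplecticForm g)
    (hT : IsTensorPowerFormStructure id f g e P) :
    ∃ R : Subgroup (GL ι F), IsSymplecticTypeGroup 2 R ∧ ActsAbsolutelyIrreducibly (matrixSet R) ∧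
      FixesForm (matrixSet R) f ∧ Nat.card R = 128 ∧ Nat.card (Subgroup.center R) = 2 ∧ IsOfMinusType 3 R ∧
      tensorWreathSubgroup 2 3 e P ≤ subgroupNormalizer R := by
  have hk : 0 < 3 := by norm_num
  have habs₀ : ActsAbsolutelyIrreducibly (matrixSet (Rk hq 3)) :=
    Cfsg.Agent.Helper7.AbsIrr.absIrred_of_span_eq_top' (span_Rk hq)
  obtain ⟨hcard₀, hminus₀⟩ := card_and_minus_of_symplectic (Rk hq 3) 3 (by simp) (two_ne_zero_of_card hq) habs₀
    (neg_one_mem_Rk hq hk) (fun x hx y hy => comm_Rk hq hx hy) _ (isSymplecticForm_Omega ⟨1, rfl⟩) (fixesForm_Rk hq)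
  refine ⟨tw e P (Rk hq 3), isSymplecticTypeGroup_of_mulEquiv (twEquiv e P (Rk hq 3)).symm
    (isSymplecticTypeGroup_Rk hq hk), absIrred_tw e P habs₀, ?_, ?_, ?_,
    isOfMinusType_of_mulEquiv (twEquiv e P (Rk hq 3)).symm hminus₀, ?_⟩
  · obtain ⟨c, hc⟩ := tensorPower_eq_bform hg hT
    apply fixesForm_tw
    intro r hr x y
    rw [hc, hc]
    congr 1
    exact fixesForm_Rk hq _ ⟨r, hr, rfl⟩ x y
  · rw [← Nat.card_congr (twEquiv e P (Rk hq 3)).toEquiv, hcard₀]
    norm_num
  · rw [← Nat.card_congr (Subgroup.centerCongr (twEquiv e P (Rk hq 3))).toEquiv]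
    exact card_center_Rk hq hk
  · exact tw_le_normalizer e P (tensorWreathStandard_le_normalizer hq)

end Cfsg.Agent.Helper6.Q8Cube
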