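import Mathlib
import Cfsg.Prelude.Def_LocalStructure
import Cfsg.Agent.Helper5.Basic
import Cfsg.Agent.Helper5.Misc
import Cfsg.Agent.Helper5.WeaklyClosed

/-!
helper6: relative form of `Y`-minimality (`Y` lies in a unique maximal subgroup of `E`), for subgroups `Y ≤ E`
of an ambient group.
-/

set_option autoImplicit false

namespace Cfsg.Agent.Helper6.TransFam

open Cfsg Cfsg.Agent.Helper5

variable {H : Type*} [Group H]

/-- `M` is the unique maximal subgroup of `E` containing `Y` (relative form). -/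
def UMaxIn (E Y M : Subgroup H) : Prop :=
  Y ≤ M ∧ M ≤ E ∧ M ≠ E ∧ ∀ X : Subgroup H, Y ≤ X → X ≤ E → X ≠ E → X ≤ M

theorem UMaxIn.unique {E Y M M' : Subgroup H} (h : UMaxIn E Y M) (h' : UMaxIn E Y M') : M = M' :=
  le_antisymm (h'.2.2.2 M h.1 h.2.1 h.2.2.1) (h.2.2.2 M' h'.1 h'.2.1 h'.2.2.1)

theorem map_conj_mono {A B : Subgroup H} (h : A ≤ B) (g : H) :
    A.map (MulAut.conj g).toMonoidHom ≤ B.map (MulAut.conj g).toMonoidHom := Subgroup.map_mono h

theorem map_conj_injective (g : H) {A B : Subgroup H}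
    (h : A.map (MulAut.conj g).toMonoidHom = B.map (MulAut.conj g).toMonoidHom) : A = B :=
  Subgroup.map_injective (MulAut.conj g).injective h

theorem le_map_conj_iff (A B : Subgroup H) (g : H) :
    A ≤ B.map (MulAut.conj g).toMonoidHom ↔ A.map (MulAut.conj g⁻¹).toMonoidHom ≤ B := by
  constructor
  · intro h
    have := map_conj_mono h g⁻¹
    rwa [map_conj_inv_map_conj] at this
  · intro h
    have := map_conj_mono h g
    rwa [map_conj_map_conj_inv] at this

theorem UMaxIn.map_conj {E Y M : Subgroup H} (h : UMaxIn E Y M) (g : H) :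
    UMaxIn (E.map (MulAut.conj g).toMonoidHom) (Y.map (MulAut.conj g).toMonoidHom)
      (M.map (MulAut.conj g).toMonoidHom) := by
  obtain ⟨h1, h2, h3, h4⟩ := h
  refine ⟨map_conj_mono h1 g, map_conj_mono h2 g, fun he => h3 (map_conj_injective g he), ?_⟩
  intro X hYX hXE hne
  rw [le_map_conj_iff]
  apply h4
  · have := map_conj_mono hYX g⁻¹
    rwa [map_conj_inv_map_conj] at this
  · have := map_conj_mono hXE g⁻¹
    rwa [map_conj_inv_map_conj] at this
  · intro he
    apply hne
    rw [← he, map_conj_map_conj_inv]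

/-- Relative form of "the normal closure of `Y` in `E` is `E`". -/
def NClIn (E Y : Subgroup H) : Prop :=
  ∀ N : Subgroup H, N ≤ E → E ≤ Subgroup.normalizer (N : Set H) → Y ≤ N → N = E

/-- From `IsMinimalOver` in the subgroup type to the relative form. -/
theorem nClIn_of_isMinimalOver [Finite H] (E Y : Subgroup H)
    (h : Cfsg.IsMinimalOver (Y.subgroupOf E)) : NClIn E Y := by
  intro N hNE hEN hYN
  have hn : (N.subgroupOf E).Normal := (Subgroup.normal_subgroupOf_iff_le_normalizer hNE).mpr hEN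
  have h1 : Subgroup.normalClosure ((Y.subgroupOf E : Subgroup ↥E) : Set ↥E) ≤ N.subgroupOf E := by
    apply Subgroup.normalClosure_le_normal
    intro x hx
    exact Subgroup.mem_subgroupOf.mpr (hYN (Subgroup.mem_subgroupOf.mp hx))
  rw [h.1] at h1
  apply le_antisymm hNE
  intro e he
  exact Subgroup.mem_subgroupOf.mp (h1 (Subgroup.mem_top (⟨e, he⟩ : ↥E)))

theorem exists_uMaxIn_of_isMinimalOver [Finite H] (E Y : Subgroup H) (hYE : Y ≤ E)
    (h : Cfsg.IsMinimalOver (Y.subgroupOf E)) : ∃ M, UMaxIn E Y M := by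
  obtain ⟨M', ⟨hM'c, hYM'⟩, hM'u⟩ := h.2
  refine ⟨M'.map E.subtype, ?_, Subgroup.map_subtype_le M', ?_, ?_⟩
  · intro y hy
    exact ⟨⟨y, hYE hy⟩, hYM' (Subgroup.mem_subgroupOf.mpr hy), rfl⟩
  · intro he
    apply hM'c.1
    apply Subgroup.map_injective E.subtype_injective
    rw [he, ← MonoidHom.range_eq_map, Subgroup.range_subtype]
  · intro X hYX hXE hne
    have hX' : X.subgroupOf E ≠ ⊤ := by
      intro htop
      apply hne
      apply le_antisymm hXE
      intro e he
      exact Subgroup.mem_subgroupOf.mp (htop ▸ Subgroup.mem_top (⟨e, he⟩ : ↥E))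
    obtain ⟨M'', hM''c, hXM''⟩ := (eq_top_or_exists_le_coatom (X.subgroupOf E)).resolve_left hX'
    have hYM'' : Y.subgroupOf E ≤ M'' := by
      intro y hy
      exact hXM'' (Subgroup.mem_subgroupOf.mpr (hYX (Subgroup.mem_subgroupOf.mp hy)))
    have heq : M'' = M' := hM'u M'' ⟨hM''c, hYM''⟩
    intro x hx
    exact ⟨⟨x, hXE hx⟩, heq ▸ hXM'' (Subgroup.mem_subgroupOf.mpr hx), rfl⟩

end Cfsg.Agent.Helper6.TransFam
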