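import Mathlib
import Cfsg.Prelude.Def_LocalStructure
import Cfsg.Agent.Helper5.PResidual
import Cfsg.Agent.Helper5.PMinimal
import Cfsg.Agent.Helper6.TransFamA

/-!
helper6: `O^p(E)` of a subgroup `E`, viewed in the ambient group.
-/

set_option autoImplicit false

namespace Cfsg.Agent.Helper6.TransFam

open Cfsg Cfsg.Agent.Helper5

variable {H : Type*} [Group H]

/-- `O^p(E)` as a subgroup of `H`. -/
def resOf (p : ℕ) (E : Subgroup H) : Subgroup H := (Cfsg.pResidual p ↥E).map E.subtype

theorem resOf_eq_closure (p : ℕ) (E : Subgroup H) :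
    resOf p E = Subgroup.closure {g : H | g ∈ E ∧ (orderOf g).Coprime p} :=
  map_subtype_pResidual p E

theorem resOf_le (p : ℕ) (E : Subgroup H) : resOf p E ≤ E := Subgroup.map_subtype_le _

theorem mem_resOf_of_coprime {p : ℕ} {E : Subgroup H} {g : H} (hg : g ∈ E) (hc : (orderOf g).Coprime p) :
    g ∈ resOf p E := by
  rw [resOf_eq_closure]
  exact Subgroup.subset_closure ⟨hg, hc⟩

theorem resOf_le_iff (p : ℕ) (E N : Subgroup H) :
    resOf p E ≤ N ↔ ∀ g ∈ E, (orderOf g).Coprime p → g ∈ N := by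
  rw [resOf_eq_closure, Subgroup.closure_le]
  constructor
  · intro h g hg hc
    exact h ⟨hg, hc⟩
  · rintro h g ⟨hg, hc⟩
    exact h g hg hc

theorem resOf_le_resOf_of_le (p : ℕ) {E K : Subgroup H} (h : resOf p E ≤ K) : resOf p E ≤ resOf p K := by
  rw [resOf_le_iff]
  intro g hg hc
  exact mem_resOf_of_coprime (h (mem_resOf_of_coprime hg hc)) hc

theorem resOf_map_conj (p : ℕ) (E : Subgroup H) (h : H) :
    resOf p (E.map (MulAut.conj h).toMonoidHom) = (resOf p E).map (MulAut.conj h).toMonoidHom := by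
  apply le_antisymm
  · rw [resOf_le_iff]
    intro g hg hc
    rw [mem_map_conj_iff] at hg ⊢
    apply mem_resOf_of_coprime hg
    have : orderOf (h⁻¹ * g * h) = orderOf g := by
      have := orderOf_injective (MulAut.conj h⁻¹).toMonoidHom (MulAut.conj h⁻¹).injective g
      simpa using this
    rw [this]; exact hc
  · rw [map_conj_le_iff]
    intro x hx
    have hmem : x ∈ (resOf p (E.map (MulAut.conj h).toMonoidHom)).map (MulAut.conj h⁻¹).toMonoidHom := by
      revert x
      show resOf p E ≤ _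
      rw [resOf_le_iff]
      intro g hg hc
      rw [mem_map_conj_iff]
      apply mem_resOf_of_coprime
      · have := conj_mem_map_conj E h g hg
        simpa using this
      · have : orderOf (h⁻¹⁻¹ * g * h⁻¹) = orderOf g := by
          have := orderOf_injective (MulAut.conj h).toMonoidHom (MulAut.conj h).injective g
          simpa using this
        rw [this]; exact hc
    rw [mem_map_conj_iff] at hmem
    simpa using hmem

theorem card_resOf_map_conj (p : ℕ) (E : Subgroup H) (h : H) :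
    Nat.card ↥(resOf p (E.map (MulAut.conj h).toMonoidHom)) = Nat.card ↥(resOf p E) := by
  rw [resOf_map_conj, card_map_conj']

/-- `E = O^p(E) · Y` for a Sylow subgroup `Y` of `E`. -/
theorem le_resOf_sup_sylow [Finite H] {p : ℕ} [Fact p.Prime] (E Y : Subgroup H) (hYE : Y ≤ E)
    (S : Sylow p ↥E) (hS : (S : Subgroup ↥E) = Y.subgroupOf E) : E ≤ resOf p E ⊔ Y := by
  have h1 := pResidual_sup_sylow S
  intro e he
  have h2 : (⟨e, he⟩ : ↥E) ∈ Cfsg.pResidual p ↥E ⊔ (S : Subgroup ↥E) := by rw [h1]; trivial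
  have h3 : e ∈ (Cfsg.pResidual p ↥E ⊔ (S : Subgroup ↥E)).map E.subtype := ⟨⟨e, he⟩, h2, rfl⟩
  rw [Subgroup.map_sup, hS, Subgroup.subgroupOf_map_subtype] at h3
  have h4 : resOf p E ⊔ Y ⊓ E ≤ resOf p E ⊔ Y := sup_le_sup_left inf_le_left _
  exact h4 h3

/-- A normal subgroup `D` of `E` with `E = D · Y` (`Y` a Sylow subgroup of `E`) contains `O^p(E)`. -/
theorem resOf_le_of_le_sup [Finite H] {p : ℕ} [Fact p.Prime] (E D Y : Subgroup H) (hDE : D ≤ E)
    (hED : E ≤ Subgroup.normalizer (D : Set H)) (hYE : Y ≤ E)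
    (S : Sylow p ↥E) (hS : (S : Subgroup ↥E) = Y.subgroupOf E) (h : E ≤ D ⊔ Y) : resOf p E ≤ D := by
  haveI hn : (D.subgroupOf E).Normal := (Subgroup.normal_subgroupOf_iff_le_normalizer hDE).mpr hED
  have htop : D.subgroupOf E ⊔ (S : Subgroup ↥E) = ⊤ := by
    rw [hS, ← Subgroup.subgroupOf_sup hDE hYE]
    apply le_antisymm le_top
    intro e _
    exact Subgroup.mem_subgroupOf.mpr (h e.2)
  have h1 := pResidual_le_of_sup_sylow_eq_top S (D.subgroupOf E) htop
  rintro _ ⟨x, hx, rfl⟩
  exact Subgroup.mem_subgroupOf.mp (h1 hx)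

/-- If the elements of `E` of order prime to `p` normalize the Sylow subgroup `Y` of `E`, then `Y ⊴ E`. -/
theorem le_normalizer_of_coprime_normalize [Finite H] {p : ℕ} [Fact p.Prime] (E Y : Subgroup H) (hYE : Y ≤ E)
    (S : Sylow p ↥E) (hS : (S : Subgroup ↥E) = Y.subgroupOf E)
    (h : ∀ g ∈ E, (orderOf g).Coprime p → g ∈ Subgroup.normalizer (Y : Set H)) :
    E ≤ Subgroup.normalizer (Y : Set H) := by
  refine (le_resOf_sup_sylow E Y hYE S hS).trans (sup_le ?_ Subgroup.le_normalizer)
  rw [resOf_le_iff]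
  exact h

end Cfsg.Agent.Helper6.TransFam
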