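import Mathlib
import Cfsg.Prelude.Def_LocalStructure
import Cfsg.Agent.Helper5.WeaklyClosed
import Cfsg.Agent.Helper5.PReducedRel
import Cfsg.Agent.Helper6.TransFamF

/-!
helper6: groups generated by the conjugates of a weakly closed `p`-subgroup: `L = O^p(L) Q` and
`O^p(L) = [O^p(L), Q]`.
-/

set_option autoImplicit false

namespace Cfsg.Agent.Helper6.WCl

open Cfsg Cfsg.Agent.Helper5 Cfsg.Agent.Helper6.TransFam
open scoped commutatorElement

variable {G : Type*} [Group G]

/-- An element of order prime to `p` in `N · Y`, with `Y` a `p`-group normalizing `N`, lies in `N`. -/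
theorem mem_of_coprime_of_mem_sup {p : ℕ} [Fact p.Prime] (N Y : Subgroup G)
    (hYN : Y ≤ Subgroup.normalizer (N : Set G)) (hY : IsPGroup p ↥Y) (g : G) (hg : g ∈ N ⊔ Y)
    (hc : (orderOf g).Coprime p) : g ∈ N := by
  have hg' : g ∈ ((Y ⊔ N : Subgroup G) : Set G) := by rw [sup_comm]; exact hg
  rw [Subgroup.coe_mul_of_left_le_normalizer_right Y N hYN] at hg'
  obtain ⟨y, hy, n, hn, rfl⟩ := hg'
  obtain ⟨c', hc', hpow⟩ := mul_pow_of_mem_normalizer N y n (hYN hy) hn (orderOf (y * n))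
  rw [pow_orderOf_eq_one] at hpow
  have hym : y ^ orderOf (y * n) ∈ N := by
    have : y ^ orderOf (y * n) = c'⁻¹ := by
      rw [eq_inv_iff_mul_eq_one]; exact hpow.symm
    rw [this]; exact N.inv_mem hc'
  obtain ⟨k, hk⟩ := hY ⟨y, hy⟩
  have hk' : y ^ (p ^ k) = 1 := by
    have := congrArg Subtype.val hk
    simpa using this
  have hcop : (orderOf (y * n)).Coprime (orderOf y) := by
    have hdvd : orderOf y ∣ p ^ k := orderOf_dvd_of_pow_eq_one hk'
    exact Nat.Coprime.coprime_dvd_right hdvd (Nat.Coprime.pow_right k hc)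
  obtain ⟨m, hm⟩ := exists_pow_eq_self_of_coprime hcop
  have hyN : y ∈ N := by
    rw [← hm]; exact N.pow_mem hym m
  exact N.mul_mem hyN hn

theorem commutatorElement_mul_right' (x y z : G) : ⁅x, y * z⁆ = ⁅x, y⁆ * (y * ⁅x, z⁆ * y⁻¹) := by
  simp only [commutatorElement_def]; group

theorem commutatorElement_mul_left' (x y z : G) : ⁅x * y, z⁆ = (x * ⁅y, z⁆ * x⁻¹) * ⁅x, z⁆ := by
  simp only [commutatorElement_def]; group

/-- `A` normalizes `[A, B]`. -/
theorem le_normalizer_commutator_left [Finite G] (A B : Subgroup G) :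
    A ≤ Subgroup.normalizer ((⁅A, B⁆ : Subgroup G) : Set G) := by
  intro a ha
  rw [mem_normalizer_iff_map_conj]
  apply le_antisymm
  · rw [Subgroup.map_le_iff_le_comap, Subgroup.commutator_le]
    intro x hx b hb
    rw [Subgroup.mem_comap]
    show a * ⁅x, b⁆ * a⁻¹ ∈ ⁅A, B⁆
    have h1 : a * ⁅x, b⁆ * a⁻¹ = ⁅a * x, b⁆ * ⁅a, b⁆⁻¹ := by
      rw [commutatorElement_mul_left']; group
    rw [h1]
    exact Subgroup.mul_mem _ (Subgroup.commutator_mem_commutator (A.mul_mem ha hx) hb)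
      (Subgroup.inv_mem _ (Subgroup.commutator_mem_commutator ha hb))
  · -- equal cardinalities
    have hle : (⁅A, B⁆ : Subgroup G).map (MulAut.conj a).toMonoidHom ≤ ⁅A, B⁆ := by
      rw [Subgroup.map_le_iff_le_comap, Subgroup.commutator_le]
      intro x hx b hb
      rw [Subgroup.mem_comap]
      show a * ⁅x, b⁆ * a⁻¹ ∈ ⁅A, B⁆
      have h1 : a * ⁅x, b⁆ * a⁻¹ = ⁅a * x, b⁆ * ⁅a, b⁆⁻¹ := by
        rw [commutatorElement_mul_left']; group
      rw [h1]
      exact Subgroup.mul_mem _ (Subgroup.commutator_mem_commutator (A.mul_mem ha hx) hb)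
        (Subgroup.inv_mem _ (Subgroup.commutator_mem_commutator ha hb))
    exact (Subgroup.eq_of_le_of_card_ge hle (by rw [card_map_conj'])).ge

theorem le_normalizer_commutator_right [Finite G] (A B : Subgroup G) :
    B ≤ Subgroup.normalizer ((⁅A, B⁆ : Subgroup G) : Set G) := by
  rw [Subgroup.commutator_comm]
  exact le_normalizer_commutator_left B A

/-- `N_G(L) ≤ N_G(O^p(L))`. -/
theorem normalizer_le_normalizer_resOf (p : ℕ) (L : Subgroup G) :
    Subgroup.normalizer (L : Set G) ≤ Subgroup.normalizer ((resOf p L : Subgroup G) : Set G) := by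
  intro x hx
  rw [mem_normalizer_iff_map_conj] at hx ⊢
  rw [← resOf_map_conj, hx]

/-- `L = O^p(L) Q` and `O^p(L) = [O^p(L), Q]` when `L` is generated by its conjugates of the weakly closed
`p`-subgroup `Q`. -/
theorem resOf_sup_eq_and_commutator_eq [Finite G] {p : ℕ} [Fact p.Prime] (Q : Subgroup G)
    (hQp : IsPGroup p ↥Q) (hwc : Cfsg.IsWeaklyClosedSubgroup p Q) (L : Subgroup G) (hQL : Q ≤ L)
    (hgen : L ≤ ⨆ l : ↥L, Q.map (MulAut.conj (l : G)).toMonoidHom) :
    L = resOf p L ⊔ Q ∧ ⁅resOf p L, Q⁆ = resOf p L := by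
  classical
  set K := resOf p L with hK
  have hKL : K ≤ L := resOf_le p L
  have hLK : L ≤ Subgroup.normalizer (K : Set G) :=
    Subgroup.le_normalizer.trans (normalizer_le_normalizer_resOf p L)
  obtain ⟨T, hQT, hTL, hTp, hTmax, -⟩ := exists_sylow_of_subgroup L Q hQL hQp
  -- a Sylow object
  have hSyl : ∃ S : Sylow p ↥L, (S : Subgroup ↥L) = T.subgroupOf L := by
    refine ⟨⟨T.subgroupOf L, hTp.comap_subtype, ?_⟩, rfl⟩
    intro Q' hQ' hle
    have h1 : T ≤ Q'.map L.subtype := by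
      intro x hx
      exact ⟨⟨x, hTL hx⟩, hle (Subgroup.mem_subgroupOf.mpr hx), rfl⟩
    have h2 := hTmax _ (Subgroup.map_subtype_le Q') (hQ'.map _) h1
    rw [← h2]
    exact (Subgroup.comap_map_eq_self_of_injective L.subtype_injective Q').symm
  obtain ⟨S, hS⟩ := hSyl
  have hLKT : L ≤ K ⊔ T := le_resOf_sup_sylow L T hTL S hS
  -- every `L`-conjugate of `Q` is a `K`-conjugate
  have hconj : ∀ l ∈ L, ∃ k ∈ K, Q.map (MulAut.conj l).toMonoidHom = Q.map (MulAut.conj k).toMonoidHom := by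
    intro l hl
    have hl' : l ∈ ((K ⊔ T : Subgroup G) : Set G) := hLKT hl
    rw [Subgroup.coe_mul_of_right_le_normalizer_left K T (hTL.trans hLK)] at hl'
    obtain ⟨k, hk, t, ht, rfl⟩ := hl'
    refine ⟨k, hk, ?_⟩
    rw [← map_conj_map_conj]
    congr 1
    apply IsWeaklyClosedSubgroup.conj_eq_of_le_pgroup hwc T hTp hQT t
    rw [map_conj_le_iff]
    intro x hx
    exact T.mul_mem (T.mul_mem ht (hQT hx)) (T.inv_mem ht)
  have hA1 : L = K ⊔ Q := by
    apply le_antisymm _ (sup_le hKL hQL)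
    refine hgen.trans (iSup_le ?_)
    intro l
    obtain ⟨k, hk, hkeq⟩ := hconj l l.2
    rw [hkeq, map_conj_le_iff]
    intro x hx
    exact Subgroup.mul_mem _ (Subgroup.mul_mem _ (Subgroup.mem_sup_left hk) (Subgroup.mem_sup_right hx))
      (Subgroup.inv_mem _ (Subgroup.mem_sup_left hk))
  refine ⟨hA1, ?_⟩
  set M := ⁅K, Q⁆ with hM
  have hMK : M ≤ K := by
    rw [hM, Subgroup.commutator_le]
    intro k hk q hq
    rw [commutatorElement_def]
    have h1 := (Subgroup.mem_normalizer_iff.mp (hLK (hQL hq)) k⁻¹).mp (K.inv_mem hk)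
    have h2 : k * q * k⁻¹ * q⁻¹ = k * (q * k⁻¹ * q⁻¹) := by group
    rw [h2]
    exact K.mul_mem hk h1
  apply le_antisymm hMK
  -- `Q M` is normal in `L`
  have hKM : K ≤ Subgroup.normalizer (M : Set G) := le_normalizer_commutator_left K Q
  have hQM : Q ≤ Subgroup.normalizer (M : Set G) := le_normalizer_commutator_right K Q
  have hKX : ∀ k ∈ K, ∀ x ∈ M ⊔ Q, k * x * k⁻¹ ∈ M ⊔ Q := by
    intro k hk x hx
    have hx' : x ∈ ((M ⊔ Q : Subgroup G) : Set G) := hx
    rw [Subgroup.coe_mul_of_right_le_normalizer_left M Q hQM] at hx'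
    obtain ⟨m, hm, q, hq, rfl⟩ := hx'
    have h1 : k * (m * q) * k⁻¹ = (k * m * k⁻¹) * ⁅k, q⁆ * q := by
      rw [commutatorElement_def]; group
    rw [h1]
    refine Subgroup.mul_mem _ (Subgroup.mul_mem _ (Subgroup.mem_sup_left ?_) (Subgroup.mem_sup_left ?_))
      (Subgroup.mem_sup_right hq)
    · exact (Subgroup.mem_normalizer_iff.mp (hKM hk) m).mp hm
    · exact Subgroup.commutator_mem_commutator hk hq
  have hLX : L ≤ M ⊔ Q := by
    refine hgen.trans (iSup_le ?_)
    intro l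
    obtain ⟨k, hk, hkeq⟩ := hconj l l.2
    rw [hkeq, map_conj_le_iff]
    intro x hx
    exact hKX k hk x (Subgroup.mem_sup_right hx)
  rw [hK, resOf_le_iff]
  intro g hg hc
  exact mem_of_coprime_of_mem_sup M Q hQM hQp g (hLX hg) hc

end Cfsg.Agent.Helper6.WCl
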