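import Mathlib
import Cfsg.Prelude.Def_LocalStructure
import Cfsg.Agent.Helper2.Quasisimple2
import Cfsg.Agent.Helper2.SubnormalP
import Cfsg.Agent.Helper6.WClA

/-!
helper6: abstract lemmas on a finite group `X` with `O_p(X) = 1`, a normal quasisimple subgroup `K`
and `X / K` a `p`-group; transport lemmas for `O^p`.
-/

set_option autoImplicit false

namespace Cfsg.Agent.Helper6.QSec

open Cfsg Cfsg.Agent.Helper5 Cfsg.Agent.Helper6.TransFam Cfsg.Agent.Helper6.WCl
open scoped commutatorElement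

variable {X : Type*} [Group X]

/-- Every subgroup of a finite nilpotent group is subnormal. -/
theorem isSubnormal_of_isNilpotent [Finite X] [Group.IsNilpotent X] (R : Subgroup X) :
    R.IsSubnormal := by
  induction R using WellFoundedGT.induction with
  | ind R ih =>
    by_cases hR : R = ⊤
    · subst hR; exact Subgroup.IsSubnormal.top
    · have hlt : R < Subgroup.normalizer (R : Set X) :=
        Group.normalizerCondition_of_isNilpotent R (lt_top_iff_ne_top.mpr hR)
      exact Subgroup.IsSubnormal.step R _ Subgroup.le_normalizer (ih _ hlt)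
        Subgroup.normal_in_normalizer

/-- If `X / K` is a `p`-group then every subgroup containing `K` is subnormal. -/
theorem isSubnormal_of_le_of_pquot [Finite X] {p : ℕ} [Fact p.Prime] (K : Subgroup X) [K.Normal]
    (hpq : ∀ x : X, ∃ k : ℕ, x ^ (p ^ k) ∈ K) (R : Subgroup X) (hKR : K ≤ R) : R.IsSubnormal := by
  have hP : IsPGroup p (X ⧸ K) := by
    intro y
    obtain ⟨x, rfl⟩ := QuotientGroup.mk_surjective y
    obtain ⟨k, hk⟩ := hpq x
    exact ⟨k, by rw [← QuotientGroup.mk_pow, QuotientGroup.eq_one_iff]; exact hk⟩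
  haveI : Group.IsNilpotent (X ⧸ K) := hP.isNilpotent
  have h1 : (R.map (QuotientGroup.mk' K)).IsSubnormal := isSubnormal_of_isNilpotent _
  have h2 := h1.comap (QuotientGroup.mk' K)
  rwa [Subgroup.comap_map_eq_self (by rw [QuotientGroup.ker_mk']; exact hKR)] at h2

/-- A perfect finite group equals its `O^p`. -/
theorem pResidual_eq_top_of_perfect [Finite X] (p : ℕ) [Fact p.Prime] (h : Group.IsPerfect X) :
    Cfsg.pResidual p X = ⊤ := by
  by_contra hne
  have hP : IsPGroup p (X ⧸ Cfsg.pResidual p X) := isPGroup_quotient_pResidual p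
  haveI : Group.IsNilpotent (X ⧸ Cfsg.pResidual p X) := hP.isNilpotent
  haveI : Nontrivial (X ⧸ Cfsg.pResidual p X) := by
    rw [← not_subsingleton_iff_nontrivial]
    intro hs
    apply hne
    rw [eq_top_iff]
    intro x _
    have := hs.elim (QuotientGroup.mk x : X ⧸ Cfsg.pResidual p X) 1
    exact (QuotientGroup.eq_one_iff x).mp this
  have hperf : Group.IsPerfect (X ⧸ Cfsg.pResidual p X) :=
    Group.IsPerfect.ofSurjective (QuotientGroup.mk'_surjective _)
  have hlt := Group.IsSolvable.commutator_lt_top_of_nontrivial (X ⧸ Cfsg.pResidual p X)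
  rw [hperf.commutator_eq_top] at hlt
  exact lt_irrefl _ hlt

/-- If `y ^ (p ^ k) ∈ N` and `y` has order prime to `p` then `y ∈ N`. -/
theorem mem_of_pow_mem_of_coprime {p : ℕ} (N : Subgroup X) (y : X) (k : ℕ)
    (hy : y ^ (p ^ k) ∈ N) (hc : (orderOf y).Coprime p) : y ∈ N := by
  have hc' : (p ^ k).Coprime (orderOf y) := (Nat.Coprime.pow_right k hc).symm
  obtain ⟨m, hm⟩ := exists_pow_eq_self_of_coprime hc'
  rw [← hm]
  exact N.pow_mem hy m

/-- `O^p(O^p(L)) = O^p(L)`. -/
theorem resOf_resOf (p : ℕ) (L : Subgroup X) : resOf p (resOf p L) = resOf p L :=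
  le_antisymm (resOf_le p _) (resOf_le_resOf_of_le p le_rfl)

/-- `O^p(L) = L` for a perfect finite subgroup `L`. -/
theorem resOf_eq_of_perfect [Finite X] (p : ℕ) [Fact p.Prime] (L : Subgroup X) (hL : ⁅L, L⁆ = L) :
    resOf p L = L := by
  unfold resOf
  rw [pResidual_eq_top_of_perfect p (Subgroup.isPerfect_iff.mpr hL), ← MonoidHom.range_eq_map,
    Subgroup.range_subtype]

/-- `O^p(E) ≤ D` when `E ≤ D Y` with `Y` a `p`-group normalizing `D`. -/
theorem resOf_le_of_le_sup_pgroup {p : ℕ} [Fact p.Prime] (E D Y : Subgroup X)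
    (hYD : Y ≤ Subgroup.normalizer (D : Set X)) (hY : IsPGroup p ↥Y) (h : E ≤ D ⊔ Y) :
    resOf p E ≤ D := by
  rw [resOf_le_iff]
  intro g hg hc
  exact mem_of_coprime_of_mem_sup D Y hYD hY g (h hg) hc

/-- Every element of `L` has a `p`-power in `O^p(L)`. -/
theorem exists_pow_mem_resOf [Finite X] (p : ℕ) [Fact p.Prime] (L : Subgroup X) (l : X) (hl : l ∈ L) :
    ∃ k : ℕ, l ^ (p ^ k) ∈ resOf p L := by
  have hP : IsPGroup p (↥L ⧸ Cfsg.pResidual p ↥L) := isPGroup_quotient_pResidual p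
  obtain ⟨k, hk⟩ := hP (QuotientGroup.mk (⟨l, hl⟩ : ↥L))
  rw [← QuotientGroup.mk_pow, QuotientGroup.eq_one_iff] at hk
  exact ⟨k, ⟨_, hk, rfl⟩⟩

/-- `O^p` commutes with images. -/
theorem resOf_map {Z : Type*} [Group Z] [Finite X] (p : ℕ) [Fact p.Prime] (f : X →* Z) (L : Subgroup X) :
    (resOf p L).map f = resOf p (L.map f) := by
  apply le_antisymm
  · rw [Subgroup.map_le_iff_le_comap, resOf_le_iff]
    intro g hg hc
    rw [Subgroup.mem_comap]
    apply mem_resOf_of_coprime (Subgroup.mem_map_of_mem f hg)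
    exact Nat.Coprime.coprime_dvd_left (orderOf_map_dvd f g) hc
  · rw [resOf_le_iff]
    rintro y ⟨l, hl, rfl⟩ hc
    obtain ⟨k, hk⟩ := exists_pow_mem_resOf p L l hl
    apply mem_of_pow_mem_of_coprime _ _ k _ hc
    rw [← map_pow]
    exact Subgroup.mem_map_of_mem f hk

/-- In a finite group `X` with `O_p(X) = 1`, a normal quasisimple subgroup `K` with `X / K` a `p`-group
satisfies `[K, Y] = K` for every nontrivial `p`-subgroup `Y`. -/
theorem comm_eq_of_quasisimple [Finite X] {p : ℕ} [Fact p.Prime] (K : Subgroup X) [hKn : K.Normal]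
    (hK : Cfsg.IsQuasisimple ↥K) (hO : Cfsg.pCore p X = ⊥)
    (hpq : ∀ x : X, ∃ k : ℕ, x ^ (p ^ k) ∈ K) (Y : Subgroup X) (hY : IsPGroup p ↥Y) (hY1 : Y ≠ ⊥) :
    ⁅K, Y⁆ = K := by
  have hperf : ⁅K, K⁆ = K := Subgroup.isPerfect_iff.mp hK.1
  have hle : ⁅K, Y⁆ ≤ K := Subgroup.commutator_le_left K Y
  by_contra hne
  have hN : ((⁅K, Y⁆ : Subgroup X).subgroupOf K).Normal :=
    (Subgroup.normal_subgroupOf_iff_le_normalizer hle).mpr (le_normalizer_commutator_left K Y)
  rcases Cfsg.Agent.Helper2.isSubnormal_quasisimple hK _ hN.isSubnormal with h | h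
  · apply hne
    apply le_antisymm hle
    exact Subgroup.subgroupOf_eq_top.mp h
  · have h1 : ⁅⁅K, Y⁆, K⁆ = ⊥ := by
      rw [Subgroup.commutator_eq_bot_iff_le_centralizer]
      intro n hn
      rw [Subgroup.mem_centralizer_iff]
      intro k hk
      have h0 := h (show (⟨n, hle hn⟩ : ↥K) ∈ (⁅K, Y⁆ : Subgroup X).subgroupOf K from hn)
      rw [Subgroup.mem_center_iff] at h0
      have h2 := h0 ⟨k, hk⟩
      exact congrArg Subtype.val h2
    have h2 : ⁅⁅Y, K⁆, K⁆ = ⊥ := by rw [Subgroup.commutator_comm Y K]; exact h1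
    have h3 : ⁅⁅K, K⁆, Y⁆ = ⊥ := Subgroup.commutator_commutator_eq_bot_of_rotate h1 h2
    rw [hperf, Subgroup.commutator_eq_bot_iff_le_centralizer] at h3
    have hKN : K ≤ Subgroup.normalizer (Y : Set X) := h3.trans (Subgroup.centralizer_le_normalizer _)
    have hsub : (Y ⊔ K).IsSubnormal := isSubnormal_of_le_of_pquot K hpq _ le_sup_right
    have hYs : Y.IsSubnormal :=
      Subgroup.IsSubnormal.step Y (Y ⊔ K) le_sup_left hsub
        ((Subgroup.normal_subgroupOf_iff_le_normalizer le_sup_left).mpr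
          (sup_le Subgroup.le_normalizer hKN))
    have := Cfsg.Agent.Helper2.isSubnormal_pGroup_le_pCore hYs hY
    rw [hO] at this
    exact hY1 (le_bot_iff.mp this)

/-- With `K` perfect and `X / K` a `p`-group, `O^p(W) = K` for every `W ≥ K`. -/
theorem resOf_eq_of_perfect_le [Finite X] {p : ℕ} [Fact p.Prime] (K W : Subgroup X)
    (hperf : ⁅K, K⁆ = K) (hKW : K ≤ W) (hpq : ∀ x : X, ∃ k : ℕ, x ^ (p ^ k) ∈ K) :
    resOf p W = K := by
  apply le_antisymm
  · rw [resOf_le_iff]
    intro g _ hc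
    obtain ⟨k, hk⟩ := hpq g
    exact mem_of_pow_mem_of_coprime K g k hk hc
  · have := resOf_le_resOf_of_le p (E := K) (K := W) ((resOf_le p K).trans hKW)
    rwa [resOf_eq_of_perfect p K hperf] at this

end Cfsg.Agent.Helper6.QSec
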