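import Mathlib
import Cfsg.Prelude.Def_LocalStructure
import Cfsg.Agent.Helper6.QSecA

/-!
helper6: the image `bar E C L` of a subgroup `L ≤ E` in `E / (C ∩ E)`.
-/

set_option autoImplicit false

namespace Cfsg.Agent.Helper6.QSec

open Cfsg Cfsg.Agent.Helper5 Cfsg.Agent.Helper6.TransFam Cfsg.Agent.Helper6.WCl
open scoped commutatorElement

variable {G : Type*} [Group G]

/-- The image of `L` in `E / (C ∩ E)`. -/
def bar (E C : Subgroup G) [(C.subgroupOf E).Normal] (L : Subgroup G) :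
    Subgroup (↥E ⧸ C.subgroupOf E) :=
  (L.subgroupOf E).map (QuotientGroup.mk' (C.subgroupOf E))

theorem subgroupOf_sup_map_subtype (E C L : Subgroup G) (hL : L ≤ E) :
    (L.subgroupOf E ⊔ C.subgroupOf E).map E.subtype = L ⊔ (E ⊓ C) := by
  rw [Subgroup.map_sup, Subgroup.subgroupOf_map_subtype, Subgroup.subgroupOf_map_subtype,
    inf_eq_left.mpr hL, inf_comm]

theorem bar_eq_iff (E C : Subgroup G) [(C.subgroupOf E).Normal] (L₁ L₂ : Subgroup G) (h1 : L₁ ≤ E)
    (h2 : L₂ ≤ E) : bar E C L₁ = bar E C L₂ ↔ L₁ ⊔ (E ⊓ C) = L₂ ⊔ (E ⊓ C) := by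
  unfold bar
  rw [Subgroup.map_eq_map_iff, QuotientGroup.ker_mk', ← subgroupOf_sup_map_subtype E C L₁ h1,
    ← subgroupOf_sup_map_subtype E C L₂ h2]
  exact (Subgroup.map_injective E.subtype_injective).eq_iff.symm

theorem bar_mono (E C : Subgroup G) [(C.subgroupOf E).Normal] {L₁ L₂ : Subgroup G} (h : L₁ ≤ L₂) :
    bar E C L₁ ≤ bar E C L₂ := by
  unfold bar
  apply Subgroup.map_mono
  intro x hx
  exact h hx

theorem bar_eq_bot_iff (E C : Subgroup G) [(C.subgroupOf E).Normal] (L : Subgroup G) (hL : L ≤ E) :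
    bar E C L = ⊥ ↔ L ≤ C := by
  unfold bar
  rw [Subgroup.map_eq_bot_iff, QuotientGroup.ker_mk']
  constructor
  · intro h x hx
    exact h (show (⟨x, hL hx⟩ : ↥E) ∈ L.subgroupOf E from hx)
  · intro h x hx
    exact h hx

theorem subgroupOf_commutator (E L₁ L₂ : Subgroup G) (h1 : L₁ ≤ E) (h2 : L₂ ≤ E) :
    (⁅L₁, L₂⁆ : Subgroup G).subgroupOf E = ⁅L₁.subgroupOf E, L₂.subgroupOf E⁆ := by
  apply Subgroup.map_injective E.subtype_injective
  rw [Subgroup.map_commutator, Subgroup.subgroupOf_map_subtype, Subgroup.subgroupOf_map_subtype,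
    Subgroup.subgroupOf_map_subtype, inf_eq_left.mpr h1, inf_eq_left.mpr h2,
    inf_eq_left.mpr ((Subgroup.commutator_mono h1 h2).trans (Subgroup.commutator_le_self E))]

theorem bar_commutator (E C : Subgroup G) [(C.subgroupOf E).Normal] (L₁ L₂ : Subgroup G) (h1 : L₁ ≤ E)
    (h2 : L₂ ≤ E) : bar E C ⁅L₁, L₂⁆ = ⁅bar E C L₁, bar E C L₂⁆ := by
  unfold bar
  rw [subgroupOf_commutator E L₁ L₂ h1 h2, Subgroup.map_commutator]

theorem subgroupOf_resOf [Finite G] (p : ℕ) [Fact p.Prime] (E L : Subgroup G) (hL : L ≤ E) :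
    (resOf p L).subgroupOf E = resOf p (L.subgroupOf E) := by
  apply Subgroup.map_injective E.subtype_injective
  rw [resOf_map, Subgroup.subgroupOf_map_subtype, Subgroup.subgroupOf_map_subtype,
    inf_eq_left.mpr hL, inf_eq_left.mpr ((resOf_le p L).trans hL)]

theorem bar_resOf [Finite G] (p : ℕ) [Fact p.Prime] (E C : Subgroup G) [(C.subgroupOf E).Normal]
    (L : Subgroup G) (hL : L ≤ E) : bar E C (resOf p L) = resOf p (bar E C L) := by
  unfold bar
  rw [subgroupOf_resOf p E L hL, resOf_map]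

theorem isPGroup_bar {p : ℕ} (E C : Subgroup G) [(C.subgroupOf E).Normal] (L : Subgroup G)
    (hL : IsPGroup p ↥L) : IsPGroup p ↥(bar E C L) := by
  unfold bar
  exact (hL.comap_subtype).map _

theorem bar_normal (E C : Subgroup G) [(C.subgroupOf E).Normal] (L : Subgroup G) (hL : L ≤ E)
    (hEL : E ≤ Subgroup.normalizer (L : Set G)) : (bar E C L).Normal := by
  unfold bar
  haveI : (L.subgroupOf E).Normal := (Subgroup.normal_subgroupOf_iff_le_normalizer hL).mpr hEL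
  exact Subgroup.Normal.map inferInstance _ (QuotientGroup.mk'_surjective _)

/-- `O^p(E) C / C` is the image of `O^p(E)`. -/
theorem bar_resOf_eq (p : ℕ) (E C : Subgroup G) [(C.subgroupOf E).Normal] :
    (Cfsg.pResidual p ↥E ⊔ C.subgroupOf E).map (QuotientGroup.mk' (C.subgroupOf E)) =
      bar E C (resOf p E) := by
  unfold bar resOf
  have h1 : ((Cfsg.pResidual p ↥E).map E.subtype).subgroupOf E = Cfsg.pResidual p ↥E :=
    Subgroup.comap_map_eq_self_of_injective E.subtype_injective _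
  rw [h1, Subgroup.map_sup]
  have h2 : (C.subgroupOf E).map (QuotientGroup.mk' (C.subgroupOf E)) = ⊥ := by
    rw [Subgroup.map_eq_bot_iff, QuotientGroup.ker_mk']
  rw [h2, sup_bot_eq]

/-- The facts extracted from the quotient `E / C_E(U)`. -/
theorem bar_facts [Finite G] {p : ℕ} [Fact p.Prime] (Q E C : Subgroup G)
    [hn : (C.subgroupOf E).Normal] (hQp : IsPGroup p ↥Q) (hQE : Q ≤ E) (hQC : ¬ Q ≤ C)
    (hred : Cfsg.pCore p (↥E ⧸ C.subgroupOf E) = ⊥)
    (hqs : Cfsg.IsQuasisimple ↥((Cfsg.pResidual p ↥E ⊔ C.subgroupOf E).map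
      (QuotientGroup.mk' (C.subgroupOf E))))
    (W : Subgroup G) (hQW : Q ≤ W) (hWE : W ≤ E) (hEW : E ≤ Subgroup.normalizer (W : Set G)) :
    bar E C (resOf p W) = (Cfsg.pResidual p ↥E ⊔ C.subgroupOf E).map
      (QuotientGroup.mk' (C.subgroupOf E)) ∧
    resOf p E ⊔ (E ⊓ C) = resOf p W ⊔ (E ⊓ C) ∧
    ⁅resOf p W, resOf p W⁆ ⊔ (E ⊓ C) = resOf p W ⊔ (E ⊓ C) ∧
    (∀ Y : Subgroup G, Y ≤ E → IsPGroup p ↥Y → ¬ Y ≤ C →
      ⁅resOf p W, Y⁆ ⊔ (E ⊓ C) = resOf p W ⊔ (E ⊓ C)) ∧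
    (∀ P : Subgroup G, P ≤ E → E ≤ Subgroup.normalizer (P : Set G) → IsPGroup p ↥P → P ≤ C) := by
  set K := (Cfsg.pResidual p ↥E ⊔ C.subgroupOf E).map (QuotientGroup.mk' (C.subgroupOf E)) with hK
  have hKbar : K = bar E C (resOf p E) := bar_resOf_eq p E C
  haveI hKn : K.Normal := by
    rw [hK]
    exact Subgroup.Normal.map inferInstance _ (QuotientGroup.mk'_surjective _)
  have hpq : ∀ x : ↥E ⧸ C.subgroupOf E, ∃ k : ℕ, x ^ (p ^ k) ∈ K := by
    intro x
    obtain ⟨e, rfl⟩ := QuotientGroup.mk_surjective x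
    have hP : IsPGroup p (↥E ⧸ Cfsg.pResidual p ↥E) := isPGroup_quotient_pResidual p
    obtain ⟨k, hk⟩ := hP (QuotientGroup.mk e)
    rw [← QuotientGroup.mk_pow, QuotientGroup.eq_one_iff] at hk
    refine ⟨k, ?_⟩
    rw [← QuotientGroup.mk_pow, hK]
    exact ⟨e ^ p ^ k, Subgroup.mem_sup_left hk, rfl⟩
  have hperf : ⁅K, K⁆ = K := Subgroup.isPerfect_iff.mp hqs.1
  have hA : ∀ Y : Subgroup G, Y ≤ E → IsPGroup p ↥Y → ¬ Y ≤ C → ⁅K, bar E C Y⁆ = K := by
    intro Y hYE hYp hYC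
    apply comm_eq_of_quasisimple K hqs hred hpq _ (isPGroup_bar E C Y hYp)
    intro h
    exact hYC ((bar_eq_bot_iff E C Y hYE).mp h)
  have hrWE : resOf p W ≤ E := (resOf_le p W).trans hWE
  -- `K ≤ W̄`
  haveI hWn : (bar E C W).Normal := bar_normal E C W hWE hEW
  have hKW : K ≤ bar E C W := by
    rw [← hA Q hQE hQp hQC]
    exact (Subgroup.commutator_mono le_rfl (bar_mono E C hQW)).trans
      (Subgroup.commutator_le_right _ _)
  have hres : bar E C (resOf p W) = K := by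
    rw [bar_resOf p E C W hWE]
    exact resOf_eq_of_perfect_le K _ hperf hKW hpq
  refine ⟨hres, ?_, ?_, ?_, ?_⟩
  · rw [← bar_eq_iff E C _ _ (resOf_le p E) hrWE, hres, hKbar]
  · rw [← bar_eq_iff E C _ _ ((Subgroup.commutator_le_self _).trans hrWE) hrWE,
      bar_commutator E C _ _ hrWE hrWE, hres, hperf]
  · intro Y hYE hYp hYC
    have hle : ⁅resOf p W, Y⁆ ≤ E :=
      (Subgroup.commutator_mono hrWE hYE).trans (Subgroup.commutator_le_self E)
    rw [← bar_eq_iff E C _ _ hle hrWE, bar_commutator E C _ _ hrWE hYE, hres]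
    exact hA Y hYE hYp hYC
  · intro P hPE hEP hPp
    rw [← bar_eq_bot_iff E C P hPE, eq_bot_iff, ← hred]
    haveI := bar_normal E C P hPE hEP
    exact le_sSup ⟨inferInstance, isPGroup_bar E C P hPp⟩

end Cfsg.Agent.Helper6.QSec
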