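import Mathlib
import Cfsg.Prelude.Def_LocalStructure
import Cfsg.Agent.Helper6.QSecB
import Cfsg.Agent.Helper6.FrakMC
import Cfsg.Agent.Helper6.FrakNG
import Cfsg.Agent.Helper5.LargeSub2
import Cfsg.Agent.S2843
import Cfsg.Agent.S2844

/-!
helper6: the lattice part of the quasisimple-section lemma for a large subgroup `Q`.
-/

set_option autoImplicit false

namespace Cfsg.Agent.Helper6.QSec

open Cfsg Cfsg.Agent.Helper5 Cfsg.Agent.Helper6.TransFam Cfsg.Agent.Helper6.WCl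
open scoped commutatorElement

variable {G : Type*} [Group G]

theorem commutatorElement_mem_of_mem_normalizer_left {N : Subgroup G} {x n : G}
    (hx : x ∈ Subgroup.normalizer (N : Set G)) (hn : n ∈ N) : ⁅x, n⁆ ∈ N := by
  rw [commutatorElement_def]
  exact N.mul_mem ((Subgroup.mem_normalizer_iff.mp hx n).mp hn) (N.inv_mem hn)

theorem commutatorElement_mem_of_mem_normalizer_right {N : Subgroup G} {x n : G}
    (hx : x ∈ Subgroup.normalizer (N : Set G)) (hn : n ∈ N) : ⁅n, x⁆ ∈ N := by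
  rw [commutatorElement_def]
  have h1 : x * n⁻¹ * x⁻¹ ∈ N := (Subgroup.mem_normalizer_iff.mp hx n⁻¹).mp (N.inv_mem hn)
  have h2 : n * x * n⁻¹ * x⁻¹ = n * (x * n⁻¹ * x⁻¹) := by group
  rw [h2]
  exact N.mul_mem hn h1

/-- Dedekind's law with relative normality. -/
theorem dedekind_of_le_normalizer (A B C : Subgroup G) (hBA : B ≤ A)
    (hBC : B ≤ Subgroup.normalizer (C : Set G)) : A ⊓ (B ⊔ C) = B ⊔ (A ⊓ C) := by
  apply le_antisymm
  · rintro x ⟨hxA, hx⟩
    have hx' : x ∈ ((B ⊔ C : Subgroup G) : Set G) := hx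
    rw [Subgroup.coe_mul_of_left_le_normalizer_right B C hBC] at hx'
    obtain ⟨b, hb, c, hc, rfl⟩ := hx'
    refine Subgroup.mul_mem _ (Subgroup.mem_sup_left hb) (Subgroup.mem_sup_right ⟨?_, hc⟩)
    have : c = b⁻¹ * (b * c) := by group
    rw [this]
    exact A.mul_mem (A.inv_mem (hBA hb)) hxA
  · exact sup_le (le_inf hBA le_sup_left) (le_inf inf_le_left (inf_le_right.trans le_sup_right))

/-- From `N C = L C` with `N ≤ L` normalizing `C`, get `L = N (L ∩ C)`. -/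
theorem eq_sup_inf_of_sup_eq (L N C : Subgroup G) (hNL : N ≤ L)
    (hNC : N ≤ Subgroup.normalizer (C : Set G)) (h : N ⊔ C = L ⊔ C) : L = N ⊔ (L ⊓ C) := by
  rw [← dedekind_of_le_normalizer L N C hNL hNC, h]
  exact (inf_eq_left.mpr le_sup_left).symm

/-- The standing hypotheses. -/
structure QHyp (p : ℕ) (Q U E : Subgroup G) : Prop where
  hQp : IsPGroup p ↥Q
  hQ1 : Q ≠ ⊥
  hQ : Cfsg.IsLarge Q
  hUp : IsPGroup p ↥U
  hU1 : U ≠ ⊥
  hQE : Q ≤ E
  hEU : E ≤ Subgroup.normalizer (U : Set G)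
  hQn : ¬ E ≤ Subgroup.normalizer (Q : Set G)

namespace QHyp

variable {p : ℕ} {Q U E : Subgroup G}

theorem hwc [Finite G] [Fact p.Prime] (h : QHyp p Q U E) : Cfsg.IsWeaklyClosedSubgroup p Q :=
  Cfsg.Agent.S2844.large_weaklyClosed Q h.hQp h.hQ1 h.hQ

theorem not_le_C (h : QHyp p Q U E) : ¬ Q ≤ Subgroup.centralizer (U : Set G) := by
  intro hQC
  apply h.hQn
  refine h.hEU.trans (h.hQ.2 U ?_ h.hU1)
  intro u hu
  rw [Subgroup.mem_centralizer_iff]
  intro q hq
  exact ((Subgroup.mem_centralizer_iff.mp (hQC hq)) u hu).symm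

theorem C_le_normalizer_Q [Finite G] [Fact p.Prime] (h : QHyp p Q U E) :
    Subgroup.centralizer (U : Set G) ≤ Subgroup.normalizer (Q : Set G) :=
  large_centralizer_le_normalizer Q h.hQp h.hQ U h.hUp h.hU1 (h.hQE.trans h.hEU)

theorem E_le_normalizer_C (h : QHyp p Q U E) :
    E ≤ Subgroup.normalizer ((Subgroup.centralizer (U : Set G) : Subgroup G) : Set G) :=
  h.hEU.trans (normalizer_le_normalizer_centralizer U)

theorem Ew_le (Q E : Subgroup G) : Cfsg.weakClosure Q E ≤ E := by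
  unfold Cfsg.weakClosure
  apply iSup_le
  intro g
  exact g.2

theorem Q_le_Ew (h : QHyp p Q U E) : Q ≤ Cfsg.weakClosure Q E :=
  Cfsg.Agent.Helper6.FrakN.le_weakClosure Q h.hQE

theorem E_le_normalizer_Ew [Finite G] (Q E : Subgroup G) :
    E ≤ Subgroup.normalizer ((Cfsg.weakClosure Q E : Subgroup G) : Set G) :=
  Cfsg.Agent.Helper6.FrakN.le_normalizer_weakClosure Q E

theorem E_le_normalizer_Er [Finite G] (p : ℕ) (Q E : Subgroup G) :
    E ≤ Subgroup.normalizer ((resOf p (Cfsg.weakClosure Q E) : Subgroup G) : Set G) :=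
  (E_le_normalizer_Ew Q E).trans (normalizer_le_normalizer_resOf p _)

theorem Er_le (p : ℕ) (Q E : Subgroup G) : resOf p (Cfsg.weakClosure Q E) ≤ E :=
  (resOf_le p _).trans (Ew_le Q E)

theorem Ew_gen [Finite G] [Fact p.Prime] (h : QHyp p Q U E) : Cfsg.weakClosure Q E ≤
    ⨆ l : ↥(Cfsg.weakClosure Q E), Q.map (MulAut.conj (l : G)).toMonoidHom := by
  set L := Cfsg.weakClosure Q E with hL
  conv_lhs => rw [hL]; unfold Cfsg.weakClosure
  apply iSup_le
  intro g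
  have hg : Q.map (MulAut.conj (g : G)).toMonoidHom ≤ L := by
    rw [hL]
    unfold Cfsg.weakClosure
    exact le_iSup (fun g : {g : G // Q.map (MulAut.conj g).toMonoidHom ≤ E} =>
      Q.map (MulAut.conj (g : G)).toMonoidHom) g
  obtain ⟨l, hl, hgl⟩ := IsWeaklyClosedSubgroup.exists_conj_in h.hwc h.hQp L h.Q_le_Ew (g : G) hg
  rw [hgl]
  exact le_iSup (fun l : ↥L => Q.map (MulAut.conj (l : G)).toMonoidHom) ⟨l, hl⟩

theorem Ew_eq [Finite G] [Fact p.Prime] (h : QHyp p Q U E) :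
    Cfsg.weakClosure Q E = resOf p (Cfsg.weakClosure Q E) ⊔ Q :=
  (resOf_sup_eq_and_commutator_eq Q h.hQp h.hwc _ h.Q_le_Ew h.Ew_gen).1

theorem Er_comm_Q [Finite G] [Fact p.Prime] (h : QHyp p Q U E) :
    ⁅resOf p (Cfsg.weakClosure Q E), Q⁆ = resOf p (Cfsg.weakClosure Q E) :=
  (resOf_sup_eq_and_commutator_eq Q h.hQp h.hwc _ h.Q_le_Ew h.Ew_gen).2

theorem comm_Ew_C [Finite G] [Fact p.Prime] (h : QHyp p Q U E) :
    ⁅Cfsg.weakClosure Q E, Subgroup.centralizer (U : Set G)⁆ ≤ Cfsg.pCoreOf p (Cfsg.weakClosure Q E) :=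
  (Cfsg.Agent.S2843.result Q h.hQp h.hQ1 h.hQ E h.hQE U h.hUp h.hU1 h.hEU).2.1

end QHyp

section main

variable {p : ℕ} {Q U E : Subgroup G}

/-- `E_∘` is perfect. -/
theorem QHyp.Er_perfect [Finite G] [Fact p.Prime] (h : QHyp p Q U E)
    (hperfK : ⁅resOf p (Cfsg.weakClosure Q E), resOf p (Cfsg.weakClosure Q E)⁆ ⊔
        (E ⊓ Subgroup.centralizer (U : Set G)) =
      resOf p (Cfsg.weakClosure Q E) ⊔ (E ⊓ Subgroup.centralizer (U : Set G))) :
    ⁅resOf p (Cfsg.weakClosure Q E), resOf p (Cfsg.weakClosure Q E)⁆ =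
      resOf p (Cfsg.weakClosure Q E) := by
  have hErE : resOf p (Cfsg.weakClosure Q E) ≤ E := QHyp.Er_le p Q E
  have hErn := QHyp.E_le_normalizer_Er p Q E
  have hres0 := resOf_resOf p (Cfsg.weakClosure Q E)
  have hcq := h.Er_comm_Q
  set C := Subgroup.centralizer (U : Set G) with hC
  set Er := resOf p (Cfsg.weakClosure Q E) with hEr
  set A := ⁅Er, Er⁆ with hA
  have hAEr : A ≤ Er := Subgroup.commutator_le_self Er
  have hEA : E ≤ Subgroup.normalizer (A : Set G) := by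
    intro x hx
    rw [mem_normalizer_iff_map_conj, hA, Subgroup.map_commutator,
      (mem_normalizer_iff_map_conj Er x).mp (hErn hx)]
  have hECE : E ≤ Subgroup.normalizer ((E ⊓ C : Subgroup G) : Set G) := fun x hx =>
    mem_normalizer_inf E C x (Subgroup.le_normalizer hx) (h.E_le_normalizer_C hx)
  have hdec : Er = A ⊔ (Er ⊓ (E ⊓ C)) :=
    eq_sup_inf_of_sup_eq Er A (E ⊓ C) hAEr ((hAEr.trans hErE).trans hECE) hperfK
  have hD : Er ⊓ (E ⊓ C) = Er ⊓ C := by rw [← inf_assoc, inf_eq_left.mpr hErE]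
  rw [hD] at hdec
  have hkey : Er ≤ A ⊔ ((Er ⊓ C) ⊓ Q) := by
    conv_lhs => rw [← hcq]
    rw [Subgroup.commutator_le]
    intro x hx q hq
    have hx' : x ∈ ((A ⊔ (Er ⊓ C) : Subgroup G) : Set G) := by rw [← hdec]; exact hx
    rw [Subgroup.coe_mul_of_right_le_normalizer_left A (Er ⊓ C)
      ((inf_le_left.trans hErE).trans hEA)] at hx'
    obtain ⟨a, ha, d, hd, rfl⟩ := hx'
    rw [commutatorElement_mul_left']
    have hqE : q ∈ E := h.hQE hq
    have h1 : ⁅a, q⁆ ∈ A := commutatorElement_mem_of_mem_normalizer_right (hEA hqE) ha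
    have h2 : ⁅d, q⁆ ∈ (Er ⊓ C) ⊓ Q := by
      constructor
      · have hqD : q ∈ Subgroup.normalizer ((Er ⊓ C : Subgroup G) : Set G) :=
          mem_normalizer_inf Er C q (hErn hqE) (h.E_le_normalizer_C hqE)
        exact commutatorElement_mem_of_mem_normalizer_right hqD hd
      · exact commutatorElement_mem_of_mem_normalizer_left (h.C_le_normalizer_Q hd.2) hq
    exact Subgroup.mul_mem _ (Subgroup.mul_mem _ (Subgroup.mul_mem _ (Subgroup.mem_sup_left ha)
      (Subgroup.mem_sup_right h2)) (Subgroup.inv_mem _ (Subgroup.mem_sup_left ha)))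
      (Subgroup.mem_sup_left h1)
  have hres : resOf p Er ≤ A := resOf_le_of_le_sup_pgroup Er A ((Er ⊓ C) ⊓ Q)
    ((inf_le_right.trans h.hQE).trans hEA) (h.hQp.to_le inf_le_right) hkey
  rw [hres0] at hres
  exact le_antisymm hAEr hres

/-- `[E_∘ ∩ C, E_∘] ≤ O_p(E°) ∩ E_∘`. -/
theorem QHyp.comm_D_le_inf [Finite G] [Fact p.Prime] (h : QHyp p Q U E) :
    ⁅resOf p (Cfsg.weakClosure Q E) ⊓ Subgroup.centralizer (U : Set G),
      resOf p (Cfsg.weakClosure Q E)⁆ ≤
      Cfsg.pCoreOf p (Cfsg.weakClosure Q E) ⊓ resOf p (Cfsg.weakClosure Q E) := by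
  apply le_inf
  · rw [Subgroup.commutator_comm]
    exact (Subgroup.commutator_mono (resOf_le p _) inf_le_right).trans h.comm_Ew_C
  · exact (Subgroup.commutator_mono inf_le_left le_rfl).trans (Subgroup.commutator_le_self _)

theorem isPGroup_P0 (p : ℕ) (Q E : Subgroup G) :
    IsPGroup p ↥(Cfsg.pCoreOf p (Cfsg.weakClosure Q E) ⊓ resOf p (Cfsg.weakClosure Q E) : Subgroup G) :=
  (isPGroup_pCore_map_subtype p (Cfsg.weakClosure Q E)).to_le inf_le_left

/-- `[E_∘ ∩ C, E_∘] ≤ O_p(E_∘)`. -/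
theorem QHyp.comm_D_le [Finite G] [Fact p.Prime] (h : QHyp p Q U E) :
    ⁅resOf p (Cfsg.weakClosure Q E) ⊓ Subgroup.centralizer (U : Set G),
      resOf p (Cfsg.weakClosure Q E)⁆ ≤ Cfsg.pCoreOf p (resOf p (Cfsg.weakClosure Q E)) := by
  refine h.comm_D_le_inf.trans ?_
  show _ ≤ (Cfsg.pCore p ↥(resOf p (Cfsg.weakClosure Q E))).map (resOf p (Cfsg.weakClosure Q E)).subtype
  apply le_pCore_map_subtype _ _ inf_le_right (isPGroup_P0 p Q E)
  intro x hx
  exact mem_normalizer_inf _ _ x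
    (le_normalizer_pCore_map_subtype p (Cfsg.weakClosure Q E) (resOf_le p _ hx))
    (Subgroup.le_normalizer hx)

/-- `E_∘ = [E_∘, Y]`. -/
theorem QHyp.comm_eq [Finite G] [Fact p.Prime] (h : QHyp p Q U E)
    (hperf : ⁅resOf p (Cfsg.weakClosure Q E), resOf p (Cfsg.weakClosure Q E)⁆ =
      resOf p (Cfsg.weakClosure Q E)) (Y : Subgroup G) (hYE : Y ≤ E)
    (hY : ⁅resOf p (Cfsg.weakClosure Q E), Y⁆ ⊔ (E ⊓ Subgroup.centralizer (U : Set G)) =
      resOf p (Cfsg.weakClosure Q E) ⊔ (E ⊓ Subgroup.centralizer (U : Set G))) :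
    ⁅resOf p (Cfsg.weakClosure Q E), Y⁆ = resOf p (Cfsg.weakClosure Q E) := by
  have hErE : resOf p (Cfsg.weakClosure Q E) ≤ E := QHyp.Er_le p Q E
  have hErn := QHyp.E_le_normalizer_Er p Q E
  have hres0 := resOf_resOf p (Cfsg.weakClosure Q E)
  have hcomm := h.comm_D_le_inf
  have hP0 := isPGroup_P0 p Q E
  set C := Subgroup.centralizer (U : Set G) with hC
  set P₀ := Cfsg.pCoreOf p (Cfsg.weakClosure Q E) ⊓ resOf p (Cfsg.weakClosure Q E) with hP₀
  set Er := resOf p (Cfsg.weakClosure Q E) with hEr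
  set N := ⁅Er, Y⁆ with hN
  have hNEr : N ≤ Er := by
    rw [hN, Subgroup.commutator_comm]
    exact Cfsg.Agent.Helper2.commutator_le_of_le_normalizer (hYE.trans hErn)
  have hErN : Er ≤ Subgroup.normalizer (N : Set G) := le_normalizer_commutator_left Er Y
  have hECE : E ≤ Subgroup.normalizer ((E ⊓ C : Subgroup G) : Set G) := fun x hx =>
    mem_normalizer_inf E C x (Subgroup.le_normalizer hx) (h.E_le_normalizer_C hx)
  have hdec : Er = N ⊔ (Er ⊓ (E ⊓ C)) :=
    eq_sup_inf_of_sup_eq Er N (E ⊓ C) hNEr ((hNEr.trans hErE).trans hECE) hY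
  have hD : Er ⊓ (E ⊓ C) = Er ⊓ C := by rw [← inf_assoc, inf_eq_left.mpr hErE]
  rw [hD] at hdec
  have hkey : Er ≤ N ⊔ P₀ := by
    conv_lhs => rw [← hperf]
    rw [Subgroup.commutator_le]
    intro x hx y hy
    have hy' : y ∈ ((N ⊔ (Er ⊓ C) : Subgroup G) : Set G) := by rw [← hdec]; exact hy
    rw [Subgroup.coe_mul_of_right_le_normalizer_left N (Er ⊓ C) (inf_le_left.trans hErN)] at hy'
    obtain ⟨n, hn, d, hd, rfl⟩ := hy'
    rw [commutatorElement_mul_right']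
    have h1 : ⁅x, n⁆ ∈ N := commutatorElement_mem_of_mem_normalizer_left (hErN hx) hn
    have h2 : ⁅x, d⁆ ∈ P₀ := by
      apply hcomm
      rw [Subgroup.commutator_comm]
      exact Subgroup.commutator_mem_commutator hx hd
    exact Subgroup.mul_mem _ (Subgroup.mem_sup_left h1) (Subgroup.mul_mem _ (Subgroup.mul_mem _
      (Subgroup.mem_sup_left hn) (Subgroup.mem_sup_right h2))
      (Subgroup.inv_mem _ (Subgroup.mem_sup_left hn)))
  have hres : resOf p Er ≤ N := resOf_le_of_le_sup_pgroup Er N P₀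
    (inf_le_right.trans hErN) hP0 hkey
  rw [hres0] at hres
  exact le_antisymm hNEr hres

/-- `O_p(E_∘) ≤ C`. -/
theorem QHyp.pCoreOf_Er_le [Finite G] [Fact p.Prime] (C : Subgroup G)
    (hOp : ∀ P : Subgroup G, P ≤ E → E ≤ Subgroup.normalizer (P : Set G) → IsPGroup p ↥P → P ≤ C) :
    Cfsg.pCoreOf p (resOf p (Cfsg.weakClosure Q E)) ≤ C :=
  hOp _ ((pCore_map_subtype_le p _).trans (QHyp.Er_le p Q E))
    ((QHyp.E_le_normalizer_Er p Q E).trans
      (Cfsg.Agent.Helper6.FrakM.normalizer_le_normalizer_pCoreOf p _))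
    (isPGroup_pCore_map_subtype p _)

end main

end Cfsg.Agent.Helper6.QSec
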