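import Mathlib
import Cfsg.Prelude.Def_LocalStructure
import Cfsg.Agent.Helper6.QSecC

/-!
helper6: the quotient conclusions of the quasisimple-section lemma.
-/

set_option autoImplicit false

namespace Cfsg.Agent.Helper6.QSec

open Cfsg Cfsg.Agent.Helper5 Cfsg.Agent.Helper6.TransFam Cfsg.Agent.Helper6.WCl
open scoped commutatorElement

variable {G : Type*} [Group G]

/-- `E_r / C_{E_r}(U)` is isomorphic to the image of `E_r` in `E / C_E(U)`. -/
theorem isQuasisimple_quot_of_bar (E C Er : Subgroup G) [hn : (C.subgroupOf E).Normal]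
    [hn2 : (C.subgroupOf Er).Normal] (hErE : Er ≤ E) (K : Subgroup (↥E ⧸ C.subgroupOf E))
    (hK : bar E C Er = K) (hqs : Cfsg.IsQuasisimple ↥K) :
    Cfsg.IsQuasisimple (↥Er ⧸ C.subgroupOf Er) := by
  let ψ : ↥Er →* ↥E ⧸ C.subgroupOf E :=
    (QuotientGroup.mk' (C.subgroupOf E)).comp (Subgroup.inclusion hErE)
  have hker : ψ.ker = C.subgroupOf Er := by
    ext x
    rw [MonoidHom.mem_ker]
    show (QuotientGroup.mk' (C.subgroupOf E)) (Subgroup.inclusion hErE x) = 1 ↔ _
    rw [QuotientGroup.mk'_apply, QuotientGroup.eq_one_iff]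
    rfl
  have hrange : ψ.range = K := by
    rw [← hK]
    unfold bar
    ext y
    constructor
    · rintro ⟨x, rfl⟩
      exact ⟨Subgroup.inclusion hErE x, x.2, rfl⟩
    · rintro ⟨e, he, rfl⟩
      exact ⟨⟨(e : G), he⟩, rfl⟩
  have e : ↥Er ⧸ C.subgroupOf Er ≃* ↥K :=
    (QuotientGroup.quotientMulEquivOfEq hker.symm).trans
      ((QuotientGroup.quotientKerEquivRange ψ).trans (MulEquiv.subgroupCongr hrange))
  exact Cfsg.Agent.Helper2.isQuasisimple_of_mulEquiv e.symm hqs

/-- A perfect group `X` with `X / D` quasisimple, `O_p(X) ≤ D` and `[D, X] ≤ O_p(X)` has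
`X / O_p(X)` quasisimple. -/
theorem isQuasisimple_quot_pCore {X : Type*} [Group X] (p : ℕ) (D : Subgroup X) [D.Normal]
    (hqs : Cfsg.IsQuasisimple (X ⧸ D)) (hperf : Group.IsPerfect X) (hPD : Cfsg.pCore p X ≤ D)
    (hcent : ∀ d ∈ D, ∀ w : X, ⁅d, w⁆ ∈ Cfsg.pCore p X) :
    Cfsg.IsQuasisimple (X ⧸ Cfsg.pCore p X) := by
  let χ : X ⧸ Cfsg.pCore p X →* X ⧸ D :=
    QuotientGroup.map (Cfsg.pCore p X) D (MonoidHom.id X) hPD
  have hsurj : Function.Surjective χ := by
    intro y
    obtain ⟨x, rfl⟩ := QuotientGroup.mk_surjective y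
    exact ⟨QuotientGroup.mk x, rfl⟩
  have hkerc : χ.ker ≤ Subgroup.center (X ⧸ Cfsg.pCore p X) := by
    intro y hy
    obtain ⟨x, rfl⟩ := QuotientGroup.mk_surjective y
    rw [MonoidHom.mem_ker] at hy
    have hxD : x ∈ D := by
      have : χ (QuotientGroup.mk x) = QuotientGroup.mk x := rfl
      rw [this, QuotientGroup.eq_one_iff] at hy
      exact hy
    rw [Subgroup.mem_center_iff]
    intro z
    obtain ⟨w, rfl⟩ := QuotientGroup.mk_surjective z
    have h1 := hcent x hxD w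
    rw [← QuotientGroup.eq_one_iff, commutatorElement_def] at h1
    have h2 : (QuotientGroup.mk (x * w * x⁻¹ * w⁻¹) : X ⧸ Cfsg.pCore p X) =
        QuotientGroup.mk x * QuotientGroup.mk w * (QuotientGroup.mk x)⁻¹ * (QuotientGroup.mk w)⁻¹ := rfl
    rw [h2] at h1
    have h3 : (QuotientGroup.mk x : X ⧸ Cfsg.pCore p X) * QuotientGroup.mk w =
        QuotientGroup.mk w * QuotientGroup.mk x := by
      have := congrArg (fun t => t * QuotientGroup.mk w * QuotientGroup.mk x) h1
      simpa [mul_assoc] using this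
    exact h3.symm
  have hperf' : Group.IsPerfect (X ⧸ Cfsg.pCore p X) :=
    Group.IsPerfect.ofSurjective (f := QuotientGroup.mk' (Cfsg.pCore p X))
      (QuotientGroup.mk'_surjective _)
  exact Cfsg.Agent.Helper2.isQuasisimple_of_central_ext hperf' χ hsurj hkerc hqs

end Cfsg.Agent.Helper6.QSec
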