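import Mathlib

set_option autoImplicit false

/-!
# The regular embedding of a quadratic extension into `GL₂`

Package (E) for S2376: for a field extension `E / F` with an `F`-basis `b : Basis (Fin 2) F E`,
the regular representation `Algebra.leftMulMatrix b : E →ₐ[F] M₂(F)` restricted to units,
its determinant (the norm), "a triangular image is scalar", and the centraliser of the image of a
non-scalar element.  All statements are basis independent.
-/

namespace Cfsg.Agent.Helper6.QuadEmb

open Matrix Module

section generic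

variable {F E : Type*} [Field F] [Field E] [Algebra F E] (b : Basis (Fin 2) F E)

/-- The regular representation of `Eˣ` on `E ≅ F²`, as a homomorphism into `GL₂(F)`. -/
noncomputable def qeHom : Eˣ →* GL (Fin 2) F :=
  Units.map ((Algebra.leftMulMatrix b : E →ₐ[F] Matrix (Fin 2) (Fin 2) F) :
    E →* Matrix (Fin 2) (Fin 2) F)

theorem qe_hom_val (z : Eˣ) :
    ((qeHom b z : GL (Fin 2) F) : Matrix (Fin 2) (Fin 2) F) = Algebra.leftMulMatrix b (z : E) :=
  rfl

theorem qe_hom_injective : Function.Injective (qeHom b) :=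
  Units.map_injective (Algebra.leftMulMatrix_injective b)

theorem qe_det (z : E) : (Algebra.leftMulMatrix b z).det = Algebra.norm F z :=
  (Algebra.norm_eq_matrix_det b z).symm

theorem qe_hom_det (z : Eˣ) :
    ((qeHom b z : GL (Fin 2) F) : Matrix (Fin 2) (Fin 2) F).det = Algebra.norm F (z : E) := by
  rw [qe_hom_val, qe_det]

theorem qe_hom_det' (z : Eˣ) :
    Matrix.GeneralLinearGroup.det (qeHom b z) = Units.map (Algebra.norm F : E →* F) z := by
  ext
  simp [qe_hom_val, qe_det]

theorem qe_algebraMap (a : F) :
    Algebra.leftMulMatrix b (algebraMap F E a) = Matrix.scalar (Fin 2) a := by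
  rw [AlgHom.commutes]
  rfl

/-- A column of the regular matrix. -/
theorem qe_mul_basis (z : E) (j : Fin 2) :
    z * b j = Algebra.leftMulMatrix b z 0 j • b 0 + Algebra.leftMulMatrix b z 1 j • b 1 := by
  conv_lhs => rw [← b.sum_repr (z * b j)]
  rw [Fin.sum_univ_two, Algebra.leftMulMatrix_eq_repr_mul, Algebra.leftMulMatrix_eq_repr_mul]

/-- If one off-diagonal entry of the regular matrix of `z` vanishes, `z` is a scalar. -/
theorem qe_of_entry_zero (z : E) (i j : Fin 2) (hij : i ≠ j)
    (h : Algebra.leftMulMatrix b z i j = 0) :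
    z = algebraMap F E (Algebra.leftMulMatrix b z j j) := by
  have hb : b j ≠ 0 := b.ne_zero j
  have h1 := qe_mul_basis b z j
  have h2 : z * b j = (Algebra.leftMulMatrix b z j j) • b j := by
    fin_cases i <;> fin_cases j
    · exact absurd rfl hij
    · simp only [Fin.zero_eta, Fin.mk_one] at h h1 ⊢
      rw [h1, h, zero_smul, zero_add]
    · simp only [Fin.zero_eta, Fin.mk_one] at h h1 ⊢
      rw [h1, h, zero_smul, add_zero]
    · exact absurd rfl hij
  rw [Algebra.smul_def] at h2
  exact mul_right_cancel₀ hb h2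

theorem qe_mem_range_of_entry_zero (z : E) (i j : Fin 2) (hij : i ≠ j)
    (h : Algebra.leftMulMatrix b z i j = 0) : z ∈ Set.range (algebraMap F E) :=
  ⟨_, (qe_of_entry_zero b z i j hij h).symm⟩

/-- A diagonal regular matrix comes from a scalar. -/
theorem qe_mem_range_of_isDiag (z : E) (h : (Algebra.leftMulMatrix b z).IsDiag) :
    z ∈ Set.range (algebraMap F E) :=
  qe_mem_range_of_entry_zero b z 0 1 (by decide) (h (by decide))

theorem qe_finrank (b : Basis (Fin 2) F E) : Module.finrank F E = 2 := by
  rw [Module.finrank_eq_card_basis b, Fintype.card_fin]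

/-- The centraliser in `M₂(F)` of the regular matrix of a non-scalar element is the image of `E`. -/
theorem qe_centralizer (z0 : E) (hz0 : z0 ∉ Set.range (algebraMap F E))
    (A : Matrix (Fin 2) (Fin 2) F)
    (hA : A * Algebra.leftMulMatrix b z0 = Algebra.leftMulMatrix b z0 * A) :
    ∃ w : E, A = Algebra.leftMulMatrix b w := by
  set f : E →ₗ[F] E := Matrix.toLin b b A with hf
  have hcomm : ∀ y, f (z0 * y) = z0 * f y := by
    intro y
    have h1 := congrArg (Matrix.toLin b b) hA
    rw [Matrix.toLin_mul b b b, Matrix.toLin_mul b b b, Algebra.leftMulMatrix_apply,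
      Matrix.toLin_toMatrix] at h1
    have h2 := LinearMap.congr_fun h1 y
    simpa using h2
  -- the elements commuting with `f` form a subalgebra
  let S : Subalgebra F E :=
    { carrier := {e | ∀ y, f (e * y) = e * f y}
      mul_mem' := by
        intro x y hx hy t
        rw [mul_assoc, hx, hy, mul_assoc]
      add_mem' := by
        intro x y hx hy t
        rw [add_mul, map_add, hx, hy, add_mul]
      algebraMap_mem' := by
        intro r t
        rw [← Algebra.smul_def, map_smul, Algebra.smul_def] }
  have hzS : z0 ∈ S := hcomm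
  have hS : S = ⊤ := by
    have := Subalgebra.isSimpleOrder_of_finrank (qe_finrank b)
    rcases eq_bot_or_eq_top S with h | h
    · exfalso
      rw [h, Algebra.mem_bot] at hzS
      exact hz0 hzS
    · exact h
  have hall : ∀ e y, f (e * y) = e * f y := by
    intro e
    have : e ∈ S := by rw [hS]; exact Algebra.mem_top
    exact this
  refine ⟨f 1, ?_⟩
  have hfl : f = Algebra.lmul F E (f 1) := by
    apply LinearMap.ext
    intro y
    have := hall y 1
    rw [mul_one] at this
    rw [this, mul_comm]
    rfl
  have : A = LinearMap.toMatrix b b f := by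
    rw [hf, LinearMap.toMatrix_toLin]
  rw [this, Algebra.leftMulMatrix_apply, ← hfl]

/-- Converse: everything in the image of `E` commutes. -/
theorem qe_commute (z w : E) :
    Algebra.leftMulMatrix b z * Algebra.leftMulMatrix b w =
      Algebra.leftMulMatrix b w * Algebra.leftMulMatrix b z := by
  rw [← map_mul, ← map_mul, mul_comm]

/-- The centraliser of `qeHom b z0` (`z0` not a scalar) in `GL₂(F)` is the image of `qeHom b`. -/
theorem qe_centralizer_GL (z0 : Eˣ) (hz0 : (z0 : E) ∉ Set.range (algebraMap F E))
    (A : GL (Fin 2) F) (hA : A * qeHom b z0 = qeHom b z0 * A) :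
    ∃ w : Eˣ, A = qeHom b w := by
  have h1 : (A : Matrix (Fin 2) (Fin 2) F) * Algebra.leftMulMatrix b (z0 : E) =
      Algebra.leftMulMatrix b (z0 : E) * (A : Matrix (Fin 2) (Fin 2) F) := by
    have := congrArg (fun g : GL (Fin 2) F => (g : Matrix (Fin 2) (Fin 2) F)) hA
    simpa [qe_hom_val] using this
  obtain ⟨w, hw⟩ := qe_centralizer b (z0 : E) hz0 _ h1
  have hw0 : w ≠ 0 := by
    rintro rfl
    rw [map_zero] at hw
    have hdet := (Matrix.GeneralLinearGroup.det A).ne_zero
    rw [Matrix.GeneralLinearGroup.val_det_apply, hw] at hdet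
    exact hdet (by simp)
  refine ⟨Units.mk0 w hw0, ?_⟩
  apply Units.ext
  rw [qe_hom_val, Units.val_mk0, hw]

theorem qe_hom_comm (z w : Eˣ) : qeHom b z * qeHom b w = qeHom b w * qeHom b z := by
  rw [← map_mul, ← map_mul, mul_comm]

end generic

section finite

theorem qe_finite_base (F E : Type*) [Field F] [Field E] [Algebra F E] [Finite E] : Finite F :=
  Finite.of_injective _ (algebraMap F E).injective

variable {F E : Type*} [Field F] [Field E] [Algebra F E] [Finite E]

/-- The norm `Eˣ → Fˣ` of finite fields is onto. -/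
theorem qe_norm_units_surjective :
    Function.Surjective (Units.map (Algebra.norm F : E →* F)) :=
  FiniteField.unitsMap_norm_surjective F E

omit [Finite E] in
theorem qe_card (b : Basis (Fin 2) F E) : Nat.card E = Nat.card F ^ 2 := by
  have : Module.Finite F E := Module.Finite.of_basis b
  rw [Module.natCard_eq_pow_finrank (K := F) (V := E), qe_finrank b]

omit [Finite E] in
theorem qe_card_units (b : Basis (Fin 2) F E) : Nat.card Eˣ = Nat.card F ^ 2 - 1 := by
  rw [Nat.card_units, qe_card b]

/-- The kernel of the norm has order `q + 1`. -/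
theorem qe_card_norm_ker (b : Basis (Fin 2) F E) :
    Nat.card (Units.map (Algebra.norm F : E →* F)).ker = Nat.card F + 1 := by
  have hF : Finite F := qe_finite_base F E
  set φ : Eˣ →* Fˣ := Units.map (Algebra.norm F : E →* F) with hφ
  have h1 := Subgroup.card_mul_index φ.ker
  rw [Subgroup.index_ker, MonoidHom.range_eq_top.mpr (qe_norm_units_surjective (F := F) (E := E)),
    Subgroup.card_top, Nat.card_units, qe_card_units b] at h1
  have hq : 2 ≤ Nat.card F := Finite.one_lt_card
  have h2 : Nat.card F ^ 2 - 1 = (Nat.card F + 1) * (Nat.card F - 1) := by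
    obtain ⟨k, hk⟩ : ∃ k, Nat.card F = k + 2 := ⟨Nat.card F - 2, by omega⟩
    rw [hk]
    simp only [Nat.add_succ_sub_one]
    ring_nf
    omega
  rw [h2] at h1
  exact Nat.eq_of_mul_eq_mul_right (by omega) h1

/-- There is a norm-one element of order `q + 1`, and it is not a scalar. -/
theorem qe_exists_norm_one (b : Basis (Fin 2) F E) :
    ∃ z0 : Eˣ, Algebra.norm F (z0 : E) = 1 ∧ orderOf z0 = Nat.card F + 1 ∧
      (z0 : E) ∉ Set.range (algebraMap F E) ∧
      ∀ z : Eˣ, Algebra.norm F (z : E) = 1 → z ∈ Subgroup.zpowers z0 := by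
  have hF : Finite F := qe_finite_base F E
  set φ : Eˣ →* Fˣ := Units.map (Algebra.norm F : E →* F) with hφ
  have hcyc : IsCyclic φ.ker := inferInstance
  obtain ⟨g, hg⟩ := IsCyclic.exists_generator (α := φ.ker)
  have hord : orderOf g = Nat.card F + 1 := by
    rw [orderOf_eq_card_of_forall_mem_zpowers hg, qe_card_norm_ker b]
  have hgn : Algebra.norm F ((g : Eˣ) : E) = 1 := by
    have := g.2
    rw [MonoidHom.mem_ker, Units.ext_iff] at this
    simpa [hφ] using this
  refine ⟨(g : Eˣ), hgn, ?_, ?_, ?_⟩
  · rw [← hord]; exact (Subgroup.orderOf_coe g)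
  · rintro ⟨a, ha⟩
    have h1 : a ^ 2 = 1 := by
      have := hgn
      rw [← ha, Algebra.norm_algebraMap, qe_finrank b] at this
      exact this
    have h2 : ((g : Eˣ) : E) ^ 2 = 1 := by
      rw [← ha, ← map_pow, h1, map_one]
    have h3 : g ^ 2 = 1 := by
      apply Subtype.ext
      apply Units.ext
      simpa using h2
    have h4 : orderOf g ∣ 2 := orderOf_dvd_of_pow_eq_one h3
    have h5 := Nat.le_of_dvd (by norm_num) h4
    have hq : 2 ≤ Nat.card F := Finite.one_lt_card
    omega
  · intro z hz
    have hzk : z ∈ φ.ker := by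
      rw [MonoidHom.mem_ker]
      apply Units.ext
      simpa [hφ] using hz
    obtain ⟨k, hk⟩ := Subgroup.mem_zpowers_iff.mp (hg ⟨z, hzk⟩)
    refine Subgroup.mem_zpowers_iff.mpr ⟨k, ?_⟩
    have := congrArg (fun t : φ.ker => (t : Eˣ)) hk
    simpa using this

/-- `Eˣ` is cyclic of order `q² - 1`. -/
theorem qe_exists_generator (b : Basis (Fin 2) F E) :
    ∃ ζ : Eˣ, orderOf ζ = Nat.card F ^ 2 - 1 ∧ ∀ z : Eˣ, z ∈ Subgroup.zpowers ζ := by
  obtain ⟨g, hg⟩ := IsCyclic.exists_generator (α := Eˣ)
  exact ⟨g, by rw [orderOf_eq_card_of_forall_mem_zpowers hg, qe_card_units b], hg⟩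

omit [Finite E] in
theorem qe_hom_orderOf (b : Basis (Fin 2) F E) (z : Eˣ) : orderOf (qeHom b z) = orderOf z :=
  orderOf_injective (qeHom b) (qe_hom_injective b) z

end finite

section existence

/-- A finite field has a quadratic extension (in `Type`) with a basis. -/
theorem qe_exists (F : Type*) [Field F] [Finite F] :
    ∃ (E : Type) (_ : Field E) (_ : Algebra F E) (_ : Finite E),
      Nonempty (Basis (Fin 2) F E) := by
  obtain ⟨p, hp⟩ := CharP.exists F
  have : Fact p.Prime := ⟨CharP.char_is_prime F p⟩
  refine ⟨FiniteField.Extension F p 2, inferInstance, inferInstance, inferInstance, ?_⟩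
  exact ⟨Module.finBasisOfFinrankEq F _ (FiniteField.finrank_extension F p 2)⟩

end existence

end Cfsg.Agent.Helper6.QuadEmb
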