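import Mathlib
import Cfsg.Agent.Helper6.QuadEmb

set_option autoImplicit false

/-!
# Package (E') for S2376: the regular embedding of the quadratic extension of a subfield `F ≤ K`,
transported into `GL₂(K)` (entries in `F`).
-/

namespace Cfsg.Agent.Helper6.QuadEmbK

open Matrix

/-- The map `GL₂(F) → GL₂(K)` induced by a ring hom is injective when the ring hom is. -/
theorem qek_map_injective {R S : Type*} [CommRing R] [CommRing S] (f : R →+* S)
    (hf : Function.Injective f) :
    Function.Injective (Matrix.GeneralLinearGroup.map (n := Fin 2) f) := by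
  intro g h hgh
  apply Units.ext
  ext i j
  apply hf
  have := congrArg (fun x : GL (Fin 2) S => (x : Matrix (Fin 2) (Fin 2) S) i j) hgh
  simpa [Matrix.GeneralLinearGroup.map_apply] using this

theorem qek_exists {K : Type*} [Field K] [Finite K] (F : Subfield K) :
    ∃ (Es : Type) (_ : CommGroup Es) (_ : Finite Es) (ι : Es →* GL (Fin 2) K),
      Function.Injective ι ∧
      Nat.card Es = Nat.card F ^ 2 - 1 ∧
      IsCyclic Es ∧
      (∀ z i j, (ι z : Matrix (Fin 2) (Fin 2) K) i j ∈ F) ∧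
      (∀ a : K, a ∈ F → a ≠ 0 → ∃ z, (ι z : Matrix (Fin 2) (Fin 2) K) = !![a, 0; 0, a]) ∧
      (∀ z, (ι z : Matrix (Fin 2) (Fin 2) K) 1 0 = 0 →
        (ι z : Matrix (Fin 2) (Fin 2) K) =
          !![(ι z : Matrix (Fin 2) (Fin 2) K) 0 0, 0; 0, (ι z : Matrix (Fin 2) (Fin 2) K) 0 0]) ∧
      ∃ z₀ : Es, (ι z₀ : Matrix (Fin 2) (Fin 2) K).det = 1 ∧
        (ι z₀ : Matrix (Fin 2) (Fin 2) K) 1 0 ≠ 0 ∧
        orderOf z₀ = Nat.card F + 1 ∧
        ∀ B : Matrix (Fin 2) (Fin 2) K, B.det ≠ 0 → (∀ i j, B i j ∈ F) →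
          B * (ι z₀ : Matrix (Fin 2) (Fin 2) K) = (ι z₀ : Matrix (Fin 2) (Fin 2) K) * B →
          ∃ z, (ι z : Matrix (Fin 2) (Fin 2) K) = B := by
  classical
  obtain ⟨E, hE1, hE2, hE3, ⟨b⟩⟩ := QuadEmb.qe_exists (↥F)
  set ι : Eˣ →* GL (Fin 2) K :=
    (Matrix.GeneralLinearGroup.map (n := Fin 2) F.subtype).comp (QuadEmb.qeHom b) with hι
  have hιe : ∀ (z : Eˣ) (i j : Fin 2), (ι z : Matrix (Fin 2) (Fin 2) K) i j =
      ((Algebra.leftMulMatrix b (z : E) i j : F) : K) := by
    intro z i j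
    simp [hι, Matrix.GeneralLinearGroup.map_apply, QuadEmb.qe_hom_val]
  -- scalar elements
  have hscal : ∀ (z : Eˣ) (c : F), (z : E) = algebraMap F E c →
      (ι z : Matrix (Fin 2) (Fin 2) K) = !![(c : K), 0; 0, (c : K)] := by
    intro z c hz
    ext i j
    rw [hιe, hz, QuadEmb.qe_algebraMap]
    fin_cases i <;> fin_cases j <;> simp
  obtain ⟨z₀, hz1, hz2, hz3, -⟩ := QuadEmb.qe_exists_norm_one b
  refine ⟨Eˣ, inferInstance, inferInstance, ι, ?_, QuadEmb.qe_card_units b, inferInstance,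
    ?_, ?_, ?_, z₀, ?_, ?_, hz2, ?_⟩
  · -- injective
    rw [hι, MonoidHom.coe_comp]
    exact (qek_map_injective F.subtype Subtype.val_injective).comp (QuadEmb.qe_hom_injective b)
  · intro z i j
    rw [hιe]
    exact SetLike.coe_mem _
  · intro a ha ha0
    have hne : algebraMap F E ⟨a, ha⟩ ≠ 0 := by
      intro h
      have h0 : (⟨a, ha⟩ : F) = 0 := (map_eq_zero (algebraMap F E)).mp h
      exact ha0 (congrArg Subtype.val h0)
    refine ⟨Units.mk0 _ hne, ?_⟩
    exact hscal _ ⟨a, ha⟩ (by simp)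
  · intro z hz
    have h10 : Algebra.leftMulMatrix b (z : E) 1 0 = 0 := by
      have := hz
      rw [hιe] at this
      exact_mod_cast this
    have h := QuadEmb.qe_of_entry_zero b (z : E) 1 0 (by decide) h10
    have h2 := hscal z _ h
    rw [h2]
    simp
  · -- det = 1
    have hdet : (ι z₀ : Matrix (Fin 2) (Fin 2) K).det =
        (((Algebra.leftMulMatrix b (z₀ : E)).det : F) : K) := by
      rw [Matrix.det_fin_two, Matrix.det_fin_two, hιe, hιe, hιe, hιe]
      push_cast
      rfl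
    rw [hdet, QuadEmb.qe_det, hz1]
    rfl
  · intro h
    have h10 : Algebra.leftMulMatrix b (z₀ : E) 1 0 = 0 := by
      rw [hιe] at h
      exact_mod_cast h
    exact hz3 (QuadEmb.qe_mem_range_of_entry_zero b _ 1 0 (by decide) h10)
  · intro B hBdet hBF hcomm
    -- pull back to `F`
    set B' : Matrix (Fin 2) (Fin 2) F := Matrix.of fun i j => ⟨B i j, hBF i j⟩ with hB'
    have hBB' : ∀ i j, ((B' i j : F) : K) = B i j := fun i j => rfl
    have hcomm' : B' * Algebra.leftMulMatrix b (z₀ : E) = Algebra.leftMulMatrix b (z₀ : E) * B' := by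
      ext i j
      have := congrFun (congrFun hcomm i) j
      rw [Matrix.mul_apply, Matrix.mul_apply, Fin.sum_univ_two, Fin.sum_univ_two] at this
      rw [Matrix.mul_apply, Matrix.mul_apply, Fin.sum_univ_two, Fin.sum_univ_two]
      simp only [hιe] at this
      push_cast
      simpa [hBB'] using this
    obtain ⟨w, hw⟩ := QuadEmb.qe_centralizer b (z₀ : E) hz3 B' hcomm'
    have hdet' : B.det = ((B'.det : F) : K) := by
      rw [Matrix.det_fin_two, Matrix.det_fin_two]
      push_cast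
      simp [hBB']
    have hw0 : w ≠ 0 := by
      rintro rfl
      rw [map_zero] at hw
      apply hBdet
      rw [hdet', hw]
      simp
    refine ⟨Units.mk0 w hw0, ?_⟩
    ext i j
    rw [hιe, Units.val_mk0, ← hw]
    rfl

end Cfsg.Agent.Helper6.QuadEmbK
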