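import Mathlib
import Cfsg.Prelude.Def_Characters
import Cfsg.Prelude.Def_Blocks
import Cfsg.Agent.Helper6.QuotDefA
import Cfsg.Agent.Helper6.InducedPart

/-!
# A block of a quotient contained in a block of the group: defect groups lift
-/

set_option autoImplicit false
set_option linter.style.haveILetI false

namespace Cfsg.Agent.Helper6

open scoped ComplexConjugate

universe u

variable {G : Type u} [Group G] {M : Ideal Cfsg.AlgInt}

/-- group-theoretic step: if `P` is a Sylow `p`-subgroup of `C_G(g)` and `p` does not divide the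
index of `C_G(g)` in the preimage of `C(ḡ)`, then every `p`-subgroup of `C(ḡ)` lies in the image
of a conjugate of `P`. -/
theorem exists_conj_map_ge [Finite G] {p : ℕ} [hp : Fact p.Prime] (N : Subgroup G) [hN : N.Normal]
    (g : G) (S : Sylow p (Subgroup.centralizer ({g} : Set G)))
    (hr : ¬ p ∣ (Subgroup.centralizer ({g} : Set G)).relIndex
      ((Subgroup.centralizer ({(QuotientGroup.mk g : G ⧸ N)} : Set (G ⧸ N))).comap
        (QuotientGroup.mk' N)))
    (E : Subgroup (G ⧸ N)) (hE : IsPGroup p E)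
    (hEC : E ≤ Subgroup.centralizer ({(QuotientGroup.mk g : G ⧸ N)} : Set (G ⧸ N))) :
    ∃ c : G, E ≤ (((S : Subgroup _).map (Subgroup.centralizer ({g} : Set G)).subtype).map
      (MulAut.conj c).toMonoidHom).map (QuotientGroup.mk' N) := by
  classical
  set Cb : Subgroup (G ⧸ N) :=
    Subgroup.centralizer ({(QuotientGroup.mk g : G ⧸ N)} : Set (G ⧸ N)) with hCb
  set Cs : Subgroup G := Cb.comap (QuotientGroup.mk' N) with hCs
  set P : Subgroup G := (S : Subgroup _).map (Subgroup.centralizer ({g} : Set G)).subtype with hP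
  have hCle : Subgroup.centralizer ({g} : Set G) ≤ Cs := centralizer_le_comap_centralizer N g
  have hPC : P ≤ Subgroup.centralizer ({g} : Set G) := sylow_map_le S
  have hPCs : P ≤ Cs := hPC.trans hCle
  have hcardP : Nat.card P = p ^ (Nat.card (Subgroup.centralizer ({g} : Set G))).factorization p :=
    card_sylow_map S
  have hcardCs : Nat.card Cs = (Subgroup.centralizer ({g} : Set G)).relIndex Cs *
      Nat.card (Subgroup.centralizer ({g} : Set G)) := by
    have h1 := ((Subgroup.centralizer ({g} : Set G)).subgroupOf Cs).index_mul_card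
    rw [Nat.card_congr (Subgroup.subgroupOfEquivOfLe hCle).toEquiv] at h1
    exact h1.symm
  have hfac : (Nat.card Cs).factorization p =
      (Nat.card (Subgroup.centralizer ({g} : Set G))).factorization p := by
    rw [hcardCs, Nat.factorization_mul, Finsupp.add_apply,
      Nat.factorization_eq_zero_of_not_dvd hr, zero_add]
    · intro h0
      rw [h0] at hr
      exact hr (dvd_zero p)
    · exact Nat.card_pos.ne'
  have hcard' : Nat.card (P.subgroupOf Cs) = p ^ (Nat.card Cs).factorization p := by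
    rw [Nat.card_congr (Subgroup.subgroupOfEquivOfLe hPCs).toEquiv, hcardP, hfac]
  set Ss : Sylow p Cs := Sylow.ofCard (P.subgroupOf Cs) hcard' with hSs
  have hf : Function.Surjective ((QuotientGroup.mk' N).subgroupComap Cb) :=
    MonoidHom.subgroupComap_surjective_of_surjective _ _ (QuotientGroup.mk'_surjective N)
  set Sb : Sylow p Cb := Ss.mapSurjective hf with hSb
  have hE' : IsPGroup p (E.subgroupOf Cb) := hE.comap_subtype
  obtain ⟨T, hT⟩ := hE'.exists_le_sylow
  obtain ⟨cb, hcb⟩ := MulAction.exists_smul_eq Cb Sb T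
  obtain ⟨c, hc⟩ := QuotientGroup.mk_surjective (cb : G ⧸ N)
  refine ⟨c, ?_⟩
  intro d hd
  have hdC : d ∈ Cb := hEC hd
  have h1 : (⟨d, hdC⟩ : Cb) ∈ (T : Subgroup Cb) := hT (Subgroup.mem_subgroupOf.mpr hd)
  rw [← hcb, Sylow.coe_subgroup_smul, Subgroup.mem_pointwise_smul_iff_inv_smul_mem] at h1
  have h2 : cb⁻¹ * ⟨d, hdC⟩ * cb ∈ (Sb : Subgroup Cb) := by
    simpa [MulAut.smul_def] using h1
  rw [hSb, Sylow.coe_mapSurjective, hSs, Sylow.coe_ofCard] at h2
  obtain ⟨w, hw, hwf⟩ := h2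
  have hwP : (w : G) ∈ P := Subgroup.mem_subgroupOf.mp hw
  have hwf' : (QuotientGroup.mk (w : G) : G ⧸ N) = (cb : G ⧸ N)⁻¹ * d * (cb : G ⧸ N) := by
    have := congrArg Subtype.val hwf
    have e0 : ((((QuotientGroup.mk' N).subgroupComap Cb) w : Cb) : G ⧸ N) =
        (QuotientGroup.mk (w : G) : G ⧸ N) := rfl
    rw [e0] at this
    simpa using this
  refine ⟨c * (w : G) * c⁻¹, ⟨(w : G), hwP, by simp [MulAut.conj_apply]⟩, ?_⟩
  show (QuotientGroup.mk (c * (w : G) * c⁻¹) : G ⧸ N) = d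
  rw [QuotientGroup.mk_mul, QuotientGroup.mk_mul, QuotientGroup.mk_inv, hwf', hc]
  group

/-- **a block of `G ⧸ N` contained in a block `B` of `G`: every defect group lies in the image of
a defect group of `B`** -/
theorem exists_defectGroup_map_ge [Finite G] {p : ℕ} [hp : Fact p.Prime]
    (hM : Cfsg.IsPModular p M) (N : Subgroup G) [hN : N.Normal]
    (Bbar : Set (Cfsg.IrrCharacter (G ⧸ N))) (hBbar : Cfsg.IsPBlock M Bbar)
    (B : Set (Cfsg.IrrCharacter G)) (hB : Cfsg.IsPBlock M B)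
    (hsub : ∀ χ ∈ Bbar, ∀ ψ : Cfsg.IrrCharacter G,
      (ψ : G → ℂ) = (χ : G ⧸ N → ℂ) ∘ QuotientGroup.mk → ψ ∈ B)
    (Dbar : Subgroup (G ⧸ N)) (hDbar : Cfsg.IsDefectGroup p M Bbar Dbar) :
    ∃ P : Subgroup G, Cfsg.IsDefectGroup p M B P ∧ Dbar ≤ P.map (QuotientGroup.mk' N) := by
  classical
  haveI := Fintype.ofFinite G
  obtain ⟨g, hg⟩ := exists_defectClass hM.2.1 B hB
  obtain ⟨S⟩ : Nonempty (Sylow p (Subgroup.centralizer ({g} : Set G))) := inferInstance
  obtain ⟨χb, hχb⟩ := hBbar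
  have hχbB : χb ∈ Bbar := by rw [hχb]; exact mem_blockOf_self hM.2.1 χb
  set χ₀ : Cfsg.IrrCharacter G :=
    ⟨(χb : G ⧸ N → ℂ) ∘ QuotientGroup.mk, isIrrCharacter_inflate N χb⟩ with hχ₀
  have hχ₀B : χ₀ ∈ B := hsub χb hχbB χ₀ rfl
  have hne := hg.2.2 χ₀ hχ₀B
  have e1 : ((χ₀ : Cfsg.IrrCharacter G) : G → ℂ) = (χb : G ⧸ N → ℂ) ∘ QuotientGroup.mk := rfl
  rw [e1, centralChar_inflate_relIndex N (χb : G ⧸ N → ℂ) g] at hne
  have hr : ¬ p ∣ (Subgroup.centralizer ({g} : Set G)).relIndex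
      ((Subgroup.centralizer ({(QuotientGroup.mk g : G ⧸ N)} : Set (G ⧸ N))).comap
        (QuotientGroup.mk' N)) := by
    intro h
    exact hne (memLocalIdeal_natCast_mul_of_dvd hM.2.1 p hM.2.2 _ h _
      (isIntegral_centralChar χb _))
  have hne' : ¬ Cfsg.MemLocalIdeal M
      (Cfsg.centralChar (χb : G ⧸ N → ℂ) (QuotientGroup.mk g : G ⧸ N)) := by
    intro h
    exact hne (MemLocalIdeal.mul_left hM.2.1 (memLocalRing_natCast hM.2.1 _) h)
  obtain ⟨g₀, hg₀, S₀, hDdef⟩ := hDbar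
  obtain ⟨e, he⟩ := exists_conj_defectGroup_le_centralizer hM Bbar ⟨χb, hχb⟩ g₀ hg₀ S₀ χb hχbB
    (QuotientGroup.mk g : G ⧸ N) hne'
  set E : Subgroup (G ⧸ N) := Dbar.map (MulAut.conj e).toMonoidHom with hE
  have hEp : IsPGroup p E := by
    rw [hE, hDdef]
    exact (S₀.isPGroup'.map _).map _
  have hEC : E ≤ Subgroup.centralizer ({(QuotientGroup.mk g : G ⧸ N)} : Set (G ⧸ N)) := by
    rintro _ ⟨d, hd, rfl⟩
    rw [hDdef] at hd
    obtain ⟨u, hu, rfl⟩ := hd
    exact he u hu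
  obtain ⟨c, hc⟩ := exists_conj_map_ge N g S hr E hEp hEC
  obtain ⟨e', he'⟩ := QuotientGroup.mk_surjective e
  refine ⟨(((S : Subgroup _).map (Subgroup.centralizer ({g} : Set G)).subtype).map
      (MulAut.conj c).toMonoidHom).map (MulAut.conj e'⁻¹).toMonoidHom, ?_, ?_⟩
  · apply isDefectGroup_conj
    apply isDefectGroup_conj
    exact ⟨g, hg, S, rfl⟩
  · intro d hd
    have h1 : e * d * e⁻¹ ∈ E := ⟨d, hd, by simp⟩
    obtain ⟨y, hy, hyd⟩ := hc h1
    refine ⟨e'⁻¹ * y * e', ⟨y, hy, by simp⟩, ?_⟩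
    show (QuotientGroup.mk (e'⁻¹ * y * e') : G ⧸ N) = d
    have hyd' : (QuotientGroup.mk y : G ⧸ N) = e * d * e⁻¹ := hyd
    rw [QuotientGroup.mk_mul, QuotientGroup.mk_mul, QuotientGroup.mk_inv, hyd', he']
    group

end Cfsg.Agent.Helper6
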