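import Mathlib
import Cfsg.Prelude.Def_Characters
import Cfsg.Prelude.Def_Blocks
import Cfsg.Agent.Helper6.QuotDefB
import Cfsg.Agent.Helper6.Gallagher
import Cfsg.Agent.Helper6.DadeIso

/-!
# Idempotent coefficients of the characters of a quotient lying in a given set
-/

set_option autoImplicit false
set_option linter.style.haveILetI false

namespace Cfsg.Agent.Helper6

open scoped ComplexConjugate

universe u

variable {G : Type u} [Group G] {M : Ideal Cfsg.AlgInt}

/-- inflation of irreducible characters -/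
noncomputable def inflIrr (N : Subgroup G) [hN : N.Normal] (χ : Cfsg.IrrCharacter (G ⧸ N)) :
    Cfsg.IrrCharacter G :=
  ⟨(χ : G ⧸ N → ℂ) ∘ QuotientGroup.mk, isIrrCharacter_inflate N χ⟩

theorem inflIrr_apply (N : Subgroup G) [hN : N.Normal] (χ : Cfsg.IrrCharacter (G ⧸ N)) (g : G) :
    (inflIrr N χ : G → ℂ) g = (χ : G ⧸ N → ℂ) (QuotientGroup.mk g) := rfl

theorem inflIrr_injective (N : Subgroup G) [hN : N.Normal] :
    Function.Injective (inflIrr N) := by
  intro χ₁ χ₂ h
  apply Subtype.ext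
  funext q
  obtain ⟨g, rfl⟩ := QuotientGroup.mk_surjective q
  have := congrFun (congrArg Subtype.val h) g
  exact this

/-- the characters of the quotient whose inflation lies in `B` -/
def deflSet (N : Subgroup G) [hN : N.Normal] (B : Set (Cfsg.IrrCharacter G)) :
    Set (Cfsg.IrrCharacter (G ⧸ N)) :=
  {χ | inflIrr N χ ∈ B}

/-- **the idempotent coefficients of the deflated set are the coset sums of those of `B`** -/
theorem blockCoeff_deflSet [Finite G] (N : Subgroup G) [hN : N.Normal] [Fintype N]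
    (B : Set (Cfsg.IrrCharacter G)) (y : G) :
    Cfsg.blockCoeff (deflSet N B) (QuotientGroup.mk y : G ⧸ N) =
      ∑ n : N, Cfsg.blockCoeff B (y * (n : G)) := by
  classical
  haveI := Fintype.ofFinite G
  haveI : Finite (Cfsg.IrrCharacter G) := irr_finite
  haveI : Fintype (Cfsg.IrrCharacter G) := Fintype.ofFinite _
  haveI : Finite (Cfsg.IrrCharacter (G ⧸ N)) := irr_finite
  haveI : Fintype (Cfsg.IrrCharacter (G ⧸ N)) := Fintype.ofFinite _
  have hcard : (Nat.card G : ℂ) = (Nat.card N : ℂ) * (Nat.card (G ⧸ N) : ℂ) := by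
    rw [Subgroup.card_eq_card_quotient_mul_card_subgroup N]
    push_cast
    ring
  have hN0 : (Nat.card N : ℂ) ≠ 0 := Nat.cast_ne_zero.mpr Nat.card_pos.ne'
  have hQ0 : (Nat.card (G ⧸ N) : ℂ) ≠ 0 := Nat.cast_ne_zero.mpr Nat.card_pos.ne'
  -- the right-hand side
  have hR : ∑ n : N, Cfsg.blockCoeff B (y * (n : G)) =
      (Nat.card G : ℂ)⁻¹ * ∑ χ : Cfsg.IrrCharacter G,
        if χ ∈ B then (χ : G → ℂ) 1 * conj (∑ n : N, (χ : G → ℂ) (y * (n : G))) else 0 := by
    unfold Cfsg.blockCoeff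
    rw [← Finset.mul_sum]
    congr 1
    simp_rw [finsum_mem_eq_sum_ite]
    rw [Finset.sum_comm]
    apply Finset.sum_congr rfl
    intro χ _
    by_cases hχ : χ ∈ B
    · simp only [if_pos hχ]
      rw [map_sum, Finset.mul_sum]
    · simp only [if_neg hχ]
      rw [Finset.sum_const_zero]
  rw [hR]
  have hterm : ∀ χ : Cfsg.IrrCharacter G,
      (if χ ∈ B then (χ : G → ℂ) 1 * conj (∑ n : N, (χ : G → ℂ) (y * (n : G))) else 0) =
      if (∀ n ∈ N, (χ : G → ℂ) n = (χ : G → ℂ) 1) then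
        (if χ ∈ B then (Nat.card N : ℂ) * ((χ : G → ℂ) 1 * conj ((χ : G → ℂ) y)) else 0)
      else 0 := by
    intro χ
    rw [sum_coset_irr N χ.2 y]
    by_cases hk : ∀ n ∈ N, (χ : G → ℂ) n = (χ : G → ℂ) 1
    · rw [if_pos hk, if_pos hk]
      by_cases hχ : χ ∈ B
      · rw [if_pos hχ, if_pos hχ, map_mul, Complex.conj_natCast]
        ring
      · rw [if_neg hχ, if_neg hχ]
    · rw [if_neg hk, if_neg hk, map_zero, mul_zero, ite_self]
  simp_rw [hterm]
  rw [← Finset.sum_filter]
  have himg : (Finset.univ : Finset (Cfsg.IrrCharacter G)).filter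
      (fun χ : Cfsg.IrrCharacter G => ∀ n ∈ N, (χ : G → ℂ) n = (χ : G → ℂ) 1) =
      (Finset.univ : Finset (Cfsg.IrrCharacter (G ⧸ N))).image (inflIrr N) := by
    ext χ
    simp only [Finset.mem_filter, Finset.mem_univ, true_and, Finset.mem_image]
    constructor
    · intro hk
      obtain ⟨ψ', hψ'⟩ := exists_deflate N χ hk
      exact ⟨ψ', Subtype.ext hψ'.symm⟩
    · rintro ⟨ψ', rfl⟩ n hn
      rw [inflIrr_apply, inflIrr_apply, (QuotientGroup.eq_one_iff n).mpr hn, QuotientGroup.mk_one]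
  rw [himg, Finset.sum_image (fun a _ b _ h => inflIrr_injective N h)]
  unfold Cfsg.blockCoeff
  rw [finsum_mem_eq_sum_ite, hcard, Finset.mul_sum, Finset.mul_sum]
  apply Finset.sum_congr rfl
  intro χ _
  have hmem : χ ∈ deflSet N B ↔ inflIrr N χ ∈ B := Iff.rfl
  by_cases hχ : inflIrr N χ ∈ B
  · rw [if_pos hχ, if_pos (hmem.mpr hχ), inflIrr_apply, inflIrr_apply, QuotientGroup.mk_one]
    field_simp
  · rw [if_neg hχ, if_neg (fun h => hχ (hmem.mp h)), mul_zero, mul_zero]

end Cfsg.Agent.Helper6
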