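import Mathlib
import Cfsg.Prelude.Def_Characters
import Cfsg.Prelude.Def_Blocks
import Cfsg.Agent.Helper6.QuotDefC
import Cfsg.Agent.Helper6.MinMax2
import Cfsg.Agent.Helper6.NilVec
import Cfsg.Agent.Helper6.OsimaSupport
import Cfsg.Agent.Helper6.BrauerIdem
import Cfsg.Agent.Helper6.PairConj2
import Cfsg.Agent.Helper6.BrauerPair

/-!
# Blocks of the quotient by a normal `p`-subgroup contained in a given block
-/

set_option autoImplicit false
set_option linter.style.haveILetI false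

namespace Cfsg.Agent.Helper6

open scoped ComplexConjugate

universe u

variable {G : Type u} [Group G] {M : Ideal Cfsg.AlgInt}

open Classical in
/-- a union of blocks with a coefficient outside the local ideal contains a block with that
coefficient outside the local ideal -/
theorem exists_block_subset_not_mem [Finite G] (hM : M.IsMaximal)
    (A : Set (Cfsg.IrrCharacter G))
    (hA : ∀ χ ∈ A, Cfsg.blockOf M (χ : G → ℂ) ⊆ A) (g : G)
    (hg : ¬ Cfsg.MemLocalIdeal M (Cfsg.blockCoeff A g)) :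
    ∃ b : Set (Cfsg.IrrCharacter G), Cfsg.IsPBlock M b ∧ b ⊆ A ∧
      ¬ Cfsg.MemLocalIdeal M (Cfsg.blockCoeff b g) := by
  haveI := Fintype.ofFinite G
  haveI : Finite (Cfsg.IrrCharacter G) := irr_finite
  haveI : Fintype (Cfsg.IrrCharacter G) := Fintype.ofFinite _
  set 𝔅 : Finset (Set (Cfsg.IrrCharacter G)) :=
    ((Finset.univ : Finset (Cfsg.IrrCharacter G)).filter
      (fun χ : Cfsg.IrrCharacter G => χ ∈ A)).image
      (fun χ : Cfsg.IrrCharacter G => Cfsg.blockOf M (χ : G → ℂ)) with h𝔅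
  have hsum : Cfsg.blockCoeff A g = ∑ b ∈ 𝔅, Cfsg.blockCoeff b g := by
    have h1 : ∀ b ∈ 𝔅, Cfsg.blockCoeff b g =
        idemCoeff (fun θ : Cfsg.IrrCharacter G => if θ ∈ b then (1 : ℂ) else 0) g :=
      fun b _ => blockCoeff_eq_idemCoeff b g
    rw [Finset.sum_congr rfl h1, ← idemCoeff_finset_sum, blockCoeff_eq_idemCoeff]
    congr 1
    funext θ
    rw [Finset.sum_apply]
    by_cases hθ : θ ∈ A
    · rw [if_pos hθ]
      have hmem : Cfsg.blockOf M (θ : G → ℂ) ∈ 𝔅 :=
        Finset.mem_image.mpr ⟨θ, Finset.mem_filter.mpr ⟨Finset.mem_univ _, hθ⟩, rfl⟩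
      rw [Finset.sum_eq_single (Cfsg.blockOf M (θ : G → ℂ))]
      · rw [if_pos (mem_blockOf_self hM θ)]
      · intro b hb hne
        rw [if_neg]
        intro hθb
        apply hne
        obtain ⟨χ, -, rfl⟩ := Finset.mem_image.mp hb
        exact eq_blockOf_of_mem hM _ ⟨χ, rfl⟩ θ hθb
      · intro h
        exact absurd hmem h
    · rw [if_neg hθ]
      symm
      apply Finset.sum_eq_zero
      intro b hb
      rw [if_neg]
      intro hθb
      apply hθ
      obtain ⟨χ, hχ, rfl⟩ := Finset.mem_image.mp hb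
      exact hA χ (Finset.mem_filter.mp hχ).2 hθb
  by_contra hcon
  push Not at hcon
  apply hg
  rw [hsum]
  apply MemLocalIdeal.sum hM
  intro b hb
  obtain ⟨χ, hχ, rfl⟩ := Finset.mem_image.mp hb
  exact hcon _ ⟨χ, rfl⟩ (hA χ (Finset.mem_filter.mp hχ).2)

/-- the deflated set of a block is a union of blocks of the quotient -/
theorem blockOf_subset_deflSet [Finite G] (hM : M.IsMaximal) (N : Subgroup G) [hN : N.Normal]
    (B : Set (Cfsg.IrrCharacter G)) (hB : Cfsg.IsPBlock M B)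
    (χ : Cfsg.IrrCharacter (G ⧸ N)) (hχ : χ ∈ deflSet N B) :
    Cfsg.blockOf M (χ : G ⧸ N → ℂ) ⊆ deflSet N B := by
  intro ψ hψ
  have hχ' : inflIrr N χ ∈ B := hχ
  show inflIrr N ψ ∈ B
  rw [eq_blockOf_of_mem hM B hB _ hχ']
  intro g
  have e1 : ((inflIrr N χ : Cfsg.IrrCharacter G) : G → ℂ) =
      (χ : G ⧸ N → ℂ) ∘ QuotientGroup.mk := rfl
  have e2 : ((inflIrr N ψ : Cfsg.IrrCharacter G) : G → ℂ) =
      (ψ : G ⧸ N → ℂ) ∘ QuotientGroup.mk := rfl
  rw [e1, e2, centralChar_inflate_relIndex, centralChar_inflate_relIndex, ← mul_sub]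
  exact MemLocalIdeal.mul_left hM (memLocalRing_natCast hM _) (hψ _)

/-- the image of a Sylow `p`-subgroup of `C_G(g)` is (the image of) a Sylow `p`-subgroup of
`C(ḡ)` when the index of `C_G(g)` in the preimage of `C(ḡ)` is prime to `p` -/
theorem exists_sylow_map_mk_eq [Finite G] {p : ℕ} [hp : Fact p.Prime] (N : Subgroup G)
    [hN : N.Normal] (g : G) (S : Sylow p (Subgroup.centralizer ({g} : Set G)))
    (hr : ¬ p ∣ (Subgroup.centralizer ({g} : Set G)).relIndex
      ((Subgroup.centralizer ({(QuotientGroup.mk g : G ⧸ N)} : Set (G ⧸ N))).comap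
        (QuotientGroup.mk' N))) :
    ∃ Sb : Sylow p (Subgroup.centralizer ({(QuotientGroup.mk g : G ⧸ N)} : Set (G ⧸ N))),
      (Sb : Subgroup _).map
        (Subgroup.centralizer ({(QuotientGroup.mk g : G ⧸ N)} : Set (G ⧸ N))).subtype =
      ((S : Subgroup _).map (Subgroup.centralizer ({g} : Set G)).subtype).map
        (QuotientGroup.mk' N) := by
  classical
  set Cb : Subgroup (G ⧸ N) :=
    Subgroup.centralizer ({(QuotientGroup.mk g : G ⧸ N)} : Set (G ⧸ N)) with hCb
  set Cs : Subgroup G := Cb.comap (QuotientGroup.mk' N) with hCs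
  set P : Subgroup G := (S : Subgroup _).map (Subgroup.centralizer ({g} : Set G)).subtype with hP
  have hCle : Subgroup.centralizer ({g} : Set G) ≤ Cs := centralizer_le_comap_centralizer N g
  have hPC : P ≤ Subgroup.centralizer ({g} : Set G) := sylow_map_le S
  have hPCs : P ≤ Cs := hPC.trans hCle
  have hcardP : Nat.card P = p ^ (Nat.card (Subgroup.centralizer ({g} : Set G))).factorization p :=
    card_sylow_map S
  have hcardCs : Nat.card Cs = (Subgroup.centralizer ({g} : Set G)).relIndex Cs *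
      Nat.card (Subgroup.centralizer ({g} : Set G)) := by
    have h1 := ((Subgroup.centralizer ({g} : Set G)).subgroupOf Cs).index_mul_card
    rw [Nat.card_congr (Subgroup.subgroupOfEquivOfLe hCle).toEquiv] at h1
    exact h1.symm
  have hfac : (Nat.card Cs).factorization p =
      (Nat.card (Subgroup.centralizer ({g} : Set G))).factorization p := by
    rw [hcardCs, Nat.factorization_mul, Finsupp.add_apply,
      Nat.factorization_eq_zero_of_not_dvd hr, zero_add]
    · intro h0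
      rw [h0] at hr
      exact hr (dvd_zero p)
    · exact Nat.card_pos.ne'
  have hcard' : Nat.card (P.subgroupOf Cs) = p ^ (Nat.card Cs).factorization p := by
    rw [Nat.card_congr (Subgroup.subgroupOfEquivOfLe hPCs).toEquiv, hcardP, hfac]
  set Ss : Sylow p Cs := Sylow.ofCard (P.subgroupOf Cs) hcard' with hSs
  have hf : Function.Surjective ((QuotientGroup.mk' N).subgroupComap Cb) :=
    MonoidHom.subgroupComap_surjective_of_surjective _ _ (QuotientGroup.mk'_surjective N)
  refine ⟨Ss.mapSurjective hf, ?_⟩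
  rw [Sylow.coe_mapSurjective, hSs, Sylow.coe_ofCard]
  ext d
  constructor
  · rintro ⟨_, ⟨w, hw, rfl⟩, rfl⟩
    exact ⟨(w : G), Subgroup.mem_subgroupOf.mp hw, rfl⟩
  · rintro ⟨u, hu, rfl⟩
    exact ⟨_, ⟨⟨u, hPCs hu⟩, Subgroup.mem_subgroupOf.mpr hu, rfl⟩, rfl⟩

/-- conjugation commutes with the quotient map on subgroups -/
theorem map_conj_map_mk (N : Subgroup G) [hN : N.Normal] (P : Subgroup G) (x : G) :
    (P.map (MulAut.conj x).toMonoidHom).map (QuotientGroup.mk' N) =
      (P.map (QuotientGroup.mk' N)).map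
        (MulAut.conj (QuotientGroup.mk x : G ⧸ N)).toMonoidHom := by
  rw [Subgroup.map_map, Subgroup.map_map]
  congr 1

/-- **every block `B` of `G` contains a block of `G ⧸ N`, `N` a normal `p`-subgroup, whose defect
groups are exactly the images of the defect groups of `B`** -/
theorem exists_quotient_block_defect [Finite G] {p : ℕ} [hp : Fact p.Prime]
    (hM : Cfsg.IsPModular p M) (N : Subgroup G) [hN : N.Normal] (hNp : IsPGroup p N)
    (B : Set (Cfsg.IrrCharacter G)) (hB : Cfsg.IsPBlock M B) :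
    ∃ Bbar : Set (Cfsg.IrrCharacter (G ⧸ N)), Cfsg.IsPBlock M Bbar ∧
      (∀ χ ∈ Bbar, ∀ ψ : Cfsg.IrrCharacter G,
        (ψ : G → ℂ) = (χ : G ⧸ N → ℂ) ∘ QuotientGroup.mk → ψ ∈ B) ∧
      ∀ Dbar : Subgroup (G ⧸ N), Cfsg.IsDefectGroup p M Bbar Dbar ↔
        ∃ P : Subgroup G, Cfsg.IsDefectGroup p M B P ∧ Dbar = P.map (QuotientGroup.mk' N) := by
  classical
  haveI := Fintype.ofFinite G
  haveI : Fintype N := Fintype.ofFinite N
  obtain ⟨g, hg⟩ := exists_defectClass hM.2.1 B hB
  obtain ⟨S⟩ : Nonempty (Sylow p (Subgroup.centralizer ({g} : Set G))) := inferInstance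
  set P : Subgroup G := (S : Subgroup _).map (Subgroup.centralizer ({g} : Set G)).subtype with hP
  have hPdef : Cfsg.IsDefectGroup p M B P := ⟨g, hg, S, rfl⟩
  have hNP : N ≤ P := normal_pSubgroup_le_defectGroup hM N hNp B hB P hPdef
  have hNg : ∀ n ∈ N, n * g = g * n := fun n hn =>
    Subgroup.mem_centralizer_singleton_iff.mp (sylow_map_le S (hNP hn))
  have hgreg : ¬ p ∣ orderOf g := by
    intro h
    apply hg.2.1
    rw [blockCoeff_eq_zero_of_singular hM.2.1 p hM.2.2 B hB g h]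
    exact memLocalIdeal_zero hM.2.1
  have hcoef : Cfsg.blockCoeff (deflSet N B) (QuotientGroup.mk g : G ⧸ N) =
      Cfsg.blockCoeff B g := by
    rw [blockCoeff_deflSet N B g, Finset.sum_eq_single (1 : N)]
    · simp
    · intro n _ hn
      apply blockCoeff_eq_zero_of_singular hM.2.1 p hM.2.2 B hB
      have hcomm : Commute g (n : G) := (hNg n n.2).symm
      obtain ⟨k, hk⟩ := (IsPGroup.iff_orderOf.mp hNp) n
      have hk' : orderOf (n : G) = p ^ k := by rw [Subgroup.orderOf_coe, hk]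
      have hk0 : k ≠ 0 := by
        intro h0
        rw [h0, pow_zero, orderOf_eq_one_iff] at hk
        exact hn hk
      have hcop : (orderOf g).Coprime (orderOf (n : G)) := by
        rw [hk']
        exact Nat.Coprime.pow_right k ((Nat.Prime.coprime_iff_not_dvd hp.out).mpr hgreg).symm
      rw [hcomm.orderOf_mul_eq_mul_orderOf_of_coprime hcop, hk']
      exact Dvd.dvd.mul_left (dvd_pow_self p hk0) _
    · intro h
      exact absurd (Finset.mem_univ _) h
  have hA : ¬ Cfsg.MemLocalIdeal M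
      (Cfsg.blockCoeff (deflSet N B) (QuotientGroup.mk g : G ⧸ N)) := by
    rw [hcoef]
    exact hg.2.1
  obtain ⟨Bbar, hBbar, hsubA, hnot⟩ := exists_block_subset_not_mem hM.2.1 (deflSet N B)
    (fun χ hχ => blockOf_subset_deflSet hM.2.1 N B hB χ hχ) (QuotientGroup.mk g : G ⧸ N) hA
  have hinfl : ∀ χ ∈ Bbar, ∀ ψ : Cfsg.IrrCharacter G,
      (ψ : G → ℂ) = (χ : G ⧸ N → ℂ) ∘ QuotientGroup.mk → ψ ∈ B := by
    intro χ hχ ψ hψ
    have h1 : ψ = inflIrr N χ := Subtype.ext hψ
    rw [h1]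
    exact hsubA hχ
  have hcc : ∀ χ ∈ Bbar, ¬ Cfsg.MemLocalIdeal M
      ((((Subgroup.centralizer ({g} : Set G)).relIndex
        ((Subgroup.centralizer ({(QuotientGroup.mk g : G ⧸ N)} : Set (G ⧸ N))).comap
          (QuotientGroup.mk' N)) : ℕ) : ℂ) *
        Cfsg.centralChar (χ : G ⧸ N → ℂ) (QuotientGroup.mk g : G ⧸ N)) := by
    intro χ hχ
    have h1 := hg.2.2 (inflIrr N χ) (hsubA hχ)
    have e1 : ((inflIrr N χ : Cfsg.IrrCharacter G) : G → ℂ) =
        (χ : G ⧸ N → ℂ) ∘ QuotientGroup.mk := rfl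
    rwa [e1, centralChar_inflate_relIndex] at h1
  obtain ⟨χb, hχb⟩ := hBbar
  have hχbB : χb ∈ Bbar := by rw [hχb]; exact mem_blockOf_self hM.2.1 χb
  have hr : ¬ p ∣ (Subgroup.centralizer ({g} : Set G)).relIndex
      ((Subgroup.centralizer ({(QuotientGroup.mk g : G ⧸ N)} : Set (G ⧸ N))).comap
        (QuotientGroup.mk' N)) := by
    intro h
    exact hcc χb hχbB (memLocalIdeal_natCast_mul_of_dvd hM.2.1 p hM.2.2 _ h _
      (isIntegral_centralChar χb _))
  have hdc : Cfsg.IsDefectClass M Bbar (QuotientGroup.mk g : G ⧸ N) := by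
    refine ⟨osima hM.2.1 Bbar ⟨χb, hχb⟩ _, hnot, fun χ hχ hmem => ?_⟩
    exact hcc χ hχ (MemLocalIdeal.mul_left hM.2.1 (memLocalRing_natCast hM.2.1 _) hmem)
  obtain ⟨Sb, hSb⟩ := exists_sylow_map_mk_eq N g S hr
  have hD0 : Cfsg.IsDefectGroup p M Bbar (P.map (QuotientGroup.mk' N)) :=
    ⟨QuotientGroup.mk g, hdc, Sb, hSb.symm⟩
  refine ⟨Bbar, ⟨χb, hχb⟩, hinfl, fun Dbar => ⟨?_, ?_⟩⟩
  · intro hD
    obtain ⟨x, hx⟩ := exists_conj_eq_of_isDefectGroup hM Bbar ⟨χb, hχb⟩ Dbar
      (P.map (QuotientGroup.mk' N)) hD hD0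
    obtain ⟨x', rfl⟩ := QuotientGroup.mk_surjective x
    refine ⟨P.map (MulAut.conj x').toMonoidHom, isDefectGroup_conj B P hPdef x', ?_⟩
    rw [map_conj_map_mk]
    exact hx.symm
  · rintro ⟨P', hP', rfl⟩
    obtain ⟨x, hx⟩ := exists_conj_eq_of_isDefectGroup hM B hB P' P hP' hPdef
    rw [← hx, map_conj_map_mk]
    exact isDefectGroup_conj Bbar _ hD0 _

end Cfsg.Agent.Helper6
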