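import Mathlib
import Cfsg.Prelude.Def_Characters
import Cfsg.Prelude.Def_BlockLocal
import Cfsg.Agent.Helper6.RMcKCnt
import Cfsg.Agent.Helper6.RMcKGoodF
import Cfsg.Agent.Helper6.BrauerPerm2

/-!
# Ambient form of the Gallagher good-pair count
-/

set_option autoImplicit false
set_option linter.style.haveILetI false
set_option linter.unusedSimpArgs false

namespace Cfsg.Agent.Helper6.RMcK

open Cfsg.Agent.Helper6
open scoped ComplexConjugate

universe u

variable {Γ : Type u} [Group Γ] [Finite Γ]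

/-- transport of extendibility between `↥H` and the ambient group -/
theorem extendsTo_subgroupOf_iff (H W A : Subgroup Γ) (hWH : W ≤ H) (hAH : A ≤ H) (η : W → ℂ) :
    ExtendsTo (W.subgroupOf H) (η ∘ (Subgroup.subgroupOfEquivOfLe hWH)) (A.subgroupOf H) ↔
      ExtendsTo W η A := by
  constructor
  · rintro ⟨h', ψ', hψ', hext'⟩
    have hWA : W ≤ A := by
      intro w hw
      have h1 : (⟨w, hWH hw⟩ : H) ∈ W.subgroupOf H := by
        rw [Subgroup.mem_subgroupOf]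
        exact hw
      have h2 := h' h1
      rw [Subgroup.mem_subgroupOf] at h2
      exact h2
    refine ⟨hWA, ψ' ∘ (Subgroup.subgroupOfEquivOfLe hAH).symm,
      IsIrrCharacter.comp_mulEquiv _ hψ', ?_⟩
    intro n
    have h1 := hext' ⟨⟨(n : Γ), hWH n.2⟩, by rw [Subgroup.mem_subgroupOf]; exact n.2⟩
    simp only [Function.comp_apply] at h1 ⊢
    have h2 : (Subgroup.subgroupOfEquivOfLe hWH)
        ⟨⟨(n : Γ), hWH n.2⟩, by rw [Subgroup.mem_subgroupOf]; exact n.2⟩ = n := by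
      apply Subtype.ext
      rfl
    rw [h2] at h1
    rw [← h1]
    congr 1
  · rintro ⟨h, ψ, hψ, hext⟩
    have h' : W.subgroupOf H ≤ A.subgroupOf H := by
      intro x hx
      rw [Subgroup.mem_subgroupOf] at hx ⊢
      exact h hx
    refine ⟨h', ψ ∘ (Subgroup.subgroupOfEquivOfLe hAH),
      IsIrrCharacter.comp_mulEquiv _ hψ, ?_⟩
    intro n
    simp only [Function.comp_apply]
    have h1 := hext ((Subgroup.subgroupOfEquivOfLe hWH) n)
    rw [← h1]
    congr 1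

omit [Finite Γ] in
theorem zpowers_subgroupOf (H : Subgroup Γ) (x : H) :
    (Subgroup.zpowers (x : Γ)).subgroupOf H = Subgroup.zpowers x := by
  ext y
  rw [Subgroup.mem_subgroupOf, Subgroup.mem_zpowers_iff, Subgroup.mem_zpowers_iff]
  constructor
  · rintro ⟨k, hk⟩
    exact ⟨k, Subtype.ext (by simpa using hk)⟩
  · rintro ⟨k, hk⟩
    refine ⟨k, ?_⟩
    rw [← hk]
    simp

/-- ambient form of `good_count` -/
theorem agc_good_count (W H : Subgroup Γ) (hWH : W ≤ H) (η : W → ℂ)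
    (hη : Cfsg.IsIrrCharacter W η) (hinv : H ≤ inertia W η) :
    ocnt hWH η * Nat.card H * Nat.card W =
      Nat.card {q : Γ × Γ // q.1 ∈ H ∧ q.2 ∈ H ∧ q.1⁻¹ * q.2⁻¹ * q.1 * q.2 ∈ W ∧
        ∀ c ∈ H, q.1⁻¹ * c⁻¹ * q.1 * c ∈ W →
          ExtendsTo W η (W ⊔ Subgroup.zpowers q.1 ⊔ Subgroup.zpowers c)} := by
  classical
  haveI := Fintype.ofFinite H
  haveI := Fintype.ofFinite W
  haveI := Fintype.ofFinite (W.subgroupOf H)
  haveI hn : (W.subgroupOf H).Normal := normal_subgroupOf_of_le_inertia hWH η hinv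
  have hgc := good_count (W.subgroupOf H) (η ∘ (Subgroup.subgroupOfEquivOfLe hWH))
    (irr_subgroupOf hWH hη) (inv_subgroupOf hWH η hinv hn)
  have hcardN : Nat.card (W.subgroupOf H) = Nat.card W :=
    Nat.card_congr (Subgroup.subgroupOfEquivOfLe hWH).toEquiv
  have hocnt : Nat.card {χ : Cfsg.IrrCharacter H //
      Cfsg.classInner (fun n : W.subgroupOf H => (χ : H → ℂ) n)
        (η ∘ (Subgroup.subgroupOfEquivOfLe hWH)) ≠ 0} = ocnt hWH η := by
    unfold ocnt Ov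
    apply Nat.card_congr
    apply Equiv.subtypeEquivRight
    intro χ
    rw [classInner_subgroupOf' hWH (χ : H → ℂ) η]
  rw [hocnt, hcardN] at hgc
  rw [hgc]
  -- the two sets of pairs correspond
  have hext : ∀ x c : H, ExtendsTo (W.subgroupOf H) (η ∘ (Subgroup.subgroupOfEquivOfLe hWH))
      (W.subgroupOf H ⊔ Subgroup.zpowers x ⊔ Subgroup.zpowers c) ↔
      ExtendsTo W η (W ⊔ Subgroup.zpowers (x : Γ) ⊔ Subgroup.zpowers (c : Γ)) := by
    intro x c
    have hxH : Subgroup.zpowers (x : Γ) ≤ H := by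
      rw [Subgroup.zpowers_le]; exact x.2
    have hcH : Subgroup.zpowers (c : Γ) ≤ H := by
      rw [Subgroup.zpowers_le]; exact c.2
    have hAH : W ⊔ Subgroup.zpowers (x : Γ) ⊔ Subgroup.zpowers (c : Γ) ≤ H :=
      sup_le (sup_le hWH hxH) hcH
    rw [← extendsTo_subgroupOf_iff H W _ hWH hAH η,
      Subgroup.subgroupOf_sup (sup_le hWH hxH) hcH, Subgroup.subgroupOf_sup hWH hxH,
      zpowers_subgroupOf, zpowers_subgroupOf]
  have hmem : ∀ x c : H, c ∈ commStab (W.subgroupOf H) x ↔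
      (x : Γ)⁻¹ * (c : Γ)⁻¹ * (x : Γ) * (c : Γ) ∈ W := by
    intro x c
    rw [mem_commStab, Subgroup.mem_subgroupOf]
    simp
  -- the predicate on pairs
  obtain ⟨P, hP⟩ : ∃ P : Γ → Γ → Prop, P = fun x c => x⁻¹ * c⁻¹ * x * c ∈ W ∧
      ∀ c' ∈ H, x⁻¹ * c'⁻¹ * x * c' ∈ W →
        ExtendsTo W η (W ⊔ Subgroup.zpowers x ⊔ Subgroup.zpowers c') := ⟨_, rfl⟩
  have hQ : ∀ q : H × H, (q.2 ∈ commStab (W.subgroupOf H) q.1 ∧
      GoodElt (W.subgroupOf H) (η ∘ (Subgroup.subgroupOfEquivOfLe hWH)) q.1) ↔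
      P (q.1 : Γ) (q.2 : Γ) := by
    intro q
    rw [hP]
    constructor
    · rintro ⟨h1, h2⟩
      refine ⟨(hmem q.1 q.2).mp h1, ?_⟩
      intro c hc hcW
      have h3 : (⟨c, hc⟩ : H) ∈ commStab (W.subgroupOf H) q.1 := (hmem q.1 ⟨c, hc⟩).mpr hcW
      unfold GoodElt at h2
      have h4 := h2 ⟨c, hc⟩ h3
      exact (hext q.1 ⟨c, hc⟩).mp h4
    · rintro ⟨h1, h2⟩
      refine ⟨(hmem q.1 q.2).mpr h1, ?_⟩
      unfold GoodElt
      intro c hc
      have h3 := (hmem q.1 c).mp hc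
      have h4 := h2 (c : Γ) c.2 h3
      exact (hext q.1 c).mpr h4
  have hstep1 : Nat.card {q : H × H // q.2 ∈ commStab (W.subgroupOf H) q.1 ∧
      GoodElt (W.subgroupOf H) (η ∘ (Subgroup.subgroupOfEquivOfLe hWH)) q.1} =
      Nat.card {q : H × H // P (q.1 : Γ) (q.2 : Γ)} :=
    Nat.card_congr (Equiv.subtypeEquivRight hQ)
  have hstep2 : Nat.card {q : H × H // P (q.1 : Γ) (q.2 : Γ)} =
      Nat.card {q : Γ × Γ // q.1 ∈ H ∧ q.2 ∈ H ∧ P q.1 q.2} := by
    apply Nat.card_congr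
    apply Equiv.ofBijective
      (fun q : {q : H × H // P (q.1 : Γ) (q.2 : Γ)} =>
        (⟨((q.1.1 : Γ), (q.1.2 : Γ)), q.1.1.2, q.1.2.2, q.2⟩ :
          {q : Γ × Γ // q.1 ∈ H ∧ q.2 ∈ H ∧ P q.1 q.2}))
    constructor
    · intro q q' hqq'
      have h1 := congrArg Subtype.val hqq'
      simp only [Prod.mk.injEq] at h1
      apply Subtype.ext
      apply Prod.ext
      · exact Subtype.ext h1.1
      · exact Subtype.ext h1.2
    · intro q
      exact ⟨⟨(⟨q.1.1, q.2.1⟩, ⟨q.1.2, q.2.2.1⟩), q.2.2.2⟩, rfl⟩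
  rw [hstep1, hstep2, hP]

end Cfsg.Agent.Helper6.RMcK
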