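import Mathlib
import Cfsg.Agent.Helper1.Coprime
import Cfsg.Agent.Helper6.RMcKGlB
import Cfsg.Agent.Helper6.RMcKDefsB

/-!
# Group-theoretic facts about `W ⊔ B` with `B` normalizing `W`
-/

set_option autoImplicit false
set_option linter.style.haveILetI false
set_option linter.unusedSimpArgs false

namespace Cfsg.Agent.Helper6.RMcK

open Cfsg.Agent.Helper6

universe u

variable {Γ : Type u} [Group Γ]

theorem mem_sup_iff_of_le_normalizer {W B : Subgroup Γ}
    (hB : B ≤ Subgroup.normalizer (W : Set Γ)) (x : Γ) :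
    x ∈ W ⊔ B ↔ ∃ w ∈ W, ∃ b ∈ B, x = w * b := by
  constructor
  · intro hx
    exact Cfsg.Agent.Helper1.mem_sup_of_le_normalizer hB hx
  · rintro ⟨w, hw, b, hb, rfl⟩
    exact Subgroup.mul_mem _ ((le_sup_left : W ≤ W ⊔ B) hw) ((le_sup_right : B ≤ W ⊔ B) hb)

theorem relIndex_sup_of_le_normalizer {W B : Subgroup Γ}
    (hB : B ≤ Subgroup.normalizer (W : Set Γ)) : W.relIndex (W ⊔ B) = W.relIndex B := by
  set N := Subgroup.normalizer (W : Set Γ) with hN
  have hWN : W ≤ N := Subgroup.le_normalizer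
  have hsupN : W ⊔ B ≤ N := sup_le hWN hB
  haveI : (W.subgroupOf N).Normal := Subgroup.normal_in_normalizer
  rw [← Subgroup.relIndex_subgroupOf hsupN, ← Subgroup.relIndex_subgroupOf hB,
    Subgroup.subgroupOf_sup hWN hB, Subgroup.relIndex_sup_left]

theorem le_normalizer_sup {A W B : Subgroup Γ} (hW : A ≤ Subgroup.normalizer (W : Set Γ))
    (hB : A ≤ Subgroup.normalizer (B : Set Γ)) :
    A ≤ Subgroup.normalizer ((W ⊔ B : Subgroup Γ) : Set Γ) := by
  intro a ha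
  have h1 : ∀ a ∈ A, ∀ x ∈ W ⊔ B, a * x * a⁻¹ ∈ W ⊔ B := by
    intro a ha x hx
    have h2 : W ⊔ B ≤ (W ⊔ B).comap (MulAut.conj a).toMonoidHom := by
      apply sup_le
      · intro w hw
        rw [Subgroup.mem_comap]
        exact (le_sup_left : W ≤ W ⊔ B) ((Subgroup.mem_normalizer_iff.mp (hW ha) w).mp hw)
      · intro b hb
        rw [Subgroup.mem_comap]
        exact (le_sup_right : B ≤ W ⊔ B) ((Subgroup.mem_normalizer_iff.mp (hB ha) b).mp hb)
    exact h2 hx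
  rw [Subgroup.mem_normalizer_iff]
  intro x
  constructor
  · exact h1 a ha x
  · intro hx
    have h3 := h1 a⁻¹ (A.inv_mem ha) _ hx
    have h4 : a⁻¹ * (a * x * a⁻¹) * a⁻¹⁻¹ = x := by group
    rwa [h4] at h3

/-- Dedekind: the fixed points of `S₁` on `W ⊔ B` when `S₁` centralizes `B` -/
theorem fixC_sup_eq {W B S₁ : Subgroup Γ} (hB : B ≤ Subgroup.normalizer (W : Set Γ))
    (hcent : S₁ ≤ Subgroup.centralizer (B : Set Γ)) :
    fixC (W ⊔ B) S₁ = fixC W S₁ ⊔ B := by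
  apply le_antisymm
  · intro x hx
    rw [mem_fixC] at hx
    obtain ⟨hxX, hxs⟩ := hx
    obtain ⟨w, hw, b, hb, rfl⟩ := (mem_sup_iff_of_le_normalizer hB x).mp hxX
    refine Subgroup.mul_mem _ ((le_sup_left : fixC W S₁ ≤ _) ?_) ((le_sup_right : B ≤ _) hb)
    rw [mem_fixC]
    refine ⟨hw, ?_⟩
    intro s hs
    have h1 := hxs s hs
    have h2 : b * s = s * b := (Subgroup.mem_centralizer_iff.mp (hcent hs)) b hb
    have h3 : s * w * b = w * s * b := by
      rw [mul_assoc w s b, ← h2, ← mul_assoc w b s, ← h1, mul_assoc]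
    exact mul_right_cancel h3
  · apply sup_le
    · intro x hx
      rw [mem_fixC] at hx ⊢
      exact ⟨(le_sup_left : W ≤ W ⊔ B) hx.1, hx.2⟩
    · intro b hb
      rw [mem_fixC]
      refine ⟨(le_sup_right : B ≤ W ⊔ B) hb, ?_⟩
      intro s hs
      exact ((Subgroup.mem_centralizer_iff.mp (hcent hs)) b hb).symm

/-- `(W ⊔ B) / W` is abelian when commutators of `B` lie in `W` -/
theorem abMod_sup [Finite Γ] {W B : Subgroup Γ} (hB : B ≤ Subgroup.normalizer (W : Set Γ))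
    (hab : ∀ b ∈ B, ∀ b' ∈ B, b * b' * b⁻¹ * b'⁻¹ ∈ W) : AbMod W (W ⊔ B) := by
  intro x hx y hy
  obtain ⟨w, hw, b, hb, rfl⟩ := (mem_sup_iff_of_le_normalizer hB x).mp hx
  obtain ⟨w', hw', b', hb', rfl⟩ := (mem_sup_iff_of_le_normalizer hB y).mp hy
  -- conjugation by elements of `B` preserves `W`
  have hc : ∀ b ∈ B, ∀ v ∈ W, b * v * b⁻¹ ∈ W := fun b hb v hv =>
    (Subgroup.mem_normalizer_iff.mp (hB hb) v).mp hv
  have h1 : w * b * (w' * b') * (w * b)⁻¹ * (w' * b')⁻¹ =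
      w * (b * w' * b⁻¹) * ((b * b' * b⁻¹ * b'⁻¹) * (b' * w⁻¹ * b'⁻¹) * w'⁻¹) := by group
  rw [h1]
  refine W.mul_mem (W.mul_mem hw (hc b hb w' hw')) (W.mul_mem (W.mul_mem (hab b hb b' hb') ?_) ?_)
  · exact hc b' hb' _ (W.inv_mem hw)
  · exact W.inv_mem hw'

/-- `S₁` acts trivially on `(W ⊔ B) / W` when it centralizes `B` and normalizes `W` -/
theorem comm_sup_mem {W B S₁ : Subgroup Γ} (hB : B ≤ Subgroup.normalizer (W : Set Γ))
    (hS₁W : S₁ ≤ Subgroup.normalizer (W : Set Γ))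
    (hcent : S₁ ≤ Subgroup.centralizer (B : Set Γ)) :
    ∀ s ∈ S₁, ∀ x ∈ W ⊔ B, s⁻¹ * x * s * x⁻¹ ∈ W := by
  intro s hs x hx
  obtain ⟨w, hw, b, hb, rfl⟩ := (mem_sup_iff_of_le_normalizer hB x).mp hx
  have h2 : b * s = s * b := (Subgroup.mem_centralizer_iff.mp (hcent hs)) b hb
  have h3 : s⁻¹ * (w * b) * s * (w * b)⁻¹ = s⁻¹ * w * s * w⁻¹ := by
    have : s⁻¹ * (w * b) * s * (w * b)⁻¹ = s⁻¹ * w * (b * s) * b⁻¹ * w⁻¹ := by group
    rw [this, h2]
    group
  rw [h3]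
  have h4 : s⁻¹ * w * s ∈ W := by
    have := (Subgroup.mem_normalizer_iff.mp (hS₁W (S₁.inv_mem hs)) w).mp hw
    simpa using this
  exact W.mul_mem h4 (W.inv_mem hw)

theorem card_sup_coprime [Finite Γ] {W B : Subgroup Γ} (p : ℕ)
    (hB : B ≤ Subgroup.normalizer (W : Set Γ)) (hW : (Nat.card W).Coprime p)
    (hBp : (Nat.card B).Coprime p) : (Nat.card (W ⊔ B : Subgroup Γ)).Coprime p := by
  have h1 : Nat.card (W ⊔ B : Subgroup Γ) = Nat.card W * W.relIndex (W ⊔ B) := by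
    have h0 := Subgroup.relIndex_mul_relIndex (⊥ : Subgroup Γ) W (W ⊔ B) bot_le le_sup_left
    rw [Subgroup.relIndex_bot_left, Subgroup.relIndex_bot_left] at h0
    exact h0.symm
  rw [h1, relIndex_sup_of_le_normalizer hB]
  apply Nat.Coprime.mul_left hW
  have h2 : W.relIndex B ∣ Nat.card B := Subgroup.relIndex_dvd_card W B
  exact Nat.Coprime.coprime_dvd_left h2 hBp

/-- elements of `W` normalizing `S` centralize `S` (coprime orders) -/
theorem inf_le_fixC [Finite Γ] {W S A : Subgroup Γ} (hSW : S ≤ Subgroup.normalizer (W : Set Γ))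
    (hAS : A ≤ Subgroup.normalizer (S : Set Γ))
    (hcop : (Nat.card W).Coprime (Nat.card S)) : W ⊓ A ≤ fixC W S := by
  intro x hx
  have hdisj : W ⊓ S = ⊥ := (Subgroup.disjoint_of_coprime_natCard hcop).eq_bot
  have h1 := Cfsg.Agent.Helper1.inf_normalizer_le_centralizer hSW hdisj
    (⟨hx.1, hAS hx.2⟩ : x ∈ W ⊓ Subgroup.normalizer (S : Set Γ))
  exact ⟨hx.1, h1⟩

end Cfsg.Agent.Helper6.RMcK
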