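import Mathlib
import Cfsg.Prelude.Def_Characters
import Cfsg.Prelude.Def_BlockLocal
import Cfsg.Agent.Helper6.RMcKLXa

/-!
# Lemma X, part b: extendibility is preserved by the Glauberman correspondence
-/

set_option autoImplicit false
set_option linter.style.haveILetI false
set_option linter.unusedSimpArgs false
set_option linter.unusedSectionVars false
set_option linter.unusedVariables false

namespace Cfsg.Agent.Helper6.RMcK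

open Cfsg.Agent.Helper6
open scoped ComplexConjugate

universe u

variable {Γ : Type u} [Group Γ] [Finite Γ]

/-- `η` extends to `X ⊔ ⟨c⟩` iff it has a `c`-invariant extension to `X` -/
theorem extendsTo_zpowers_iff {W X Y : Subgroup Γ} (hWX : W ≤ X) (c : Γ)
    (hcX : c ∈ Subgroup.normalizer (X : Set Γ)) (hY : Y = X ⊔ Subgroup.zpowers c)
    (η : W → ℂ) (hη : Cfsg.IsIrrCharacter W η) :
    ExtendsTo W η Y ↔
      ∃ φ : X → ℂ, Cfsg.IsIrrCharacter X φ ∧ res hWX φ = η ∧ c ∈ inertia X φ := by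
  subst hY
  constructor
  · rintro ⟨h, ψ, hψ, hext⟩
    have hXY : X ≤ X ⊔ Subgroup.zpowers c := le_sup_left
    have hcY : c ∈ X ⊔ Subgroup.zpowers c :=
      (le_sup_right : Subgroup.zpowers c ≤ _) (Subgroup.mem_zpowers c)
    refine ⟨res hXY ψ, ?_, ?_, ?_⟩
    · apply isIrr_of_res_isIrr hWX _ (res_isCharacter hXY (IsIrrCharacter.isCharacter hψ))
      have h1 : res hWX (res hXY ψ) = η := by
        funext n
        exact hext n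
      rw [h1]
      exact hη
    · funext n
      exact hext n
    · rw [mem_inertia]
      refine ⟨hcX, ?_⟩
      intro k k' hkk'
      rw [res_apply, res_apply]
      have hcf := IsCharacter.isClassFunction (IsIrrCharacter.isCharacter hψ)
      have h2 := hcf ⟨(k : Γ), hXY k.2⟩ ⟨c, hcY⟩
      rw [← h2]
      congr 1
      apply Subtype.ext
      exact hkk'
  · rintro ⟨φ, hφ, hres, hc⟩
    obtain ⟨ψ, hψ, hψX⟩ := exists_ext_sup_zpowers X c φ hφ hc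
    refine ⟨hWX.trans le_sup_left, ψ, hψ, ?_⟩
    intro n
    have h1 := hψX ⟨(n : Γ), hWX n.2⟩
    rw [← hres]
    exact h1

section

variable {p : ℕ} [hp : Fact p.Prime] (X W S₁ X₁ W₁ : Subgroup Γ) (hWX : W ≤ X)
  (hSX : S₁ ≤ Subgroup.normalizer (X : Set Γ)) (hSW : S₁ ≤ Subgroup.normalizer (W : Set Γ))
  (hS : IsPGroup p S₁) (hX : (Nat.card X).Coprime p)
  (hX₁ : X₁ = fixC X S₁) (hW₁ : W₁ = fixC W S₁) (hX₁X : X₁ ≤ X) (hW₁W : W₁ ≤ W)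
  (hW₁X₁ : W₁ ≤ X₁)
  (η : Cfsg.IrrCharacter W) (hηS : S₁ ≤ inertia W (η : W → ℂ))
  (η' : Cfsg.IrrCharacter W₁) (hrelW : GlC p hW₁W (η : W → ℂ) (η' : W₁ → ℂ))
  (hηX : X ≤ inertia W (η : W → ℂ)) (hη'X : X₁ ≤ inertia W₁ (η' : W₁ → ℂ))
  (hf5 : ∀ χ : X → ℂ, Cfsg.IsIrrCharacter X χ → Ov hWX χ (η : W → ℂ) → S₁ ≤ inertia X χ)
  (habX : AbMod W X) (habX₁ : AbMod W₁ X₁) (hidx : W.relIndex X = W₁.relIndex X₁)

include hWX hSX hSW hS hX hX₁ hW₁ hX₁X hW₁W hW₁X₁ hrelW hηS hηX hη'X hf5 habX habX₁ hidx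

theorem extendsTo_iff_of_gl :
    ExtendsTo W (η : W → ℂ) X ↔ ExtendsTo W₁ (η' : W₁ → ℂ) X₁ := by
  have h1 := (extendsTo_iff_card hWX (η : W → ℂ) η.2 hηX habX).1
  have h2 := (extendsTo_iff_card hW₁X₁ (η' : W₁ → ℂ) η'.2 hη'X habX₁).1
  have h3 := ocnt_gl_eq X W S₁ X₁ W₁ hWX hSX hSW hS hX hX₁ hW₁ hX₁X hW₁W hW₁X₁ η hηS η' hrelW
    hηX hη'X hf5
  unfold ocnt at h3
  rw [h1, h2, h3, hidx]

theorem exists_inv_ext_iff (c : Γ) (hcX : c ∈ Subgroup.normalizer (X : Set Γ))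
    (hcS : c ∈ Subgroup.normalizer (S₁ : Set Γ)) :
    (∃ φ : X → ℂ, Cfsg.IsIrrCharacter X φ ∧ res hWX φ = (η : W → ℂ) ∧ c ∈ inertia X φ) ↔
    (∃ ψ : X₁ → ℂ, Cfsg.IsIrrCharacter X₁ ψ ∧ res hW₁X₁ ψ = (η' : W₁ → ℂ) ∧
      c ∈ inertia X₁ ψ) := by
  have hiff := extendsTo_iff_of_gl X W S₁ X₁ W₁ hWX hSX hSW hS hX hX₁ hW₁ hX₁X hW₁W hW₁X₁ η hηS
    η' hrelW hηX hη'X hf5 habX habX₁ hidx
  constructor
  · rintro ⟨φ, hφ, hres, hc⟩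
    have hov : Ov hWX φ (η : W → ℂ) := ov_of_res_eq hWX φ _ η.2 hres
    have hinv := hf5 φ hφ hov
    obtain ⟨ψ, hψ, -⟩ := gl_exists X S₁ X₁ hSX hS hX hX₁ hX₁X φ hφ hinv
    have hovψ := gl_over_fwd X W S₁ X₁ W₁ hWX hSX hSW hS hX hX₁ hW₁ hX₁X hW₁W
      hW₁X₁ η hηS η' hrelW hηX φ hφ hinv ψ hψ hov
    have hext : ExtendsTo W (η : W → ℂ) X := ⟨hWX, φ, hφ, fun n => congrFun hres n⟩
    have hext₁ := hiff.mp hext
    have hresψ := (extendsTo_iff_card hW₁X₁ (η' : W₁ → ℂ) η'.2 hη'X habX₁).2 hext₁ ψ hovψ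
    refine ⟨ψ, ψ.2, hresψ, ?_⟩
    exact gl_inertia_of_inertia X S₁ X₁ hSX hS hX hX₁ hX₁X φ hφ hinv ψ hψ c hcS hc
  · rintro ⟨ψ, hψ, hres, hc⟩
    have hov : Ov hW₁X₁ ψ (η' : W₁ → ℂ) := ov_of_res_eq hW₁X₁ ψ _ η'.2 hres
    obtain ⟨χ, hχ, hχinv, hrel⟩ := gl_surjective X S₁ X₁ hSX hS hX hX₁ hX₁X ⟨ψ, hψ⟩
    have hovχ := gl_over_bwd X W S₁ X₁ W₁ hWX hSX hSW hS hX hX₁ hW₁ hX₁X hW₁W
      hW₁X₁ η hηS η' hrelW hη'X χ hχ hχinv ⟨ψ, hψ⟩ hrel hov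
    have hext₁ : ExtendsTo W₁ (η' : W₁ → ℂ) X₁ := ⟨hW₁X₁, ψ, hψ, fun n => congrFun hres n⟩
    have hext := hiff.mpr hext₁
    have hresχ := (extendsTo_iff_card hWX (η : W → ℂ) η.2 hηX habX).2 hext ⟨χ, hχ⟩ hovχ
    refine ⟨χ, hχ, hresχ, ?_⟩
    exact gl_inertia_of_inertia' X S₁ X₁ hSX hS hX hX₁ hX₁X χ hχ hχinv ⟨ψ, hψ⟩ hrel c hcS hcX hc

/-- the step of Lemma X: extendibility of `η` to `W ⊔ A = X ⊔ ⟨c⟩` is equivalent to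
extendibility of `η'` to `W₁ ⊔ A = X₁ ⊔ ⟨c⟩` -/
theorem lemmaX_step_ext (Y Y₁ : Subgroup Γ) (c : Γ)
    (hcX : c ∈ Subgroup.normalizer (X : Set Γ))
    (hcS : c ∈ Subgroup.normalizer (S₁ : Set Γ))
    (hY : Y = X ⊔ Subgroup.zpowers c) (hY₁ : Y₁ = X₁ ⊔ Subgroup.zpowers c) :
    ExtendsTo W (η : W → ℂ) Y ↔ ExtendsTo W₁ (η' : W₁ → ℂ) Y₁ := by
  have hcX₁ : c ∈ Subgroup.normalizer (X₁ : Set Γ) := by
    rw [hX₁]
    exact normalizer_fixC X S₁ c hcX hcS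
  rw [extendsTo_zpowers_iff hWX c hcX hY (η : W → ℂ) η.2,
    extendsTo_zpowers_iff hW₁X₁ c hcX₁ hY₁ (η' : W₁ → ℂ) η'.2]
  exact exists_inv_ext_iff X W S₁ X₁ W₁ hWX hSX hSW hS hX hX₁ hW₁ hX₁X hW₁W hW₁X₁ η hηS
    η' hrelW hηX hη'X hf5 habX habX₁ hidx c hcX hcS

end

end Cfsg.Agent.Helper6.RMcK
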