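import Mathlib
import Cfsg.Prelude.Def_Characters
import Cfsg.Prelude.Def_BlockLocal
import Cfsg.Agent.Helper6.RMcKLXb
import Cfsg.Agent.Helper6.RMcKGrp

/-!
# Lemma X, part c: the inductive step in terms of the structure data `T, B, S₁`
-/

set_option autoImplicit false
set_option linter.style.haveILetI false
set_option linter.unusedSimpArgs false
set_option linter.unusedSectionVars false
set_option linter.unusedVariables false

namespace Cfsg.Agent.Helper6.RMcK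

open Cfsg.Agent.Helper6
open scoped ComplexConjugate

universe u

variable {Γ : Type u} [Group Γ] [Finite Γ]

omit [Finite Γ] in
theorem fixC_mono_right (W : Subgroup Γ) {T S : Subgroup Γ} (hTS : T ≤ S) :
    fixC W S ≤ fixC W T := by
  intro x hx
  rw [mem_fixC] at hx ⊢
  exact ⟨hx.1, fun s hs => hx.2 s (hTS hs)⟩

omit [Finite Γ] in
theorem fixC_fixC_of_le (W : Subgroup Γ) {T S : Subgroup Γ} (hTS : T ≤ S) :
    fixC (fixC W T) S = fixC W S := by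
  apply le_antisymm
  · intro x hx
    rw [mem_fixC] at hx ⊢
    exact ⟨(fixC_le W T) hx.1, hx.2⟩
  · intro x hx
    rw [mem_fixC]
    refine ⟨fixC_mono_right W hTS hx, ?_⟩
    rw [mem_fixC] at hx
    exact hx.2

omit [Finite Γ] in
theorem fixC_eq_self_iff (W T : Subgroup Γ) :
    fixC W T = W ↔ T ≤ Subgroup.centralizer (W : Set Γ) := by
  constructor
  · intro h t ht
    rw [Subgroup.mem_centralizer_iff]
    intro w hw
    have h1 : w ∈ fixC W T := by rw [h]; exact hw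
    rw [mem_fixC] at h1
    exact (h1.2 t ht).symm
  · intro h
    apply le_antisymm (fixC_le W T)
    intro w hw
    rw [mem_fixC]
    refine ⟨hw, fun t ht => ?_⟩
    exact ((Subgroup.mem_centralizer_iff.mp (h ht)) w hw).symm

/-- the inductive step of Lemma X -/
theorem lemmaX_step {p : ℕ} [hp : Fact p.Prime] (W S A C T B S₁ : Subgroup Γ)
    (hS : IsPGroup p S) (hW : (Nat.card W).Coprime p) (hA : (Nat.card A).Coprime p)
    (hSW : S ≤ Subgroup.normalizer (W : Set Γ)) (hAW : A ≤ Subgroup.normalizer (W : Set Γ))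
    (hAS : A ≤ Subgroup.normalizer (S : Set Γ))
    (hC : C = fixC W S) (hCA : C ≤ A) (hab : ∀ a ∈ A, ∀ b ∈ A, a * b * a⁻¹ * b⁻¹ ∈ C)
    (hTS : T ≤ S) (hST : S ≤ Subgroup.normalizer (T : Set Γ))
    (hAT : A ≤ Subgroup.normalizer (T : Set Γ))
    (hCB : C ≤ B) (hBA : B ≤ A) (hAB : A ≤ Subgroup.normalizer (B : Set Γ))
    (c : Γ) (hcA : c ∈ A) (hgen : ∀ a ∈ A, ∃ k : ℕ, a * c ^ k ∈ B)
    (hS₁T : S₁ ≤ T) (hAS₁ : A ≤ Subgroup.normalizer (S₁ : Set Γ))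
    (hS₁B : S₁ ≤ Subgroup.centralizer (B : Set Γ))
    (hfix : W ⊓ Subgroup.centralizer (S₁ : Set Γ) = W ⊓ Subgroup.centralizer (T : Set Γ))
    (W₁ : Subgroup Γ) (hW₁ : W₁ = fixC W T) (hW₁W : W₁ ≤ W)
    (η : Cfsg.IrrCharacter W) (hηS : S ≤ inertia W (η : W → ℂ))
    (hηA : A ≤ inertia W (η : W → ℂ))
    (η' : Cfsg.IrrCharacter W₁) (hrelW : GlC p hW₁W (η : W → ℂ) (η' : W₁ → ℂ)) :
    S ≤ inertia W₁ (η' : W₁ → ℂ) ∧ A ≤ inertia W₁ (η' : W₁ → ℂ) ∧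
    (ExtendsTo W (η : W → ℂ) (W ⊔ A) ↔ ExtendsTo W₁ (η' : W₁ → ℂ) (W₁ ⊔ A)) := by
  classical
  have hT : IsPGroup p T := hS.to_le hTS
  have hTW : T ≤ Subgroup.normalizer (W : Set Γ) := hTS.trans hSW
  have hηT : T ≤ inertia W (η : W → ℂ) := hTS.trans hηS
  -- (i)
  have hi : ∀ a : Γ, a ∈ Subgroup.normalizer (T : Set Γ) → a ∈ inertia W (η : W → ℂ) →
      a ∈ inertia W₁ (η' : W₁ → ℂ) := fun a haT ha =>
    gl_inertia_of_inertia W T W₁ hTW hT hW hW₁ hW₁W (η : W → ℂ) η.2 hηT η' hrelW a haT ha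
  have hη'S : S ≤ inertia W₁ (η' : W₁ → ℂ) := fun s hs => hi s (hST hs) (hηS hs)
  have hη'A : A ≤ inertia W₁ (η' : W₁ → ℂ) := fun a ha => hi a (hAT ha) (hηA ha)
  refine ⟨hη'S, hη'A, ?_⟩
  -- the data for the Glauberman step
  have hS₁S : S₁ ≤ S := hS₁T.trans hTS
  have hS₁ : IsPGroup p S₁ := hS.to_le hS₁S
  have hBW : B ≤ Subgroup.normalizer (W : Set Γ) := hBA.trans hAW
  have hBp : (Nat.card B).Coprime p := card_coprime_of_le p hBA hA
  have hW₁' : W₁ = fixC W S₁ := by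
    rw [hW₁]
    unfold fixC
    exact hfix.symm
  have hBW₁ : B ≤ Subgroup.normalizer (W₁ : Set Γ) := by
    intro b hb
    rw [hW₁]
    exact normalizer_fixC W T b (hBW hb) (hAT (hBA hb))
  have hCW : C ≤ W := by rw [hC]; exact fixC_le W S
  have hCW₁ : C ≤ W₁ := by
    rw [hC, hW₁]
    exact fixC_mono_right W hTS
  have hcopWS : (Nat.card W).Coprime (Nat.card S) := coprime_card_of_pgroup hS hW
  have hWB : W ⊓ B = C := by
    apply le_antisymm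
    · have h1 : W ⊓ B ≤ W ⊓ A := inf_le_inf_left W hBA
      have h2 := inf_le_fixC hSW hAS hcopWS
      rw [hC]
      exact h1.trans h2
    · exact le_inf hCW hCB
  have hW₁B : W₁ ⊓ B = C := by
    apply le_antisymm
    · rw [← hWB]
      exact inf_le_inf_right B hW₁W
    · exact le_inf hCW₁ hCB
  have hidx : W.relIndex (W ⊔ B) = W₁.relIndex (W₁ ⊔ B) := by
    rw [relIndex_sup_of_le_normalizer hBW, relIndex_sup_of_le_normalizer hBW₁,
      ← Subgroup.inf_relIndex_right W B, ← Subgroup.inf_relIndex_right W₁ B, hWB, hW₁B]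
  have hS₁W : S₁ ≤ Subgroup.normalizer (W : Set Γ) := hS₁S.trans hSW
  have hS₁NB : S₁ ≤ Subgroup.normalizer (B : Set Γ) :=
    hS₁B.trans (Subgroup.centralizer_le_normalizer _)
  have hSX : S₁ ≤ Subgroup.normalizer ((W ⊔ B : Subgroup Γ) : Set Γ) :=
    le_normalizer_sup hS₁W hS₁NB
  have hX : (Nat.card (W ⊔ B : Subgroup Γ)).Coprime p := card_sup_coprime p hBW hW hBp
  have hX₁ : W₁ ⊔ B = fixC (W ⊔ B) S₁ := by
    rw [fixC_sup_eq hBW hS₁B, ← hW₁']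
  have hWX : W ≤ W ⊔ B := le_sup_left
  have hW₁X₁ : W₁ ≤ W₁ ⊔ B := le_sup_left
  have hX₁X : W₁ ⊔ B ≤ W ⊔ B := sup_le_sup_right hW₁W B
  have hηX : W ⊔ B ≤ inertia W (η : W → ℂ) :=
    sup_le (le_inertia_of_isClassFunction W _
      (IsCharacter.isClassFunction (IsIrrCharacter.isCharacter η.2))) (hBA.trans hηA)
  have hη'X : W₁ ⊔ B ≤ inertia W₁ (η' : W₁ → ℂ) :=
    sup_le (le_inertia_of_isClassFunction W₁ _
      (IsCharacter.isClassFunction (IsIrrCharacter.isCharacter η'.2))) (hBA.trans hη'A)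
  have habB : ∀ b ∈ B, ∀ b' ∈ B, b * b' * b⁻¹ * b'⁻¹ ∈ C := fun b hb b' hb' =>
    hab b (hBA hb) b' (hBA hb')
  have habX : AbMod W (W ⊔ B) := abMod_sup hBW (fun b hb b' hb' => hCW (habB b hb b' hb'))
  have habX₁ : AbMod W₁ (W₁ ⊔ B) :=
    abMod_sup hBW₁ (fun b hb b' hb' => hCW₁ (habB b hb b' hb'))
  have hXW : W ⊔ B ≤ Subgroup.normalizer (W : Set Γ) := sup_le Subgroup.le_normalizer hBW
  have hf5 : ∀ χ : ↥(W ⊔ B) → ℂ, Cfsg.IsIrrCharacter ↥(W ⊔ B) χ → Ov hWX χ (η : W → ℂ) →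
      S₁ ≤ inertia (W ⊔ B) χ := fun χ hχ hov =>
    f5' (W ⊔ B) W S₁ hWX hXW habX hS₁ hSX (comm_sup_mem hBW hS₁W hS₁B) hX (η : W → ℂ) η.2
      (hS₁S.trans hηS) χ hχ hov
  have hcX : c ∈ Subgroup.normalizer ((W ⊔ B : Subgroup Γ) : Set Γ) :=
    le_normalizer_sup hAW hAB hcA
  have hAeq : A = B ⊔ Subgroup.zpowers c := by
    apply le_antisymm
    · intro a ha
      obtain ⟨k, hk⟩ := hgen a ha
      have h1 : a = (a * c ^ k) * (c ^ k)⁻¹ := by group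
      rw [h1]
      refine Subgroup.mul_mem _ ((le_sup_left : B ≤ _) hk) ((le_sup_right : Subgroup.zpowers c ≤ _) ?_)
      exact Subgroup.inv_mem _ (Subgroup.pow_mem _ (Subgroup.mem_zpowers c) k)
    · apply sup_le hBA
      rw [Subgroup.zpowers_le]
      exact hcA
  have hY : W ⊔ A = (W ⊔ B) ⊔ Subgroup.zpowers c := by
    rw [sup_assoc, ← hAeq]
  have hY₁ : W₁ ⊔ A = (W₁ ⊔ B) ⊔ Subgroup.zpowers c := by
    rw [sup_assoc, ← hAeq]
  exact lemmaX_step_ext (W ⊔ B) W S₁ (W₁ ⊔ B) W₁ hWX hSX hS₁W hS₁ hX hX₁ hW₁' hX₁X hW₁W hW₁X₁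
    η (hS₁S.trans hηS) η' hrelW hηX hη'X hf5 habX habX₁ hidx (W ⊔ A) (W₁ ⊔ A) c hcX
    (hAS₁ hcA) hY hY₁

end Cfsg.Agent.Helper6.RMcK
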