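import Mathlib
import Cfsg.Agent.Helper6.RMcKGrp
import Cfsg.Agent.Helper6.RMcKLXc

/-!
# Group-theoretic facts for the central case: Frattini, Dedekind, `p'`-elements of `C × S`
-/

set_option autoImplicit false
set_option linter.style.haveILetI false
set_option linter.unusedSimpArgs false

namespace Cfsg.Agent.Helper6.RMcK

open Cfsg.Agent.Helper6

universe u

variable {Γ : Type u} [Group Γ] [Finite Γ]

/-- ambient Frattini argument -/
theorem frattini_amb (p : ℕ) [hp : Fact p.Prime] (G M S : Subgroup Γ) (hMG : M ≤ G)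
    (hGM : G ≤ Subgroup.normalizer (M : Set Γ)) (hSM : S ≤ M) (hS : IsPGroup p S)
    (hSyl : ¬ p ∣ S.relIndex G) :
    ∀ g ∈ G, ∃ m ∈ M, ∃ n ∈ G ⊓ Subgroup.normalizer (S : Set Γ), g = m * n := by
  intro g hg
  have hSG : S ≤ G := hSM.trans hMG
  haveI hMn : (M.subgroupOf G).Normal :=
    (Subgroup.normal_subgroupOf_iff_le_normalizer hMG).mpr hGM
  have hP1 : IsPGroup p (S.subgroupOf G) :=
    hS.of_equiv (Subgroup.subgroupOfEquivOfLe hSG).symm
  let P : Sylow p G := hP1.toSylow hSyl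
  have hPN : (P : Subgroup G) ≤ M.subgroupOf G := by
    intro x hx
    have hx' : x ∈ S.subgroupOf G := (IsPGroup.mem_toSylow hP1 hSyl).mp hx
    rw [Subgroup.mem_subgroupOf] at hx' ⊢
    exact hSM hx'
  have htop := Sylow.normalizer_sup_eq_top' P hPN
  have hg' : (⟨g, hg⟩ : G) ∈ (⊤ : Subgroup G) := Subgroup.mem_top _
  rw [← htop] at hg'
  obtain ⟨y, hy, z, hz, hyz⟩ := Subgroup.mem_sup_of_normal_right.mp hg'
  have hyN : (y : Γ) ∈ Subgroup.normalizer (S : Set Γ) := by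
    rw [Subgroup.mem_normalizer_iff]
    intro h
    have hzn := Subgroup.mem_normalizer_iff.mp hy
    constructor
    · intro hh
      have h1 := (hzn ⟨h, hSG hh⟩).mp ((IsPGroup.mem_toSylow hP1 hSyl).mpr (by
        rw [Subgroup.mem_subgroupOf]; exact hh))
      have h2 := (IsPGroup.mem_toSylow hP1 hSyl).mp h1
      rw [Subgroup.mem_subgroupOf] at h2
      simpa using h2
    · intro hh
      have hhG : h ∈ G := by
        have h1 : (y : Γ)⁻¹ * ((y : Γ) * h * (y : Γ)⁻¹) * (y : Γ) ∈ G :=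
          G.mul_mem (G.mul_mem (G.inv_mem y.2) (hSG hh)) y.2
        have h2 : (y : Γ)⁻¹ * ((y : Γ) * h * (y : Γ)⁻¹) * (y : Γ) = h := by group
        rwa [h2] at h1
      have h1 := (hzn ⟨h, hhG⟩).mpr ((IsPGroup.mem_toSylow hP1 hSyl).mpr (by
        rw [Subgroup.mem_subgroupOf]; simpa using hh))
      have h2 := (IsPGroup.mem_toSylow hP1 hSyl).mp h1
      rw [Subgroup.mem_subgroupOf] at h2
      exact h2
  have hzM : (z : Γ) ∈ M := by
    rw [Subgroup.mem_subgroupOf] at hz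
    exact hz
  refine ⟨(y : Γ) * (z : Γ) * (y : Γ)⁻¹, ?_, (y : Γ), ⟨y.2, hyN⟩, ?_⟩
  · exact (Subgroup.mem_normalizer_iff.mp (hGM y.2) (z : Γ)).mp hzM
  · have h1 := congrArg Subtype.val hyz
    have h2 : (y : Γ) * (z : Γ) = g := by simpa using h1
    rw [← h2]
    group

omit [Finite Γ] in
/-- Dedekind's modular law in the form `(W ⊔ S) ⊓ N = (W ⊓ N) ⊔ S` for `S ≤ N`, `S ≤ N(W)` -/
theorem dedekind_sup_inf (W S N : Subgroup Γ) (hSW : S ≤ Subgroup.normalizer (W : Set Γ))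
    (hSN : S ≤ N) : (W ⊔ S) ⊓ N = (W ⊓ N) ⊔ S := by
  apply le_antisymm
  · rintro x ⟨hxM, hxN⟩
    obtain ⟨w, hw, s, hs, rfl⟩ := (mem_sup_iff_of_le_normalizer hSW x).mp hxM
    have hwN : w ∈ N := by
      have h1 : w * s * s⁻¹ ∈ N := N.mul_mem hxN (N.inv_mem (hSN hs))
      rwa [mul_inv_cancel_right] at h1
    exact Subgroup.mul_mem _ ((le_sup_left : W ⊓ N ≤ _) ⟨hw, hwN⟩) ((le_sup_right : S ≤ _) hs)
  · apply sup_le
    · exact le_inf (inf_le_left.trans le_sup_left) inf_le_right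
    · exact le_inf le_sup_right hSN

omit [Finite Γ] in
/-- elements of `p'`-order in `C ⊔ S` (with `S` a `p`-group centralizing `C`) lie in `C` -/
theorem sup_inf_le_of_coprime (p : ℕ) [hp : Fact p.Prime] (C S H₀ : Subgroup Γ)
    (hcent : S ≤ Subgroup.centralizer (C : Set Γ)) (hS : IsPGroup p S)
    (hC : (Nat.card C).Coprime p) (hH₀ : (Nat.card H₀).Coprime p) :
    (C ⊔ S) ⊓ H₀ ≤ C := by
  rintro x ⟨hxM, hxH⟩
  have hSC : S ≤ Subgroup.normalizer (C : Set Γ) :=
    hcent.trans (Subgroup.centralizer_le_normalizer _)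
  obtain ⟨c, hc, s, hs, rfl⟩ := (mem_sup_iff_of_le_normalizer hSC x).mp hxM
  have hcs : c * s = s * c := (Subgroup.mem_centralizer_iff.mp (hcent hs)) c hc
  set k := Nat.card H₀ * Nat.card C with hk
  have hkp : k.Coprime p := Nat.Coprime.mul_left hH₀ hC
  have hxk : (c * s) ^ k = 1 := by
    have h1 : ((⟨c * s, hxH⟩ : H₀)) ^ Nat.card H₀ = 1 := pow_card_eq_one'
    have h2 : (c * s) ^ Nat.card H₀ = 1 := by
      have := congrArg Subtype.val h1
      simpa only [Subgroup.coe_pow, Subgroup.coe_one] using this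
    rw [hk, pow_mul, h2, one_pow]
  have hck : c ^ k = 1 := by
    have h1 : ((⟨c, hc⟩ : C)) ^ Nat.card C = 1 := pow_card_eq_one'
    have h2 : c ^ Nat.card C = 1 := by
      have := congrArg Subtype.val h1
      simpa only [Subgroup.coe_pow, Subgroup.coe_one] using this
    rw [hk, mul_comm, pow_mul, h2, one_pow]
  have hsk : s ^ k = 1 := by
    have h1 : (c * s) ^ k = c ^ k * s ^ k := (Commute.mul_pow hcs k)
    rw [h1, hck, one_mul] at hxk
    exact hxk
  -- `s` has `p`-power order coprime to `k`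
  obtain ⟨j, hj⟩ := (IsPGroup.iff_orderOf.mp hS) ⟨s, hs⟩
  have hord : orderOf s = p ^ j := by
    rw [← hj]
    exact (Subgroup.orderOf_mk s hs).symm
  have hdvd : orderOf s ∣ k := orderOf_dvd_of_pow_eq_one hsk
  have hs1 : s = 1 := by
    rw [hord] at hdvd
    have h1 : (p ^ j).Coprime k := Nat.Coprime.pow_left j hkp.symm
    have h2 : p ^ j = 1 := Nat.Coprime.eq_one_of_dvd h1 hdvd
    rw [← orderOf_eq_one_iff, hord, h2]
  rw [hs1, mul_one]
  exact hc

end Cfsg.Agent.Helper6.RMcK
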