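import Mathlib
import Cfsg.Prelude.Def_Characters
import Cfsg.Prelude.Def_BlockLocal
import Cfsg.Prelude.Def_Blocks
import Cfsg.Agent.Helper6.RMcKGlD
import Cfsg.Agent.Helper6.RMcKCnt
import Cfsg.Agent.Helper6.CharTripleD
import Cfsg.Agent.Helper6.BlockPart

/-!
# Character-theoretic helper lemmas for the central case
-/

set_option autoImplicit false
set_option linter.style.haveILetI false
set_option linter.unusedSimpArgs false

namespace Cfsg.Agent.Helper6.RMcK

open Cfsg.Agent.Helper6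
open scoped ComplexConjugate

universe u

variable {Γ : Type u} [Group Γ] [Finite Γ]

omit [Finite Γ] in
/-- an element fixing `τ` and normalizing `W` fixes the restriction of `τ` to `W` -/
theorem inertia_res {W M : Subgroup Γ} (hWM : W ≤ M) (τ : M → ℂ) (a : Γ)
    (ha : a ∈ inertia M τ) (haW : a ∈ Subgroup.normalizer (W : Set Γ)) :
    a ∈ inertia W (res hWM τ) := by
  rw [mem_inertia]
  refine ⟨haW, ?_⟩
  rw [isConjCharOf_iff W a haW]
  rw [← res_cjc hWM a ha.1 haW τ, cjc_eq_of_mem_inertia M τ a ha]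

/-- degrees over a normal subgroup -/
theorem deg_over {K G : Subgroup Γ} (hKG : K ≤ G) (hGK : G ≤ Subgroup.normalizer (K : Set Γ))
    (χ : G → ℂ) (hχ : Cfsg.IsIrrCharacter G χ) (τ : K → ℂ) (hτ : Cfsg.IsIrrCharacter K τ)
    (hov : Ov hKG χ τ) :
    Cfsg.charDegree τ ∣ Cfsg.charDegree χ ∧
      Cfsg.charDegree χ / Cfsg.charDegree τ ∣ K.relIndex G := by
  classical
  haveI := Fintype.ofFinite G
  haveI := Fintype.ofFinite K
  haveI := Fintype.ofFinite (K.subgroupOf G)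
  haveI hn : (K.subgroupOf G).Normal :=
    (Subgroup.normal_subgroupOf_iff_le_normalizer hKG).mpr hGK
  have h1 := irr_subgroupOf hKG hτ
  have hcon : Cfsg.classInner (fun n : K.subgroupOf G => χ n)
      (τ ∘ (Subgroup.subgroupOfEquivOfLe hKG)) ≠ 0 := by
    rw [classInner_subgroupOf' hKG χ τ]
    exact hov
  have hc : χ 1 = (Cfsg.charDegree χ : ℂ) :=
    (charDegree_cast_of_isCharacter (IsIrrCharacter.isCharacter hχ)).symm
  have hd : (τ ∘ (Subgroup.subgroupOfEquivOfLe hKG)) 1 = (Cfsg.charDegree τ : ℂ) := by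
    rw [Function.comp_apply, map_one]
    exact (charDegree_cast_of_isCharacter (IsIrrCharacter.isCharacter hτ)).symm
  exact degree_ratio_dvd_index (K.subgroupOf G) χ hχ _ h1 hcon _ _ hc hd

omit [Finite Γ] in
theorem charDegree_pos_of_irr {K : Subgroup Γ} (τ : K → ℂ) (hτ : Cfsg.IsIrrCharacter K τ) :
    0 < Cfsg.charDegree τ := by
  rw [Nat.pos_iff_ne_zero]
  intro h0
  have h1 := charDegree_cast_of_isCharacter (IsIrrCharacter.isCharacter hτ)
  rw [h0] at h1
  exact IsIrrCharacter.apply_one_ne_zero hτ (by simpa using h1.symm)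

/-- `p'`-degree goes up over a normal subgroup of `p'`-index -/
theorem pdeg_of_over (p : ℕ) [hp : Fact p.Prime] {K G : Subgroup Γ} (hKG : K ≤ G)
    (hGK : G ≤ Subgroup.normalizer (K : Set Γ)) (hidx : ¬ p ∣ K.relIndex G)
    (χ : G → ℂ) (hχ : Cfsg.IsIrrCharacter G χ) (τ : K → ℂ) (hτ : Cfsg.IsIrrCharacter K τ)
    (hov : Ov hKG χ τ) (hdeg : ¬ p ∣ Cfsg.charDegree τ) : ¬ p ∣ Cfsg.charDegree χ := by
  obtain ⟨h1, h2⟩ := deg_over hKG hGK χ hχ τ hτ hov
  intro hdvd
  have h3 : Cfsg.charDegree χ = Cfsg.charDegree τ * (Cfsg.charDegree χ / Cfsg.charDegree τ) :=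
    (Nat.mul_div_cancel' h1).symm
  rw [h3] at hdvd
  rcases (Nat.Prime.dvd_mul hp.out).mp hdvd with h | h
  · exact hdeg h
  · exact hidx (dvd_trans h h2)

/-- `p'`-degree goes down to constituents on normal subgroups -/
theorem pdeg_of_under (p : ℕ) {K G : Subgroup Γ} (hKG : K ≤ G)
    (hGK : G ≤ Subgroup.normalizer (K : Set Γ))
    (χ : G → ℂ) (hχ : Cfsg.IsIrrCharacter G χ) (τ : K → ℂ) (hτ : Cfsg.IsIrrCharacter K τ)
    (hov : Ov hKG χ τ) (hdeg : ¬ p ∣ Cfsg.charDegree χ) : ¬ p ∣ Cfsg.charDegree τ := by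
  obtain ⟨h1, -⟩ := deg_over hKG hGK χ hχ τ hτ hov
  exact fun h => hdeg (dvd_trans h h1)

/-- lying over is preserved when the lower character is conjugated by an element of the upper
group -/
theorem ov_cjc_of_mem {K G : Subgroup Γ} (hKG : K ≤ G) (n : Γ) (hn : n ∈ G)
    (hnK : n ∈ Subgroup.normalizer (K : Set Γ)) (χ : G → ℂ) (hχ : Cfsg.IsCharacter G χ)
    (τ : K → ℂ) (hov : Ov hKG χ τ) : Ov hKG χ (cjc K n hnK τ) := by
  have h1 := ov_cjc hKG n (Subgroup.le_normalizer hn) hnK χ τ hov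
  rwa [cjc_of_mem G n hn χ (IsCharacter.isClassFunction hχ)] at h1

/-- conjugating back -/
theorem ov_of_ov_cjc {K G : Subgroup Γ} (hKG : K ≤ G) (n : Γ) (hn : n ∈ G)
    (hnK : n ∈ Subgroup.normalizer (K : Set Γ)) (χ : G → ℂ) (hχ : Cfsg.IsCharacter G χ)
    (τ : K → ℂ) (hov : Ov hKG χ (cjc K n hnK τ)) : Ov hKG χ τ := by
  have h1 := ov_cjc_of_mem hKG n⁻¹ (G.inv_mem hn) (Subgroup.inv_mem _ hnK) χ hχ _ hov
  rw [← cjc_mul] at h1
  have h2 : cjc K (n⁻¹ * n) (Subgroup.mul_mem _ (Subgroup.inv_mem _ hnK) hnK) τ =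
      cjc K 1 (Subgroup.one_mem _) τ := by
    congr 1
    exact inv_mul_cancel n
  rw [h2, cjc_one] at h1
  exact h1

end Cfsg.Agent.Helper6.RMcK
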