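import Mathlib

/-!
# Generic fibre counting
-/

set_option autoImplicit false
set_option linter.style.haveILetI false
set_option linter.unusedSimpArgs false

namespace Cfsg.Agent.Helper6.RMcK

universe u v

/-- if all fibres of `f` over the elements satisfying `q` have `k` elements, the preimage of
`q` has `k * |q|` elements -/
theorem card_preimage_of_fibers {α : Type u} {β : Type v} [Finite α] [Finite β] (f : α → β)
    (q : β → Prop) (k : ℕ) (hk : ∀ b : β, q b → Nat.card {a : α // f a = b} = k) :
    Nat.card {a : α // q (f a)} = k * Nat.card {b : β // q b} := by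
  classical
  haveI := Fintype.ofFinite {b : β // q b}
  have e := Equiv.sigmaSubtypeFiberEquivSubtype f (p := fun a => q (f a)) (q := q)
    (fun x => Iff.rfl)
  rw [← Nat.card_congr e, Nat.card_sigma]
  have h1 : ∀ b : {b : β // q b}, Nat.card {a : α // f a = b.1} = k := fun b => hk b.1 b.2
  simp only [h1]
  rw [Finset.sum_const, Finset.card_univ, smul_eq_mul, Nat.card_eq_fintype_card, mul_comm]

/-- fibres of a product map -/
theorem card_fiber_prod {α₁ α₂ : Type u} {β₁ β₂ : Type v} [Finite α₁] [Finite α₂]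
    (f₁ : α₁ → β₁) (f₂ : α₂ → β₂) (b₁ : β₁) (b₂ : β₂) :
    Nat.card {a : α₁ × α₂ // (f₁ a.1, f₂ a.2) = (b₁, b₂)} =
      Nat.card {a : α₁ // f₁ a = b₁} * Nat.card {a : α₂ // f₂ a = b₂} := by
  rw [← Nat.card_prod]
  apply Nat.card_congr
  refine
    { toFun := fun a => (⟨a.1.1, (Prod.mk.inj a.2).1⟩, ⟨a.1.2, (Prod.mk.inj a.2).2⟩)
      invFun := fun a => ⟨(a.1.1, a.2.1), by rw [a.1.2, a.2.2]⟩
      left_inv := fun a => rfl
      right_inv := fun a => rfl }

end Cfsg.Agent.Helper6.RMcK
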