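import Mathlib
import Cfsg.Agent.Helper6.RMcKGrp

/-!
# Group-theoretic bookkeeping for the count `|Irr(W H₀ | η)| = |Irr(H₀ | η*)|`
-/

set_option autoImplicit false
set_option linter.style.haveILetI false
set_option linter.unusedSimpArgs false

namespace Cfsg.Agent.Helper6.RMcK

open Cfsg.Agent.Helper6

universe u

variable {Γ : Type u} [Group Γ]

theorem inv_mul_eq_of_mul_eq (a1 a2 w₀ y₀ : Γ) (h : a1 * a2 = w₀ * y₀) :
    a1⁻¹ * w₀ = a2 * y₀⁻¹ := by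
  have h1 : w₀ = a1 * a2 * y₀⁻¹ := eq_mul_inv_of_mul_eq h.symm
  subst h1
  group

/-- each element of `W · H₀` is a product `w * y` in exactly `|W ⊓ H₀|` ways -/
theorem card_mul_fiber [Finite Γ] (W H₀ C : Subgroup Γ) (hC : W ⊓ H₀ = C) (w₀ y₀ : Γ)
    (hw₀ : w₀ ∈ W) (hy₀ : y₀ ∈ H₀) :
    Nat.card {a : W × H₀ // (a.1 : Γ) * (a.2 : Γ) = w₀ * y₀} = Nat.card C := by
  have hCW : C ≤ W := hC ▸ inf_le_left
  have hCH : C ≤ H₀ := hC ▸ inf_le_right
  apply Nat.card_congr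
  refine
    { toFun := fun a => ⟨(a.1.1 : Γ)⁻¹ * w₀, ?_⟩
      invFun := fun c => ⟨(⟨w₀ * (c : Γ)⁻¹, W.mul_mem hw₀ (W.inv_mem (hCW c.2))⟩,
        ⟨(c : Γ) * y₀, H₀.mul_mem (hCH c.2) hy₀⟩), ?_⟩
      left_inv := ?_
      right_inv := ?_ }
  · rw [← hC]
    refine ⟨W.mul_mem (W.inv_mem a.1.1.2) hw₀, ?_⟩
    have h1 : (a.1.1 : Γ)⁻¹ * w₀ = (a.1.2 : Γ) * y₀⁻¹ :=
      inv_mul_eq_of_mul_eq _ _ _ _ a.2
    rw [h1]
    exact H₀.mul_mem a.1.2.2 (H₀.inv_mem hy₀)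
  · simp only
    group
  · intro a
    apply Subtype.ext
    apply Prod.ext
    · apply Subtype.ext
      simp only
      group
    · apply Subtype.ext
      simp only
      have h1 : (a.1.1 : Γ)⁻¹ * w₀ = (a.1.2 : Γ) * y₀⁻¹ :=
        inv_mul_eq_of_mul_eq _ _ _ _ a.2
      rw [h1]
      group
  · intro c
    apply Subtype.ext
    simp only
    group

/-- commutators modulo `W` only depend on the cosets -/
theorem comm_mul_mem_iff (W : Subgroup Γ) (y d w₁ w₂ : Γ)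
    (hy : y ∈ Subgroup.normalizer (W : Set Γ)) (hd : d ∈ Subgroup.normalizer (W : Set Γ))
    (hw₁ : w₁ ∈ W) (hw₂ : w₂ ∈ W) :
    (w₁ * y)⁻¹ * (w₂ * d)⁻¹ * (w₁ * y) * (w₂ * d) ∈ W ↔ y⁻¹ * d⁻¹ * y * d ∈ W := by
  have hconj : ∀ g ∈ Subgroup.normalizer (W : Set Γ), ∀ v ∈ W, g⁻¹ * v * g ∈ W := by
    intro g hg v hv
    have := (Subgroup.mem_normalizer_iff.mp (Subgroup.inv_mem _ hg) v).mp hv
    simpa using this
  have hyd : y * d ∈ Subgroup.normalizer (W : Set Γ) := Subgroup.mul_mem _ hy hd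
  have hid : (w₁ * y)⁻¹ * (w₂ * d)⁻¹ * (w₁ * y) * (w₂ * d) =
      (y⁻¹ * d⁻¹ * y * d) * (((y * d)⁻¹ * (d * w₁⁻¹ * d⁻¹) * (y * d)) *
        ((y * d)⁻¹ * (w₂⁻¹ * w₁) * (y * d)) * (d⁻¹ * w₂ * d)) := by group
  have hdw : d * w₁⁻¹ * d⁻¹ ∈ W := (Subgroup.mem_normalizer_iff.mp hd w₁⁻¹).mp (W.inv_mem hw₁)
  have hv : ((y * d)⁻¹ * (d * w₁⁻¹ * d⁻¹) * (y * d)) *
        ((y * d)⁻¹ * (w₂⁻¹ * w₁) * (y * d)) * (d⁻¹ * w₂ * d) ∈ W :=
    W.mul_mem (W.mul_mem (hconj _ hyd _ hdw) (hconj _ hyd _ (W.mul_mem (W.inv_mem hw₂) hw₁)))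
      (hconj _ hd _ hw₂)
  rw [hid]
  exact W.mul_mem_cancel_right hv

theorem sup_zpowers_mul (W : Subgroup Γ) (w y : Γ) (hw : w ∈ W) :
    W ⊔ Subgroup.zpowers (w * y) = W ⊔ Subgroup.zpowers y := by
  apply le_antisymm
  · apply sup_le le_sup_left
    rw [Subgroup.zpowers_le]
    exact Subgroup.mul_mem _ ((le_sup_left : W ≤ _) hw)
      ((le_sup_right : Subgroup.zpowers y ≤ _) (Subgroup.mem_zpowers y))
  · apply sup_le le_sup_left
    rw [Subgroup.zpowers_le]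
    have h1 : w⁻¹ * (w * y) ∈ W ⊔ Subgroup.zpowers (w * y) :=
      Subgroup.mul_mem _ ((le_sup_left : W ≤ _) (W.inv_mem hw))
        ((le_sup_right : Subgroup.zpowers (w * y) ≤ _) (Subgroup.mem_zpowers (w * y)))
    rwa [inv_mul_cancel_left] at h1

/-- two elements commuting modulo `C` generate an abelian group modulo `C` -/
theorem abMod_of_comm_gens [Finite Γ] (C : Subgroup Γ) (y d : Γ)
    (hy : y ∈ Subgroup.normalizer (C : Set Γ)) (hd : d ∈ Subgroup.normalizer (C : Set Γ))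
    (hyd : y⁻¹ * d⁻¹ * y * d ∈ C) :
    AbMod C (C ⊔ Subgroup.zpowers y ⊔ Subgroup.zpowers d) := by
  set N := Subgroup.normalizer (C : Set Γ) with hN
  haveI hCn : (C.subgroupOf N).Normal := Subgroup.normal_in_normalizer
  let π := QuotientGroup.mk' (C.subgroupOf N)
  let yN : N := ⟨y, hy⟩
  let dN : N := ⟨d, hd⟩
  have hcomm : π yN * π dN = π dN * π yN := by
    have h1 : yN⁻¹ * dN⁻¹ * yN * dN ∈ C.subgroupOf N := by
      rw [Subgroup.mem_subgroupOf]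
      exact hyd
    have h2 : π (yN⁻¹ * dN⁻¹ * yN * dN) = 1 := (QuotientGroup.eq_one_iff _).mpr h1
    rw [map_mul, map_mul, map_mul, map_inv, map_inv] at h2
    have h3 : π yN * π dN = π dN * π yN * ((π yN)⁻¹ * (π dN)⁻¹ * π yN * π dN) := by group
    rw [h3, h2, mul_one]
  let K : Subgroup (N ⧸ C.subgroupOf N) := Subgroup.closure {π yN, π dN}
  have hKcomm : ∀ u ∈ K, ∀ v ∈ K, u * v = v * u := by
    have hK : IsMulCommutative K := Subgroup.isMulCommutative_closure (by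
      intro a ha b hb
      rcases ha with rfl | rfl <;> rcases hb with rfl | rfl
      · rfl
      · exact hcomm
      · exact hcomm.symm
      · rfl)
    intro u hu v hv
    have := hK.is_comm.comm (⟨u, hu⟩ : K) ⟨v, hv⟩
    simpa using congrArg Subtype.val this
  have hA : C ⊔ Subgroup.zpowers y ⊔ Subgroup.zpowers d ≤ (K.comap π).map N.subtype := by
    apply sup_le (sup_le ?_ ?_) ?_
    · intro c hc
      refine ⟨⟨c, Subgroup.le_normalizer hc⟩, ?_, rfl⟩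
      rw [SetLike.mem_coe, Subgroup.mem_comap]
      have h1 : π ⟨c, Subgroup.le_normalizer hc⟩ = 1 := by
        apply (QuotientGroup.eq_one_iff _).mpr
        rw [Subgroup.mem_subgroupOf]
        exact hc
      rw [h1]
      exact K.one_mem
    · rw [Subgroup.zpowers_le]
      refine ⟨yN, ?_, rfl⟩
      rw [SetLike.mem_coe, Subgroup.mem_comap]
      exact Subgroup.subset_closure (by simp)
    · rw [Subgroup.zpowers_le]
      refine ⟨dN, ?_, rfl⟩
      rw [SetLike.mem_coe, Subgroup.mem_comap]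
      exact Subgroup.subset_closure (by simp)
  intro a ha b hb
  obtain ⟨aN, haK, rfl⟩ := hA ha
  obtain ⟨bN, hbK, rfl⟩ := hA hb
  rw [SetLike.mem_coe, Subgroup.mem_comap] at haK hbK
  have h1 : π (aN * bN * aN⁻¹ * bN⁻¹) = 1 := by
    rw [map_mul, map_mul, map_mul, map_inv, map_inv, hKcomm _ haK _ hbK]
    group
  have h2 := (QuotientGroup.eq_one_iff _).mp h1
  rw [Subgroup.mem_subgroupOf] at h2
  simpa using h2

end Cfsg.Agent.Helper6.RMcK
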