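import Mathlib
import Cfsg.Prelude.Def_Characters
import Cfsg.Prelude.Def_BlockLocal
import Cfsg.Agent.Helper6.RMcKLXc

/-!
# Lemma X: extendibility is preserved by the Glauberman correspondence (over abelian quotients)
-/

set_option autoImplicit false
set_option linter.style.haveILetI false
set_option linter.unusedSimpArgs false
set_option linter.unusedSectionVars false
set_option linter.unusedVariables false

namespace Cfsg.Agent.Helper6.RMcK

open Cfsg.Agent.Helper6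
open scoped ComplexConjugate

universe u

variable {Γ : Type u} [Group Γ] [Finite Γ]

/-- the group-theoretic structure statement used in the inductive step of Lemma X -/
def StructStmt (Γ : Type u) [Group Γ] (p : ℕ) : Prop :=
  ∀ (W S A C : Subgroup Γ), IsPGroup p S → (Nat.card W).Coprime p → (Nat.card A).Coprime p →
    S ≤ Subgroup.normalizer (W : Set Γ) → A ≤ Subgroup.normalizer (W : Set Γ) →
    A ≤ Subgroup.normalizer (S : Set Γ) →
    C = W ⊓ Subgroup.centralizer (S : Set Γ) → C ≤ A →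
    (∀ a ∈ A, ∀ b ∈ A, a * b * a⁻¹ * b⁻¹ ∈ C) →
    ¬ S ≤ Subgroup.centralizer (W : Set Γ) →
    ∃ T B S₁ : Subgroup Γ, T ≤ S ∧ S ≤ Subgroup.normalizer (T : Set Γ) ∧
      A ≤ Subgroup.normalizer (T : Set Γ) ∧ ¬ T ≤ Subgroup.centralizer (W : Set Γ) ∧
      C ≤ B ∧ B ≤ A ∧ A ≤ Subgroup.normalizer (B : Set Γ) ∧
      (∃ c ∈ A, ∀ a ∈ A, ∃ k : ℕ, a * c ^ k ∈ B) ∧
      S₁ ≤ T ∧ A ≤ Subgroup.normalizer (S₁ : Set Γ) ∧
      S₁ ≤ Subgroup.centralizer (B : Set Γ) ∧
      W ⊓ Subgroup.centralizer (S₁ : Set Γ) = W ⊓ Subgroup.centralizer (T : Set Γ)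

theorem lemmaX_aux {p : ℕ} [hp : Fact p.Prime] (hD3 : StructStmt Γ p) (S A C : Subgroup Γ)
    (hS : IsPGroup p S) (hA : (Nat.card A).Coprime p)
    (hAS : A ≤ Subgroup.normalizer (S : Set Γ)) (hCA : C ≤ A)
    (hab : ∀ a ∈ A, ∀ b ∈ A, a * b * a⁻¹ * b⁻¹ ∈ C) :
    ∀ n : ℕ, ∀ W : Subgroup Γ, Nat.card W = n → (Nat.card W).Coprime p →
      S ≤ Subgroup.normalizer (W : Set Γ) → A ≤ Subgroup.normalizer (W : Set Γ) →
      C = fixC W S → ∀ hCW : C ≤ W, ∀ η : Cfsg.IrrCharacter W,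
      S ≤ inertia W (η : W → ℂ) → A ≤ inertia W (η : W → ℂ) →
      ∀ β : Cfsg.IrrCharacter C, GlC p hCW (η : W → ℂ) (β : C → ℂ) →
      (ExtendsTo W (η : W → ℂ) (W ⊔ A) ↔ ExtendsTo C (β : C → ℂ) A) := by
  classical
  intro n
  induction n using Nat.strong_induction_on with
  | _ n ih =>
    intro W hn hW hSW hAW hC hCW η hηS hηA β hrel
    by_cases hcent : S ≤ Subgroup.centralizer (W : Set Γ)
    · -- trivial action
      have hCW' : C = W := by
        rw [hC]
        exact (fixC_eq_self_iff W S).mpr hcent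
      subst hCW'
      have hsup : C ⊔ A = A := sup_eq_right.mpr hCA
      rw [hsup]
      have hηβ : η = β := by
        by_contra hne
        obtain ⟨m, hm, hpm⟩ := hrel
        haveI := Fintype.ofFinite C
        have h1 : res hCW (η : C → ℂ) = (η : C → ℂ) := rfl
        rw [h1, ip_eq_classInner, classInner_irr_ne η.2 β.2 (fun h => hne (Subtype.ext h))] at hm
        have : m = 0 := by exact_mod_cast hm.symm
        exact hpm (this ▸ dvd_zero p)
      rw [hηβ]
    · -- structure data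
      obtain ⟨T, B, S₁, hTS, hST, hAT, hTnc, hCB, hBA, hAB, ⟨c, hcA, hgen⟩, hS₁T, hAS₁, hS₁B,
        hfix⟩ := hD3 W S A C hS hW hA hSW hAW hAS hC hCA hab hcent
      obtain ⟨W₁, hW₁⟩ : ∃ W₁ : Subgroup Γ, W₁ = fixC W T := ⟨_, rfl⟩
      have hW₁W : W₁ ≤ W := by rw [hW₁]; exact fixC_le W T
      have hT : IsPGroup p T := hS.to_le hTS
      have hTW : T ≤ Subgroup.normalizer (W : Set Γ) := hTS.trans hSW
      have hηT : T ≤ inertia W (η : W → ℂ) := hTS.trans hηS
      obtain ⟨η', hrelW, hoth⟩ := gl_exists W T W₁ hTW hT hW hW₁ hW₁W (η : W → ℂ) η.2 hηT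
      obtain ⟨hη'S, hη'A, hiff⟩ := lemmaX_step W S A C T B S₁ hS hW hA hSW hAW hAS hC hCA hab
        hTS hST hAT hCB hBA hAB c hcA hgen hS₁T hAS₁ hS₁B hfix W₁ hW₁ hW₁W η hηS hηA η' hrelW
      -- the smaller group
      have hlt : Nat.card W₁ < n := by
        rw [← hn]
        by_contra hge
        rw [not_lt] at hge
        have h1 := Subgroup.eq_of_le_of_card_ge hW₁W hge
        rw [hW₁] at h1
        exact hTnc ((fixC_eq_self_iff W T).mp h1)
      have hW₁p : (Nat.card W₁).Coprime p := card_coprime_of_le p hW₁W hW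
      have hSW₁ : S ≤ Subgroup.normalizer (W₁ : Set Γ) := by
        intro s hs
        rw [hW₁]
        exact normalizer_fixC W T s (hSW hs) (hST hs)
      have hAW₁ : A ≤ Subgroup.normalizer (W₁ : Set Γ) := by
        intro a ha
        rw [hW₁]
        exact normalizer_fixC W T a (hAW ha) (hAT ha)
      have hC₁ : C = fixC W₁ S := by
        rw [hW₁, fixC_fixC_of_le W hTS]
        exact hC
      have hCW₁ : C ≤ W₁ := by
        rw [hC, hW₁]
        exact fixC_mono_right W hTS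
      -- the correspondent of `η'`
      obtain ⟨β', hrel', -⟩ := gl_exists W₁ S C hSW₁ hS hW₁p hC₁ hCW₁ (η' : W₁ → ℂ) η'.2 hη'S
      have htrans : GlC p hCW (η : W → ℂ) (β' : C → ℂ) :=
        glC_trans hW₁W hCW₁ (η : W → ℂ) (IsIrrCharacter.isCharacter η.2) η' hrelW hoth
          (β' : C → ℂ) (IsIrrCharacter.isCharacter β'.2) hrel'
      have hββ' : β' = β :=
        gl_unique W S C hSW hS hW hC hCW (η : W → ℂ) η.2 hηS β' β htrans hrel
      rw [hββ'] at hrel'
      have hIH := ih (Nat.card W₁) hlt W₁ rfl hW₁p hSW₁ hAW₁ hC₁ hCW₁ η' hη'S hη'A β hrel'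
      rw [hiff, hIH]

/-- **Lemma X** -/
theorem lemmaX {p : ℕ} [hp : Fact p.Prime] (hD3 : StructStmt Γ p) (W S A C : Subgroup Γ)
    (hS : IsPGroup p S) (hW : (Nat.card W).Coprime p) (hA : (Nat.card A).Coprime p)
    (hSW : S ≤ Subgroup.normalizer (W : Set Γ)) (hAW : A ≤ Subgroup.normalizer (W : Set Γ))
    (hAS : A ≤ Subgroup.normalizer (S : Set Γ)) (hC : C = fixC W S) (hCW : C ≤ W) (hCA : C ≤ A)
    (hab : ∀ a ∈ A, ∀ b ∈ A, a * b * a⁻¹ * b⁻¹ ∈ C)
    (η : Cfsg.IrrCharacter W) (hηS : S ≤ inertia W (η : W → ℂ))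
    (hηA : A ≤ inertia W (η : W → ℂ))
    (β : Cfsg.IrrCharacter C) (hrel : GlC p hCW (η : W → ℂ) (β : C → ℂ)) :
    ExtendsTo W (η : W → ℂ) (W ⊔ A) ↔ ExtendsTo C (β : C → ℂ) A :=
  lemmaX_aux hD3 S A C hS hA hAS hCA hab (Nat.card W) W rfl hW hSW hAW hC hCW η hηS hηA β hrel

end Cfsg.Agent.Helper6.RMcK
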