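import Mathlib
import Cfsg.Prelude.Def_Characters
import Cfsg.Prelude.Def_BlockLocal
import Cfsg.Agent.Helper6.RMcKLXd
import Cfsg.Agent.Helper6.RMcKAGC
import Cfsg.Agent.Helper6.RMcKCntA
import Cfsg.Agent.Helper6.RMcKCntB

/-!
# The count `|Irr(W H₀ | η)| = |Irr(H₀ | η*)|`
-/

set_option autoImplicit false
set_option linter.style.haveILetI false
set_option linter.unusedSimpArgs false
set_option linter.unusedSectionVars false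
set_option linter.unusedVariables false

namespace Cfsg.Agent.Helper6.RMcK

open Cfsg.Agent.Helper6
open scoped ComplexConjugate

universe u

variable {Γ : Type u} [Group Γ] [Finite Γ]

section

variable {p : ℕ} [hp : Fact p.Prime] (hD3 : StructStmt Γ p) (W S H₀ C : Subgroup Γ)
  (hS : IsPGroup p S) (hW : (Nat.card W).Coprime p) (hH₀ : (Nat.card H₀).Coprime p)
  (hSW : S ≤ Subgroup.normalizer (W : Set Γ)) (hH₀W : H₀ ≤ Subgroup.normalizer (W : Set Γ))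
  (hH₀S : H₀ ≤ Subgroup.normalizer (S : Set Γ)) (hC : C = fixC W S) (hCW : C ≤ W)
  (hCH₀ : C ≤ H₀)
  (η : Cfsg.IrrCharacter W) (hηS : S ≤ inertia W (η : W → ℂ))
  (hηH₀ : H₀ ≤ inertia W (η : W → ℂ))
  (β : Cfsg.IrrCharacter C) (hrel : GlC p hCW (η : W → ℂ) (β : C → ℂ))

include hD3 hS hW hH₀ hSW hH₀W hH₀S hC hCW hCH₀ hηS hηH₀ hrel

theorem inf_eq_C : W ⊓ H₀ = C := by
  apply le_antisymm
  · rw [hC]
    exact inf_le_fixC hSW hH₀S (coprime_card_of_pgroup hS hW)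
  · exact le_inf hCW hCH₀

theorem H₀_le_normalizer_C : H₀ ≤ Subgroup.normalizer (C : Set Γ) := by
  intro a ha
  rw [hC]
  exact normalizer_fixC W S a (hH₀W ha) (hH₀S ha)

/-- Lemma X applied to `A₀ = ⟨C, y, d⟩` -/
theorem lemmaX_app (y d : Γ) (hy : y ∈ H₀) (hd : d ∈ H₀) (hyd : y⁻¹ * d⁻¹ * y * d ∈ C) :
    ExtendsTo W (η : W → ℂ) (W ⊔ Subgroup.zpowers y ⊔ Subgroup.zpowers d) ↔
      ExtendsTo C (β : C → ℂ) (C ⊔ Subgroup.zpowers y ⊔ Subgroup.zpowers d) := by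
  have hNC := H₀_le_normalizer_C hD3 W S H₀ C hS hW hH₀ hSW hH₀W hH₀S hC hCW hCH₀ η hηS hηH₀ β
    hrel
  have hyH : Subgroup.zpowers y ≤ H₀ := by rw [Subgroup.zpowers_le]; exact hy
  have hdH : Subgroup.zpowers d ≤ H₀ := by rw [Subgroup.zpowers_le]; exact hd
  have hA₀H : C ⊔ Subgroup.zpowers y ⊔ Subgroup.zpowers d ≤ H₀ :=
    sup_le (sup_le hCH₀ hyH) hdH
  have hCA₀ : C ≤ C ⊔ Subgroup.zpowers y ⊔ Subgroup.zpowers d :=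
    le_sup_left.trans le_sup_left
  have hab := abMod_of_comm_gens C y d (hNC hy) (hNC hd) hyd
  have hX := lemmaX hD3 W S (C ⊔ Subgroup.zpowers y ⊔ Subgroup.zpowers d) C hS hW
    (card_coprime_of_le p hA₀H hH₀) hSW (hA₀H.trans hH₀W) (hA₀H.trans hH₀S) hC hCW hCA₀ hab η hηS
    (hA₀H.trans hηH₀) β hrel
  have hsup : W ⊔ (C ⊔ Subgroup.zpowers y ⊔ Subgroup.zpowers d) =
      W ⊔ Subgroup.zpowers y ⊔ Subgroup.zpowers d := by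
    rw [← sup_assoc, ← sup_assoc, sup_eq_left.mpr hCW]
  rw [hsup] at hX
  exact hX

/-- the key equivalence between good pairs of `W ⊔ H₀` and of `H₀` -/
theorem good_pair_iff (w₁ w₂ y d : Γ) (hw₁ : w₁ ∈ W) (hw₂ : w₂ ∈ W) (hy : y ∈ H₀)
    (hd : d ∈ H₀) :
    ((w₁ * y) ∈ W ⊔ H₀ ∧ (w₂ * d) ∈ W ⊔ H₀ ∧
      (w₁ * y)⁻¹ * (w₂ * d)⁻¹ * (w₁ * y) * (w₂ * d) ∈ W ∧
      ∀ c ∈ W ⊔ H₀, (w₁ * y)⁻¹ * c⁻¹ * (w₁ * y) * c ∈ W →
        ExtendsTo W (η : W → ℂ) (W ⊔ Subgroup.zpowers (w₁ * y) ⊔ Subgroup.zpowers c)) ↔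
    (y ∈ H₀ ∧ d ∈ H₀ ∧ y⁻¹ * d⁻¹ * y * d ∈ C ∧
      ∀ d' ∈ H₀, y⁻¹ * d'⁻¹ * y * d' ∈ C →
        ExtendsTo C (β : C → ℂ) (C ⊔ Subgroup.zpowers y ⊔ Subgroup.zpowers d')) := by
  have hinf := inf_eq_C hD3 W S H₀ C hS hW hH₀ hSW hH₀W hH₀S hC hCW hCH₀ η hηS hηH₀ β hrel
  have happ := lemmaX_app hD3 W S H₀ C hS hW hH₀ hSW hH₀W hH₀S hC hCW hCH₀ η hηS hηH₀ β hrel
  have hmemH : ∀ w ∈ W, ∀ z ∈ H₀, w * z ∈ W ⊔ H₀ := fun w hw z hz =>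
    Subgroup.mul_mem _ ((le_sup_left : W ≤ _) hw) ((le_sup_right : H₀ ≤ _) hz)
  have hcommC : ∀ z ∈ H₀, ∀ e ∈ H₀, z⁻¹ * e⁻¹ * z * e ∈ W → z⁻¹ * e⁻¹ * z * e ∈ C := by
    intro z hz e he h
    rw [← hinf]
    exact ⟨h, H₀.mul_mem (H₀.mul_mem (H₀.mul_mem (H₀.inv_mem hz) (H₀.inv_mem he)) hz) he⟩
  constructor
  · rintro ⟨-, -, h3, h4⟩
    refine ⟨hy, hd, ?_, ?_⟩
    · exact hcommC y hy d hd
        ((comm_mul_mem_iff W y d w₁ w₂ (hH₀W hy) (hH₀W hd) hw₁ hw₂).mp h3)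
    · intro d' hd' hyd'
      have h5 : (w₁ * y)⁻¹ * d'⁻¹ * (w₁ * y) * d' ∈ W := by
        have h6 := (comm_mul_mem_iff W y d' w₁ 1 (hH₀W hy) (hH₀W hd') hw₁ W.one_mem).mpr
          (hCW hyd')
        rwa [one_mul] at h6
      have h7 := h4 d' ((le_sup_right : H₀ ≤ _) hd') h5
      rw [sup_zpowers_mul W w₁ y hw₁] at h7
      exact (happ y d' hy hd' hyd').mp h7
  · rintro ⟨-, -, h3, h4⟩
    refine ⟨hmemH w₁ hw₁ y hy, hmemH w₂ hw₂ d hd, ?_, ?_⟩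
    · exact (comm_mul_mem_iff W y d w₁ w₂ (hH₀W hy) (hH₀W hd) hw₁ hw₂).mpr (hCW h3)
    · intro c hc hcW
      obtain ⟨w', hw', d', hd', rfl⟩ := (mem_sup_iff_of_le_normalizer hH₀W c).mp hc
      have h5 := (comm_mul_mem_iff W y d' w₁ w' (hH₀W hy) (hH₀W hd') hw₁ hw').mp hcW
      have h6 := hcommC y hy d' hd' h5
      have h7 := (happ y d' hy hd' h6).mpr (h4 d' hd' h6)
      rw [sup_zpowers_mul W w₁ y hw₁,
        sup_zpowers_mul (W ⊔ Subgroup.zpowers y) w' d' ((le_sup_left : W ≤ _) hw')]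
      exact h7

end

end Cfsg.Agent.Helper6.RMcK
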