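import Mathlib
import Cfsg.Prelude.Def_Characters
import Cfsg.Prelude.Def_BlockLocal
import Cfsg.Agent.Helper6.RMcKCntC

/-!
# The count `|Irr(W H₀ | η)| = |Irr(H₀ | η*)|`: the final computation
-/

set_option autoImplicit false
set_option linter.style.haveILetI false
set_option linter.unusedSimpArgs false
set_option linter.unusedSectionVars false
set_option linter.unusedVariables false

namespace Cfsg.Agent.Helper6.RMcK

open Cfsg.Agent.Helper6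
open scoped ComplexConjugate

universe u

variable {Γ : Type u} [Group Γ] [Finite Γ]

/-- pairs in `H₀ × H₀` versus pairs in `Γ × Γ` with both entries in `H₀` -/
theorem card_pairs_subgroup (H₀ : Subgroup Γ) (P : Γ → Γ → Prop) :
    Nat.card {q : H₀ × H₀ // P (q.1 : Γ) (q.2 : Γ)} =
      Nat.card {q : Γ × Γ // q.1 ∈ H₀ ∧ q.2 ∈ H₀ ∧ P q.1 q.2} := by
  apply Nat.card_congr
  apply Equiv.ofBijective
    (fun q : {q : H₀ × H₀ // P (q.1 : Γ) (q.2 : Γ)} =>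
      (⟨((q.1.1 : Γ), (q.1.2 : Γ)), q.1.1.2, q.1.2.2, q.2⟩ :
        {q : Γ × Γ // q.1 ∈ H₀ ∧ q.2 ∈ H₀ ∧ P q.1 q.2}))
  constructor
  · intro q q' hqq'
    have h1 := congrArg Subtype.val hqq'
    simp only [Prod.mk.injEq] at h1
    apply Subtype.ext
    apply Prod.ext
    · exact Subtype.ext h1.1
    · exact Subtype.ext h1.2
  · intro q
    exact ⟨⟨(⟨q.1.1, q.2.1⟩, ⟨q.1.2, q.2.2.1⟩), q.2.2.2⟩, rfl⟩

theorem count_eq {p : ℕ} [hp : Fact p.Prime] (hD3 : StructStmt Γ p) (W S H₀ C : Subgroup Γ)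
    (hS : IsPGroup p S) (hW : (Nat.card W).Coprime p) (hH₀ : (Nat.card H₀).Coprime p)
    (hSW : S ≤ Subgroup.normalizer (W : Set Γ)) (hH₀W : H₀ ≤ Subgroup.normalizer (W : Set Γ))
    (hH₀S : H₀ ≤ Subgroup.normalizer (S : Set Γ)) (hC : C = fixC W S) (hCW : C ≤ W)
    (hCH₀ : C ≤ H₀)
    (η : Cfsg.IrrCharacter W) (hηS : S ≤ inertia W (η : W → ℂ))
    (hηH₀ : H₀ ≤ inertia W (η : W → ℂ))
    (β : Cfsg.IrrCharacter C) (hrel : GlC p hCW (η : W → ℂ) (β : C → ℂ)) :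
    ocnt (le_sup_left : W ≤ W ⊔ H₀) (η : W → ℂ) = ocnt hCH₀ (β : C → ℂ) := by
  classical
  have hinf := inf_eq_C hD3 W S H₀ C hS hW hH₀ hSW hH₀W hH₀S hC hCW hCH₀ η hηS hηH₀ β hrel
  -- invariance
  have hηH : W ⊔ H₀ ≤ inertia W (η : W → ℂ) :=
    sup_le (le_inertia_of_isClassFunction W _
      (IsCharacter.isClassFunction (IsIrrCharacter.isCharacter η.2))) hηH₀
  have hβH₀ : H₀ ≤ inertia C (β : C → ℂ) := fun a ha =>
    gl_inertia_of_inertia W S C hSW hS hW hC hCW (η : W → ℂ) η.2 hηS β hrel a (hH₀S ha)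
      (hηH₀ ha)
  -- the two good-pair counts
  have hA1 := agc_good_count W (W ⊔ H₀) le_sup_left (η : W → ℂ) η.2 hηH
  have hA2 := agc_good_count C H₀ hCH₀ (β : C → ℂ) β.2 hβH₀
  -- predicates
  obtain ⟨PH, hPH⟩ : ∃ PH : Γ → Γ → Prop, PH = fun x c =>
      x ∈ W ⊔ H₀ ∧ c ∈ W ⊔ H₀ ∧ x⁻¹ * c⁻¹ * x * c ∈ W ∧
      ∀ c' ∈ W ⊔ H₀, x⁻¹ * c'⁻¹ * x * c' ∈ W →
        ExtendsTo W (η : W → ℂ) (W ⊔ Subgroup.zpowers x ⊔ Subgroup.zpowers c') := ⟨_, rfl⟩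
  obtain ⟨P0, hP0⟩ : ∃ P0 : Γ → Γ → Prop, P0 = fun y d =>
      y⁻¹ * d⁻¹ * y * d ∈ C ∧
      ∀ d' ∈ H₀, y⁻¹ * d'⁻¹ * y * d' ∈ C →
        ExtendsTo C (β : C → ℂ) (C ⊔ Subgroup.zpowers y ⊔ Subgroup.zpowers d') := ⟨_, rfl⟩
  have hA1' : ocnt (le_sup_left : W ≤ W ⊔ H₀) (η : W → ℂ) * Nat.card (W ⊔ H₀ : Subgroup Γ) *
      Nat.card W = Nat.card {q : Γ × Γ // PH q.1 q.2} := by
    rw [hA1, hPH]
  have hA2' : ocnt hCH₀ (β : C → ℂ) * Nat.card H₀ * Nat.card C =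
      Nat.card {q : H₀ × H₀ // P0 (q.1 : Γ) (q.2 : Γ)} := by
    rw [hA2, card_pairs_subgroup H₀ P0, hP0]
  -- the key equivalence
  have hKE : ∀ (w₁ w₂ : W) (y d : H₀),
      PH ((w₁ : Γ) * (y : Γ)) ((w₂ : Γ) * (d : Γ)) ↔ P0 (y : Γ) (d : Γ) := by
    intro w₁ w₂ y d
    have h := good_pair_iff hD3 W S H₀ C hS hW hH₀ hSW hH₀W hH₀S hC hCW hCH₀ η hηS hηH₀ β hrel
      (w₁ : Γ) (w₂ : Γ) (y : Γ) (d : Γ) w₁.2 w₂.2 y.2 d.2
    rw [hPH, hP0]
    constructor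
    · intro h1
      exact ((h.mp h1).2.2)
    · intro h1
      exact h.mpr ⟨y.2, d.2, h1⟩
  -- the multiplication map
  let f : (W × H₀) × (W × H₀) → Γ × Γ := fun a =>
    ((a.1.1 : Γ) * (a.1.2 : Γ), (a.2.1 : Γ) * (a.2.2 : Γ))
  have hfib : ∀ b : Γ × Γ, PH b.1 b.2 →
      Nat.card {a : (W × H₀) × (W × H₀) // f a = b} = Nat.card C * Nat.card C := by
    rintro ⟨b1, b2⟩ hb
    rw [hPH] at hb
    obtain ⟨w₀, hw₀, y₀, hy₀, rfl⟩ := (mem_sup_iff_of_le_normalizer hH₀W b1).mp hb.1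
    obtain ⟨w₀', hw₀', y₀', hy₀', rfl⟩ := (mem_sup_iff_of_le_normalizer hH₀W b2).mp hb.2.1
    have h1 := card_fiber_prod (fun a : W × H₀ => (a.1 : Γ) * (a.2 : Γ))
      (fun a : W × H₀ => (a.1 : Γ) * (a.2 : Γ)) (w₀ * y₀) (w₀' * y₀')
    rw [card_mul_fiber W H₀ C hinf w₀ y₀ hw₀ hy₀,
      card_mul_fiber W H₀ C hinf w₀' y₀' hw₀' hy₀'] at h1
    exact h1
  have hpre := card_preimage_of_fibers f (fun b => PH b.1 b.2) (Nat.card C * Nat.card C) hfib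
  -- the preimage is a product
  have hpre2 : Nat.card {a : (W × H₀) × (W × H₀) // PH (f a).1 (f a).2} =
      Nat.card W * Nat.card W * Nat.card {q : H₀ × H₀ // P0 (q.1 : Γ) (q.2 : Γ)} := by
    rw [← Nat.card_prod, ← Nat.card_prod]
    apply Nat.card_congr
    refine
      { toFun := fun a => ((a.1.1.1, a.1.2.1), ⟨(a.1.1.2, a.1.2.2),
          (hKE a.1.1.1 a.1.2.1 a.1.1.2 a.1.2.2).mp a.2⟩)
        invFun := fun b => ⟨((b.1.1, b.2.1.1), (b.1.2, b.2.1.2)),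
          (hKE b.1.1 b.1.2 b.2.1.1 b.2.1.2).mpr b.2.2⟩
        left_inv := fun a => rfl
        right_inv := fun b => rfl }
  -- cardinalities
  have hcardH : Nat.card (W ⊔ H₀ : Subgroup Γ) * Nat.card C = Nat.card W * Nat.card H₀ := by
    have h1 : Nat.card (W ⊔ H₀ : Subgroup Γ) = Nat.card W * W.relIndex (W ⊔ H₀) := by
      have h0 := Subgroup.relIndex_mul_relIndex (⊥ : Subgroup Γ) W (W ⊔ H₀) bot_le le_sup_left
      rw [Subgroup.relIndex_bot_left, Subgroup.relIndex_bot_left] at h0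
      exact h0.symm
    have h2 : Nat.card H₀ = Nat.card C * C.relIndex H₀ := by
      have h0 := Subgroup.relIndex_mul_relIndex (⊥ : Subgroup Γ) C H₀ bot_le hCH₀
      rw [Subgroup.relIndex_bot_left, Subgroup.relIndex_bot_left] at h0
      exact h0.symm
    rw [h1, h2, relIndex_sup_of_le_normalizer hH₀W, ← Subgroup.inf_relIndex_right W H₀, hinf]
    ring
  have hWpos : 0 < Nat.card W := Nat.card_pos
  have hCpos : 0 < Nat.card C := Nat.card_pos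
  have hH₀pos : 0 < Nat.card H₀ := Nat.card_pos
  -- combine
  have hmain : ocnt (le_sup_left : W ≤ W ⊔ H₀) (η : W → ℂ) *
      (Nat.card W * Nat.card W * Nat.card H₀ * Nat.card C) =
      ocnt hCH₀ (β : C → ℂ) * (Nat.card W * Nat.card W * Nat.card H₀ * Nat.card C) := by
    have e1 : ocnt (le_sup_left : W ≤ W ⊔ H₀) (η : W → ℂ) *
        (Nat.card W * Nat.card W * Nat.card H₀ * Nat.card C) =
        (ocnt (le_sup_left : W ≤ W ⊔ H₀) (η : W → ℂ) * Nat.card (W ⊔ H₀ : Subgroup Γ) *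
          Nat.card W) * (Nat.card C * Nat.card C) := by
      have : Nat.card W * Nat.card W * Nat.card H₀ * Nat.card C =
          (Nat.card W * Nat.card H₀) * Nat.card W * Nat.card C := by ring
      rw [this, ← hcardH]
      ring
    rw [e1, hA1', mul_comm, ← hpre, hpre2, ← hA2']
    ring
  have hpos : 0 < Nat.card W * Nat.card W * Nat.card H₀ * Nat.card C := by positivity
  exact Nat.eq_of_mul_eq_mul_right hpos hmain

end Cfsg.Agent.Helper6.RMcK
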