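import Mathlib
import Cfsg.Prelude.Def_Characters
import Cfsg.Prelude.Def_BlockLocal
import Cfsg.Prelude.Def_Blocks
import Cfsg.Agent.Helper6.RMcKCntD
import Cfsg.Agent.Helper6.RMcKCenA
import Cfsg.Agent.Helper6.RMcKCenB
import Cfsg.Agent.Helper5.RMcKClC
import Cfsg.Agent.Helper2.RMcKD2
import Cfsg.Agent.Helper8.RMcKSZ

/-!
# The central case, step B: corresponding characters of `M = W S` and `M' = C S` have the same
number of characters above them in `G` and in `N = N_G(S)`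
-/

set_option autoImplicit false
set_option linter.style.haveILetI false
set_option linter.unusedSimpArgs false
set_option linter.unusedSectionVars false
set_option linter.unusedVariables false

namespace Cfsg.Agent.Helper6.RMcK

open Cfsg.Agent.Helper6
open scoped ComplexConjugate

universe u

variable {Γ : Type u} [Group Γ] [Finite Γ]

theorem ocnt_corr_eq {p : ℕ} [hp : Fact p.Prime] (hD3 : StructStmt Γ p)
    (G W S N C M M' : Subgroup Γ) (hWG : W ≤ G) (hGW : G ≤ Subgroup.normalizer (W : Set Γ))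
    (hW : (Nat.card W).Coprime p) (hSG : S ≤ G) (hS : IsPGroup p S)
    (hSyl : ¬ p ∣ S.relIndex G) (hM : M = W ⊔ S)
    (hGM : G ≤ Subgroup.normalizer (M : Set Γ))
    (hN : N = G ⊓ Subgroup.normalizer (S : Set Γ)) (hC : C = fixC W S) (hM' : M' = C ⊔ S)
    (hMG : M ≤ G) (hM'N : M' ≤ N) (hWM : W ≤ M) (hCM' : C ≤ M') (hCW : C ≤ W)
    (τ : Cfsg.IrrCharacter M) (τ' : Cfsg.IrrCharacter M')
    (η : Cfsg.IrrCharacter W) (β : Cfsg.IrrCharacter C)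
    (hresτ : res hWM (τ : M → ℂ) = (η : W → ℂ)) (hresτ' : res hCM' (τ' : M' → ℂ) = (β : C → ℂ))
    (hηS : S ≤ inertia W (η : W → ℂ)) (hrel : GlC p hCW (η : W → ℂ) (β : C → ℂ))
    (hstab : N ⊓ inertia M (τ : M → ℂ) = N ⊓ inertia M' (τ' : M' → ℂ)) :
    ocnt hMG (τ : M → ℂ) = ocnt hM'N (τ' : M' → ℂ) := by
  classical
  -- basic facts
  have hSW : S ≤ Subgroup.normalizer (W : Set Γ) := hSG.trans hGW
  have hNG : N ≤ G := by rw [hN]; exact inf_le_left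
  have hNS : N ≤ Subgroup.normalizer (S : Set Γ) := by rw [hN]; exact inf_le_right
  have hSN : S ≤ N := by rw [hN]; exact le_inf hSG Subgroup.le_normalizer
  have hSM : S ≤ M := by rw [hM]; exact le_sup_right
  have hSM' : S ≤ M' := by rw [hM']; exact le_sup_right
  have hNW : N ≤ Subgroup.normalizer (W : Set Γ) := hNG.trans hGW
  have hNC : N ≤ Subgroup.normalizer (C : Set Γ) := by
    intro a ha
    rw [hC]
    exact normalizer_fixC W S a (hNW ha) (hNS ha)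
  have hNM' : N ≤ Subgroup.normalizer (M' : Set Γ) := by
    rw [hM']
    exact le_normalizer_sup hNC hNS
  have hCN : C ≤ N := hCM'.trans hM'N
  have hScentC : S ≤ Subgroup.centralizer (C : Set Γ) := by
    intro s hs
    rw [Subgroup.mem_centralizer_iff]
    intro c hc
    have hc' : c ∈ fixC W S := by rw [← hC]; exact hc
    rw [mem_fixC] at hc'
    exact (hc'.2 s hs).symm
  have hCp : (Nat.card C).Coprime p := card_coprime_of_le p hCW hW
  have hτcf := IsCharacter.isClassFunction (IsIrrCharacter.isCharacter τ.2)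
  have hτ'cf := IsCharacter.isClassFunction (IsIrrCharacter.isCharacter τ'.2)
  -- the inertia groups
  obtain ⟨Gτ, hGτ⟩ : ∃ Gτ : Subgroup Γ, Gτ = G ⊓ inertia M (τ : M → ℂ) := ⟨_, rfl⟩
  obtain ⟨N₁, hN₁⟩ : ∃ N₁ : Subgroup Γ, N₁ = N ⊓ inertia M' (τ' : M' → ℂ) := ⟨_, rfl⟩
  have hMGτ : M ≤ Gτ := by
    rw [hGτ]
    exact le_inf hMG (le_inertia_of_isClassFunction M _ hτcf)
  have hM'N₁ : M' ≤ N₁ := by
    rw [hN₁]
    exact le_inf hM'N (le_inertia_of_isClassFunction M' _ hτ'cf)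
  have hN₁N : N₁ ≤ N := by rw [hN₁]; exact inf_le_left
  have hN₁Gτ : N₁ ≤ Gτ := by
    rw [hGτ, hN₁, ← hstab]
    exact inf_le_inf_right _ hNG
  -- Clifford
  have hcl1 : ocnt hMG (τ : M → ℂ) = ocnt hMGτ (τ : M → ℂ) :=
    Cfsg.Agent.Helper5.RMcK.«CL3'_ocnt_clifford» G M Gτ hMG hMGτ hGM (τ : M → ℂ) τ.2 hGτ
  have hcl2 : ocnt hM'N (τ' : M' → ℂ) = ocnt hM'N₁ (τ' : M' → ℂ) :=
    Cfsg.Agent.Helper5.RMcK.«CL3'_ocnt_clifford» N M' N₁ hM'N hM'N₁ hNM' (τ' : M' → ℂ) τ'.2 hN₁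
  -- the complement
  have hSylN₁ : ¬ p ∣ S.relIndex N₁ := by
    intro hdvd
    apply hSyl
    have h1 := Subgroup.relIndex_mul_relIndex S N₁ G (hSM'.trans hM'N₁) (hN₁N.trans hNG)
    rw [← h1]
    exact dvd_mul_of_dvd_left hdvd _
  obtain ⟨H₀, hH₀N₁, hH₀p, hN₁sup, hCH₀⟩ :=
    Cfsg.Agent.Helper8.RMcK.SZ1_exists_complement p N₁ S C (hSM'.trans hM'N₁)
      (hN₁N.trans hNS) hS hSylN₁ (hCM'.trans hM'N₁) (hN₁N.trans hNC) hCp
  have hH₀N : H₀ ≤ N := hH₀N₁.trans hN₁N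
  have hH₀W : H₀ ≤ Subgroup.normalizer (W : Set Γ) := hH₀N.trans hNW
  have hH₀S : H₀ ≤ Subgroup.normalizer (S : Set Γ) := hH₀N.trans hNS
  have hH₀τ : H₀ ≤ inertia M (τ : M → ℂ) := by
    have h1 : H₀ ≤ N ⊓ inertia M (τ : M → ℂ) := by
      rw [hstab, ← hN₁]
      exact hH₀N₁
    exact h1.trans inf_le_right
  have hH₀τ' : H₀ ≤ inertia M' (τ' : M' → ℂ) := by
    have h1 : H₀ ≤ N₁ := hH₀N₁
    rw [hN₁] at h1
    exact h1.trans inf_le_right
  have hηH₀ : H₀ ≤ inertia W (η : W → ℂ) := by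
    intro a ha
    rw [← hresτ]
    exact inertia_res hWM (τ : M → ℂ) a (hH₀τ ha) (hH₀W ha)
  -- `M ⊓ N = M'`
  have hMN : M ⊓ N = M' := by
    rw [hM, dedekind_sup_inf W S N hSW hSN, hM']
    congr 1
    apply le_antisymm
    · rw [hC]
      have h1 := inf_le_fixC hSW hNS (coprime_card_of_pgroup hS hW)
      exact h1
    · exact le_inf hCW hCN
  -- `M' ⊓ H₀ = C`
  have hM'H₀ : C = M' ⊓ H₀ := by
    apply le_antisymm
    · exact le_inf hCM' hCH₀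
    · rw [hM']
      exact sup_inf_le_of_coprime p C S H₀ hScentC hS hCp hH₀p
  -- `M ⊓ (W ⊔ H₀) = W`
  have hHp : (Nat.card (W ⊔ H₀ : Subgroup Γ)).Coprime p := card_sup_coprime p hH₀W hW hH₀p
  have hMH : W = M ⊓ (W ⊔ H₀) := by
    apply le_antisymm
    · exact le_inf hWM le_sup_left
    · rintro x ⟨hxM, hxH⟩
      obtain ⟨w, hw, h₀, hh₀, rfl⟩ := (mem_sup_iff_of_le_normalizer hH₀W x).mp hxH
      have hh₀M : h₀ ∈ M := by
        have h1 : w⁻¹ * (w * h₀) ∈ M := M.mul_mem (M.inv_mem (hWM hw)) hxM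
        rwa [inv_mul_cancel_left] at h1
      have hh₀M' : h₀ ∈ M' := by
        rw [← hMN]
        exact ⟨hh₀M, hH₀N hh₀⟩
      have hh₀C : h₀ ∈ C := by
        rw [hM'H₀]
        exact ⟨hh₀M', hh₀⟩
      exact W.mul_mem hw (hCW hh₀C)
  -- `Gτ ≤ M ⊔ (W ⊔ H₀)`
  have hGτsup : Gτ ≤ M ⊔ (W ⊔ H₀) := by
    intro g hg
    rw [hGτ] at hg
    have hSylM : ¬ p ∣ S.relIndex G := hSyl
    obtain ⟨m, hm, n, hn, rfl⟩ := frattini_amb p G M S hMG hGM hSM hS hSyl g hg.1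
    have hnN : n ∈ N := by rw [hN]; exact hn
    have hnτ : n ∈ inertia M (τ : M → ℂ) := by
      have h1 : m⁻¹ * (m * n) ∈ inertia M (τ : M → ℂ) :=
        Subgroup.mul_mem _ (Subgroup.inv_mem _
          (le_inertia_of_isClassFunction M _ hτcf hm)) hg.2
      rwa [inv_mul_cancel_left] at h1
    have hnN₁ : n ∈ N₁ := by
      rw [hN₁, ← hstab]
      exact ⟨hnN, hnτ⟩
    have h2 : n ∈ S ⊔ H₀ := hN₁sup hnN₁
    have h3 : S ⊔ H₀ ≤ M ⊔ (W ⊔ H₀) :=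
      sup_le (hSM.trans le_sup_left) ((le_sup_right : H₀ ≤ W ⊔ H₀).trans le_sup_right)
    exact Subgroup.mul_mem _ ((le_sup_left : M ≤ _) hm) (h3 h2)
  have hHGτ : W ⊔ H₀ ≤ Gτ := sup_le (hWM.trans hMGτ) (hH₀N₁.trans hN₁Gτ)
  have hGτinv : Gτ ≤ inertia M (τ : M → ℂ) := by rw [hGτ]; exact inf_le_right
  have hN₁inv : N₁ ≤ inertia M' (τ' : M' → ℂ) := by rw [hN₁]; exact inf_le_right
  -- restriction lemma, upstairs
  have hirr1 : Cfsg.IsIrrCharacter W (res hWM (τ : M → ℂ)) := by rw [hresτ]; exact η.2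
  have hd1 := Cfsg.Agent.Helper2.RMcK.D2_ocnt_restrict Gτ M (W ⊔ H₀) W hMGτ hHGτ hWM le_sup_left
    hMH hGτsup (τ : M → ℂ) τ.2 hGτinv hirr1
  -- restriction lemma, downstairs
  have hirr2 : Cfsg.IsIrrCharacter C (res hCM' (τ' : M' → ℂ)) := by rw [hresτ']; exact β.2
  have hN₁sup' : N₁ ≤ M' ⊔ H₀ := hN₁sup.trans (sup_le_sup_right hSM' H₀)
  have hd2 := Cfsg.Agent.Helper2.RMcK.D2_ocnt_restrict N₁ M' H₀ C hM'N₁ hH₀N₁ hCM' hCH₀
    hM'H₀ hN₁sup' (τ' : M' → ℂ) τ'.2 hN₁inv hirr2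
  -- the count
  have hcnt := count_eq hD3 W S H₀ C hS hW hH₀p hSW hH₀W hH₀S hC hCW hCH₀ η hηS hηH₀ β hrel
  rw [hcl1, hcl2, hd1, hd2, hresτ, hresτ']
  exact hcnt

end Cfsg.Agent.Helper6.RMcK
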