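import Mathlib
import Cfsg.Prelude.Def_Characters
import Cfsg.Prelude.Def_BlockLocal
import Cfsg.Prelude.Def_Blocks
import Cfsg.Agent.Helper6.RMcKCnt
import Cfsg.Agent.Helper6.RMcKGlC

/-!
# The statement of the correspondence between `Irr_{p'}(W S)` and `Irr_{p'}(C S)`, and a generic
fibre-counting lemma
-/

set_option autoImplicit false
set_option linter.style.haveILetI false

namespace Cfsg.Agent.Helper6.RMcK

open Cfsg.Agent.Helper6

universe u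

/-- the correspondence between `p'`-degree characters of `M = W ⊔ S` and of `M' = C ⊔ S` -/
def PMStmt (Γ : Type u) [Group Γ] [Finite Γ] (p : ℕ) : Prop :=
  ∀ (W S C M M' : Subgroup Γ), IsPGroup p S → (Nat.card W).Coprime p →
    S ≤ Subgroup.normalizer (W : Set Γ) → C = fixC W S → M = W ⊔ S → M' = C ⊔ S →
    ∀ (hWM : W ≤ M) (hCM' : C ≤ M') (hM'M : M' ≤ M) (hCW : C ≤ W),
    ∃ R : Cfsg.IrrCharacter M → Cfsg.IrrCharacter M' → Prop,
      (∀ τ : Cfsg.IrrCharacter M, ¬ p ∣ Cfsg.charDegree (τ : M → ℂ) → ∃ τ', R τ τ') ∧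
      (∀ τ' : Cfsg.IrrCharacter M', ¬ p ∣ Cfsg.charDegree (τ' : M' → ℂ) → ∃ τ, R τ τ') ∧
      (∀ τ τ₁' τ₂', R τ τ₁' → R τ τ₂' → τ₁' = τ₂') ∧
      (∀ τ₁ τ₂ τ', R τ₁ τ' → R τ₂ τ' → τ₁ = τ₂) ∧
      (∀ τ τ', R τ τ' → ¬ p ∣ Cfsg.charDegree (τ : M → ℂ) ∧
        ¬ p ∣ Cfsg.charDegree (τ' : M' → ℂ) ∧
        ∃ (η : Cfsg.IrrCharacter W) (β : Cfsg.IrrCharacter C),
          res hWM (τ : M → ℂ) = (η : W → ℂ) ∧ res hCM' (τ' : M' → ℂ) = (β : C → ℂ) ∧
          S ≤ inertia W (η : W → ℂ) ∧ GlC p hCW (η : W → ℂ) (β : C → ℂ)) ∧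
      (∀ (τ : Cfsg.IrrCharacter M) (τ' : Cfsg.IrrCharacter M') (a : Γ)
        (_haW : a ∈ Subgroup.normalizer (W : Set Γ)) (_haS : a ∈ Subgroup.normalizer (S : Set Γ))
        (haM : a ∈ Subgroup.normalizer (M : Set Γ))
        (haM' : a ∈ Subgroup.normalizer (M' : Set Γ)), R τ τ' →
        R ⟨cjc M a haM (τ : M → ℂ), cjc_isIrr M a haM τ.2⟩
          ⟨cjc M' a haM' (τ' : M' → ℂ), cjc_isIrr M' a haM' τ'.2⟩) ∧
      (∀ (L : Subgroup Γ) (hLM' : L ≤ M') (_hLZ : ∀ l ∈ L, ∀ m ∈ M, l * m = m * l) (ν : L → ℂ)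
        (_hν : Cfsg.IsIrrCharacter L ν) (τ : Cfsg.IrrCharacter M) (τ' : Cfsg.IrrCharacter M'),
        R τ τ' → (Ov (hLM'.trans hM'M) (τ : M → ℂ) ν ↔ Ov hLM' (τ' : M' → ℂ) ν))

/-- two maps into a common type whose fibres over a covering family have equal sizes have
domains of equal size -/
theorem card_eq_of_fibers_range {X Y Z T : Type*} [Finite X] [Finite Y] [Finite T]
    (f : X → Z) (g : Y → Z) (z : T → Z) (hf : ∀ x, ∃ t, f x = z t) (hg : ∀ y, ∃ t, g y = z t)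
    (h : ∀ t, Nat.card {x // f x = z t} = Nat.card {y // g y = z t}) :
    Nat.card X = Nat.card Y := by
  classical
  haveI : Finite (Set.range z) := Set.finite_range z
  haveI := Fintype.ofFinite (Set.range z)
  have e1 := Equiv.sigmaSubtypeFiberEquiv f (fun b => b ∈ Set.range z)
    (fun x => by obtain ⟨t, ht⟩ := hf x; exact ⟨t, ht.symm⟩)
  have e2 := Equiv.sigmaSubtypeFiberEquiv g (fun b => b ∈ Set.range z)
    (fun y => by obtain ⟨t, ht⟩ := hg y; exact ⟨t, ht.symm⟩)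
  rw [← Nat.card_congr e1, ← Nat.card_congr e2, Nat.card_sigma, Nat.card_sigma]
  apply Finset.sum_congr rfl
  rintro ⟨b, t, rfl⟩ -
  exact h t

end Cfsg.Agent.Helper6.RMcK
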