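import Mathlib
import Cfsg.Prelude.Def_Characters
import Cfsg.Prelude.Def_BlockLocal
import Cfsg.Prelude.Def_Blocks
import Cfsg.Agent.Helper6.RMcKCenC
import Cfsg.Agent.Helper6.RMcKStmts
import Cfsg.Agent.Helper6.RMcKStmts2
import Cfsg.Agent.Helper2.RMcKCL45

/-!
# The central case, step A: orbits of corresponding characters and the fibre count
-/

set_option autoImplicit false
set_option linter.style.haveILetI false
set_option linter.unusedSimpArgs false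
set_option linter.unusedSectionVars false
set_option linter.unusedVariables false

namespace Cfsg.Agent.Helper6.RMcK

open Cfsg.Agent.Helper6
open scoped ComplexConjugate

universe u

variable {Γ : Type u} [Group Γ] [Finite Γ]

/-- the orbit of a character of `M'` under `N` -/
def orbN (N M' : Subgroup Γ) (hNM' : N ≤ Subgroup.normalizer (M' : Set Γ))
    (τ₀' : Cfsg.IrrCharacter M') : Set (Cfsg.IrrCharacter M') :=
  {τ' | ∃ n, ∃ hn : n ∈ N, (τ' : M' → ℂ) = cjc M' n (hNM' hn) (τ₀' : M' → ℂ)}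

theorem self_mem_orbN (N M' : Subgroup Γ) (hNM' : N ≤ Subgroup.normalizer (M' : Set Γ))
    (τ₀' : Cfsg.IrrCharacter M') : τ₀' ∈ orbN N M' hNM' τ₀' := by
  refine ⟨1, N.one_mem, ?_⟩
  exact (cjc_one M' (τ₀' : M' → ℂ)).symm

/-- constituents of `ψ` on the normal subgroup `M'` form an orbit -/
theorem constituents_eq_orbN (N M' : Subgroup Γ) (hM'N : M' ≤ N)
    (hNM' : N ≤ Subgroup.normalizer (M' : Set Γ)) (ψ : N → ℂ) (hψ : Cfsg.IsIrrCharacter N ψ)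
    (τ₀' : Cfsg.IrrCharacter M') (h0 : Ov hM'N ψ (τ₀' : M' → ℂ)) :
    {τ' : Cfsg.IrrCharacter M' | Ov hM'N ψ (τ' : M' → ℂ)} = orbN N M' hNM' τ₀' := by
  ext τ'
  constructor
  · intro h
    obtain ⟨n, hn, hτ'⟩ := Cfsg.Agent.Helper5.RMcK.CL1_clifford_conj N M' hM'N hNM' ψ hψ τ₀' τ' h0 h
    exact ⟨n, hn, hτ'⟩
  · rintro ⟨n, hn, hτ'⟩
    show Ov hM'N ψ (τ' : M' → ℂ)
    rw [hτ']
    exact ov_cjc_of_mem hM'N n hn (hNM' hn) ψ (IsIrrCharacter.isCharacter hψ) _ h0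

section

variable {p : ℕ} [hp : Fact p.Prime] (G W S N C M M' : Subgroup Γ)
  (hGW : G ≤ Subgroup.normalizer (W : Set Γ)) (hSG : S ≤ G) (hS : IsPGroup p S)
  (hSyl : ¬ p ∣ S.relIndex G) (hGM : G ≤ Subgroup.normalizer (M : Set Γ))
  (hN : N = G ⊓ Subgroup.normalizer (S : Set Γ))
  (hMG : M ≤ G) (hM'N : M' ≤ N) (hSM : S ≤ M)
  (hNM' : N ≤ Subgroup.normalizer (M' : Set Γ))
  (R : Cfsg.IrrCharacter M → Cfsg.IrrCharacter M' → Prop)
  (hR3 : ∀ τ τ₁' τ₂', R τ τ₁' → R τ τ₂' → τ₁' = τ₂')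
  (hR4 : ∀ τ₁ τ₂ τ', R τ₁ τ' → R τ₂ τ' → τ₁ = τ₂)
  (hR6 : ∀ (τ : Cfsg.IrrCharacter M) (τ' : Cfsg.IrrCharacter M') (a : Γ)
        (_haW : a ∈ Subgroup.normalizer (W : Set Γ)) (_haS : a ∈ Subgroup.normalizer (S : Set Γ))
        (haM : a ∈ Subgroup.normalizer (M : Set Γ))
        (haM' : a ∈ Subgroup.normalizer (M' : Set Γ)), R τ τ' →
        R ⟨cjc M a haM (τ : M → ℂ), cjc_isIrr M a haM τ.2⟩
          ⟨cjc M' a haM' (τ' : M' → ℂ), cjc_isIrr M' a haM' τ'.2⟩)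

include hGW hSG hS hSyl hGM hN hMG hM'N hSM hNM' hR3 hR4 hR6

/-- the images under `R` of the constituents of `χ` on `M` form an `N`-orbit -/
theorem rel_constituents_eq_orbN (χ : G → ℂ) (hχ : Cfsg.IsIrrCharacter G χ)
    (τ₀ : Cfsg.IrrCharacter M) (τ₀' : Cfsg.IrrCharacter M')
    (h0 : Ov hMG χ (τ₀ : M → ℂ)) (hR : R τ₀ τ₀') :
    {τ' : Cfsg.IrrCharacter M' | ∃ τ : Cfsg.IrrCharacter M, Ov hMG χ (τ : M → ℂ) ∧ R τ τ'} =
      orbN N M' hNM' τ₀' := by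
  have hNG : N ≤ G := by rw [hN]; exact inf_le_left
  have hNS : N ≤ Subgroup.normalizer (S : Set Γ) := by rw [hN]; exact inf_le_right
  ext τ'
  constructor
  · rintro ⟨τ, hτ, hRτ⟩
    obtain ⟨g, hg, hτg⟩ := Cfsg.Agent.Helper5.RMcK.CL1_clifford_conj G M hMG hGM χ hχ τ₀ τ h0 hτ
    obtain ⟨m, hm, n, hn, rfl⟩ := frattini_amb p G M S hMG hGM hSM hS hSyl g hg
    have hnN : n ∈ N := by rw [hN]; exact hn
    have hnM : n ∈ Subgroup.normalizer (M : Set Γ) := hGM hn.1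
    have hmM : m ∈ Subgroup.normalizer (M : Set Γ) := Subgroup.le_normalizer hm
    have h1 : (τ : M → ℂ) = cjc M n hnM (τ₀ : M → ℂ) := by
      rw [hτg]
      have h2 := cjc_mul M m n hmM hnM (τ₀ : M → ℂ)
      rw [h2]
      exact cjc_of_mem M m hm _ (IsCharacter.isClassFunction
        (IsIrrCharacter.isCharacter (cjc_isIrr M n hnM τ₀.2)))
    have h3 := hR6 τ₀ τ₀' n (hGW hn.1) hn.2 hnM (hNM' hnN) hR
    have h4 : τ = ⟨cjc M n hnM (τ₀ : M → ℂ), cjc_isIrr M n hnM τ₀.2⟩ := Subtype.ext h1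
    rw [← h4] at h3
    have h5 := hR3 τ _ _ hRτ h3
    refine ⟨n, hnN, ?_⟩
    rw [h5]
  · rintro ⟨n, hnN, hτ'⟩
    have hnG : n ∈ G := hNG hnN
    have hnM : n ∈ Subgroup.normalizer (M : Set Γ) := hGM hnG
    refine ⟨⟨cjc M n hnM (τ₀ : M → ℂ), cjc_isIrr M n hnM τ₀.2⟩, ?_, ?_⟩
    · exact ov_cjc_of_mem hMG n hnG hnM χ (IsIrrCharacter.isCharacter hχ) _ h0
    · have h3 := hR6 τ₀ τ₀' n (hGW hnG) (hNS hnN) hnM (hNM' hnN) hR
      have h4 : τ' = ⟨cjc M' n (hNM' hnN) (τ₀' : M' → ℂ), cjc_isIrr M' n (hNM' hnN) τ₀'.2⟩ :=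
        Subtype.ext hτ'
      rw [h4]
      exact h3

/-- corresponding characters have the same stabilizer in `N` -/
theorem rel_stab_eq (τ₀ : Cfsg.IrrCharacter M) (τ₀' : Cfsg.IrrCharacter M') (hR : R τ₀ τ₀') :
    N ⊓ inertia M (τ₀ : M → ℂ) = N ⊓ inertia M' (τ₀' : M' → ℂ) := by
  have hNG : N ≤ G := by rw [hN]; exact inf_le_left
  have hNS : N ≤ Subgroup.normalizer (S : Set Γ) := by rw [hN]; exact inf_le_right
  ext n
  simp only [Subgroup.mem_inf]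
  constructor
  · rintro ⟨hnN, hn⟩
    refine ⟨hnN, ?_⟩
    have hnM : n ∈ Subgroup.normalizer (M : Set Γ) := hGM (hNG hnN)
    have h3 := hR6 τ₀ τ₀' n (hGW (hNG hnN)) (hNS hnN) hnM (hNM' hnN) hR
    have h4 : (⟨cjc M n hnM (τ₀ : M → ℂ), cjc_isIrr M n hnM τ₀.2⟩ : Cfsg.IrrCharacter M) = τ₀ :=
      Subtype.ext (cjc_eq_of_mem_inertia M _ n hn)
    rw [h4] at h3
    have h5 := hR3 τ₀ _ _ hR h3
    rw [mem_inertia]
    refine ⟨hNM' hnN, ?_⟩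
    rw [isConjCharOf_iff M' n (hNM' hnN)]
    exact congrArg Subtype.val h5
  · rintro ⟨hnN, hn⟩
    refine ⟨hnN, ?_⟩
    have hnM : n ∈ Subgroup.normalizer (M : Set Γ) := hGM (hNG hnN)
    have h3 := hR6 τ₀ τ₀' n (hGW (hNG hnN)) (hNS hnN) hnM (hNM' hnN) hR
    have h4 : (⟨cjc M' n (hNM' hnN) (τ₀' : M' → ℂ), cjc_isIrr M' n (hNM' hnN) τ₀'.2⟩ :
        Cfsg.IrrCharacter M') = τ₀' :=
      Subtype.ext (cjc_eq_of_mem_inertia M' _ n hn)
    rw [h4] at h3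
    have h5 := hR4 τ₀ _ _ hR h3
    rw [mem_inertia]
    refine ⟨hnM, ?_⟩
    rw [isConjCharOf_iff M n hnM]
    exact congrArg Subtype.val h5

end

end Cfsg.Agent.Helper6.RMcK
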