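import Mathlib
import Cfsg.Prelude.Def_Characters
import Cfsg.Prelude.Def_BlockLocal
import Cfsg.Prelude.Def_Blocks
import Cfsg.Agent.Helper6.RMcKCenD
import Cfsg.Agent.Helper6.IrrBasis

/-!
# The central case: assembly
-/

set_option autoImplicit false
set_option linter.style.haveILetI false
set_option linter.unusedSimpArgs false
set_option linter.unusedSectionVars false
set_option linter.unusedVariables false

namespace Cfsg.Agent.Helper6.RMcK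

open Cfsg.Agent.Helper6
open scoped ComplexConjugate

universe u

variable {Γ : Type u} [Group Γ] [Finite Γ]

set_option maxHeartbeats 1600000 in
theorem cen_of_pm {p : ℕ} [hp : Fact p.Prime] (hD3 : StructStmt Γ p) (hPM : PMStmt Γ p) :
    CenStmt Γ p := by
  classical
  intro G L W S N hLG hLN hLZ hWG hGW hW hSG hS hSyl hGM0 hLM0 hN ν hν
  -- the subgroups
  obtain ⟨M, hM⟩ : ∃ M : Subgroup Γ, M = W ⊔ S := ⟨_, rfl⟩
  obtain ⟨C, hC⟩ : ∃ C : Subgroup Γ, C = fixC W S := ⟨_, rfl⟩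
  obtain ⟨M', hM'⟩ : ∃ M' : Subgroup Γ, M' = C ⊔ S := ⟨_, rfl⟩
  have hGM : G ≤ Subgroup.normalizer (M : Set Γ) := by rw [hM]; exact hGM0
  have hLM : L ≤ M := by rw [hM]; exact hLM0
  have hSW : S ≤ Subgroup.normalizer (W : Set Γ) := hSG.trans hGW
  have hWM : W ≤ M := by rw [hM]; exact le_sup_left
  have hSM : S ≤ M := by rw [hM]; exact le_sup_right
  have hMG : M ≤ G := by rw [hM]; exact sup_le hWG hSG
  have hCW : C ≤ W := by rw [hC]; exact fixC_le W S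
  have hCM' : C ≤ M' := by rw [hM']; exact le_sup_left
  have hSM' : S ≤ M' := by rw [hM']; exact le_sup_right
  have hM'M : M' ≤ M := by rw [hM', hM]; exact sup_le_sup_right hCW S
  have hNG : N ≤ G := by rw [hN]; exact inf_le_left
  have hNS : N ≤ Subgroup.normalizer (S : Set Γ) := by rw [hN]; exact inf_le_right
  have hSN : S ≤ N := by rw [hN]; exact le_inf hSG Subgroup.le_normalizer
  have hNW : N ≤ Subgroup.normalizer (W : Set Γ) := hNG.trans hGW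
  have hNC : N ≤ Subgroup.normalizer (C : Set Γ) := by
    intro a ha
    rw [hC]
    exact normalizer_fixC W S a (hNW ha) (hNS ha)
  have hNM' : N ≤ Subgroup.normalizer (M' : Set Γ) := by
    rw [hM']
    exact le_normalizer_sup hNC hNS
  have hCN : C ≤ N := by
    intro c hc
    rw [hN]
    refine ⟨hWG (hCW hc), ?_⟩
    have hc' : c ∈ fixC W S := by rw [← hC]; exact hc
    apply Subgroup.centralizer_le_normalizer
    rw [Subgroup.mem_centralizer_iff]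
    intro s hs
    rw [mem_fixC] at hc'
    exact hc'.2 s hs
  have hM'N : M' ≤ N := by rw [hM']; exact sup_le hCN hSN
  have hMN : M ⊓ N = M' := by
    rw [hM, dedekind_sup_inf W S N hSW hSN, hM']
    congr 1
    apply le_antisymm
    · rw [hC]
      exact inf_le_fixC hSW hNS (coprime_card_of_pgroup hS hW)
    · exact le_inf hCW hCN
  have hLM' : L ≤ M' := by
    rw [← hMN]
    exact le_inf hLM hLN
  have hLZM : ∀ l ∈ L, ∀ m ∈ M, l * m = m * l := fun l hl m hm => hLZ l hl m (hMG hm)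
  have hidxM : ¬ p ∣ M.relIndex G := by
    intro hdvd
    apply hSyl
    rw [← Subgroup.relIndex_mul_relIndex S M G hSM hMG]
    exact dvd_mul_of_dvd_right hdvd _
  have hidxM' : ¬ p ∣ M'.relIndex N := by
    intro hdvd
    apply hSyl
    rw [← Subgroup.relIndex_mul_relIndex S N G hSN hNG,
      ← Subgroup.relIndex_mul_relIndex S M' N hSM' hM'N]
    exact dvd_mul_of_dvd_left (dvd_mul_of_dvd_right hdvd _) _
  -- the correspondence
  obtain ⟨R, hR1, hR2, hR3, hR4, hR5, hR6, hR7⟩ :=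
    hPM W S C M M' hS hW hSW hC hM hM' hWM hCM' hM'M hCW
  -- finiteness
  haveI : Finite (Cfsg.IrrCharacter G) := irr_finite
  haveI : Finite (Cfsg.IrrCharacter N) := irr_finite
  haveI : Finite (Cfsg.IrrCharacter M) := irr_finite
  haveI : Finite (Cfsg.IrrCharacter M') := irr_finite
  -- the index type and the fibre maps
  let T := {t : Cfsg.IrrCharacter M × Cfsg.IrrCharacter M' //
    R t.1 t.2 ∧ Ov hLM (t.1 : M → ℂ) ν}
  let z : T → Set (Cfsg.IrrCharacter M') := fun t => orbN N M' hNM' t.1.2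
  let F : Cfsg.IrrCharacter G → Set (Cfsg.IrrCharacter M') := fun χ =>
    {τ' | ∃ τ : Cfsg.IrrCharacter M, Ov hMG (χ : G → ℂ) (τ : M → ℂ) ∧ R τ τ'}
  let Gm : Cfsg.IrrCharacter N → Set (Cfsg.IrrCharacter M') := fun ψ =>
    {τ' | Ov hM'N (ψ : N → ℂ) (τ' : M' → ℂ)}
  let f : {χ : Cfsg.IrrCharacter G //
      ¬ p ∣ Cfsg.charDegree (χ : G → ℂ) ∧ Ov hLG (χ : G → ℂ) ν} →
      Set (Cfsg.IrrCharacter M') := fun χ => F χ.1
  let g : {ψ : Cfsg.IrrCharacter N //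
      ¬ p ∣ Cfsg.charDegree (ψ : N → ℂ) ∧ Ov hLN (ψ : N → ℂ) ν} →
      Set (Cfsg.IrrCharacter M') := fun ψ => Gm ψ.1
  have hA1 := rel_constituents_eq_orbN (p := p) G W S N M M' hGW hSG hS hSyl hGM hN hMG hM'N
    hSM hNM' R hR3 hR4 hR6
  have hA5 := rel_stab_eq (p := p) G W S N M M' hGW hSG hS hSyl hGM hN hMG hM'N
    hSM hNM' R hR3 hR4 hR6
  unfold pcnt
  apply card_eq_of_fibers_range f g z
  · -- every `χ` lies in a fibre
    rintro ⟨χ, hdeg, hov⟩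
    obtain ⟨τ₀, h1, h2⟩ := Cfsg.Agent.Helper2.RMcK.CL5_exists_middle G M L hLM hMG
      (χ : G → ℂ) χ.2 ν hν hov
    have hdeg₀ := pdeg_of_under p hMG hGM (χ : G → ℂ) χ.2 (τ₀ : M → ℂ) τ₀.2 h1 hdeg
    obtain ⟨τ₀', hR⟩ := hR1 τ₀ hdeg₀
    exact ⟨⟨(τ₀, τ₀'), hR, h2⟩, hA1 (χ : G → ℂ) χ.2 τ₀ τ₀' h1 hR⟩
  · -- every `ψ` lies in a fibre
    rintro ⟨ψ, hdeg, hov⟩
    obtain ⟨τ₀', h1, h2⟩ := Cfsg.Agent.Helper2.RMcK.CL5_exists_middle N M' L hLM' hM'N
      (ψ : N → ℂ) ψ.2 ν hν hov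
    have hdeg₀ := pdeg_of_under p hM'N hNM' (ψ : N → ℂ) ψ.2 (τ₀' : M' → ℂ) τ₀'.2 h1 hdeg
    obtain ⟨τ₀, hR⟩ := hR2 τ₀' hdeg₀
    have h3 : Ov hLM (τ₀ : M → ℂ) ν := (hR7 L hLM' hLZM ν hν τ₀ τ₀' hR).mpr h2
    exact ⟨⟨(τ₀, τ₀'), hR, h3⟩, constituents_eq_orbN N M' hM'N hNM' (ψ : N → ℂ) ψ.2 τ₀' h1⟩
  · -- the fibres have the same size
    rintro ⟨⟨τ₀, τ₀'⟩, hR, hτ₀ν⟩
    obtain ⟨hd, hd', η, β, hresτ, hresτ', hηS, hrel⟩ := hR5 τ₀ τ₀' hR
    have hτ₀'ν : Ov hLM' (τ₀' : M' → ℂ) ν := (hR7 L hLM' hLZM ν hν τ₀ τ₀' hR).mp hτ₀ν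
    have hB := ocnt_corr_eq hD3 G W S N C M M' hWG hGW hW hSG hS hSyl hM hGM hN hC hM'
      hMG hM'N hWM hCM' hCW τ₀ τ₀' η β hresτ hresτ' hηS hrel (hA5 τ₀ τ₀' hR)
    -- fibre of `f`
    have hf : Nat.card {χ : {χ : Cfsg.IrrCharacter G //
        ¬ p ∣ Cfsg.charDegree (χ : G → ℂ) ∧ Ov hLG (χ : G → ℂ) ν} //
        f χ = orbN N M' hNM' τ₀'} = ocnt hMG (τ₀ : M → ℂ) := by
      unfold ocnt
      refine Nat.card_congr ((Equiv.subtypeSubtypeEquivSubtypeInter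
        (fun χ : Cfsg.IrrCharacter G =>
          ¬ p ∣ Cfsg.charDegree (χ : G → ℂ) ∧ Ov hLG (χ : G → ℂ) ν)
        (fun χ : Cfsg.IrrCharacter G => F χ = orbN N M' hNM' τ₀')).trans
        (Equiv.subtypeEquivRight ?_))
      intro χ
      constructor
      · rintro ⟨-, hfχ⟩
        have h1 : τ₀' ∈ F χ := by
          rw [hfχ]
          exact self_mem_orbN N M' hNM' τ₀'
        obtain ⟨τ, hτ, hRτ⟩ := h1
        rw [hR4 τ₀ τ τ₀' hR hRτ]
        exact hτ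
      · intro hov
        refine ⟨⟨?_, ?_⟩, ?_⟩
        · exact pdeg_of_over p hMG hGM hidxM (χ : G → ℂ) χ.2 (τ₀ : M → ℂ) τ₀.2 hov hd
        · exact Cfsg.Agent.Helper2.RMcK.CL4_over_trans G M L hLM hMG (χ : G → ℂ)
            (IsIrrCharacter.isCharacter χ.2) (τ₀ : M → ℂ) τ₀.2 ν hν hov hτ₀ν
        · exact hA1 (χ : G → ℂ) χ.2 τ₀ τ₀' hov hR
    -- fibre of `g`
    have hg : Nat.card {ψ : {ψ : Cfsg.IrrCharacter N //
        ¬ p ∣ Cfsg.charDegree (ψ : N → ℂ) ∧ Ov hLN (ψ : N → ℂ) ν} //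
        g ψ = orbN N M' hNM' τ₀'} = ocnt hM'N (τ₀' : M' → ℂ) := by
      unfold ocnt
      refine Nat.card_congr ((Equiv.subtypeSubtypeEquivSubtypeInter
        (fun ψ : Cfsg.IrrCharacter N =>
          ¬ p ∣ Cfsg.charDegree (ψ : N → ℂ) ∧ Ov hLN (ψ : N → ℂ) ν)
        (fun ψ : Cfsg.IrrCharacter N => Gm ψ = orbN N M' hNM' τ₀')).trans
        (Equiv.subtypeEquivRight ?_))
      intro ψ
      constructor
      · rintro ⟨-, hgψ⟩
        have h1 : τ₀' ∈ Gm ψ := by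
          rw [hgψ]
          exact self_mem_orbN N M' hNM' τ₀'
        exact h1
      · intro hov
        refine ⟨⟨?_, ?_⟩, ?_⟩
        · exact pdeg_of_over p hM'N hNM' hidxM' (ψ : N → ℂ) ψ.2 (τ₀' : M' → ℂ) τ₀'.2 hov hd'
        · exact Cfsg.Agent.Helper2.RMcK.CL4_over_trans N M' L hLM' hM'N (ψ : N → ℂ)
            (IsIrrCharacter.isCharacter ψ.2) (τ₀' : M' → ℂ) τ₀'.2 ν hν hov hτ₀'ν
        · exact constituents_eq_orbN N M' hM'N hNM' (ψ : N → ℂ) ψ.2 τ₀' hov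
    exact hf.trans (hB.trans hg.symm)

end Cfsg.Agent.Helper6.RMcK
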