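import Mathlib

/-!
# The `i`-power torsion of a central subgroup
-/

set_option autoImplicit false
set_option linter.style.haveILetI false
set_option linter.unusedSimpArgs false

namespace Cfsg.Agent.Helper6

universe u

variable {Q : Type u} [Group Q]

/-- the elements of the central subgroup `Z` whose order divides a power of `i` -/
def powTorsion (Z : Subgroup Q) (hZc : Z ≤ Subgroup.center Q) (i : ℕ) : Subgroup Q where
  carrier := {z | z ∈ Z ∧ ∃ k : ℕ, z ^ (i ^ k) = 1}
  one_mem' := ⟨Z.one_mem, 0, by simp⟩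
  mul_mem' := by
    rintro a b ⟨ha, k, hk⟩ ⟨hb, l, hl⟩
    refine ⟨Z.mul_mem ha hb, k + l, ?_⟩
    have hcomm : Commute a b := (Subgroup.mem_center_iff.mp (hZc ha) b).symm
    rw [hcomm.mul_pow, pow_add, pow_mul, hk, one_pow, mul_comm (i ^ k), pow_mul, hl, one_pow,
      one_mul]
  inv_mem' := by
    rintro a ⟨ha, k, hk⟩
    refine ⟨Z.inv_mem ha, k, ?_⟩
    rw [inv_pow, hk, inv_one]

theorem mem_powTorsion (Z : Subgroup Q) (hZc : Z ≤ Subgroup.center Q) (i : ℕ) (z : Q) :
    z ∈ powTorsion Z hZc i ↔ z ∈ Z ∧ ∃ k : ℕ, z ^ (i ^ k) = 1 := Iff.rfl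

theorem powTorsion_le (Z : Subgroup Q) (hZc : Z ≤ Subgroup.center Q) (i : ℕ) :
    powTorsion Z hZc i ≤ Z := fun _ hz => hz.1

/-- every prime divisor of the order of the `i`-power torsion divides `i` -/
theorem prime_dvd_of_dvd_card_powTorsion [Finite Q] (Z : Subgroup Q)
    (hZc : Z ≤ Subgroup.center Q) (i : ℕ) (r : ℕ) (hr : r.Prime)
    (hdvd : r ∣ Nat.card (powTorsion Z hZc i)) : r ∣ i := by
  haveI : Fact r.Prime := ⟨hr⟩
  obtain ⟨x, hx⟩ := exists_prime_orderOf_dvd_card' (G := powTorsion Z hZc i) r hdvd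
  obtain ⟨-, k, hk⟩ := x.2
  have h1 : orderOf (x : Q) = r := by rw [Subgroup.orderOf_coe, hx]
  have h2 : r ∣ i ^ k := by
    rw [← h1]
    exact orderOf_dvd_of_pow_eq_one hk
  exact hr.dvd_of_dvd_pow h2

/-- the index of the `i`-power torsion in `Z` is prime to `i` -/
theorem relIndex_powTorsion_coprime [Finite Q] (Z : Subgroup Q)
    (hZc : Z ≤ Subgroup.center Q) (i : ℕ) :
    ((powTorsion Z hZc i).relIndex Z).Coprime i := by
  apply Nat.coprime_of_dvd'
  intro r hr h1 h2
  exfalso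
  haveI : Fact r.Prime := ⟨hr⟩
  obtain ⟨P⟩ : Nonempty (Sylow r Z) := inferInstance
  have hle : (P : Subgroup Z) ≤ (powTorsion Z hZc i).subgroupOf Z := by
    intro g hg
    rw [Subgroup.mem_subgroupOf, mem_powTorsion]
    refine ⟨g.2, ?_⟩
    obtain ⟨k, hk⟩ := P.isPGroup' ⟨g, hg⟩
    have hk' : g ^ r ^ k = 1 := by
      have := congrArg Subtype.val hk
      simpa using this
    obtain ⟨t, ht⟩ := h2
    refine ⟨k, ?_⟩
    have hk'' : (g : Q) ^ r ^ k = 1 := by
      have := congrArg Subtype.val hk'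
      simpa using this
    rw [ht, mul_pow, pow_mul, hk'', one_pow]
  have h3 := Subgroup.index_dvd_of_le hle
  have h4 : ¬ r ∣ (P : Subgroup Z).index := Sylow.not_dvd_index P
  exact h4 (h1.trans h3)

/-- the order of the `i`-power torsion is prime to any number prime to `i` -/
theorem card_powTorsion_coprime [Finite Q] (Z : Subgroup Q)
    (hZc : Z ≤ Subgroup.center Q) (i m : ℕ) (hmi : m.Coprime i) :
    (Nat.card (powTorsion Z hZc i)).Coprime m := by
  apply Nat.coprime_of_dvd'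
  intro r hr h1 h2
  have h3 := prime_dvd_of_dvd_card_powTorsion Z hZc i r hr h1
  have h4 : r ∣ Nat.gcd m i := Nat.dvd_gcd h2 h3
  rwa [hmi] at h4

end Cfsg.Agent.Helper6
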