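import Mathlib
import Cfsg.Agent.Helper6.TripA

/-!
# A supplement of coprime order to a normal subgroup which is a Hall subgroup modulo a central
subgroup
-/

set_option autoImplicit false
set_option linter.style.haveILetI false
set_option linter.unusedSimpArgs false

namespace Cfsg.Agent.Helper6

universe u

variable {Q : Type u} [Group Q]

instance powTorsion_normal (Z : Subgroup Q) (hZc : Z ≤ Subgroup.center Q) (i : ℕ) :
    (powTorsion Z hZc i).Normal := by
  constructor
  intro z hz y
  have hzc : z ∈ Subgroup.center Q := hZc hz.1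
  have h1 : y * z * y⁻¹ = z := by
    rw [(Subgroup.mem_center_iff.mp hzc y)]
    group
  rw [h1]
  exact hz

set_option maxHeartbeats 1600000 in
/-- Let `G` be a normal subgroup of the finite group `Q` and `Z ≤ G` a central subgroup of `Q`
with `|G : Z|` and `|Q : G|` coprime. Then `G` has a supplement `S` in `Q` all of whose prime
divisors divide `|Q : G|`, and with `S ∩ G` equal to the `|Q : G|`-power torsion of `Z`. -/
theorem exists_coprime_supplement [Finite Q] (G Z : Subgroup Q) [hG : G.Normal] (hZG : Z ≤ G)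
    (hZc : Z ≤ Subgroup.center Q) (hcop : (Z.relIndex G).Coprime G.index) :
    ∃ S : Subgroup Q, (∀ y : Q, ∃ g ∈ G, ∃ s ∈ S, y = g * s) ∧
      (∀ r : ℕ, r.Prime → r ∣ Nat.card S → r ∣ G.index) ∧
      S ⊓ G = powTorsion Z hZc G.index ∧
      Nonempty (S ⧸ (powTorsion Z hZc G.index).subgroupOf S ≃* Q ⧸ G) := by
  classical
  set i := G.index with hi
  set H' := powTorsion Z hZc i with hH'
  have hH'Z : H' ≤ Z := powTorsion_le Z hZc i
  have hH'G : H' ≤ G := hH'Z.trans hZG
  set f : Q →* Q ⧸ H' := QuotientGroup.mk' H' with hf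
  have hfsurj : Function.Surjective f := QuotientGroup.mk'_surjective H'
  have hfker : f.ker = H' := QuotientGroup.ker_mk' H'
  have hfone : ∀ x : Q, f x = 1 ↔ x ∈ H' := fun x => QuotientGroup.eq_one_iff x
  set Gb : Subgroup (Q ⧸ H') := G.map f with hGb
  haveI : Gb.Normal := Subgroup.Normal.map hG f hfsurj
  have hGbidx : Gb.index = i := by
    rw [hGb, Subgroup.index_map_eq G hfsurj (by rw [hfker]; exact hH'G)]
  have hGbcard : Nat.card Gb = H'.relIndex G := by
    have h1 := Subgroup.index_ker (f.comp G.subtype)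
    rw [MonoidHom.range_comp, Subgroup.range_subtype] at h1
    rw [← h1]
    have h2 : (f.comp G.subtype).ker = H'.subgroupOf G := by
      ext x
      rw [MonoidHom.mem_ker, Subgroup.mem_subgroupOf, MonoidHom.comp_apply, ← MonoidHom.mem_ker,
        hfker]
      rfl
    rw [h2]
    rfl
  have hcopb : (Nat.card Gb).Coprime Gb.index := by
    rw [hGbcard, hGbidx, ← Subgroup.relIndex_mul_relIndex H' Z G hH'Z hZG]
    exact Nat.Coprime.mul_left (relIndex_powTorsion_coprime Z hZc i) hcop
  obtain ⟨Hb, hHb⟩ := Subgroup.exists_right_complement'_of_coprime hcopb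
  have hHbcard : Nat.card Hb = i := by
    rw [← hHb.symm.index_eq_card, hGbidx]
  refine ⟨Hb.comap f, ?_, ?_, ?_, ?_⟩
  · intro y
    obtain ⟨x, hx, -⟩ := (Subgroup.isComplement_iff_existsUnique.mp
      (Subgroup.isComplement'_def.mp hHb)) (f y)
    obtain ⟨g, hg, hgx⟩ := x.1.2
    refine ⟨g, hg, g⁻¹ * y, ?_, by group⟩
    rw [Subgroup.mem_comap, map_mul, map_inv, hgx, ← hx]
    simp
  · intro r hr hdvd
    haveI : Fact r.Prime := ⟨hr⟩
    obtain ⟨x, hx⟩ := exists_prime_orderOf_dvd_card' (G := Hb.comap f) r hdvd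
    have hxQ : orderOf (x : Q) = r := by rw [Subgroup.orderOf_coe, hx]
    have h1 : orderOf (f (x : Q)) ∣ r := by
      rw [← hxQ]
      exact orderOf_map_dvd f (x : Q)
    rcases (Nat.dvd_prime hr).mp h1 with h2 | h2
    · have h3 : f (x : Q) = 1 := orderOf_eq_one_iff.mp h2
      have h4 : (x : Q) ∈ H' := (hfone _).mp h3
      obtain ⟨-, k, hk⟩ := h4
      have h5 : r ∣ i ^ k := by
        rw [← hxQ]
        exact orderOf_dvd_of_pow_eq_one hk
      exact hr.dvd_of_dvd_pow h5
    · have h3 : orderOf (⟨f (x : Q), x.2⟩ : Hb) = r := by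
        rw [← Subgroup.orderOf_coe]
        exact h2
      rw [← hHbcard, ← h3]
      exact orderOf_dvd_natCard _
  · ext x
    rw [Subgroup.mem_inf, Subgroup.mem_comap]
    constructor
    · rintro ⟨h1, h2⟩
      have h3 : f x ∈ Gb ⊓ Hb := ⟨⟨x, h2, rfl⟩, h1⟩
      rw [hHb.disjoint.eq_bot, Subgroup.mem_bot] at h3
      exact (hfone x).mp h3
    · intro hx
      have h3 : f x = 1 := (hfone x).mpr hx
      refine ⟨?_, hH'G hx⟩
      rw [h3]
      exact Hb.one_mem
  · -- the quotient of `S` by the torsion is isomorphic to `Q ⧸ G`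
    set S : Subgroup Q := Hb.comap f with hS
    let φ : S →* Q ⧸ G := (QuotientGroup.mk' G).comp S.subtype
    have hφsurj : Function.Surjective φ := by
      intro z
      obtain ⟨y, rfl⟩ := QuotientGroup.mk'_surjective G z
      obtain ⟨x, hx, -⟩ := (Subgroup.isComplement_iff_existsUnique.mp
        (Subgroup.isComplement'_def.mp hHb)) (f y)
      obtain ⟨g, hg, hgx⟩ := x.1.2
      have hmem : g⁻¹ * y ∈ S := by
        rw [hS, Subgroup.mem_comap, map_mul, map_inv, hgx, ← hx]
        simp
      refine ⟨⟨g⁻¹ * y, hmem⟩, ?_⟩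
      change QuotientGroup.mk' G (g⁻¹ * y) = QuotientGroup.mk' G y
      rw [map_mul, map_inv]
      have : QuotientGroup.mk' G g = 1 := by
        rw [← MonoidHom.mem_ker, QuotientGroup.ker_mk']
        exact hg
      rw [this, inv_one, one_mul]
    have hφker : φ.ker = H'.subgroupOf S := by
      ext x
      rw [MonoidHom.mem_ker, Subgroup.mem_subgroupOf]
      change QuotientGroup.mk' G (x : Q) = 1 ↔ _
      rw [← MonoidHom.mem_ker, QuotientGroup.ker_mk']
      constructor
      · intro hxG
        have h3 : f x ∈ Gb ⊓ Hb := ⟨⟨x, hxG, rfl⟩, x.2⟩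
        rw [hHb.disjoint.eq_bot, Subgroup.mem_bot] at h3
        exact (hfone x).mp h3
      · intro hx
        exact hH'G hx
    exact ⟨(QuotientGroup.quotientMulEquivOfEq hφker.symm).trans
      (QuotientGroup.quotientKerEquivOfSurjective φ hφsurj)⟩

end Cfsg.Agent.Helper6
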