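import Mathlib
import Cfsg.Prelude.Def_Characters
import Cfsg.Agent.Helper6.TripB
import Cfsg.Agent.Helper6.CoprimeInvAbove2
import Cfsg.Agent.Helper6.CycG
import Cfsg.Agent.Helper6.Linear

/-!
# Invariant characters over a character of a central subgroup: the case of a solvable quotient
-/

set_option autoImplicit false
set_option linter.style.haveILetI false
set_option linter.unusedSimpArgs false

namespace Cfsg.Agent.Helper6

open scoped ComplexConjugate

universe u

variable {Q : Type u} [Group Q]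

/-- a supplement with the conjugation invariance gives invariance under the whole group -/
theorem invariant_of_supplement (G S : Subgroup Q) [hG : G.Normal]
    (hsup : ∀ y : Q, ∃ g ∈ G, ∃ s ∈ S, y = g * s) (β : G → ℂ)
    (hcf : Cfsg.IsClassFunction G β)
    (hS : ∀ s ∈ S, ∀ g g' : G, (g' : Q) = s * g * s⁻¹ → β g' = β g) :
    ∀ (y : Q) (g : G), β ⟨y * g * y⁻¹, hG.conj_mem g g.2 y⟩ = β g := by
  have htop : G ⊔ S = ⊤ := by
    apply top_le_iff.mp
    intro y _
    obtain ⟨g, hg, s, hs, rfl⟩ := hsup y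
    exact Subgroup.mul_mem_sup hg hs
  exact invariant_of_sup_eq_top G S htop β hcf hS

/-- Let `G` be a normal subgroup of the finite group `Q` and `Z ≤ G` a central subgroup of `Q`
with `|G : Z|` and `|Q : G|` coprime and `G / Z` solvable. Then over every linear character of
`Z` there lies a `Q`-invariant irreducible character of `G`. -/
theorem exists_invariant_over_central_a [Fintype Q] (G Z : Subgroup Q) [hG : G.Normal]
    [Fintype G] [Fintype Z] (hZG : Z ≤ G) (hZc : Z ≤ Subgroup.center Q)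
    (hcop : (Z.relIndex G).Coprime G.index) (hZn : (Z.subgroupOf G).Normal)
    (hsolv : (haveI := hZn; Group.IsSolvable (G ⧸ Z.subgroupOf G))) (ω : Z →* ℂˣ) :
    ∃ β : G → ℂ, Cfsg.IsIrrCharacter G β ∧
      (∀ (y : Q) (g : G), β ⟨y * g * y⁻¹, hG.conj_mem g g.2 y⟩ = β g) ∧
      Cfsg.classInner (fun u : Z => β ⟨u, hZG u.2⟩) (fun u => ((ω u : ℂˣ) : ℂ)) ≠ 0 := by
  obtain ⟨S, hsup, hprime, -, -⟩ := exists_coprime_supplement G Z hZG hZc hcop
  have hScop : (Z.relIndex G).Coprime (Nat.card S) := by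
    apply Nat.coprime_of_dvd'
    intro r hr h1 h2
    have h3 := hprime r hr h2
    have h4 : r ∣ Nat.gcd (Z.relIndex G) G.index := Nat.dvd_gcd h1 h3
    rwa [hcop] at h4
  have hnorm : ∀ s ∈ S, ∀ g ∈ G, s * g * s⁻¹ ∈ G := fun s _ g hg => hG.conj_mem g hg s
  have hcenZ : ∀ (s : Q), ∀ x ∈ Z, s * x * s⁻¹ = x := by
    intro s x hx
    rw [Subgroup.mem_center_iff.mp (hZc hx) s]
    group
  have hZS : ∀ s ∈ S, ∀ x ∈ Z, s * x * s⁻¹ ∈ Z := by
    intro s _ x hx
    rw [hcenZ s x hx]
    exact hx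
  have hωirr : Cfsg.IsIrrCharacter Z (fun u => ((ω u : ℂˣ) : ℂ)) := isIrrCharacter_of_hom ω
  have hωinv : ∀ s ∈ S, ∀ g g' : Z, (g' : Q) = s * g * s⁻¹ →
      (fun u => ((ω u : ℂˣ) : ℂ)) g' = (fun u => ((ω u : ℂˣ) : ℂ)) g := by
    intro s _ g g' hg'
    have : g' = g := by
      apply Subtype.ext
      rw [hg', hcenZ s g g.2]
    rw [this]
  obtain ⟨β, hβ, hne, hinv⟩ := invariant_constituent_above_aux S (Z.relIndex G) G Z rfl hZG hZn
    hnorm hZS hScop hsolv _ hωirr hωinv
  refine ⟨β, hβ, ?_, hne⟩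
  exact invariant_of_supplement G S hsup β (IsCharacter.isClassFunction
    (IsIrrCharacter.isCharacter hβ)) hinv

end Cfsg.Agent.Helper6
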