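import Mathlib
import Cfsg.Agent.Helper6.TripB

/-!
# The Hall complement of the torsion part of a central subgroup
-/

set_option autoImplicit false
set_option linter.style.haveILetI false
set_option linter.unusedSimpArgs false

namespace Cfsg.Agent.Helper6

universe u

variable {Q : Type u} [Group Q]

set_option maxHeartbeats 1600000 in
/-- Let `G` be a normal subgroup of the finite group `Q` and `Z ≤ G` a central subgroup of `Q`
with `|G : Z|` and `|Q : G|` coprime, and let `H'` be the `|Q : G|`-power torsion of `Z`. Then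
`H'` has a complement `R` in `G`, of order prime to `|Q : G|`, consisting of the elements of `G`
of order dividing `|R|`. -/
theorem exists_hall_complement [Finite Q] (G Z : Subgroup Q) [hG : G.Normal] (hZG : Z ≤ G)
    (hZc : Z ≤ Subgroup.center Q) (hcop : (Z.relIndex G).Coprime G.index) :
    ∃ R : Subgroup Q, R ≤ G ∧ (Nat.card R).Coprime G.index ∧
      (∀ g ∈ G, ∃ r ∈ R, ∃ h ∈ powTorsion Z hZc G.index, g = r * h) ∧
      R ⊓ powTorsion Z hZc G.index = ⊥ ∧
      (∀ g ∈ G, g ∈ R ↔ g ^ Nat.card R = 1) := by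
  classical
  set i := G.index with hi
  set H' := powTorsion Z hZc i with hH'
  have hH'Z : H' ≤ Z := powTorsion_le Z hZc i
  have hH'G : H' ≤ G := hH'Z.trans hZG
  have hH'c : ∀ h ∈ H', ∀ y : Q, y * h = h * y :=
    fun h hh y => Subgroup.mem_center_iff.mp (hZc (hH'Z hh)) y
  -- the index of `H'` in `G` is prime to `i`
  have hidx : (H'.relIndex G).Coprime i := by
    rw [← Subgroup.relIndex_mul_relIndex H' Z G hH'Z hZG]
    exact Nat.Coprime.mul_left (relIndex_powTorsion_coprime Z hZc i) hcop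
  have hcardH' : (Nat.card H').Coprime (H'.relIndex G) :=
    card_powTorsion_coprime Z hZc i _ hidx
  haveI : (H'.subgroupOf G).Normal := inferInstance
  have hcop' : (Nat.card (H'.subgroupOf G)).Coprime (H'.subgroupOf G).index := by
    have h1 : Nat.card (H'.subgroupOf G) = Nat.card H' :=
      Nat.card_congr (Subgroup.subgroupOfEquivOfLe hH'G).toEquiv
    rw [h1]
    exact hcardH'
  obtain ⟨R₀, hR₀⟩ := Subgroup.exists_right_complement'_of_coprime hcop'
  have hR₀card : Nat.card R₀ = H'.relIndex G := by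
    rw [← hR₀.symm.index_eq_card]
    rfl
  set R : Subgroup Q := R₀.map G.subtype with hR
  have hRcard : Nat.card R = H'.relIndex G := by
    rw [← hR₀card]
    exact Nat.card_congr (R₀.equivMapOfInjective G.subtype G.subtype_injective).symm.toEquiv
  have hRG : R ≤ G := by
    rintro _ ⟨g, -, rfl⟩
    exact g.2
  have hdecomp : ∀ g ∈ G, ∃ r ∈ R, ∃ h ∈ H', g = r * h := by
    intro g hg
    obtain ⟨x, hx, -⟩ := (Subgroup.isComplement_iff_existsUnique.mp
      (Subgroup.isComplement'_def.mp hR₀)) ⟨g, hg⟩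
    have hx' : ((x.1 : G) : Q) * ((x.2 : G) : Q) = g := by
      have := congrArg Subtype.val hx
      simpa using this
    have hh : ((x.1 : G) : Q) ∈ H' := x.1.2
    refine ⟨((x.2 : G) : Q), ⟨(x.2 : G), x.2.2, rfl⟩, ((x.1 : G) : Q), hh, ?_⟩
    rw [← hx', hH'c _ hh]
  have hdisj : R ⊓ H' = ⊥ := by
    rw [eq_bot_iff]
    rintro x ⟨⟨g, hg, rfl⟩, hx2⟩
    have h1 : g ∈ H'.subgroupOf G ⊓ R₀ := ⟨hx2, hg⟩
    rw [hR₀.disjoint.eq_bot, Subgroup.mem_bot] at h1
    rw [h1]
    exact Subgroup.one_mem _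
  have hRpow : ∀ r ∈ R, r ^ Nat.card R = 1 := by
    intro r hr
    have h2 := pow_card_eq_one' (G := R) (x := ⟨r, hr⟩)
    have h3 := congrArg Subtype.val h2
    rwa [Subgroup.coe_pow] at h3
  refine ⟨R, hRG, ?_, hdecomp, hdisj, ?_⟩
  · rw [hRcard]
    exact hidx
  · intro g hg
    constructor
    · exact hRpow g
    · intro hgn
      obtain ⟨r, hr, h, hh, rfl⟩ := hdecomp g hg
      have hcomm : Commute r h := (hH'c h hh r)
      rw [hcomm.mul_pow, hRpow r hr, one_mul] at hgn
      have h1 : orderOf h ∣ Nat.card R := orderOf_dvd_of_pow_eq_one hgn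
      have h2 : orderOf h ∣ Nat.card H' := by
        have := orderOf_dvd_natCard (⟨h, hh⟩ : H')
        rwa [← Subgroup.orderOf_coe] at this
      have h3 : orderOf h ∣ Nat.gcd (Nat.card H') (Nat.card R) := Nat.dvd_gcd h2 h1
      rw [hRcard, hcardH'] at h3
      have h4 : h = 1 := orderOf_eq_one_iff.mp (Nat.dvd_one.mp h3)
      rw [h4, mul_one]
      exact hr

end Cfsg.Agent.Helper6
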