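import Mathlib
import Cfsg.Prelude.Def_Characters
import Cfsg.Agent.Helper6.TripC
import Cfsg.Agent.Helper6.TripD
import Cfsg.Agent.Helper6.CentralFaithfulA
import Cfsg.Agent.Helper6.Constituent
import Cfsg.Agent.Helper6.ProdIrr
import Cfsg.Agent.Helper6.BrauerPerm2
import Cfsg.Agent.Helper6.CycN
import Cfsg.Agent.S4449

/-!
# Invariant characters over a character of a central subgroup: the case of a solvable group of
operators
-/

set_option autoImplicit false
set_option linter.style.haveILetI false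
set_option linter.unusedSimpArgs false

namespace Cfsg.Agent.Helper6

open scoped ComplexConjugate

universe u

variable {Q : Type u} [Group Q]

/-- the values on a central subgroup of an irreducible character lying over a linear character of
it -/
theorem irr_apply_central_of_le [Finite Q] (R N : Subgroup Q) [Fintype R] [Fintype N]
    (hNR : N ≤ R) (hNc : N ≤ Subgroup.center Q) (lam : N →* ℂˣ) (ψ : Cfsg.IrrCharacter R)
    (h : Cfsg.classInner (fun n : N => (ψ : R → ℂ) ⟨n, hNR n.2⟩)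
      (fun n => ((lam n : ℂˣ) : ℂ)) ≠ 0) :
    ∀ n : N, (ψ : R → ℂ) ⟨n, hNR n.2⟩ = ((lam n : ℂˣ) : ℂ) * (ψ : R → ℂ) 1 := by
  classical
  haveI : Fintype (N.subgroupOf R) := Fintype.ofFinite _
  let e' : N.subgroupOf R ≃* N := Subgroup.subgroupOfEquivOfLe hNR
  have hN' : N.subgroupOf R ≤ Subgroup.center R := by
    intro x hx
    rw [Subgroup.mem_center_iff]
    intro y
    apply Subtype.ext
    rw [Subgroup.coe_mul, Subgroup.coe_mul]
    exact Subgroup.mem_center_iff.mp (hNc (Subgroup.mem_subgroupOf.mp hx)) (y : Q)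
  have h' : Cfsg.classInner (fun n : N.subgroupOf R => (ψ : R → ℂ) n)
      (fun n : N.subgroupOf R => (((lam.comp e'.toMonoidHom) n : ℂˣ) : ℂ)) ≠ 0 := by
    have h1 := classInner_comp_equiv' e'.toEquiv (fun n : N => (ψ : R → ℂ) ⟨n, hNR n.2⟩)
      (fun n => ((lam n : ℂˣ) : ℂ))
    rw [← h1] at h
    exact h
  have hmem := irr_mem_equivariantCF (N.subgroupOf R) hN' (lam.comp e'.toMonoidHom) ψ h'
  intro n
  have h2 := hmem.2 (e'.symm n) 1
  rw [mul_one] at h2
  have h3 : ((e'.symm n : N.subgroupOf R) : R) = ⟨n, hNR n.2⟩ := by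
    apply Subtype.ext
    rfl
  rw [h3] at h2
  rw [h2]
  simp

set_option maxHeartbeats 3200000 in
/-- Let `G` be a normal subgroup of the finite group `Q` and `Z ≤ G` a central subgroup of `Q`
with `|G : Z|` and `|Q : G|` coprime and `Q / G` solvable. Then over every linear character of
`Z` there lies a `Q`-invariant irreducible character of `G`. -/
theorem exists_invariant_over_central_b [Fintype Q] (G Z : Subgroup Q) [hG : G.Normal]
    [Fintype G] [Fintype Z] (hZG : Z ≤ G) (hZc : Z ≤ Subgroup.center Q)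
    (hcop : (Z.relIndex G).Coprime G.index) (hsolv : Group.IsSolvable (Q ⧸ G)) (ω : Z →* ℂˣ) :
    ∃ β : G → ℂ, Cfsg.IsIrrCharacter G β ∧
      (∀ (y : Q) (g : G), β ⟨y * g * y⁻¹, hG.conj_mem g g.2 y⟩ = β g) ∧
      Cfsg.classInner (fun u : Z => β ⟨u, hZG u.2⟩) (fun u => ((ω u : ℂˣ) : ℂ)) ≠ 0 := by
  classical
  obtain ⟨S, hsup, hprime, hSG, ⟨iso⟩⟩ := exists_coprime_supplement G Z hZG hZc hcop
  obtain ⟨R, hRG, hRcop, hdecomp, hdisj, hRchar⟩ := exists_hall_complement G Z hZG hZc hcop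
  set H' := powTorsion Z hZc G.index with hH'
  have hH'Z : H' ≤ Z := powTorsion_le Z hZc G.index
  have hH'c : ∀ h ∈ H', ∀ y : Q, y * h = h * y :=
    fun h hh y => Subgroup.mem_center_iff.mp (hZc (hH'Z hh)) y
  have hcenZ : ∀ (s : Q), ∀ x ∈ Z, s * x * s⁻¹ = x := by
    intro s x hx
    rw [Subgroup.mem_center_iff.mp (hZc hx) s]
    group
  -- `S` is solvable
  have hSsolv : Group.IsSolvable S := by
    haveI : Group.IsSolvable (S ⧸ H'.subgroupOf S) :=
      Group.isSolvable_of_surjective (f := iso.symm.toMonoidHom) iso.symm.surjective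
    haveI : Group.IsSolvable (H'.subgroupOf S) := by
      apply Group.isSolvable_of_comm
      intro a b
      apply Subtype.ext
      apply Subtype.ext
      rw [Subgroup.coe_mul, Subgroup.coe_mul, Subgroup.coe_mul, Subgroup.coe_mul]
      exact hH'c ((b : S) : Q) (Subgroup.mem_subgroupOf.mp b.2) ((a : S) : Q)
    apply Group.isSolvable_of_ker_le_range (H'.subgroupOf S).subtype
      (QuotientGroup.mk' (H'.subgroupOf S))
    rw [QuotientGroup.ker_mk', Subgroup.range_subtype]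
  -- `S` normalizes `R`
  have hnormR : ∀ s ∈ S, ∀ r ∈ R, s * r * s⁻¹ ∈ R := by
    intro s _ r hr
    have h1 : s * r * s⁻¹ ∈ G := hG.conj_mem r (hRG hr) s
    rw [hRchar _ h1, conj_pow, (hRchar r (hRG hr)).mp hr]
    group
  have hRScop : (Nat.card R).Coprime (Nat.card S) := by
    apply Nat.coprime_of_dvd'
    intro r hr h1 h2
    have h3 := hprime r hr h2
    have h4 : r ∣ Nat.gcd (Nat.card R) G.index := Nat.dvd_gcd h1 h3
    rwa [hRcop] at h4
  haveI : Fintype R := Fintype.ofFinite _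
  set N : Subgroup Q := Z ⊓ R with hN
  haveI : Fintype N := Fintype.ofFinite _
  have hNR : N ≤ R := inf_le_right
  have hNZ : N ≤ Z := inf_le_left
  let ωN : N →* ℂˣ := ω.comp (Subgroup.inclusion hNZ)
  obtain ⟨ψ, hψne, hψinv⟩ := Cfsg.Agent.S4449.result R S N hnormR hNR
    (fun g _ n hn => by rw [hcenZ g n (hNZ hn)]; exact hn)
    (fun s _ n hn => by rw [hcenZ s n (hNZ hn)]; exact hn) hRScop hSsolv
    ⟨fun u => ((ωN u : ℂˣ) : ℂ), isIrrCharacter_of_hom ωN⟩ (by
      intro s _ g g' hg'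
      have : g' = g := by
        apply Subtype.ext
        rw [hg', hcenZ s g (hNZ g.2)]
      rw [this])
  have hψcen := irr_apply_central_of_le R N hNR (hNZ.trans hZc) ωN ψ hψne
  -- the product decomposition
  have hcommRH : ∀ c ∈ R, ∀ y ∈ H', Commute c y := fun c _ y hy => hH'c y hy c
  let m₀ : R × H' →* Q := cycProdHom R H' hcommRH
  have hm₀ : ∀ z : R × H', m₀ z = (z.1 : Q) * (z.2 : Q) := fun z => rfl
  have hm₀G : ∀ z : R × H', m₀ z ∈ G := by
    intro z
    rw [hm₀]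
    exact G.mul_mem (hRG z.1.2) (hZG (hH'Z z.2.2))
  let m : R × H' →* G := m₀.codRestrict G hm₀G
  have hminj : Function.Injective m := by
    intro z z' hzz
    have h1 : (z.1 : Q) * (z.2 : Q) = (z'.1 : Q) * (z'.2 : Q) := by
      have := congrArg Subtype.val hzz
      exact this
    have h2 : (z'.1 : Q)⁻¹ * (z.1 : Q) = (z'.2 : Q) * (z.2 : Q)⁻¹ := by
      have : (z.1 : Q) = (z'.1 : Q) * (z'.2 : Q) * (z.2 : Q)⁻¹ := by rw [← h1]; group
      rw [this]
      group
    have h3 : (z'.1 : Q)⁻¹ * (z.1 : Q) ∈ R ⊓ H' := by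
      refine ⟨R.mul_mem (R.inv_mem z'.1.2) z.1.2, ?_⟩
      rw [h2]
      exact H'.mul_mem z'.2.2 (H'.inv_mem z.2.2)
    rw [hdisj, Subgroup.mem_bot] at h3
    have h4 : (z.1 : Q) = (z'.1 : Q) := by
      have : (z.1 : Q) = (z'.1 : Q) * ((z'.1 : Q)⁻¹ * (z.1 : Q)) := by group
      rw [this, h3, mul_one]
    have h5 : (z.2 : Q) = (z'.2 : Q) := by
      rw [h4] at h1
      exact mul_left_cancel h1
    exact Prod.ext (Subtype.ext h4) (Subtype.ext h5)
  have hmsurj : Function.Surjective m := by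
    intro g
    obtain ⟨r, hr, h, hh, hg⟩ := hdecomp g g.2
    exact ⟨(⟨r, hr⟩, ⟨h, hh⟩), Subtype.ext hg.symm⟩
  let e : R × H' ≃* G := MulEquiv.ofBijective m ⟨hminj, hmsurj⟩
  have he : ∀ z : R × H', ((e z : G) : Q) = (z.1 : Q) * (z.2 : Q) := fun z => rfl
  let ωH : H' →* ℂˣ := ω.comp (Subgroup.inclusion hH'Z)
  set Φ : R × H' → ℂ := fun z => (ψ : R → ℂ) z.1 * ((ωH z.2 : ℂˣ) : ℂ) with hΦ
  have hΦirr : Cfsg.IsIrrCharacter (R × H') Φ :=
    (isIrrCharacter_prod_iff Φ).mpr ⟨(ψ : R → ℂ), fun h => ((ωH h : ℂˣ) : ℂ), ψ.2,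
      isIrrCharacter_of_hom ωH, rfl⟩
  set β : G → ℂ := Φ ∘ e.symm with hβ
  have hβirr : Cfsg.IsIrrCharacter G β := IsIrrCharacter.comp_mulEquiv e.symm hΦirr
  have hβval : ∀ z : R × H', β (e z) = (ψ : R → ℂ) z.1 * ((ωH z.2 : ℂˣ) : ℂ) := by
    intro z
    rw [hβ, Function.comp_apply, MulEquiv.symm_apply_apply]
  have hβS : ∀ s ∈ S, ∀ g g' : G, (g' : Q) = s * g * s⁻¹ → β g' = β g := by
    intro s hs g g' hg'
    obtain ⟨z, rfl⟩ := e.surjective g
    have h1 : g' = e (⟨s * (z.1 : Q) * s⁻¹, hnormR s hs _ z.1.2⟩, z.2) := by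
      apply Subtype.ext
      rw [hg', he, he]
      change s * ((z.1 : Q) * (z.2 : Q)) * s⁻¹ = s * (z.1 : Q) * s⁻¹ * (z.2 : Q)
      have h2 := hH'c _ z.2.2 s⁻¹
      calc s * ((z.1 : Q) * (z.2 : Q)) * s⁻¹ = s * (z.1 : Q) * ((z.2 : Q) * s⁻¹) := by group
        _ = s * (z.1 : Q) * (s⁻¹ * (z.2 : Q)) := by rw [h2]
        _ = s * (z.1 : Q) * s⁻¹ * (z.2 : Q) := by group
    rw [h1, hβval, hβval]
    congr 1
    exact hψinv s hs z.1 _ rfl
  refine ⟨β, hβirr, invariant_of_supplement G S hsup β (IsCharacter.isClassFunction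
    (IsIrrCharacter.isCharacter hβirr)) hβS, ?_⟩
  -- the restriction to `Z`
  have hβZ : (fun u : Z => β ⟨u, hZG u.2⟩) =
      (ψ : R → ℂ) 1 • (fun u : Z => ((ω u : ℂˣ) : ℂ)) := by
    funext u
    obtain ⟨r, hr, h, hh, hu⟩ := hdecomp (u : Q) (hZG u.2)
    have hrZ : r ∈ Z := by
      have : r = (u : Q) * h⁻¹ := by rw [hu]; group
      rw [this]
      exact Z.mul_mem u.2 (Z.inv_mem (hH'Z hh))
    have h1 : (⟨u, hZG u.2⟩ : G) = e (⟨r, hr⟩, ⟨h, hh⟩) := Subtype.ext hu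
    rw [h1, hβval, Pi.smul_apply, smul_eq_mul]
    have h2 := hψcen ⟨r, ⟨hrZ, hr⟩⟩
    simp only [] at h2
    rw [h2]
    have h3 : ω u = ωN ⟨r, ⟨hrZ, hr⟩⟩ * ωH ⟨h, hh⟩ := by
      show ω u = ω (Subgroup.inclusion hNZ ⟨r, ⟨hrZ, hr⟩⟩) * ω (Subgroup.inclusion hH'Z ⟨h, hh⟩)
      rw [← map_mul]
      congr 1
      exact Subtype.ext hu
    rw [h3, Units.val_mul]
    ring
  rw [hβZ, classInner_smul_left, classInner_irr_self (isIrrCharacter_of_hom ω), mul_one]
  exact IsIrrCharacter.apply_one_ne_zero ψ.2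

end Cfsg.Agent.Helper6
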