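import Mathlib
import Cfsg.Prelude.Def_Characters
import Cfsg.Prelude.Def_BlockLocal
import Cfsg.Prelude.Def_Blocks
import Cfsg.Agent.Helper6.RMcKCenB
import Cfsg.Agent.Helper6.RMcKLXa
import Cfsg.Agent.Helper5.RMcKLat
import Cfsg.Agent.Helper5.RMcKCntD
import Cfsg.Agent.Helper1.RMcKCntG
import Cfsg.Agent.Helper6.TripE
import Cfsg.Agent.Helper6.RelGlaubD
import Cfsg.Agent.Helper2.RMcKD2

/-!
# The character-triple reduction: the correspondence `Irr(H | ν) ↔ Irr(H* | λ)`
-/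

set_option autoImplicit false
set_option linter.style.haveILetI false
set_option linter.unusedSimpArgs false
set_option linter.unusedSectionVars false
set_option linter.unusedVariables false

namespace Cfsg.Agent.Helper6.RMcK

open Cfsg.Agent.Helper6
open scoped ComplexConjugate

universe u

variable {X Γ Q : Type u} [Group X] [Group Γ] [Group Q] [Finite X] [Finite Γ] [Finite Q]

/-- membership in `Hh = H.comap f` is detected by `q` when `q.ker ≤ Hh` -/
theorem mem_iff_map_mem (q : X →* Q) (Hh : Subgroup X) (hker : q.ker ≤ Hh) (x : X) :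
    x ∈ Hh ↔ q x ∈ Hh.map q := by
  constructor
  · intro hx
    exact Subgroup.mem_map_of_mem q hx
  · rintro ⟨u, hu, hux⟩
    have h1 : x * u⁻¹ ∈ q.ker := by
      rw [MonoidHom.mem_ker, map_mul, map_inv, hux, mul_inv_cancel]
    have h2 : x * u⁻¹ * u ∈ Hh := Hh.mul_mem (hker h1) hu
    simpa using h2

omit [Finite X] [Finite Q] in
theorem ker_le_normalizer (q : X →* Q) (Y : Subgroup X) :
    Y ≤ Subgroup.normalizer ((q.ker : Subgroup X) : Set X) := by
  haveI : (q.ker).Normal := MonoidHom.normal_ker q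
  rw [Subgroup.normalizer_eq_top]
  exact le_top

/-- the relation defining the correspondence -/
def CtrRel (f : X →* Γ) (q : X →* Q) (H : Subgroup Γ) (hker : q.ker ≤ H.comap f) (τ : X → ℂ)
    (χ : H → ℂ) (β : ↥((H.comap f).map q) → ℂ) : Prop :=
  Cfsg.Agent.Helper5.RMcK.inflF f (Hh := H.comap f) (fun _ => Iff.rfl) χ =
    Cfsg.Agent.Helper5.RMcK.inflF q (mem_iff_map_mem q (H.comap f) hker) β * fun x : H.comap f => τ x

section

variable (f : X →* Γ) (q : X →* Q) (hq : Function.Surjective q)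
  (L H : Subgroup Γ) (hLH : L ≤ H) (hH : H ≤ f.range)
  (ν : L → ℂ) (hν : Cfsg.IsIrrCharacter L ν) (hinv : H ≤ inertia L ν)
  (τ : X → ℂ) (hτ : Cfsg.IsCharacter X τ)
  (hτK : Cfsg.IsIrrCharacter q.ker (fun k : q.ker => τ k))
  (hKL : q.ker ≤ L.comap f)
  (nt : ↥(L.comap f) →* ℂˣ) (hnt1 : ∀ x : L.comap f, (x : X) ∈ q.ker → nt x = 1)
  (hnt2 : ∀ x : L.comap f, ν ⟨f x, x.2⟩ = ((nt x : ℂˣ) : ℂ) * τ x)

include hq hLH hH hν hinv hτ hτK hKL hnt1 hnt2

theorem ctr_tau_one : τ 1 = ν 1 := by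
  have h1 := hnt2 1
  simp only [OneMemClass.coe_one, map_one, Units.val_one, one_mul] at h1
  rw [← h1]
  congr 1

theorem ctr_kerH : q.ker ≤ H.comap f := hKL.trans (Subgroup.comap_mono hLH)

/-- uniqueness of `β` -/
theorem ctrRel_right_unique (χ : H → ℂ) (β β' : ↥((H.comap f).map q) → ℂ)
    (hβ : Cfsg.IsIrrCharacter _ β) (hβ' : Cfsg.IsIrrCharacter _ β')
    (h1 : CtrRel f q H (hKL.trans (Subgroup.comap_mono hLH)) τ χ β)
    (h2 : CtrRel f q H (hKL.trans (Subgroup.comap_mono hLH)) τ χ β') : β = β' := by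
  have hkerH : q.ker ≤ H.comap f := hKL.trans (Subgroup.comap_mono hLH)
  unfold CtrRel at h1 h2
  have h3 := h1.symm.trans h2
  have hHs : (H.comap f).map q ≤ q.range := by
    intro y hy
    exact hq y
  have hτH : Cfsg.IsCharacter (H.comap f) (fun x : H.comap f => τ x) :=
    IsCharacter.restrict _ hτ
  have hβh := Cfsg.Agent.Helper5.RMcK.CNTD1_irr q (mem_iff_map_mem q (H.comap f) hkerH) hHs β hβ
  have hβh' := Cfsg.Agent.Helper5.RMcK.CNTD1_irr q (mem_iff_map_mem q (H.comap f) hkerH) hHs β' hβ'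
  have htriv : ∀ (γ : ↥((H.comap f).map q) → ℂ) (k : q.ker),
      Cfsg.Agent.Helper5.RMcK.inflF q (mem_iff_map_mem q (H.comap f) hkerH) γ (Subgroup.inclusion hkerH k) =
        Cfsg.Agent.Helper5.RMcK.inflF q (mem_iff_map_mem q (H.comap f) hkerH) γ 1 := by
    intro γ k
    unfold Cfsg.Agent.Helper5.RMcK.inflF
    congr 1
    apply Subtype.ext
    simp only [Subgroup.coe_inclusion, OneMemClass.coe_one, map_one]
    exact k.2
  have h4 := Cfsg.Agent.Helper1.RMcK.CNTG3_injective (H.comap f) q.ker hkerH (ker_le_normalizer q _) (fun x : H.comap f => τ x) hτH hτK _ _ hβh hβh'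
    (htriv β) (htriv β') h3
  exact Cfsg.Agent.Helper5.RMcK.CNTD3_injective q (mem_iff_map_mem q (H.comap f) hkerH) hHs β β' h4

/-- uniqueness of `χ` -/
theorem ctrRel_left_unique (χ χ' : H → ℂ) (β : ↥((H.comap f).map q) → ℂ)
    (h1 : CtrRel f q H (hKL.trans (Subgroup.comap_mono hLH)) τ χ β)
    (h2 : CtrRel f q H (hKL.trans (Subgroup.comap_mono hLH)) τ χ' β) : χ = χ' := by
  unfold CtrRel at h1 h2
  exact Cfsg.Agent.Helper5.RMcK.CNTD3_injective f (Hh := H.comap f) (fun _ => Iff.rfl) hH χ χ' (h1.trans h2.symm)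

/-- degrees -/
theorem ctrRel_degree (χ : H → ℂ) (hχ : Cfsg.IsCharacter H χ) (β : ↥((H.comap f).map q) → ℂ)
    (hβ : Cfsg.IsCharacter _ β)
    (h1 : CtrRel f q H (hKL.trans (Subgroup.comap_mono hLH)) τ χ β) :
    Cfsg.charDegree χ = Cfsg.charDegree ν * Cfsg.charDegree β := by
  unfold CtrRel at h1
  have h2 := congrFun h1 1
  unfold Cfsg.Agent.Helper5.RMcK.inflF at h2
  simp only [Pi.mul_apply, OneMemClass.coe_one] at h2
  have h3 : χ ⟨f (1 : X), by rw [map_one]; exact H.one_mem⟩ = χ 1 := by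
    congr 1
    apply Subtype.ext
    simp
  have h4 : β ⟨q (1 : X), by rw [map_one]; exact Subgroup.one_mem _⟩ = β 1 := by
    congr 1
    apply Subtype.ext
    simp
  have hτ1 := ctr_tau_one f q hq L H hLH hH ν hν hinv τ hτ hτK hKL nt hnt1 hnt2
  have h5 : χ 1 = β 1 * ν 1 := by
    rw [← h3, ← h4, ← hτ1]
    exact h2
  rw [← charDegree_cast_of_isCharacter hχ, ← charDegree_cast_of_isCharacter hβ,
    ← charDegree_cast_of_isCharacter (IsIrrCharacter.isCharacter hν)] at h5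
  have h6 : (Cfsg.charDegree χ : ℂ) = ((Cfsg.charDegree ν * Cfsg.charDegree β : ℕ) : ℂ) := by
    rw [h5]
    push_cast
    ring
  exact_mod_cast h6

end

end Cfsg.Agent.Helper6.RMcK
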