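import Mathlib
import Cfsg.Prelude.Def_Characters
import Cfsg.Prelude.Def_BlockLocal
import Cfsg.Prelude.Def_Blocks
import Cfsg.Agent.Helper6.RMcKCtrA

/-!
# The character-triple reduction: existence in both directions
-/

set_option autoImplicit false
set_option linter.style.haveILetI false
set_option linter.unusedSimpArgs false
set_option linter.unusedSectionVars false
set_option linter.unusedVariables false

namespace Cfsg.Agent.Helper6.RMcK

open Cfsg.Agent.Helper6
open scoped ComplexConjugate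

universe u

variable {X Γ Q : Type u} [Group X] [Group Γ] [Group Q] [Finite X] [Finite Γ] [Finite Q]

section

variable (f : X →* Γ) (q : X →* Q) (hq : Function.Surjective q)
  (L H : Subgroup Γ) (hLH : L ≤ H) (hH : H ≤ f.range)
  (ν : L → ℂ) (hν : Cfsg.IsIrrCharacter L ν) (hinv : H ≤ inertia L ν)
  (τ : X → ℂ) (hτ : Cfsg.IsCharacter X τ)
  (hτK : Cfsg.IsIrrCharacter q.ker (fun k : q.ker => τ k))
  (hKL : q.ker ≤ L.comap f)
  (nt : ↥(L.comap f) →* ℂˣ) (hnt1 : ∀ x : L.comap f, (x : X) ∈ q.ker → nt x = 1)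
  (hnt2 : ∀ x : L.comap f, ν ⟨f x, x.2⟩ = ((nt x : ℂˣ) : ℂ) * τ x)
  (lam : ↥((L.comap f).map q) →* ℂˣ)
  (hlam : ∀ x : L.comap f, lam ⟨q x, Subgroup.mem_map_of_mem q x.2⟩ = nt x)

include hq hLH hH hν hinv hτ hτK hKL hnt1 hnt2 hlam

theorem ctrRel_exists_right (χ : H → ℂ) (hχ : Cfsg.IsIrrCharacter H χ) (hov : Ov hLH χ ν) :
    ∃ β : ↥((H.comap f).map q) → ℂ, Cfsg.IsIrrCharacter _ β ∧
      CtrRel f q H (hKL.trans (Subgroup.comap_mono hLH)) τ χ β ∧
      Ov (Subgroup.map_mono (Subgroup.comap_mono hLH) :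
        (L.comap f).map q ≤ (H.comap f).map q) β (fun z => ((lam z : ℂˣ) : ℂ)) := by
  classical
  have hkerH : q.ker ≤ H.comap f := hKL.trans (Subgroup.comap_mono hLH)
  have hLhHh : L.comap f ≤ H.comap f := Subgroup.comap_mono hLH
  have hLsHs : (L.comap f).map q ≤ (H.comap f).map q := Subgroup.map_mono hLhHh
  have hHs : (H.comap f).map q ≤ q.range := fun y _ => hq y
  have hLs : (L.comap f).map q ≤ q.range := fun y _ => hq y
  have hLrange : L ≤ f.range := hLH.trans hH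
  have hτH : Cfsg.IsCharacter (H.comap f) (fun x : H.comap f => τ x) :=
    IsCharacter.restrict _ hτ
  have hτL : Cfsg.IsCharacter (L.comap f) (fun x : L.comap f => τ x) :=
    IsCharacter.restrict _ hτ
  obtain ⟨e, he0, hres, hip, -⟩ := res_eq_smul_of_invariant hLH ν hν hinv χ hχ hov
  -- the inflation of `χ`
  have hψ := Cfsg.Agent.Helper5.RMcK.CNTD1_irr f (Hh := H.comap f) (fun _ => Iff.rfl) hH χ hχ
  have hψK : res hkerH (Cfsg.Agent.Helper5.RMcK.inflF f (Hh := H.comap f) (fun _ => Iff.rfl) χ) =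
      (e : ℂ) • (fun k : q.ker => τ k) := by
    funext k
    have h1 := congrFun hres ⟨f k, hKL k.2⟩
    rw [res_apply, Pi.smul_apply, smul_eq_mul] at h1
    have h2 := hnt2 ⟨k, hKL k.2⟩
    rw [hnt1 ⟨k, hKL k.2⟩ k.2] at h2
    simp only [Units.val_one, one_mul] at h2
    rw [Pi.smul_apply, smul_eq_mul, ← h2, ← h1]
    rfl
  have hovK : Ov hkerH (Cfsg.Agent.Helper5.RMcK.inflF f (Hh := H.comap f) (fun _ => Iff.rfl) χ)
      (res hkerH (fun x : H.comap f => τ x)) := by
    unfold Ov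
    rw [hψK]
    have h1 : res hkerH (fun x : H.comap f => τ x) = fun k : q.ker => τ k := rfl
    rw [h1, Cfsg.Agent.Helper2.RMcK.ip_smul_left, Cfsg.Agent.Helper2.RMcK.ip_irr_self hτK,
      mul_one]
    exact_mod_cast he0.ne'
  obtain ⟨βh, hβh, hβhK, hψβ⟩ := Cfsg.Agent.Helper1.RMcK.CNTG2_exists (H.comap f) q.ker hkerH (ker_le_normalizer q _)
    (fun x : H.comap f => τ x) hτH hτK _ hψ hovK
  -- deflate `βh`
  have hkerβ : ∀ x : H.comap f, q x = 1 → βh x = βh 1 := by
    intro x hx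
    have h1 := hβhK ⟨x, hx⟩
    rw [← h1]
    congr 1
  obtain ⟨β, hβ, hββ⟩ := Cfsg.Agent.Helper5.RMcK.CNTD2_deflate q (mem_iff_map_mem q (H.comap f) hkerH) hHs βh hβh hkerβ
  refine ⟨β, hβ, ?_, ?_⟩
  · unfold CtrRel
    rw [← hββ]
    exact hψβ
  · -- `β` lies over `lam`
    unfold Ov
    have hmapLs := mem_iff_map_mem q (L.comap f) hKL
    have hmapHs := mem_iff_map_mem q (H.comap f) hkerH
    rw [← Cfsg.Agent.Helper5.RMcK.CNTD4_ip q hmapLs hLs, ← Cfsg.Agent.Helper5.RMcK.CNTD5_res q hmapLs hmapHs hLsHs hLhHh β, ← hββ]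
    have hntC : Cfsg.Agent.Helper5.RMcK.inflF q hmapLs (fun z => ((lam z : ℂˣ) : ℂ)) =
        fun x : L.comap f => ((nt x : ℂˣ) : ℂ) := by
      funext x
      unfold Cfsg.Agent.Helper5.RMcK.inflF
      show ((lam ⟨q x, _⟩ : ℂˣ) : ℂ) = _
      rw [hlam x]
    rw [hntC]
    -- constant on cosets
    have hα : ∀ (k : q.ker) (y : L.comap f),
        res hLhHh βh (Subgroup.inclusion hKL k * y) = res hLhHh βh y := by
      intro k y
      rw [res_apply, res_apply]
      have hker' : ∀ n ∈ (q.ker).subgroupOf (H.comap f), βh n = βh 1 := by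
        intro n hn
        rw [Subgroup.mem_subgroupOf] at hn
        exact hkerβ n hn
      have h1 := RelGlaub.coset_const_of_ker ((q.ker).subgroupOf (H.comap f))
        (IsIrrCharacter.isCharacter hβh) hker'
        ⟨⟨(k : X), hkerH k.2⟩, by rw [Subgroup.mem_subgroupOf]; exact k.2⟩
        ⟨(y : X), hLhHh y.2⟩
      rw [← h1]
      congr 1
    have hα' : ∀ (k : q.ker) (y : L.comap f),
        (fun x : L.comap f => ((nt x : ℂˣ) : ℂ)) (Subgroup.inclusion hKL k * y) =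
          (fun x : L.comap f => ((nt x : ℂˣ) : ℂ)) y := by
      intro k y
      simp only
      rw [map_mul, hnt1 (Subgroup.inclusion hKL k) k.2, one_mul]
    have h4 := Cfsg.Agent.Helper1.RMcK.CNTG4_ip_mul (L.comap f) q.ker hKL (ker_le_normalizer q _)
      (fun x : L.comap f => τ x) hτL hτK (res hLhHh βh)
      (fun x : L.comap f => ((nt x : ℂˣ) : ℂ)) hα hα'
    rw [← h4]
    have h5 : res hLhHh βh * (fun x : L.comap f => τ x) =
        res hLhHh (Cfsg.Agent.Helper5.RMcK.inflF f (Hh := H.comap f) (fun _ => Iff.rfl) χ) := by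
      rw [hψβ]
      rfl
    have h6 : (fun x : L.comap f => ((nt x : ℂˣ) : ℂ)) * (fun x : L.comap f => τ x) =
        Cfsg.Agent.Helper5.RMcK.inflF f (Hh := L.comap f) (fun _ => Iff.rfl) ν := by
      funext x
      unfold Cfsg.Agent.Helper5.RMcK.inflF
      rw [Pi.mul_apply]
      exact (hnt2 x).symm
    rw [h5, h6, Cfsg.Agent.Helper5.RMcK.CNTD5_res f (Ah := L.comap f) (Hh := H.comap f) (fun _ => Iff.rfl)
      (fun _ => Iff.rfl) hLH hLhHh χ, Cfsg.Agent.Helper5.RMcK.CNTD4_ip f (Ah := L.comap f) (fun _ => Iff.rfl) hLrange]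
    exact hov

theorem ctrRel_exists_left (hcen : ∀ h ∈ L.comap f, ∀ x : X, h * x * h⁻¹ * x⁻¹ ∈ q.ker)
    (β : ↥((H.comap f).map q) → ℂ) (hβ : Cfsg.IsIrrCharacter _ β)
    (hov : Ov (Subgroup.map_mono (Subgroup.comap_mono hLH) :
        (L.comap f).map q ≤ (H.comap f).map q) β (fun z => ((lam z : ℂˣ) : ℂ))) :
    ∃ χ : H → ℂ, Cfsg.IsIrrCharacter H χ ∧
      CtrRel f q H (hKL.trans (Subgroup.comap_mono hLH)) τ χ β ∧ Ov hLH χ ν := by
  classical
  have hkerH : q.ker ≤ H.comap f := hKL.trans (Subgroup.comap_mono hLH)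
  have hLhHh : L.comap f ≤ H.comap f := Subgroup.comap_mono hLH
  have hLsHs : (L.comap f).map q ≤ (H.comap f).map q := Subgroup.map_mono hLhHh
  have hHs : (H.comap f).map q ≤ q.range := fun y _ => hq y
  have hLs : (L.comap f).map q ≤ q.range := fun y _ => hq y
  have hLrange : L ≤ f.range := hLH.trans hH
  have hτH : Cfsg.IsCharacter (H.comap f) (fun x : H.comap f => τ x) :=
    IsCharacter.restrict _ hτ
  have hτL : Cfsg.IsCharacter (L.comap f) (fun x : L.comap f => τ x) :=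
    IsCharacter.restrict _ hτ
  have hmapLs := mem_iff_map_mem q (L.comap f) hKL
  have hmapHs := mem_iff_map_mem q (H.comap f) hkerH
  -- `Ls` is central in `Q`
  have hNc : (L.comap f).map q ≤ Subgroup.center Q := by
    rintro l ⟨h, hh, rfl⟩
    rw [Subgroup.mem_center_iff]
    intro y
    obtain ⟨x, rfl⟩ := hq y
    have h1 := hcen h hh x
    rw [MonoidHom.mem_ker, map_mul, map_mul, map_mul, map_inv, map_inv] at h1
    have h2 : q h * q x = q x * q h := by
      have h3 : q h * q x * (q h)⁻¹ * (q x)⁻¹ * (q x * q h) = q h * q x := by group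
      rw [h1, one_mul] at h3
      exact h3.symm
    exact h2.symm
  -- the values of `β` on `Ls`
  haveI : Fintype ↥((H.comap f).map q) := Fintype.ofFinite _
  haveI : Fintype ↥((L.comap f).map q) := Fintype.ofFinite _
  have hβval : ∀ n : ↥((L.comap f).map q),
      β ⟨n, hLsHs n.2⟩ = ((lam n : ℂˣ) : ℂ) * β 1 := by
    have h0 : Cfsg.classInner (fun n : ↥((L.comap f).map q) => β ⟨n, hLsHs n.2⟩)
        (fun n => ((lam n : ℂˣ) : ℂ)) ≠ 0 := by
      unfold Ov at hov
      rw [ip_eq_classInner] at hov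
      exact hov
    exact Cfsg.Agent.Helper6.irr_apply_central_of_le ((H.comap f).map q) ((L.comap f).map q) hLsHs hNc lam
      ⟨β, hβ⟩ h0
  -- inflate `β`
  have hβh := Cfsg.Agent.Helper5.RMcK.CNTD1_irr q hmapHs hHs β hβ
  have hβhK : ∀ k : q.ker, Cfsg.Agent.Helper5.RMcK.inflF q hmapHs β (Subgroup.inclusion hkerH k) = Cfsg.Agent.Helper5.RMcK.inflF q hmapHs β 1 := by
    intro k
    unfold Cfsg.Agent.Helper5.RMcK.inflF
    congr 1
    apply Subtype.ext
    simp only [Subgroup.coe_inclusion, OneMemClass.coe_one, map_one]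
    exact k.2
  obtain ⟨hψ, -⟩ := Cfsg.Agent.Helper1.RMcK.CNTG1_mul_irr (H.comap f) q.ker hkerH (ker_le_normalizer q _)
    (fun x : H.comap f => τ x) hτH hτK _ hβh hβhK
  -- values of `ψ` on `Lh`
  have hτ1 := ctr_tau_one f q hq L H hLH hH ν hν hinv τ hτ hτK hKL nt hnt1 hnt2
  have hψval : ∀ x : L.comap f,
      (Cfsg.Agent.Helper5.RMcK.inflF q hmapHs β * fun x : H.comap f => τ x) ⟨x, hLhHh x.2⟩ = β 1 * ν ⟨f x, x.2⟩ := by
    intro x
    rw [Pi.mul_apply]
    unfold Cfsg.Agent.Helper5.RMcK.inflF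
    have h1 := hβval ⟨q x, Subgroup.mem_map_of_mem q x.2⟩
    have h2 : (⟨q ((⟨(x : X), hLhHh x.2⟩ : H.comap f) : X), (hmapHs _).mp (hLhHh x.2)⟩ :
        ↥((H.comap f).map q)) = ⟨q x, hLsHs (Subgroup.mem_map_of_mem q x.2)⟩ := rfl
    rw [h2, h1, hlam x, hnt2 x]
    ring
  have hβ1 : Cfsg.Agent.Helper5.RMcK.inflF q hmapHs β 1 = β 1 := by
    unfold Cfsg.Agent.Helper5.RMcK.inflF
    congr 1
    apply Subtype.ext
    simp
  have hkerψ : ∀ x : H.comap f, f x = 1 →
      (Cfsg.Agent.Helper5.RMcK.inflF q hmapHs β * fun x : H.comap f => τ x) x =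
        (Cfsg.Agent.Helper5.RMcK.inflF q hmapHs β * fun x : H.comap f => τ x) 1 := by
    intro x hx
    have hxL : (x : X) ∈ L.comap f := by
      rw [Subgroup.mem_comap, hx]
      exact L.one_mem
    have h1 := hψval ⟨x, hxL⟩
    have h2 : (⟨f ((⟨(x : X), hxL⟩ : L.comap f) : X), hxL⟩ : L) = 1 := by
      apply Subtype.ext
      exact hx
    rw [h2] at h1
    have h3 : (⟨((⟨(x : X), hxL⟩ : L.comap f) : X), hLhHh hxL⟩ : H.comap f) = x := rfl
    rw [h3] at h1
    rw [h1, Pi.mul_apply, hβ1, OneMemClass.coe_one, hτ1]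
  obtain ⟨χ, hχ, hχψ⟩ := Cfsg.Agent.Helper5.RMcK.CNTD2_deflate f (Hh := H.comap f) (fun _ => Iff.rfl) hH _ hψ hkerψ
  refine ⟨χ, hχ, ?_, ?_⟩
  · unfold CtrRel
    exact hχψ.symm
  · -- `χ` lies over `ν`
    have hresχ : res hLH χ = (β 1) • ν := by
      funext l
      obtain ⟨x, hx⟩ := hLrange l.2
      have hxL : x ∈ L.comap f := by
        rw [Subgroup.mem_comap, hx]
        exact l.2
      have h1 := hψval ⟨x, hxL⟩
      rw [hχψ] at h1
      unfold Cfsg.Agent.Helper5.RMcK.inflF at h1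
      rw [res_apply, Pi.smul_apply, smul_eq_mul]
      have h2 : (⟨(l : Γ), hLH l.2⟩ : H) = ⟨f x, hLhHh hxL⟩ := by
        apply Subtype.ext
        exact hx.symm
      have h3 : l = ⟨f x, hxL⟩ := by
        apply Subtype.ext
        exact hx.symm
      rw [h2, h3]
      exact h1
    unfold Ov
    rw [hresχ, Cfsg.Agent.Helper2.RMcK.ip_smul_left, Cfsg.Agent.Helper2.RMcK.ip_irr_self hν,
      mul_one]
    have h1 := charDegree_cast_of_isCharacter (IsIrrCharacter.isCharacter hβ)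
    rw [← h1]
    have h2 := charDegree_pos_of_irr β hβ
    exact_mod_cast h2.ne'

end

end Cfsg.Agent.Helper6.RMcK
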