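import Mathlib
import Cfsg.Prelude.Def_Characters
import Cfsg.Prelude.Def_BlockLocal
import Cfsg.Prelude.Def_Blocks
import Cfsg.Agent.Helper6.RMcKCtrB
import Cfsg.Agent.Helper6.IrrBasis

/-!
# The character-triple reduction: the count
-/

set_option autoImplicit false
set_option linter.style.haveILetI false
set_option linter.unusedSimpArgs false
set_option linter.unusedSectionVars false
set_option linter.unusedVariables false

namespace Cfsg.Agent.Helper6.RMcK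

open Cfsg.Agent.Helper6
open scoped ComplexConjugate

universe u

variable {X Γ Q : Type u} [Group X] [Group Γ] [Group Q] [Finite X] [Finite Γ] [Finite Q]

section

variable (f : X →* Γ) (q : X →* Q) (hq : Function.Surjective q)
  (L H : Subgroup Γ) (hLH : L ≤ H) (hH : H ≤ f.range)
  (ν : L → ℂ) (hν : Cfsg.IsIrrCharacter L ν) (hinv : H ≤ inertia L ν)
  (τ : X → ℂ) (hτ : Cfsg.IsCharacter X τ)
  (hτK : Cfsg.IsIrrCharacter q.ker (fun k : q.ker => τ k))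
  (hKL : q.ker ≤ L.comap f)
  (nt : ↥(L.comap f) →* ℂˣ) (hnt1 : ∀ x : L.comap f, (x : X) ∈ q.ker → nt x = 1)
  (hnt2 : ∀ x : L.comap f, ν ⟨f x, x.2⟩ = ((nt x : ℂˣ) : ℂ) * τ x)
  (lam : ↥((L.comap f).map q) →* ℂˣ)
  (hlam : ∀ x : L.comap f, lam ⟨q x, Subgroup.mem_map_of_mem q x.2⟩ = nt x)
  (hcen : ∀ h ∈ L.comap f, ∀ x : X, h * x * h⁻¹ * x⁻¹ ∈ q.ker)

include hq hLH hH hν hinv hτ hτK hKL hnt1 hnt2 hlam hcen

/-- the count of the character-triple reduction, with an arbitrary condition on the degrees -/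
theorem ctr_count (Pd : ℕ → Prop) :
    Nat.card {χ : Cfsg.IrrCharacter H //
        Pd (Cfsg.charDegree (χ : H → ℂ)) ∧ Ov hLH (χ : H → ℂ) ν} =
      Nat.card {β : Cfsg.IrrCharacter ↥((H.comap f).map q) //
        Pd (Cfsg.charDegree ν * Cfsg.charDegree (β : ↥((H.comap f).map q) → ℂ)) ∧
        Ov (Subgroup.map_mono (Subgroup.comap_mono hLH) :
          (L.comap f).map q ≤ (H.comap f).map q) (β : ↥((H.comap f).map q) → ℂ)
          (fun z => ((lam z : ℂˣ) : ℂ))} := by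
  classical
  haveI : Finite (Cfsg.IrrCharacter H) := irr_finite
  haveI : Finite (Cfsg.IrrCharacter ↥((H.comap f).map q)) := irr_finite
  haveI := Fintype.ofFinite {χ : Cfsg.IrrCharacter H //
        Pd (Cfsg.charDegree (χ : H → ℂ)) ∧ Ov hLH (χ : H → ℂ) ν}
  haveI := Fintype.ofFinite {β : Cfsg.IrrCharacter ↥((H.comap f).map q) //
        Pd (Cfsg.charDegree ν * Cfsg.charDegree (β : ↥((H.comap f).map q) → ℂ)) ∧
        Ov (Subgroup.map_mono (Subgroup.comap_mono hLH) :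
          (L.comap f).map q ≤ (H.comap f).map q) (β : ↥((H.comap f).map q) → ℂ)
          (fun z => ((lam z : ℂˣ) : ℂ))}
  rw [Nat.card_eq_fintype_card, Nat.card_eq_fintype_card]
  refine Cfsg.Agent.Helper2.RMcK.card_eq_of_rel
    (fun χ β => CtrRel f q H (hKL.trans (Subgroup.comap_mono hLH)) τ (χ.1 : H → ℂ)
      (β.1 : ↥((H.comap f).map q) → ℂ)) ?_ ?_ ?_ ?_
  · rintro ⟨χ, hd, hov⟩
    obtain ⟨β, hβ, hrel, hovβ⟩ := ctrRel_exists_right f q hq L H hLH hH ν hν hinv τ hτ hτK hKL nt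
      hnt1 hnt2 lam hlam (χ : H → ℂ) χ.2 hov
    refine ⟨⟨⟨β, hβ⟩, ?_, hovβ⟩, hrel⟩
    have hdeg := ctrRel_degree f q hq L H hLH hH ν hν hinv τ hτ hτK hKL nt hnt1 hnt2
      (χ : H → ℂ) (IsIrrCharacter.isCharacter χ.2) β (IsIrrCharacter.isCharacter hβ) hrel
    rw [← hdeg]
    exact hd
  · rintro ⟨β, hd, hov⟩
    obtain ⟨χ, hχ, hrel, hovχ⟩ := ctrRel_exists_left f q hq L H hLH hH ν hν hinv τ hτ hτK hKL nt
      hnt1 hnt2 lam hlam hcen (β : ↥((H.comap f).map q) → ℂ) β.2 hov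
    refine ⟨⟨⟨χ, hχ⟩, ?_, hovχ⟩, hrel⟩
    have hdeg := ctrRel_degree f q hq L H hLH hH ν hν hinv τ hτ hτK hKL nt hnt1 hnt2
      χ (IsIrrCharacter.isCharacter hχ) (β : ↥((H.comap f).map q) → ℂ)
      (IsIrrCharacter.isCharacter β.2) hrel
    show Pd (Cfsg.charDegree χ)
    rw [hdeg]
    exact hd
  · rintro ⟨χ, hd, hov⟩ ⟨χ', hd', hov'⟩ ⟨β, hdβ, hovβ⟩ h1 h2
    have h3 := ctrRel_left_unique f q hq L H hLH hH ν hν hinv τ hτ hτK hKL nt hnt1 hnt2
      (χ : H → ℂ) (χ' : H → ℂ) (β : ↥((H.comap f).map q) → ℂ) h1 h2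
    apply Subtype.ext
    apply Subtype.ext
    exact h3
  · rintro ⟨χ, hd, hov⟩ ⟨β, hdβ, hovβ⟩ ⟨β', hdβ', hovβ'⟩ h1 h2
    have h3 := ctrRel_right_unique f q hq L H hLH hH ν hν hinv τ hτ hτK hKL nt hnt1 hnt2
      (χ : H → ℂ) (β : ↥((H.comap f).map q) → ℂ) (β' : ↥((H.comap f).map q) → ℂ) β.2 β'.2 h1 h2
    apply Subtype.ext
    apply Subtype.ext
    exact h3

end

end Cfsg.Agent.Helper6.RMcK
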