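import Mathlib
import Cfsg.Prelude.Def_Characters
import Cfsg.Agent.Helper6.TripF

/-!
# Transfer of indices and solvability to a quotient of a covering group

For a surjective homomorphism `π : X →* Γ`, a normal subgroup `Nt` of `X`, and subgroups
`N ≤ G` of `Γ`, we compare the images in `X ⧸ Nt` of the preimages of `N` and `G` with `N` and `G`.
-/

set_option autoImplicit false
set_option linter.style.haveILetI false

namespace Cfsg.Agent.Helper6

universe u

variable {X Γ : Type u} [Group X] [Group Γ] (π : X →* Γ) (Nt : Subgroup X) [hNt : Nt.Normal]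
  (G N : Subgroup Γ)

/-- the image of the preimage of `N` is central when commutators with it lie in `Nt` -/
theorem comap_map_mk_le_center
    (hcen : ∀ h ∈ N.comap π, ∀ x : X, h * x * h⁻¹ * x⁻¹ ∈ Nt) :
    (N.comap π).map (QuotientGroup.mk' Nt) ≤ Subgroup.center (X ⧸ Nt) := by
  rintro _ ⟨h, hh, rfl⟩
  rw [Subgroup.mem_center_iff]
  intro y
  obtain ⟨x, rfl⟩ := QuotientGroup.mk'_surjective Nt y
  have h1 := hcen h hh x
  rw [← QuotientGroup.eq_one_iff] at h1
  have h2 : (QuotientGroup.mk' Nt h) * (QuotientGroup.mk' Nt x) *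
      (QuotientGroup.mk' Nt h)⁻¹ * (QuotientGroup.mk' Nt x)⁻¹ = 1 := by
    rw [← map_inv, ← map_inv, ← map_mul, ← map_mul, ← map_mul]
    exact h1
  have h3 : (QuotientGroup.mk' Nt h) * (QuotientGroup.mk' Nt x) =
      (QuotientGroup.mk' Nt x) * (QuotientGroup.mk' Nt h) := by
    calc (QuotientGroup.mk' Nt h) * (QuotientGroup.mk' Nt x)
        = ((QuotientGroup.mk' Nt h) * (QuotientGroup.mk' Nt x) *
            (QuotientGroup.mk' Nt h)⁻¹ * (QuotientGroup.mk' Nt x)⁻¹) *
            ((QuotientGroup.mk' Nt x) * (QuotientGroup.mk' Nt h)) := by group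
      _ = (QuotientGroup.mk' Nt x) * (QuotientGroup.mk' Nt h) := by rw [h2, one_mul]
  exact h3.symm

theorem index_comap_map_mk (hπ : Function.Surjective π) (hle : Nt ≤ G.comap π) :
    ((G.comap π).map (QuotientGroup.mk' Nt)).index = G.index := by
  have hker : (QuotientGroup.mk' Nt).ker ≤ G.comap π := by
    rw [QuotientGroup.ker_mk']
    exact hle
  rw [Subgroup.index_map_eq (G.comap π) (QuotientGroup.mk'_surjective Nt) hker,
    Subgroup.index_comap_of_surjective G hπ]

theorem relIndex_comap_map_mk (hπ : Function.Surjective π) (hle : Nt ≤ N.comap π)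
    (hNG : N ≤ G) :
    ((N.comap π).map (QuotientGroup.mk' Nt)).relIndex ((G.comap π).map (QuotientGroup.mk' Nt)) =
      N.relIndex G := by
  have hle' : Nt ≤ G.comap π := hle.trans (Subgroup.comap_mono hNG)
  rw [Subgroup.relIndex_map_map, QuotientGroup.ker_mk', sup_eq_left.mpr hle, sup_eq_left.mpr hle',
    Subgroup.relIndex_comap, Subgroup.map_comap_eq_self_of_surjective hπ]

/-- solvability of `Γ ⧸ G` passes to the quotient of `X ⧸ Nt` by the image of the preimage -/
theorem isSolvable_quotient_comap_map_mk [hG : G.Normal]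
    [hGQ : ((G.comap π).map (QuotientGroup.mk' Nt)).Normal]
    (hs : Group.IsSolvable (Γ ⧸ G)) :
    Group.IsSolvable ((X ⧸ Nt) ⧸ (G.comap π).map (QuotientGroup.mk' Nt)) := by
  have h1 := isSolvable_quotient_comap π G hs
  exact isSolvable_quotient_map (QuotientGroup.mk' Nt) (QuotientGroup.mk'_surjective Nt)
    (G.comap π) h1

/-- a version of `isSolvable_quotient_comap` with the preimage given up to equality -/
theorem isSolvable_quotient_of_eq_comap {X' Y' : Type u} [Group X'] [Group Y'] (f : X' →* Y')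
    (H : Subgroup Y') [hH : H.Normal] (K : Subgroup X') [hK : K.Normal] (hKH : K = H.comap f)
    (hs : Group.IsSolvable (Y' ⧸ H)) : Group.IsSolvable (X' ⧸ K) := by
  subst hKH
  exact isSolvable_quotient_comap f H hs

/-- a version of `isSolvable_quotient_map` with the image given up to equality -/
theorem isSolvable_quotient_of_eq_map {X' Y' : Type u} [Group X'] [Group Y'] (q : X' →* Y')
    (hq : Function.Surjective q) (A : Subgroup X') [hA : A.Normal] (B : Subgroup Y')
    [hB : B.Normal] (hBA : B = A.map q) (hs : Group.IsSolvable (X' ⧸ A)) :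
    Group.IsSolvable (Y' ⧸ B) := by
  subst hBA
  exact isSolvable_quotient_map q hq A hs

/-- solvability of `G ⧸ N` passes to the corresponding section of `X ⧸ Nt` -/
theorem isSolvable_section_comap_map_mk (hNG : N ≤ G) [hNn : (N.subgroupOf G).Normal]
    [hZn : (((N.comap π).map (QuotientGroup.mk' Nt)).subgroupOf
      ((G.comap π).map (QuotientGroup.mk' Nt))).Normal]
    (hs : Group.IsSolvable (G ⧸ N.subgroupOf G)) :
    Group.IsSolvable (↥((G.comap π).map (QuotientGroup.mk' Nt)) ⧸
      ((N.comap π).map (QuotientGroup.mk' Nt)).subgroupOf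
        ((G.comap π).map (QuotientGroup.mk' Nt))) := by
  have hXNG : N.comap π ≤ G.comap π := Subgroup.comap_mono hNG
  haveI hmid : ((N.comap π).subgroupOf (G.comap π)).Normal := by
    have : (N.comap π).subgroupOf (G.comap π) = (N.subgroupOf G).comap (π.subgroupComap G) := by
      ext x
      rfl
    rw [this]
    infer_instance
  have h1 : Group.IsSolvable (↥(G.comap π) ⧸ (N.comap π).subgroupOf (G.comap π)) := by
    apply isSolvable_quotient_of_eq_comap (π.subgroupComap G) (N.subgroupOf G) _ _ hs
    ext x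
    rfl
  apply isSolvable_quotient_of_eq_map ((QuotientGroup.mk' Nt).subgroupMap (G.comap π))
    (MonoidHom.subgroupMap_surjective _ _) ((N.comap π).subgroupOf (G.comap π)) _ _ h1
  ext y
  rw [Subgroup.mem_subgroupOf, Subgroup.mem_map]
  constructor
  · rintro ⟨h, hh, hy⟩
    refine ⟨⟨h, hXNG hh⟩, Subgroup.mem_subgroupOf.mpr hh, ?_⟩
    apply Subtype.ext
    exact hy
  · rintro ⟨x, hx, rfl⟩
    exact ⟨x, Subgroup.mem_subgroupOf.mp hx, rfl⟩

end Cfsg.Agent.Helper6
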