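import Mathlib
import Cfsg.Prelude.Def_Characters
import Cfsg.Agent.Helper6.TripC
import Cfsg.Agent.Helper6.TripE
import Cfsg.Agent.Helper6.TripG
import Cfsg.Agent.Helper6.Gallagher
import Cfsg.Agent.Helper6.PCGroupA
import Cfsg.Agent.Helper6.CharBasic

/-!
# Invariant irreducible characters over an invariant character: the covering argument

Given a covering `π : X →* Γ` with a character `τ` of `X` extending (a copy of) the invariant
character `θ` of `N`, and a quotient `q : X →* Q` killing the copy of `N`, an invariant irreducible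
character of the image of `G` over the central image of `N` yields an invariant irreducible
character of `G` over `θ`.
-/

set_option autoImplicit false
set_option linter.style.haveILetI false

namespace Cfsg.Agent.Helper6

universe u

/-- Let `G` be a normal subgroup of the finite group `Q` and `Z ≤ G` a central subgroup of `Q`
with `|G : Z|` and `|Q : G|` coprime and `Q / G` or `G / Z` solvable. Then over every linear
character `ω` of `Z` there lies a `Q`-invariant irreducible character of `G`; its values on `Z`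
are the multiples of `ω` by its degree. -/
theorem exists_invariant_over_central {Q : Type u} [Group Q] [Fintype Q] (G Z : Subgroup Q)
    [hG : G.Normal] [Fintype G] [Fintype Z] (hZG : Z ≤ G) (hZc : Z ≤ Subgroup.center Q)
    (hcop : (Z.relIndex G).Coprime G.index) [hZn : (Z.subgroupOf G).Normal]
    (hsolv : Group.IsSolvable (Q ⧸ G) ∨ Group.IsSolvable (G ⧸ Z.subgroupOf G)) (ω : Z →* ℂˣ) :
    ∃ β : G → ℂ, Cfsg.IsIrrCharacter G β ∧
      (∀ (y : Q) (g : G), β ⟨y * g * y⁻¹, hG.conj_mem g g.2 y⟩ = β g) ∧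
      (∀ z : Z, β ⟨z, hZG z.2⟩ = ((ω z : ℂˣ) : ℂ) * β 1) := by
  have key : ∃ β : G → ℂ, Cfsg.IsIrrCharacter G β ∧
      (∀ (y : Q) (g : G), β ⟨y * g * y⁻¹, hG.conj_mem g g.2 y⟩ = β g) ∧
      Cfsg.classInner (fun u : Z => β ⟨u, hZG u.2⟩) (fun u => ((ω u : ℂˣ) : ℂ)) ≠ 0 := by
    rcases hsolv with h | h
    · exact exists_invariant_over_central_b G Z hZG hZc hcop h ω
    · exact exists_invariant_over_central_a G Z hZG hZc hcop hZn h ω
  obtain ⟨β, hβ, hinv, hne⟩ := key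
  exact ⟨β, hβ, hinv, irr_apply_central_of_le G Z hZG hZc ω ⟨β, hβ⟩ hne⟩

variable {X Γ : Type u} [Group X] [Group Γ]

set_option maxHeartbeats 1600000 in
/-- the covering argument, with the quotient group given abstractly -/
theorem exists_invariant_of_cover_aux [Finite X] (π : X →* Γ) (hπ : Function.Surjective π)
    {Q : Type u} [Group Q] (q : X →* Q) (hq : Function.Surjective q)
    (Nt : Subgroup X) [hNt : Nt.Normal] (hker : ∀ x : X, q x = 1 ↔ x ∈ Nt)
    (G N : Subgroup Γ) [hG : G.Normal] (hNG : N ≤ G) (hNtN : Nt ≤ N.comap π)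
    (GQ ZQ : Subgroup Q) [hGQn : GQ.Normal]
    (hGQ1 : ∀ x, π x ∈ G → q x ∈ GQ) (hGQ2 : ∀ y ∈ GQ, ∃ x, π x ∈ G ∧ q x = y)
    (hZQ1 : ∀ x, π x ∈ N → q x ∈ ZQ) (hZQ2 : ∀ y ∈ ZQ, ∃ x, π x ∈ N ∧ q x = y)
    (hZc : ZQ ≤ Subgroup.center Q)
    (hcop : (ZQ.relIndex GQ).Coprime GQ.index) [hZn : (ZQ.subgroupOf GQ).Normal]
    (hsolv : Group.IsSolvable (Q ⧸ GQ) ∨ Group.IsSolvable (GQ ⧸ ZQ.subgroupOf GQ))
    (τ : X → ℂ) (hτ : Cfsg.IsCharacter X τ)
    (hτN : Cfsg.IsIrrCharacter Nt (fun n : Nt => τ n))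
    (ν : ↥(N.comap π) →* ℂˣ) (hν1 : ∀ k : ↥(N.comap π), (k : X) ∈ Nt → ν k = 1)
    (θ : N → ℂ) (hν2 : ∀ x : ↥(N.comap π), θ ⟨π x, x.2⟩ = ((ν x : ℂˣ) : ℂ) * τ x) :
    ∃ (χ : G → ℂ) (b : ℂ), Cfsg.IsIrrCharacter G χ ∧ b ≠ 0 ∧
      (∀ x : ↥(N.comap π), χ ⟨π x, hNG x.2⟩ = b * θ ⟨π x, x.2⟩) ∧
      (∀ (y : Γ) (g : G), χ ⟨y * g * y⁻¹, hG.conj_mem g g.2 y⟩ = χ g) := by
  classical
  haveI : Finite Γ := Finite.of_surjective π hπ
  haveI : Finite Q := Finite.of_surjective q hq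
  haveI : Fintype Q := Fintype.ofFinite Q
  haveI : Fintype GQ := Fintype.ofFinite _
  haveI : Fintype ZQ := Fintype.ofFinite _
  haveI : Fintype X := Fintype.ofFinite X
  haveI : Fintype Nt := Fintype.ofFinite _
  haveI : Fintype ↥(G.comap π) := Fintype.ofFinite _
  have hZG : ZQ ≤ GQ := by
    intro y hy
    obtain ⟨x, hx, rfl⟩ := hZQ2 y hy
    exact hGQ1 x (hNG hx)
  -- the restrictions of `q`
  obtain ⟨qG, hqG⟩ : ∃ qG : ↥(G.comap π) →* ↥GQ, ∀ x, ((qG x : GQ) : Q) = q x :=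
    ⟨(q.comp (G.comap π).subtype).codRestrict GQ (fun x => hGQ1 x x.2), fun x => rfl⟩
  have hqGsurj : Function.Surjective qG := by
    intro y
    obtain ⟨x, hx, hxy⟩ := hGQ2 y y.2
    refine ⟨⟨x, hx⟩, Subtype.ext ?_⟩
    rw [hqG]
    exact hxy
  obtain ⟨qN, hqN⟩ : ∃ qN : ↥(N.comap π) →* ↥ZQ, ∀ x, ((qN x : ZQ) : Q) = q x :=
    ⟨(q.comp (N.comap π).subtype).codRestrict ZQ (fun x => hZQ1 x x.2), fun x => rfl⟩
  have hqNsurj : Function.Surjective qN := by
    intro y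
    obtain ⟨x, hx, hxy⟩ := hZQ2 y y.2
    refine ⟨⟨x, hx⟩, Subtype.ext ?_⟩
    rw [hqN]
    exact hxy
  have hkerν : qN.ker ≤ ν.ker := by
    intro k hk
    rw [MonoidHom.mem_ker] at hk ⊢
    apply hν1
    rw [← hker, ← hqN, hk]
    rfl
  obtain ⟨ω, hω⟩ : ∃ ω : ZQ →* ℂˣ, ∀ x : ↥(N.comap π), ω (qN x) = ν x := by
    refine ⟨qN.liftOfSurjective hqNsurj ⟨ν, hkerν⟩, fun x => ?_⟩
    rw [MonoidHom.liftOfRightInverse_comp_apply]
  obtain ⟨β, hβ, hβinv, hβZ⟩ := exists_invariant_over_central GQ ZQ hZG hZc hcop hsolv ω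
  -- the inflation of `β`
  have hβt : Cfsg.IsIrrCharacter ↥(G.comap π) (β ∘ qG) :=
    isIrrCharacter_comp_of_surjective qG hqGsurj hβ
  -- the restriction of `τ`
  have hτG : Cfsg.IsCharacter ↥(G.comap π) (fun x => τ x) := IsCharacter.restrict (G.comap π) hτ
  have hNtG : Nt ≤ G.comap π := hNtN.trans (Subgroup.comap_mono hNG)
  have hτGirr : Cfsg.IsIrrCharacter ↥(G.comap π) (fun x => τ x) := by
    apply isIrrCharacter_of_comp_irr (Subgroup.inclusion hNtG) hτG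
    exact hτN
  have hτNG : Cfsg.IsIrrCharacter (Nt.subgroupOf (G.comap π))
      (fun n : Nt.subgroupOf (G.comap π) => (fun x : ↥(G.comap π) => τ x) n) := by
    have := IsIrrCharacter.comp_mulEquiv (Subgroup.subgroupOfEquivOfLe hNtG) hτN
    exact this
  have hgal := gallagher_irr (Nt.subgroupOf (G.comap π)) hτGirr hτNG ⟨β ∘ qG, hβt⟩ (by
    intro n hn
    show β (qG n) = β (qG 1)
    congr 1
    rw [map_one]
    apply Subtype.ext
    rw [hqG, Subgroup.coe_one, hker]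
    exact Subgroup.mem_subgroupOf.mp hn)
  -- values over `N`
  have hval : ∀ (x : ↥(G.comap π)) (hx : π x ∈ N),
      ((β ∘ qG) * fun x : ↥(G.comap π) => τ x) x = β 1 * θ ⟨π x, hx⟩ := by
    intro x hx
    rw [Pi.mul_apply, Function.comp_apply]
    have h1 : qG x = ⟨(qN ⟨x, hx⟩ : ZQ), hZG (qN ⟨x, hx⟩).2⟩ := by
      apply Subtype.ext
      rw [hqG]
      exact (hqN ⟨x, hx⟩).symm
    rw [h1, hβZ, hω, hν2 ⟨x, hx⟩]
    ring
  -- deflation
  obtain ⟨πG, hπG⟩ : ∃ πG : ↥(G.comap π) →* ↥G, ∀ x, ((πG x : G) : Γ) = π x :=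
    ⟨π.subgroupComap G, fun x => rfl⟩
  have hπGsurj : Function.Surjective πG := by
    intro g
    obtain ⟨x, hx⟩ := hπ g
    refine ⟨⟨x, ?_⟩, Subtype.ext ?_⟩
    · rw [Subgroup.mem_comap, hx]
      exact g.2
    · rw [hπG]
      exact hx
  obtain ⟨χ, hχ⟩ := exists_deflate_of_surjective πG hπGsurj ⟨_, hgal⟩ (by
    intro k hk
    have hk1 : π k = 1 := by
      rw [← hπG, MonoidHom.mem_ker.mp hk]
      rfl
    have hkN : π k ∈ N := by
      rw [hk1]
      exact N.one_mem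
    have h1N : π ((1 : ↥(G.comap π)) : X) ∈ N := by
      rw [Subgroup.coe_one, map_one]
      exact N.one_mem
    show ((β ∘ qG) * fun x : ↥(G.comap π) => τ x) k = ((β ∘ qG) * fun x : ↥(G.comap π) => τ x) 1
    rw [hval k hkN, hval 1 h1N]
    congr 2
    apply Subtype.ext
    show π k = π ((1 : ↥(G.comap π)) : X)
    rw [hk1, Subgroup.coe_one, map_one])
  have hχ' : ∀ x : ↥(G.comap π), (χ : G → ℂ) (πG x) =
      ((β ∘ qG) * fun x : ↥(G.comap π) => τ x) x := by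
    intro x
    have := congrFun hχ x
    rw [Function.comp_apply] at this
    exact this.symm
  refine ⟨χ, β 1, χ.2, IsIrrCharacter.apply_one_ne_zero hβ, ?_, ?_⟩
  · intro x
    have h1 : (⟨π x, hNG x.2⟩ : G) = πG ⟨x, hNG x.2⟩ := by
      apply Subtype.ext
      rw [hπG]
    rw [h1, hχ']
    exact hval ⟨x, hNG x.2⟩ x.2
  · intro y g
    obtain ⟨yt, rfl⟩ := hπ y
    obtain ⟨gt, rfl⟩ := hπGsurj g
    have hmem : yt * (gt : X) * yt⁻¹ ∈ G.comap π :=
      (inferInstance : (G.comap π).Normal).conj_mem _ gt.2 yt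
    have h1 : (⟨π yt * ((πG gt : G) : Γ) * (π yt)⁻¹, hG.conj_mem _ (πG gt).2 (π yt)⟩ : G) =
        πG ⟨yt * gt * yt⁻¹, hmem⟩ := by
      apply Subtype.ext
      show π yt * ((πG gt : G) : Γ) * (π yt)⁻¹ = ((πG ⟨yt * gt * yt⁻¹, hmem⟩ : G) : Γ)
      rw [hπG, hπG, map_mul, map_mul, map_inv]
    rw [h1, hχ', hχ', Pi.mul_apply, Pi.mul_apply, Function.comp_apply, Function.comp_apply]
    congr 1
    · have h2 := hβinv (q yt) (qG gt)
      rw [← h2]
      congr 1
      apply Subtype.ext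
      show ((qG ⟨yt * gt * yt⁻¹, hmem⟩ : GQ) : Q) = q yt * ((qG gt : GQ) : Q) * (q yt)⁻¹
      rw [hqG, hqG, map_mul, map_mul, map_inv]
    · exact IsCharacter.isClassFunction hτ (gt : X) yt

end Cfsg.Agent.Helper6
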