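import Mathlib
import Cfsg.Prelude.Def_Characters
import Cfsg.Agent.Helper6.TripH
import Cfsg.Agent.Helper6.CharTripleF
import Cfsg.Agent.Helper6.ClassInner

/-!
# Invariant irreducible constituents of an induced invariant character

Let `N ≤ G` be normal subgroups of the finite group `Γ` with `|Γ : G|` coprime to `|G : N|` and
`Γ / G` or `G / N` solvable.  Over every `Γ`-invariant irreducible character of `N` there lies a
`Γ`-invariant irreducible character of `G`.
-/

set_option autoImplicit false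
set_option linter.style.haveILetI false

namespace Cfsg.Agent.Helper6

universe u

variable {Γ : Type u} [Group Γ]

variable (N : Subgroup Γ) [hN : N.Normal] {d : ℕ} (ρ : Representation ℂ N (Fin d → ℂ))

/-- the copy of `N` in the central extension lies over `N` -/
theorem tripleEmb_range_le_comap [Finite N] :
    (tripleEmb N ρ).range ≤ N.comap (tripleProj N ρ) := by
  rintro _ ⟨n, rfl⟩
  rw [Subgroup.mem_comap, tripleProj_tripleEmb]
  exact n.2

/-- commutators with elements over `N` lie in the copy of `N` -/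
theorem comm_mem_tripleEmb_range [Finite N] [hirr : ρ.IsIrreducible] :
    ∀ h ∈ N.comap (tripleProj N ρ), ∀ x : tripleGroup N ρ,
      h * x * h⁻¹ * x⁻¹ ∈ (tripleEmb N ρ).range := by
  intro h hh x
  rw [Subgroup.mem_comap] at hh
  obtain ⟨n₀, hn₀⟩ : ∃ n₀ : N, (n₀ : Γ) = tripleProj N ρ h := ⟨⟨_, hh⟩, rfl⟩
  obtain ⟨a, ha⟩ : ∃ a : tripleGroup N ρ, a = (tripleEmb N ρ n₀)⁻¹ * h := ⟨_, rfl⟩
  have hah : h = tripleEmb N ρ n₀ * a := by rw [ha]; group
  have haker : a ∈ (tripleProj N ρ).ker := by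
    rw [MonoidHom.mem_ker, ha, map_mul, map_inv, tripleProj_tripleEmb, hn₀]
    exact inv_mul_cancel _
  have hac := Subgroup.mem_center_iff.mp (tripleProj_ker_le_center N ρ haker)
  have h1 : h * x * h⁻¹ * x⁻¹ = tripleEmb N ρ n₀ *
      (x * (tripleEmb N ρ n₀)⁻¹ * x⁻¹) := by
    rw [hah]
    have h2 : a * x = x * a := (hac x).symm
    calc tripleEmb N ρ n₀ * a * x * (tripleEmb N ρ n₀ * a)⁻¹ * x⁻¹
        = tripleEmb N ρ n₀ * (a * x) * a⁻¹ * (tripleEmb N ρ n₀)⁻¹ * x⁻¹ := by group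
      _ = tripleEmb N ρ n₀ * (x * a) * a⁻¹ * (tripleEmb N ρ n₀)⁻¹ * x⁻¹ := by rw [h2]
      _ = tripleEmb N ρ n₀ * (x * (tripleEmb N ρ n₀)⁻¹ * x⁻¹) := by group
  rw [h1]
  apply Subgroup.mul_mem (tripleEmb N ρ).range ⟨_, rfl⟩
  rw [← map_inv, conj_tripleEmb]
  exact ⟨_, rfl⟩

/-- the character of the central extension restricts irreducibly to the copy of `N` -/
theorem tripleRep_restrict_range_isIrrCharacter [Finite Γ] [hirr : ρ.IsIrreducible] :
    Cfsg.IsIrrCharacter (tripleEmb N ρ).range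
      (fun k : (tripleEmb N ρ).range => (tripleRep N ρ).character k) := by
  haveI := tripleGroup_finite N ρ
  obtain ⟨e₀, he₀⟩ : ∃ e₀ : (tripleEmb N ρ).range ≃* N,
      e₀ = (MonoidHom.ofInjective (tripleEmb_injective N ρ)).symm := ⟨_, rfl⟩
  have he₀app : ∀ k : (tripleEmb N ρ).range, tripleEmb N ρ (e₀ k) = k := by
    intro k
    rw [he₀]
    exact MonoidHom.apply_ofInjective_symm (tripleEmb_injective N ρ) k
  have hτfun : (fun k : (tripleEmb N ρ).range => (tripleRep N ρ).character k) =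
      ρ.character ∘ e₀ := by
    funext k
    rw [Function.comp_apply]
    conv_lhs => rw [← he₀app k]
    rfl
  rw [hτfun]
  exact IsIrrCharacter.comp_mulEquiv e₀ ⟨d, ρ, hirr, rfl⟩

/-- the scalar homomorphism on the preimage of `N` comparing `ρ` with the representation of the
central extension -/
theorem exists_tripleScalar [Finite N] [hirr : ρ.IsIrreducible] :
    ∃ ν : ↥(N.comap (tripleProj N ρ)) →* ℂˣ,
      (∀ k : ↥(N.comap (tripleProj N ρ)),
        (k : tripleGroup N ρ) ∈ (tripleEmb N ρ).range → ν k = 1) ∧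
      (∀ x : ↥(N.comap (tripleProj N ρ)), ρ.character ⟨tripleProj N ρ x, x.2⟩ =
        ((ν x : ℂˣ) : ℂ) * (tripleRep N ρ).character x) := by
  haveI : Nontrivial (Fin d → ℂ) := irr_nontrivial ρ
  obtain ⟨ν, hν⟩ := exists_scalarHom N ρ N le_rfl ρ (LinearEquiv.refl ℂ (Fin d → ℂ))
    (fun n => rfl)
  have hν' : ∀ x : ↥(N.comap (tripleProj N ρ)), ρ ⟨tripleProj N ρ x.1, x.2⟩ =
      ((ν x : ℂˣ) : ℂ) • tripleRep N ρ x.1 := fun x => hν x
  refine ⟨ν, ?_, ?_⟩
  · rintro ⟨_, hk⟩ ⟨n, rfl⟩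
    have h1 := hν' ⟨tripleEmb N ρ n, hk⟩
    have h2 : ρ n = ((ν ⟨tripleEmb N ρ n, hk⟩ : ℂˣ) : ℂ) • ρ n := h1
    have h3 := scalar_unique_of_unit (MonoidHom.toHomUnits ρ n)
      ((ν ⟨tripleEmb N ρ n, hk⟩ : ℂˣ) : ℂ) 1 (by
        rw [one_smul]
        exact h2.symm)
    exact Units.ext h3
  · intro x
    unfold Representation.character
    rw [hν' x, map_smul, smul_eq_mul]

end Cfsg.Agent.Helper6
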