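import Mathlib
import Cfsg.Prelude.Def_Characters
import Cfsg.Prelude.Def_BlockLocal
import Cfsg.Prelude.Def_Blocks
import Cfsg.Agent.Helper6.RMcKCtrC
import Cfsg.Agent.Helper6.TripI
import Cfsg.Agent.Helper6.Linear

/-!
# The character-triple reduction: instantiation with the central extension `tripleGroup`
-/

set_option autoImplicit false
set_option linter.style.haveILetI false
set_option linter.unusedSimpArgs false
set_option linter.unusedSectionVars false
set_option linter.unusedVariables false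

namespace Cfsg.Agent.Helper6.RMcK

open Cfsg.Agent.Helper6
open scoped ComplexConjugate

universe u

variable {Γ : Type u} [Group Γ] [Finite Γ]

/-- irreducibility of a restriction is transported along an equality of subgroups -/
theorem irr_restrict_of_eq {X : Type u} [Group X] (τ : X → ℂ) (A B : Subgroup X) (hAB : A = B)
    (h : Cfsg.IsIrrCharacter B (fun k : B => τ k)) :
    Cfsg.IsIrrCharacter A (fun k : A => τ k) := by
  subst hAB
  exact h

/-- the character-triple reduction: a `G`-invariant irreducible character `ν` of `L ⊴ G` is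
replaced by a linear character `lam` of a central subgroup of a new ambient group `Q`, compatibly
with counts of characters of all intermediate subgroups -/
theorem ctrX (G L : Subgroup Γ) (hLG : L ≤ G) (hnorm : G ≤ Subgroup.normalizer (L : Set Γ))
    (ν : L → ℂ) (hν : Cfsg.IsIrrCharacter L ν) (hinvG : G ≤ inertia L ν) :
    ∃ (X Q : Type u) (_ : Group X) (_ : Group Q) (_ : Finite X) (_ : Finite Q)
      (f : X →* Γ) (q : X →* Q) (lam : ↥((L.comap f).map q) →* ℂˣ),
      Function.Surjective q ∧ f.range = G ∧ q.ker ≤ L.comap f ∧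
      (∀ h ∈ L.comap f, ∀ x : X, h * x * h⁻¹ * x⁻¹ ∈ q.ker) ∧
      ∀ (H : Subgroup Γ) (hLH : L ≤ H) (hHG : H ≤ G) (Pd : ℕ → Prop),
        Nat.card {χ : Cfsg.IrrCharacter H //
          Pd (Cfsg.charDegree (χ : H → ℂ)) ∧ Ov hLH (χ : H → ℂ) ν} =
        Nat.card {β : Cfsg.IrrCharacter ↥((H.comap f).map q) //
          Pd (Cfsg.charDegree ν * Cfsg.charDegree (β : ↥((H.comap f).map q) → ℂ)) ∧
          Ov (Subgroup.map_mono (Subgroup.comap_mono hLH) :
            (L.comap f).map q ≤ (H.comap f).map q) (β : ↥((H.comap f).map q) → ℂ)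
            (fun z => ((lam z : ℂˣ) : ℂ))} := by
  classical
  haveI hn : (L.subgroupOf G).Normal :=
    (Subgroup.normal_subgroupOf_iff_le_normalizer hLG).mpr hnorm
  have hν' := irr_subgroupOf hLG hν
  obtain ⟨d, ρ, hirr, hρ⟩ := hν'
  haveI := hirr
  have hinvρ : ∀ (g : G) (n : L.subgroupOf G),
      ρ.character (cj (L.subgroupOf G) g n) = ρ.character n := by
    intro g n
    rw [hρ]
    exact inv_subgroupOf hLG ν hinvG hn g n
  haveI hXfin : Finite (tripleGroup (L.subgroupOf G) ρ) := tripleGroup_finite (L.subgroupOf G) ρ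
  have hsurj := tripleProj_surjective (L.subgroupOf G) ρ hinvρ
  -- the maps
  obtain ⟨f, hf⟩ : ∃ f : tripleGroup (L.subgroupOf G) ρ →* Γ,
      f = G.subtype.comp (tripleProj (L.subgroupOf G) ρ) := ⟨_, rfl⟩
  obtain ⟨q, hqdef⟩ : ∃ q : tripleGroup (L.subgroupOf G) ρ →*
      (tripleGroup (L.subgroupOf G) ρ ⧸ (tripleEmb (L.subgroupOf G) ρ).range),
      q = QuotientGroup.mk' (tripleEmb (L.subgroupOf G) ρ).range := ⟨_, rfl⟩
  have hq : Function.Surjective q := by
    rw [hqdef]
    exact QuotientGroup.mk'_surjective _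
  have hker : q.ker = (tripleEmb (L.subgroupOf G) ρ).range := by
    rw [hqdef]
    exact QuotientGroup.ker_mk' _
  have hfapp : ∀ x, f x = ((tripleProj (L.subgroupOf G) ρ x : G) : Γ) := by
    intro x
    rw [hf]
    rfl
  have hrange : f.range = G := by
    apply le_antisymm
    · rintro _ ⟨x, rfl⟩
      rw [hfapp]
      exact (tripleProj (L.subgroupOf G) ρ x).2
    · intro g hg
      obtain ⟨x, hx⟩ := hsurj ⟨g, hg⟩
      refine ⟨x, ?_⟩
      rw [hfapp, hx]
  have hcomap : L.comap f = (L.subgroupOf G).comap (tripleProj (L.subgroupOf G) ρ) := by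
    ext x
    rw [Subgroup.mem_comap, Subgroup.mem_comap, Subgroup.mem_subgroupOf, hfapp]
  have hKL : q.ker ≤ L.comap f := by
    rw [hker, hcomap]
    exact tripleEmb_range_le_comap (L.subgroupOf G) ρ
  have hcen : ∀ h ∈ L.comap f, ∀ x : tripleGroup (L.subgroupOf G) ρ,
      h * x * h⁻¹ * x⁻¹ ∈ q.ker := by
    intro h hh x
    rw [hker]
    rw [hcomap] at hh
    exact comm_mem_tripleEmb_range (L.subgroupOf G) ρ h hh x
  -- the characters
  obtain ⟨τ, hτdef⟩ : ∃ τ : tripleGroup (L.subgroupOf G) ρ → ℂ,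
      τ = (tripleRep (L.subgroupOf G) ρ).character := ⟨_, rfl⟩
  have hτ : Cfsg.IsCharacter (tripleGroup (L.subgroupOf G) ρ) τ :=
    ⟨d, tripleRep (L.subgroupOf G) ρ, hτdef.symm⟩
  have hτK : Cfsg.IsIrrCharacter q.ker (fun k : q.ker => τ k) := by
    apply irr_restrict_of_eq τ _ _ hker
    rw [hτdef]
    exact tripleRep_restrict_range_isIrrCharacter (L.subgroupOf G) ρ
  obtain ⟨nt₀, hnt₀1, hnt₀2⟩ := exists_tripleScalar (L.subgroupOf G) ρ
  obtain ⟨nt, hnt⟩ : ∃ nt : ↥(L.comap f) →* ℂˣ,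
      ∀ x : L.comap f, nt x = nt₀ ⟨x, by rw [← hcomap]; exact x.2⟩ := by
    refine ⟨nt₀.comp (Subgroup.inclusion (le_of_eq hcomap)), ?_⟩
    intro x
    rfl
  have hnt1 : ∀ x : L.comap f, (x : tripleGroup (L.subgroupOf G) ρ) ∈ q.ker → nt x = 1 := by
    intro x hx
    rw [hnt]
    apply hnt₀1
    rw [← hker]
    exact hx
  have hnt2 : ∀ x : L.comap f, ν ⟨f x, x.2⟩ = ((nt x : ℂˣ) : ℂ) * τ x := by
    intro x
    rw [hnt, hτdef]
    have h1 := hnt₀2 ⟨x, by rw [← hcomap]; exact x.2⟩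
    rw [← h1, hρ, Function.comp_apply]
    congr 1
    apply Subtype.ext
    show f x = _
    rw [hfapp]
    rfl
  -- the linear character
  obtain ⟨qL, hqL⟩ : ∃ qL : ↥(L.comap f) →* ↥((L.comap f).map q),
      ∀ x : L.comap f, qL x = ⟨q x, Subgroup.mem_map_of_mem q x.2⟩ :=
    ⟨q.subgroupMap (L.comap f), fun x => rfl⟩
  have hqLsurj : Function.Surjective qL := by
    rintro ⟨y, x, hx, rfl⟩
    exact ⟨⟨x, hx⟩, hqL _⟩
  have hkerL : qL.ker ≤ nt.ker := by
    intro x hx
    rw [MonoidHom.mem_ker, hqL] at hx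
    rw [MonoidHom.mem_ker]
    apply hnt1
    rw [MonoidHom.mem_ker]
    exact congrArg Subtype.val hx
  obtain ⟨lam, hlam⟩ : ∃ lam : ↥((L.comap f).map q) →* ℂˣ,
      ∀ x : L.comap f, lam ⟨q x, Subgroup.mem_map_of_mem q x.2⟩ = nt x := by
    refine ⟨(qL.liftOfSurjective hqLsurj) ⟨nt, hkerL⟩, ?_⟩
    intro x
    rw [← hqL x]
    exact MonoidHom.liftOfRightInverse_comp_apply _ _ _ _ x
  refine ⟨tripleGroup (L.subgroupOf G) ρ,
    tripleGroup (L.subgroupOf G) ρ ⧸ (tripleEmb (L.subgroupOf G) ρ).range,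
    inferInstance, inferInstance, hXfin, inferInstance, f, q, lam, hq, hrange, hKL, hcen, ?_⟩
  intro H hLH hHG Pd
  exact ctr_count f q hq L H hLH (by rw [hrange]; exact hHG) ν hν (hHG.trans hinvG) τ hτ hτK hKL
    nt hnt1 hnt2 lam hlam hcen Pd

end Cfsg.Agent.Helper6.RMcK
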