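import Mathlib
import Cfsg.Prelude.Def_Characters
import Cfsg.Prelude.Def_BlockLocal
import Cfsg.Prelude.Def_Blocks
import Cfsg.Agent.Helper6.RMcKCtrD
import Cfsg.Agent.Helper6.RMcKStmts
import Cfsg.Agent.Helper6.RMcKGrp

/-!
# The terminal case of the relative McKay theorem from the central terminal case
-/

set_option autoImplicit false
set_option linter.style.haveILetI false
set_option linter.unusedSimpArgs false
set_option linter.unusedSectionVars false
set_option linter.unusedVariables false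

namespace Cfsg.Agent.Helper6.RMcK

open Cfsg.Agent.Helper6
open scoped ComplexConjugate

universe u

variable {Γ : Type u} [Group Γ] [Finite Γ]

/-- no character of degree prime to `p` lies over a character of degree divisible by `p` -/
theorem pcnt_eq_zero_of_dvd (p : ℕ) {L H : Subgroup Γ} (hLH : L ≤ H)
    (hnorm : H ≤ Subgroup.normalizer (L : Set Γ)) (ν : L → ℂ) (hν : Cfsg.IsIrrCharacter L ν)
    (hp : p ∣ Cfsg.charDegree ν) : pcnt p hLH ν = 0 := by
  unfold pcnt
  haveI : IsEmpty {χ : Cfsg.IrrCharacter H //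
      ¬ p ∣ Cfsg.charDegree (χ : H → ℂ) ∧ Ov hLH (χ : H → ℂ) ν} := by
    refine ⟨?_⟩
    rintro ⟨χ, hd, hov⟩
    exact pdeg_of_under p hLH hnorm (χ : H → ℂ) χ.2 ν hν hov hd hp
  exact Nat.card_of_isEmpty

/-- the terminal case follows from the central terminal case (in all finite groups of the same
universe) by the character-triple reduction -/
theorem term_of_cenP (p : ℕ) [hp : Fact p.Prime]
    (hC : ∀ (Q : Type u) [Group Q] [Finite Q], CenPStmt Q p) : TermStmt Γ p := by
  intro G L K S N hLK hKG hLN hGL hGK hSG hS hSyl hcop hGKS hN ν hν hinv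
  have hLG : L ≤ G := hLK.trans hKG
  have hNG : N ≤ G := by
    rw [hN]
    exact inf_le_left
  by_cases hpν : p ∣ Cfsg.charDegree ν
  · rw [pcnt_eq_zero_of_dvd p hLG hGL ν hν hpν,
      pcnt_eq_zero_of_dvd p hLN (hNG.trans hGL) ν hν hpν]
  obtain ⟨X, Q, _, _, _, _, f, q, lam, hq, hrange, hKL, hcen, hcount⟩ :=
    ctrX G L hLG hGL ν hν hinv
  have hGr : G ≤ f.range := le_of_eq hrange.symm
  -- the group `P`
  have hSL : S ≤ Subgroup.normalizer (L : Set Γ) := hSG.trans hGL
  have hLP : L ≤ L ⊔ S := le_sup_left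
  have hSP : S ≤ L ⊔ S := le_sup_right
  have hPG : L ⊔ S ≤ G := sup_le hLG hSG
  have hidxP : ∃ m : ℕ, L.relIndex (L ⊔ S) = p ^ m := by
    rw [relIndex_sup_of_le_normalizer hSL]
    exact IsPGroup.index hS (L.subgroupOf S)
  have hSylP : ¬ p ∣ (L ⊔ S).relIndex G := by
    intro hdvd
    apply hSyl
    rw [← Subgroup.relIndex_mul_relIndex S (L ⊔ S) G hSP hPG]
    exact Dvd.dvd.mul_left hdvd _
  have hKP : K ⊔ (L ⊔ S) = K ⊔ S := by
    rw [← sup_assoc, sup_eq_left.mpr hLK]
  -- the images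
  have hmono : ∀ {A B : Subgroup Γ}, A ≤ B → (A.comap f).map q ≤ (B.comap f).map q :=
    fun h => Subgroup.map_mono (Subgroup.comap_mono h)
  have hnormΦ : ∀ H : Subgroup Γ, L ≤ H → H ≤ G → G ≤ Subgroup.normalizer (H : Set Γ) →
      (G.comap f).map q ≤
        Subgroup.normalizer ((((H.comap f).map q : Subgroup Q)) : Set Q) := by
    intro H hLH hHG hGH
    have h1 := Cfsg.Agent.Helper5.RMcK.LAT3_normalizer f q hq L H G hKL hLH hHG hGr
    rw [inf_eq_left.mpr hGH] at h1
    exact inf_eq_left.mp h1.symm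
  have hcopΦ : (((L.comap f).map q).relIndex ((K.comap f).map q)).Coprime p := by
    rw [Cfsg.Agent.Helper5.RMcK.LAT1_relIndex f q hq L L K hKL le_rfl hLK (hKG.trans hGr)]
    exact hcop
  have hidxΦ : ∃ m : ℕ, ((L.comap f).map q).relIndex (((L ⊔ S).comap f).map q) = p ^ m := by
    rw [Cfsg.Agent.Helper5.RMcK.LAT1_relIndex f q hq L L (L ⊔ S) hKL le_rfl hLP (hPG.trans hGr)]
    exact hidxP
  have hSylΦ : ¬ p ∣ (((L ⊔ S).comap f).map q).relIndex ((G.comap f).map q) := by
    rw [Cfsg.Agent.Helper5.RMcK.LAT1_relIndex f q hq L (L ⊔ S) G hKL hLP hPG hGr]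
    exact hSylP
  have hKPΦ : (G.comap f).map q ≤ Subgroup.normalizer
      ((((K.comap f).map q ⊔ ((L ⊔ S).comap f).map q : Subgroup Q)) : Set Q) := by
    rw [← Cfsg.Agent.Helper5.RMcK.LAT2_sup f q K (L ⊔ S) (hKG.trans hGr) (hPG.trans hGr), hKP]
    exact hnormΦ (K ⊔ S) (hLK.trans le_sup_left) (sup_le hKG hSG) hGKS
  have hNΦ : (N.comap f).map q = (G.comap f).map q ⊓
      Subgroup.normalizer (((((L ⊔ S).comap f).map q : Subgroup Q)) : Set Q) := by
    rw [hN]
    exact Cfsg.Agent.Helper5.RMcK.LAT3_normalizer f q hq L (L ⊔ S) G hKL hLP hPG hGr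
  have hlamirr : Cfsg.IsIrrCharacter ↥((L.comap f).map q) (fun z => ((lam z : ℂˣ) : ℂ)) :=
    isIrrCharacter_of_hom lam
  have hmain := hC Q ((G.comap f).map q) ((L.comap f).map q) ((K.comap f).map q)
    (((L ⊔ S).comap f).map q) ((N.comap f).map q) (hmono hLK) (hmono hKG) (hmono hLN)
    (Cfsg.Agent.Helper5.RMcK.LAT4_central f q L G hcen) (hnormΦ K hLK hKG hGK) hcopΦ (hmono hLP) (hmono hPG) hidxΦ
    hSylΦ hKPΦ hNΦ (fun z => ((lam z : ℂˣ) : ℂ)) hlamirr
  -- the counts
  have hiff : ∀ n : ℕ, ¬ p ∣ Cfsg.charDegree ν * n ↔ ¬ p ∣ n := by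
    intro n
    rw [hp.out.dvd_mul]
    constructor
    · intro h h'
      exact h (Or.inr h')
    · rintro h (h' | h')
      · exact hpν h'
      · exact h h'
  have hcnt : ∀ (H : Subgroup Γ) (hLH : L ≤ H) (hHG : H ≤ G),
      pcnt p hLH ν = pcnt p (hmono hLH) (fun z => ((lam z : ℂˣ) : ℂ)) := by
    intro H hLH hHG
    unfold pcnt
    rw [hcount H hLH hHG (fun n => ¬ p ∣ n)]
    apply Nat.card_congr
    apply Equiv.subtypeEquivRight
    intro β
    rw [hiff]
  rw [hcnt G hLG le_rfl, hcnt N hLN hNG]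
  exact hmain

end Cfsg.Agent.Helper6.RMcK
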