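import Mathlib
import Cfsg.Prelude.Def_Characters
import Cfsg.Prelude.Def_BlockLocal
import Cfsg.Prelude.Def_Blocks
import Cfsg.Agent.Helper6.RMcKCtrE
import Cfsg.Agent.Helper6.RMcKCenE
import Cfsg.Agent.Helper8.RMcKPM
import Cfsg.Agent.Helper9.RMcKCP
import Cfsg.Agent.Helper9.RMcKD3b
import Cfsg.Agent.Helper1.RMcKMI

/-!
# The relative McKay theorem for `p`-solvable groups, ambient form: assembly of the steps
-/

set_option autoImplicit false

namespace Cfsg.Agent.Helper6.RMcK

open Cfsg.Agent.Helper6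

universe u

variable (Γ : Type u) [Group Γ] [Finite Γ] (p : ℕ) [Fact p.Prime]

/-- the structure statement behind Lemma X -/
theorem structStmt_holds : StructStmt Γ p :=
  fun W S A C hS hW hA hSW hAW hAS hC hCA hab hnc =>
    Cfsg.Agent.Helper9.RMcK.D3_lemmaX_structure p W S A C hS hW hA hSW hAW hAS hC hCA hab hnc

/-- the central case -/
theorem cenStmt_holds : CenStmt Γ p :=
  cen_of_pm (structStmt_holds Γ p) (Cfsg.Agent.Helper8.RMcK.pmStmt p)

/-- the central terminal case -/
theorem cenPStmt_holds : CenPStmt Γ p :=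
  Cfsg.Agent.Helper9.RMcK.CP_cenP_of_cen p (cenStmt_holds Γ p)

/-- the terminal case -/
theorem termStmt_holds : TermStmt Γ p :=
  term_of_cenP p (fun Q _ _ => cenPStmt_holds Q p)

/-- the relative McKay theorem for `p`-solvable groups, ambient form -/
theorem mainStmt_holds : MainStmt Γ p :=
  Cfsg.Agent.Helper1.RMcK.MI_main_of_term p (termStmt_holds Γ p)

end Cfsg.Agent.Helper6.RMcK
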