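import Mathlib
import Cfsg.Prelude.Def_Characters
import Cfsg.Prelude.Def_Blocks
import Cfsg.Agent.Helper6.BlockBasic
import Cfsg.Agent.Helper6.BlockUnion
import Cfsg.Agent.Helper6.InducedPart

/-!
# Pairing classes with their inverses modulo 2 (towards S4517, S4490)
-/

set_option autoImplicit false
set_option linter.style.haveILetI false

namespace Cfsg.Agent.Helper6

open scoped ComplexConjugate

universe u

variable {G : Type u} [Group G] {M : Ideal Cfsg.AlgInt}

/-- a natural number attached to the conjugacy class of `g`, separating the classes -/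
noncomputable def classKey [Fintype G] (g : G) : ℕ :=
  sInf {n : ℕ | ∃ x : G, IsConj g x ∧ ((Fintype.equivFin G x : Fin (Fintype.card G)) : ℕ) = n}

theorem classKey_conj [Fintype G] (g h : G) : classKey (h * g * h⁻¹) = classKey g := by
  unfold classKey
  congr 1
  ext n
  constructor
  · rintro ⟨x, hx, hn⟩
    refine ⟨x, ?_, hn⟩
    exact (isConj_iff.mpr ⟨h, rfl⟩ : IsConj g (h * g * h⁻¹)).trans hx
  · rintro ⟨x, hx, hn⟩
    refine ⟨x, ?_, hn⟩
    exact (isConj_iff.mpr ⟨h, rfl⟩ : IsConj g (h * g * h⁻¹)).symm.trans hx

theorem isConj_of_classKey_eq [Fintype G] {g g' : G} (h : classKey g = classKey g') :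
    IsConj g g' := by
  have hne : ∀ g : G, {n : ℕ | ∃ x : G, IsConj g x ∧
      ((Fintype.equivFin G x : Fin (Fintype.card G)) : ℕ) = n}.Nonempty :=
    fun g => ⟨_, g, IsConj.refl g, rfl⟩
  obtain ⟨x, hx, hxn⟩ := Nat.sInf_mem (hne g)
  obtain ⟨x', hx', hxn'⟩ := Nat.sInf_mem (hne g')
  have h1 : ((Fintype.equivFin G x : Fin (Fintype.card G)) : ℕ) =
      ((Fintype.equivFin G x' : Fin (Fintype.card G)) : ℕ) := by
    rw [hxn, hxn']
    exact h
  have h2 : x = x' := (Fintype.equivFin G).injective (Fin.ext h1)
  rw [← h2] at hx'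
  exact hx.trans hx'.symm

theorem classKey_inv_conj [Fintype G] (g h : G) :
    classKey (h * g * h⁻¹)⁻¹ = classKey g⁻¹ := by
  have : (h * g * h⁻¹)⁻¹ = h * g⁻¹ * h⁻¹ := by group
  rw [this, classKey_conj]

theorem index_centralizer_inv (g : G) :
    (Subgroup.centralizer ({g⁻¹} : Set G)).index = (Subgroup.centralizer ({g} : Set G)).index := by
  congr 1
  ext x
  rw [Subgroup.mem_centralizer_singleton_iff, Subgroup.mem_centralizer_singleton_iff]
  constructor
  · intro h
    have := congrArg (fun t => g * t * g) h
    simp only [mul_assoc, inv_mul_cancel, mul_one] at this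
    simpa [mul_assoc] using this.symm
  · intro h
    have := congrArg (fun t => g⁻¹ * t * g⁻¹) h
    simp only [mul_assoc, mul_inv_cancel, mul_one] at this
    simpa [mul_assoc] using this.symm

/-- **pairing lemma**: modulo the local ideal at a maximal ideal over `2`, the sum of a class
function with local class sums, whose class sums at `g` and `g⁻¹` are congruent, is congruent to
its value at `1` plus the class sums over the real classes -/
theorem sum_sub_apply_one_memLocalIdeal [Fintype G] (hM : Cfsg.IsPModular 2 M) (F : G → ℂ)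
    (hF : Cfsg.IsClassFunction G F)
    (ha : ∀ g : G, Cfsg.MemLocalRing M
      (((Subgroup.centralizer ({g} : Set G)).index : ℂ) * F g))
    (hb : ∀ g : G, Cfsg.MemLocalIdeal M
      (((Subgroup.centralizer ({g} : Set G)).index : ℂ) * (F g⁻¹ - F g)))
    (hc : ∀ g : G, g ≠ 1 → IsConj g g⁻¹ → Cfsg.MemLocalIdeal M
      (((Subgroup.centralizer ({g} : Set G)).index : ℂ) * F g)) :
    Cfsg.MemLocalIdeal M (∑ g : G, F g - F 1) := by
  classical
  have hMm := hM.2.1
  -- the four parts
  have hsplit : ∀ g : G, F g = (if g = 1 then F g else 0) +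
      (if g ≠ 1 ∧ classKey g = classKey g⁻¹ then F g else 0) +
      (if classKey g < classKey g⁻¹ then F g else 0) +
      (if classKey g⁻¹ < classKey g then F g else 0) := by
    intro g
    by_cases h1 : g = 1
    · subst h1
      simp
    · rcases lt_trichotomy (classKey g) (classKey g⁻¹) with h | h | h
      · rw [if_neg h1, if_neg (fun hh => (ne_of_lt h) hh.2), if_pos h, if_neg (not_lt.mpr h.le)]
        ring
      · rw [if_neg h1, if_pos ⟨h1, h⟩, if_neg (by rw [h]; exact lt_irrefl _),
          if_neg (by rw [h]; exact lt_irrefl _)]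
        ring
      · rw [if_neg h1, if_neg (fun hh => (ne_of_gt h) hh.2), if_neg (not_lt.mpr h.le), if_pos h]
        ring
  have hsum : ∑ g : G, F g = F 1 +
      ∑ g : G, (if g ≠ 1 ∧ classKey g = classKey g⁻¹ then F g else 0) +
      ∑ g : G, (if classKey g < classKey g⁻¹ then F g else 0) +
      ∑ g : G, (if classKey g⁻¹ < classKey g then F g else 0) := by
    conv_lhs => rw [Finset.sum_congr rfl (fun g _ => hsplit g)]
    rw [Finset.sum_add_distrib, Finset.sum_add_distrib, Finset.sum_add_distrib,
      Finset.sum_ite_eq' Finset.univ (1 : G) F, if_pos (Finset.mem_univ _)]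
  -- the real part
  have hT2 : Cfsg.MemLocalIdeal M
      (∑ g : G, (if g ≠ 1 ∧ classKey g = classKey g⁻¹ then F g else 0)) := by
    apply sum_mem_of_conj_closed (Cfsg.MemLocalIdeal M) (memLocalIdeal_zero hMm)
      (fun x y hx hy => MemLocalIdeal.add hMm hx hy)
      (fun g => if g ≠ 1 ∧ classKey g = classKey g⁻¹ then F g else 0) ?_ ?_
      _ Finset.univ rfl (fun g _ x => Finset.mem_univ _)
    · intro g h
      have e1 : (h * g * h⁻¹ ≠ 1) ↔ g ≠ 1 := by
        constructor
        · intro hh hg
          apply hh
          rw [hg, mul_one, mul_inv_cancel]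
        · intro hh hg
          apply hh
          have := congrArg (fun t => h⁻¹ * t * h) hg
          simpa [mul_assoc] using this
      simp only [classKey_conj, classKey_inv_conj, e1, hF g h]
    · intro g
      by_cases hg : g ≠ 1 ∧ classKey g = classKey g⁻¹
      · rw [if_pos hg]
        exact hc g hg.1 (isConj_of_classKey_eq hg.2)
      · rw [if_neg hg, mul_zero]
        exact memLocalIdeal_zero hMm
  -- the fourth part, reindexed
  have hT4 : ∑ g : G, (if classKey g⁻¹ < classKey g then F g else 0) =
      ∑ g : G, (if classKey g < classKey g⁻¹ then F g⁻¹ else 0) := by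
    rw [← Equiv.sum_comp (Equiv.inv G)]
    apply Finset.sum_congr rfl
    intro g _
    simp only [Equiv.inv_apply, inv_inv]
  have hT34 : ∑ g : G, (if classKey g < classKey g⁻¹ then F g else 0) +
      ∑ g : G, (if classKey g < classKey g⁻¹ then F g⁻¹ else 0) =
      2 * ∑ g : G, (if classKey g < classKey g⁻¹ then F g else 0) +
      ∑ g : G, (if classKey g < classKey g⁻¹ then F g⁻¹ - F g else 0) := by
    rw [two_mul, add_assoc, ← Finset.sum_add_distrib, ← Finset.sum_add_distrib,
      ← Finset.sum_add_distrib]
    apply Finset.sum_congr rfl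
    intro g _
    split_ifs
    · ring
    · ring
  have hX1 : Cfsg.MemLocalRing M
      (∑ g : G, (if classKey g < classKey g⁻¹ then F g else 0)) := by
    apply sum_mem_of_conj_closed (Cfsg.MemLocalRing M) (memLocalRing_zero hMm)
      (fun x y hx hy => MemLocalRing.add hMm hx hy)
      (fun g => if classKey g < classKey g⁻¹ then F g else 0) ?_ ?_
      _ Finset.univ rfl (fun g _ x => Finset.mem_univ _)
    · intro g h
      simp only [classKey_conj, classKey_inv_conj, hF g h]
    · intro g
      split_ifs
      · exact ha g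
      · rw [mul_zero]
        exact memLocalRing_zero hMm
  have hFinv : Cfsg.IsClassFunction G (fun g => F g⁻¹) := by
    intro g h
    have : (h * g * h⁻¹)⁻¹ = h * g⁻¹ * h⁻¹ := by group
    simp only [this, hF g⁻¹ h]
  have hX2 : Cfsg.MemLocalIdeal M
      (∑ g : G, (if classKey g < classKey g⁻¹ then F g⁻¹ - F g else 0)) := by
    apply sum_mem_of_conj_closed (Cfsg.MemLocalIdeal M) (memLocalIdeal_zero hMm)
      (fun x y hx hy => MemLocalIdeal.add hMm hx hy)
      (fun g => if classKey g < classKey g⁻¹ then F g⁻¹ - F g else 0) ?_ ?_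
      _ Finset.univ rfl (fun g _ x => Finset.mem_univ _)
    · intro g h
      have := hFinv g h
      simp only at this
      simp only [classKey_conj, classKey_inv_conj, hF g h, this]
    · intro g
      split_ifs
      · exact hb g
      · rw [mul_zero]
        exact memLocalIdeal_zero hMm
  have h2 : Cfsg.MemLocalIdeal M (2 : ℂ) := by
    have := memLocalIdeal_prime hM
    simpa using this
  have hfin : ∑ g : G, F g - F 1 =
      ∑ g : G, (if g ≠ 1 ∧ classKey g = classKey g⁻¹ then F g else 0) +
      ((∑ g : G, (if classKey g < classKey g⁻¹ then F g else 0)) * 2 +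
      ∑ g : G, (if classKey g < classKey g⁻¹ then F g⁻¹ - F g else 0)) := by
    rw [hsum, hT4]
    linear_combination hT34
  rw [hfin]
  exact MemLocalIdeal.add hMm hT2 (MemLocalIdeal.add hMm (MemLocalIdeal.mul_left hMm hX1 h2) hX2)

end Cfsg.Agent.Helper6
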