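import Mathlib
import Cfsg.Prelude.Def_Characters
import Cfsg.Prelude.Def_Blocks
import Cfsg.Agent.Helper6.RealBlockA
import Cfsg.Agent.Helper6.Osima3
import Cfsg.Agent.Helper6.OsimaSupport
import Cfsg.Agent.Helper6.MinMax1
import Cfsg.Agent.Helper6.OddReal
import Cfsg.Agent.Helper6.BlockEquiv
import Cfsg.Agent.Helper6.DefectClass

/-!
# A 2-block of full defect stable under inversion of the odd order elements is principal
(S4517, S4490)
-/

set_option autoImplicit false
set_option linter.style.haveILetI false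

namespace Cfsg.Agent.Helper6

open scoped ComplexConjugate

universe u

variable {G : Type u} [Group G] {M : Ideal Cfsg.AlgInt}

/-- the class of a real element `≠ 1` of odd order has even size -/
theorem two_dvd_index_centralizer_of_real [Fintype G] (g : G) (hg1 : g ≠ 1)
    (hodd : ¬ 2 ∣ orderOf g) (hreal : IsConj g g⁻¹) :
    2 ∣ (Subgroup.centralizer ({g} : Set G)).index := by
  classical
  rw [← card_classFinset]
  have hz : ((classFinset g).card : ZMod 2) = 0 := by
    rw [Finset.card_eq_sum_ones, Nat.cast_sum]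
    apply Finset.sum_involution (fun a _ => a⁻¹)
    · intro a _
      simp only [Nat.cast_one]
      decide
    · intro a ha _ haa
      rw [mem_classFinset] at ha
      obtain ⟨t, ht⟩ := isConj_iff.mp ha
      have hord : orderOf a = orderOf g := by
        have := MulEquiv.orderOf_eq (MulAut.conj t) g
        rw [MulAut.conj_apply, ht] at this
        exact this
      have hsq : a ^ 2 = 1 := by
        rw [pow_two]
        calc a * a = a⁻¹ * a := by rw [haa]
          _ = 1 := inv_mul_cancel a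
      have hdvd := orderOf_dvd_of_pow_eq_one hsq
      rw [hord] at hdvd
      rcases (Nat.dvd_prime Nat.prime_two).mp hdvd with h | h
      · exact hg1 (orderOf_eq_one_iff.mp h)
      · exact hodd (by rw [h])
    · intro a _
      exact inv_inv a
    · intro a ha
      rw [mem_classFinset] at ha ⊢
      obtain ⟨t, ht⟩ := isConj_iff.mp ha
      apply hreal.trans
      rw [isConj_iff]
      refine ⟨t, ?_⟩
      rw [← ht]
      group
  rwa [ZMod.natCast_eq_zero_iff] at hz

/-- **a `2`-block stable under inversion on the elements of odd order, all of whose defect classes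
have odd size, is the principal block** -/
theorem eq_principalBlock_of_inv_stable [Finite G] (hM : Cfsg.IsPModular 2 M)
    (B : Set (Cfsg.IrrCharacter G)) (hB : Cfsg.IsPBlock M B)
    (h1 : ∀ g : G, ¬ 2 ∣ orderOf g → Cfsg.blockCoeff B g⁻¹ = Cfsg.blockCoeff B g)
    (h2 : ∀ χ ∈ B, ∀ g : G, ¬ 2 ∣ orderOf g → Cfsg.MemLocalIdeal M
      (Cfsg.centralChar (χ : G → ℂ) g⁻¹ - Cfsg.centralChar (χ : G → ℂ) g))
    (h3 : ∀ g : G, Cfsg.IsDefectClass M B g →
      ¬ 2 ∣ (Subgroup.centralizer ({g} : Set G)).index) :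
    B = Cfsg.principalBlock M G := by
  classical
  haveI := Fintype.ofFinite G
  haveI : Fact (Nat.Prime 2) := ⟨Nat.prime_two⟩
  have hMm := hM.2.1
  obtain ⟨χ₀, hχ₀def⟩ := hB
  have hB : Cfsg.IsPBlock M B := ⟨χ₀, hχ₀def⟩
  have hχ₀ : χ₀ ∈ B := by rw [hχ₀def]; exact mem_blockOf_self hMm χ₀
  have hχ1 : (χ₀ : G → ℂ) 1 ≠ 0 := IsIrrCharacter.apply_one_ne_zero χ₀.2
  have h2M : Cfsg.MemLocalIdeal M (2 : ℂ) := by
    have := memLocalIdeal_prime hM
    simpa using this
  have hcf := blockCoeff_isClassFunction (G := G) B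
  have hχcf := IsCharacter.isClassFunction (IsIrrCharacter.isCharacter χ₀.2)
  have hloc : ∀ g : G, Cfsg.MemLocalRing M (Cfsg.blockCoeff B g) := osima hMm B hB
  have hωloc : ∀ g : G, Cfsg.MemLocalRing M (Cfsg.centralChar (χ₀ : G → ℂ) g) := fun g =>
    memLocalRing_of_isIntegral hMm (isIntegral_centralChar χ₀ g)
  have hsing : ∀ g : G, 2 ∣ orderOf g → Cfsg.blockCoeff B g = 0 :=
    blockCoeff_eq_zero_of_singular hMm 2 hM.2.2 B hB
  -- first function
  obtain ⟨F₁, hF₁⟩ : ∃ F₁ : G → ℂ, F₁ = fun g =>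
      Cfsg.blockCoeff B g * ((χ₀ : G → ℂ) g / (χ₀ : G → ℂ) 1) := ⟨_, rfl⟩
  have hF₁cf : Cfsg.IsClassFunction G F₁ := by
    intro g h
    rw [hF₁]
    simp only [hcf g h, hχcf g h]
  have hF₁cs : ∀ g : G, ((Subgroup.centralizer ({g} : Set G)).index : ℂ) * F₁ g =
      Cfsg.blockCoeff B g * Cfsg.centralChar (χ₀ : G → ℂ) g := by
    intro g
    rw [hF₁]
    unfold Cfsg.centralChar
    ring
  have key1 := sum_sub_apply_one_memLocalIdeal hM F₁ hF₁cf ?_ ?_ ?_
  rotate_left
  · intro g
    rw [hF₁cs]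
    exact MemLocalRing.mul hMm (hloc g) (hωloc g)
  · intro g
    rw [mul_sub, ← index_centralizer_inv g, hF₁cs, index_centralizer_inv g, hF₁cs]
    by_cases hg : 2 ∣ orderOf g
    · rw [hsing g hg, hsing g⁻¹ (by rwa [orderOf_inv]), zero_mul, zero_mul, sub_zero]
      exact memLocalIdeal_zero hMm
    · rw [h1 g hg, ← mul_sub]
      exact MemLocalIdeal.mul_left hMm (hloc g) (h2 χ₀ hχ₀ g hg)
  · intro g hg1 hreal
    rw [hF₁cs]
    by_contra hcon
    have hodd : ¬ 2 ∣ orderOf g := by
      intro hg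
      apply hcon
      rw [hsing g hg, zero_mul]
      exact memLocalIdeal_zero hMm
    have ha : ¬ Cfsg.MemLocalIdeal M (Cfsg.blockCoeff B g) := by
      intro h
      apply hcon
      rw [mul_comm]
      exact MemLocalIdeal.mul_left hMm (hωloc g) h
    have hω : ¬ Cfsg.MemLocalIdeal M (Cfsg.centralChar (χ₀ : G → ℂ) g) := by
      intro h
      exact hcon (MemLocalIdeal.mul_left hMm (hloc g) h)
    have hdc : Cfsg.IsDefectClass M B g := by
      refine ⟨hloc g, ha, ?_⟩
      intro χ hχ hmem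
      apply hω
      rw [hχ₀def] at hχ
      have hsame : Cfsg.MemLocalIdeal M
          (Cfsg.centralChar (χ₀ : G → ℂ) g - Cfsg.centralChar (χ : G → ℂ) g) := hχ g
      have := MemLocalIdeal.add hMm hsame hmem
      rwa [sub_add_cancel] at this
    exact h3 g hdc (two_dvd_index_centralizer_of_real g hg1 hodd hreal)
  -- second function
  have key2 := sum_sub_apply_one_memLocalIdeal hM (Cfsg.blockCoeff B) hcf ?_ ?_ ?_
  rotate_left
  · intro g
    exact MemLocalRing.mul hMm (memLocalRing_natCast hMm _) (hloc g)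
  · intro g
    by_cases hg : 2 ∣ orderOf g
    · rw [hsing g hg, hsing g⁻¹ (by rwa [orderOf_inv]), sub_zero, mul_zero]
      exact memLocalIdeal_zero hMm
    · rw [h1 g hg, sub_self, mul_zero]
      exact memLocalIdeal_zero hMm
  · intro g hg1 hreal
    by_cases hg : 2 ∣ orderOf g
    · rw [hsing g hg, mul_zero]
      exact memLocalIdeal_zero hMm
    · obtain ⟨m, hm⟩ := two_dvd_index_centralizer_of_real g hg1 hg hreal
      rw [hm]
      push_cast
      have : (2 : ℂ) * (m : ℂ) * Cfsg.blockCoeff B g =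
          ((m : ℂ) * Cfsg.blockCoeff B g) * 2 := by ring
      rw [this]
      exact MemLocalIdeal.mul_left hMm
        (MemLocalRing.mul hMm (memLocalRing_natCast hMm _) (hloc g)) h2M
  -- the two sums
  have hs1 : ∑ g : G, F₁ g = 1 := by
    rw [hF₁]
    have h := sum_blockCoeff_mul B χ₀
    rw [if_pos hχ₀] at h
    have e : ∑ g : G, Cfsg.blockCoeff B g * ((χ₀ : G → ℂ) g / (χ₀ : G → ℂ) 1) =
        (∑ g : G, Cfsg.blockCoeff B g * (χ₀ : G → ℂ) g) / (χ₀ : G → ℂ) 1 := by
      rw [Finset.sum_div]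
      apply Finset.sum_congr rfl
      intro g _
      ring
    rw [e, h, div_self hχ1]
  have hF₁1 : F₁ 1 = Cfsg.blockCoeff B 1 := by
    rw [hF₁]
    simp only
    rw [div_self hχ1, mul_one]
  rw [hs1, hF₁1] at key1
  obtain ⟨triv, htriv⟩ : ∃ t : Cfsg.IrrCharacter G, t = ⟨fun _ => 1, isIrrCharacter_one⟩ :=
    ⟨_, rfl⟩
  have htrivf : (triv : G → ℂ) = fun _ => 1 := by rw [htriv]
  have hs2 := sum_blockCoeff_mul B triv
  simp only [htrivf, mul_one] at hs2
  rw [hs2] at key2
  by_cases htB : triv ∈ B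
  · rw [hχ₀def] at htB ⊢
    have hsame : Cfsg.SameBlock M (χ₀ : G → ℂ) (triv : G → ℂ) := htB
    rw [blockOf_eq_of_sameBlock hMm hsame, htrivf]
    rfl
  · exfalso
    rw [if_neg htB, zero_sub] at key2
    have := MemLocalIdeal.sub hMm key1 key2
    rw [sub_neg_eq_add, sub_add_cancel] at this
    exact not_memLocalIdeal_one this

end Cfsg.Agent.Helper6
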