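import Mathlib
import Cfsg.Prelude.Def_Characters
import Cfsg.Prelude.Def_Blocks
import Cfsg.Agent.Helper6.RealBlockB
import Cfsg.Agent.Helper6.DefectOrder
import Cfsg.Agent.Helper6.IrrBasis
import Cfsg.Agent.Helper6.GaloisConj
import Cfsg.Agent.Helper6.NormalInd

/-!
# A 2-block of full defect stable under a permutation of the irreducible characters inverting the
elements of odd order is principal (S4517, S4490)
-/

set_option autoImplicit false
set_option linter.style.haveILetI false

namespace Cfsg.Agent.Helper6

open scoped ComplexConjugate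

universe u

variable {G : Type u} [Group G] {M : Ideal Cfsg.AlgInt}

/-- a `2`-block of full defect, stable under an injective map of the irreducible characters which
inverts the argument on the elements of odd order, is the principal block -/
theorem eq_principalBlock_of_stable [Finite G] (hM : Cfsg.IsPModular 2 M)
    (B : Set (Cfsg.IrrCharacter G)) (hB : Cfsg.IsPBlock M B)
    (hdef : Cfsg.blockDefect 2 B = (Nat.card G).factorization 2)
    (σ : Cfsg.IrrCharacter G → Cfsg.IrrCharacter G) (hσinj : Function.Injective σ)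
    (hσB : ∀ χ ∈ B, σ χ ∈ B)
    (hσ : ∀ (χ : Cfsg.IrrCharacter G) (g : G), ¬ 2 ∣ orderOf g →
      (σ χ : G → ℂ) g = (χ : G → ℂ) g⁻¹) :
    B = Cfsg.principalBlock M G := by
  classical
  haveI : Fact (Nat.Prime 2) := ⟨Nat.prime_two⟩
  haveI := irr_finite (G := G)
  have hMm := hM.2.1
  have hσ1 : ∀ χ : Cfsg.IrrCharacter G, (σ χ : G → ℂ) 1 = (χ : G → ℂ) 1 := by
    intro χ
    have := hσ χ 1 (by rw [orderOf_one]; norm_num)
    rwa [inv_one] at this
  -- the image of `B`
  have himg : σ '' B = B := by
    apply Set.eq_of_subset_of_ncard_le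
    · rintro _ ⟨χ, hχ, rfl⟩
      exact hσB χ hχ
    · rw [Set.ncard_image_of_injective B hσinj]
    · exact Set.toFinite B
  have hbij : Set.BijOn σ B B := by
    refine ⟨fun χ hχ => hσB χ hχ, hσinj.injOn, ?_⟩
    rw [Set.SurjOn, himg]
  apply eq_principalBlock_of_inv_stable hM B hB
  · intro g hg
    unfold Cfsg.blockCoeff
    congr 1
    exact finsum_mem_eq_of_bijOn σ hbij (fun χ _ => by rw [hσ1 χ, hσ χ g hg])
  · intro χ hχ g hg
    obtain ⟨χ₀, hχ₀⟩ := hB
    have e : Cfsg.centralChar (χ : G → ℂ) g⁻¹ = Cfsg.centralChar (σ χ : G → ℂ) g := by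
      unfold Cfsg.centralChar
      rw [index_centralizer_inv, hσ1 χ, hσ χ g hg]
    rw [e]
    have h1 : Cfsg.SameBlock M (χ₀ : G → ℂ) (χ : G → ℂ) := by
      have := hχ
      rw [hχ₀] at this
      exact this
    have h2 : Cfsg.SameBlock M (χ₀ : G → ℂ) (σ χ : G → ℂ) := by
      have := hσB χ hχ
      rw [hχ₀] at this
      exact this
    exact sameBlock_trans hMm (sameBlock_symm h2) h1 g
  · intro g hg
    have h := blockDefect_eq_of_defectClass hMm 2 hM.2.2 B hB g hg
    rw [hdef] at h
    have hmul := Subgroup.card_mul_index (Subgroup.centralizer ({g} : Set G))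
    have hC0 : Nat.card (Subgroup.centralizer ({g} : Set G)) ≠ 0 := Nat.card_pos.ne'
    have hi0 : (Subgroup.centralizer ({g} : Set G)).index ≠ 0 := Subgroup.index_ne_zero_of_finite
    have hf := congrArg (fun n => n.factorization 2) hmul
    simp only [Nat.factorization_mul hC0 hi0, Finsupp.add_apply] at hf
    have hz : (Subgroup.centralizer ({g} : Set G)).index.factorization 2 = 0 := by omega
    rcases (Nat.factorization_eq_zero_iff _ _).mp hz with h' | h' | h'
    · exact absurd Nat.prime_two h'
    · exact h'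
    · exact absurd h' hi0

end Cfsg.Agent.Helper6
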