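import Mathlib
import Cfsg.Prelude.Def_Characters
import Cfsg.Prelude.Def_Blocks
import Cfsg.Agent.Helper6.LambdaSumB
import Cfsg.Agent.Helper6.RealOddPrincipal
import Cfsg.Agent.Helper6.GallagherProd
import Cfsg.Agent.Helper6.Linear
import Cfsg.Agent.Helper6.AbelianInertia
import Cfsg.Agent.Helper6.BrauerPerm2
import Cfsg.Agent.Helper6.IndFun

/-!
# Extensions of real characters of odd degree in the principal `2`-block
-/

set_option autoImplicit false
set_option linter.style.haveILetI false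

namespace Cfsg.Agent.Helper6

open scoped ComplexConjugate

universe u

variable {G : Type u} [Group G] {M : Ideal Cfsg.AlgInt}

/-- the sum of a character of odd degree, real on the elements of odd order, over the elements
of odd order is not zero -/
theorem sum_odd_order_ne_zero' [Fintype G] (hM : Cfsg.IsPModular 2 M) {χ : G → ℂ}
    (hχ : Cfsg.IsCharacter G χ) (hreal : ∀ g : G, ¬ 2 ∣ orderOf g → (χ g).im = 0) (d : ℕ)
    (hd : χ 1 = (d : ℂ)) (hodd : Odd d) :
    ∑ x : G, (if 2 ∣ orderOf x then (0 : ℂ) else χ x) ≠ 0 := by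
  classical
  have hMm := hM.2.1
  obtain ⟨c, hc⟩ : ∃ c : G → Cfsg.AlgInt, ∀ g, ((c g : Cfsg.AlgInt) : ℂ) = χ g :=
    ⟨fun g => ⟨χ g, IsCharacter.isIntegral_value hχ g⟩, fun g => rfl⟩
  have hinv : ∀ g : G, ¬ 2 ∣ orderOf g → c g⁻¹ = c g := by
    intro g hg
    apply Subtype.ext
    rw [hc, hc, IsCharacter.inv_eq_conj hχ g, Complex.conj_eq_iff_im]
    exact hreal g hg
  intro h0
  have hN : (∑ x : G, (if 2 ∣ orderOf x then (0 : Cfsg.AlgInt) else c x)) = 0 := by
    refine Subtype.ext (Eq.trans ?_ h0)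
    push_cast
    apply Finset.sum_congr rfl
    intro x _
    split_ifs
    · rfl
    · exact hc x
  have hφ := congrArg (Ideal.Quotient.mk M) hN
  rw [map_sum, map_zero] at hφ
  have h2 : (Ideal.Quotient.mk M) (2 : Cfsg.AlgInt) = 0 := by
    rw [Ideal.Quotient.eq_zero_iff_mem]
    exact_mod_cast hM.2.2
  rw [← Finset.add_sum_erase _ _ (Finset.mem_univ (1 : G))] at hφ
  have hrest : ∑ x ∈ (Finset.univ : Finset G).erase 1,
      (Ideal.Quotient.mk M) (if 2 ∣ orderOf x then (0 : Cfsg.AlgInt) else c x) = 0 := by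
    apply Finset.sum_involution (fun x _ => x⁻¹)
    · intro x _
      rw [orderOf_inv]
      split_ifs with hx
      · rw [map_zero, add_zero]
      · rw [hinv x hx, ← two_mul, ← map_ofNat (Ideal.Quotient.mk M) 2, h2, zero_mul]
    · intro x hx hne hxx
      have hx1 : x ≠ 1 := Finset.ne_of_mem_erase hx
      have hord : ¬ 2 ∣ orderOf x := by
        intro h
        rw [if_pos h, map_zero] at hne
        exact hne rfl
      have hsq : x ^ 2 = 1 := by
        rw [pow_two]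
        calc x * x = x⁻¹ * x := by rw [hxx]
          _ = 1 := inv_mul_cancel x
      have hdvd := orderOf_dvd_of_pow_eq_one hsq
      rcases (Nat.dvd_prime Nat.prime_two).mp hdvd with h | h
      · exact hx1 (orderOf_eq_one_iff.mp h)
      · exact hord (by rw [h])
    · intro x _
      exact inv_inv x
    · intro x hx
      rw [Finset.mem_erase] at hx ⊢
      exact ⟨inv_ne_one.mpr hx.1, Finset.mem_univ _⟩
  rw [hrest, add_zero, orderOf_one, if_neg (by norm_num)] at hφ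
  have hc1 : c 1 = (d : Cfsg.AlgInt) := by
    apply Subtype.ext
    rw [hc, hd]
    simp
  rw [hc1] at hφ
  obtain ⟨j, hj⟩ := hodd
  have h3 : (Ideal.Quotient.mk M) ((d : ℕ) : Cfsg.AlgInt) = 1 := by
    rw [hj]
    push_cast
    rw [map_add, map_mul, map_one, h2, zero_mul, zero_add]
  rw [h3] at hφ
  have hne : (1 : Cfsg.AlgInt ⧸ M) ≠ 0 := by
    haveI : Nontrivial (Cfsg.AlgInt ⧸ M) := Ideal.Quotient.nontrivial_iff.mpr hMm.ne_top
    exact one_ne_zero
  exact hne hφ

/-- an irreducible character of odd degree that is real on the elements of odd order lies in the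
principal `2`-block -/
theorem mem_principalBlock_of_real_on_odd [Fintype G] (hM : Cfsg.IsPModular 2 M)
    (χ : Cfsg.IrrCharacter G) (hreal : ∀ g : G, ¬ 2 ∣ orderOf g → ((χ : G → ℂ) g).im = 0)
    (hodd : Odd (Cfsg.charDegree (χ : G → ℂ))) : χ ∈ Cfsg.principalBlock M G := by
  classical
  haveI : Fact (Nat.Prime 2) := ⟨Nat.prime_two⟩
  rw [mem_principalBlock_iff_truncSum hM χ]
  have hne := sum_odd_order_ne_zero' hM (IsIrrCharacter.isCharacter χ.2) hreal
    (Cfsg.charDegree (χ : G → ℂ))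
    (charDegree_cast_of_isCharacter (IsIrrCharacter.isCharacter χ.2)).symm hodd
  intro h0
  apply hne
  refine Eq.trans ?_ h0
  unfold truncSum truncConj
  apply Finset.sum_congr rfl
  intro x _
  split_ifs
  · rw [zero_mul]
  · rw [map_one, one_mul]


/-- Two extensions of an irreducible character of a normal subgroup differ by a linear character
trivial on the subgroup (Gallagher). -/
theorem exists_linear_of_two_extensions [Fintype G] (N : Subgroup G) [hN : N.Normal]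
    (θ : Cfsg.IrrCharacter N) (χ ψ : Cfsg.IrrCharacter G)
    (hχ : ∀ n : N, (χ : G → ℂ) n = (θ : N → ℂ) n)
    (hψ : ∀ n : N, (ψ : G → ℂ) n = (θ : N → ℂ) n) :
    ∃ lam : G →* ℂˣ, (∀ n ∈ N, lam n = 1) ∧
      ∀ g : G, (ψ : G → ℂ) g = ((lam g : ℂˣ) : ℂ) * (χ : G → ℂ) g := by
  classical
  haveI : Fintype N := Fintype.ofFinite N
  have hχcf := IsCharacter.isClassFunction (IsIrrCharacter.isCharacter χ.2)
  have hψcf := IsCharacter.isClassFunction (IsIrrCharacter.isCharacter ψ.2)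
  have hθinv : ∀ (g : G) (n : N),
      (θ : N → ℂ) ⟨g * n * g⁻¹, hN.conj_mem (n : G) n.2 g⟩ = (θ : N → ℂ) n := by
    intro g n
    rw [← hχ, ← hχ]
    exact hχcf n g
  have hone : (fun _ : N => (1 : ℂ)) * (θ : N → ℂ) = (θ : N → ℂ) := by
    funext n
    simp
  have hbij := mul_ext_bijOn N (fun _ : N => (1 : ℂ)) (θ : N → ℂ) isIrrCharacter_one
    (fun _ _ => rfl) hθinv (by rw [hone]; exact θ.2) (χ : G → ℂ) χ.2 hχ
  have hψmem : (ψ : G → ℂ) ∈ {ψ : G → ℂ | Cfsg.IsIrrCharacter G ψ ∧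
      Cfsg.classInner (Cfsg.indFun N ((fun _ : N => (1 : ℂ)) * (θ : N → ℂ))) ψ ≠ 0} := by
    refine ⟨ψ.2, ?_⟩
    rw [hone, frobenius_reciprocity N _ _ hψcf]
    have : (fun h : N => (ψ : G → ℂ) h) = (θ : N → ℂ) := funext hψ
    rw [this, classInner_irr_self θ.2]
    exact one_ne_zero
  obtain ⟨β, ⟨hβirr, hβne⟩, hβ⟩ := hbij.2.2 hψmem
  have hβ' : ∀ g : G, β g * (χ : G → ℂ) g = (ψ : G → ℂ) g := fun g => congrFun hβ g
  have hβ1 : β 1 = 1 := by
    have h1 := hβ' 1
    have e1 : (χ : G → ℂ) 1 = (θ : N → ℂ) 1 := hχ 1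
    have e2 : (ψ : G → ℂ) 1 = (θ : N → ℂ) 1 := hψ 1
    rw [e1, e2] at h1
    have hθ1 : (θ : N → ℂ) 1 ≠ 0 := IsIrrCharacter.apply_one_ne_zero θ.2
    exact mul_right_cancel₀ hθ1 (by rw [h1, one_mul])
  obtain ⟨lam, hlam⟩ := exists_hom_of_irr_degree_one hβirr hβ1
  refine ⟨lam, ?_, ?_⟩
  · -- `lam` is trivial on `N`
    have hβcf := IsCharacter.isClassFunction (IsIrrCharacter.isCharacter hβirr)
    rw [frobenius_reciprocity N _ _ hβcf] at hβne
    let lamN : N →* ℂˣ := lam.comp N.subtype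
    have hresirr : Cfsg.IsIrrCharacter N (fun h : N => β h) := by
      have := isIrrCharacter_of_hom lamN
      convert this using 1
      funext h
      rw [hlam]
      rfl
    have heq : (fun _ : N => (1 : ℂ)) = (fun h : N => β h) := by
      by_contra hne
      exact hβne (classInner_irr_ne isIrrCharacter_one hresirr hne)
    intro n hn
    have h1 := congrFun heq ⟨n, hn⟩
    simp only at h1
    rw [hlam] at h1
    apply Units.ext
    rw [Units.val_one]
    exact h1.symm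
  · intro g
    rw [← hβ' g, hlam]


/-- **S4580.** A real-valued irreducible character of odd degree of a normal subgroup that extends
to `G` has an extension in the principal `2`-block. -/
theorem exists_extension_principal_two [Finite G] (N : Subgroup G) [hN : N.Normal]
    (hM : Cfsg.IsPModular 2 M) (θ : Cfsg.IrrCharacter N)
    (hreal : ∀ n : N, ((θ : N → ℂ) n).im = 0) (hodd : Odd (Cfsg.charDegree (θ : N → ℂ)))
    (hext : ∃ η : Cfsg.IrrCharacter G, ∀ n : N, (η : G → ℂ) n = (θ : N → ℂ) n) :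
    ∃ η : Cfsg.IrrCharacter G, (∀ n : N, (η : G → ℂ) n = (θ : N → ℂ) n) ∧
      η ∈ Cfsg.principalBlock M G := by
  classical
  haveI := Fintype.ofFinite G
  obtain ⟨χ₀, h₀⟩ := hext
  obtain ⟨χb, hχb⟩ : ∃ χb : Cfsg.IrrCharacter G, ∀ g : G, (χb : G → ℂ) g = (χ₀ : G → ℂ) g⁻¹ :=
    ⟨⟨(χ₀ : G → ℂ) ∘ (Equiv.inv G), IsIrrCharacter.comp_inv χ₀.2⟩, fun g => rfl⟩
  have hbar : ∀ n : N, (χb : G → ℂ) n = (θ : N → ℂ) n := by
    intro n
    rw [hχb]
    have h1 : (χ₀ : G → ℂ) ((n : G))⁻¹ = (θ : N → ℂ) n⁻¹ := h₀ n⁻¹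
    rw [h1, IsCharacter.inv_eq_conj (IsIrrCharacter.isCharacter θ.2), Complex.conj_eq_iff_im]
    exact hreal n
  obtain ⟨lam, hlamN, hlam⟩ := exists_linear_of_two_extensions N θ χ₀ χb h₀ hbar
  obtain ⟨a, b, hb, hab⟩ := Nat.exists_eq_two_pow_mul_odd (n := Nat.card G) Nat.card_pos.ne'
  obtain ⟨c, hc⟩ := hb
  -- `b = 2 c + 1`, `μ = lam ^ (c + 1)`
  obtain ⟨μ, hμ⟩ : ∃ μ : G →* ℂˣ, ∀ g : G, μ g = lam g ^ (c + 1) :=
    ⟨lam ^ (c + 1), fun g => rfl⟩
  obtain ⟨χ₁, hχ₁⟩ : ∃ χ₁ : Cfsg.IrrCharacter G,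
      ∀ g : G, (χ₁ : G → ℂ) g = (χ₀ : G → ℂ) g * ((μ g : ℂˣ) : ℂ) :=
    ⟨⟨_, IsIrrCharacter.mul_hom μ χ₀.2⟩, fun g => rfl⟩
  have hext1 : ∀ n : N, (χ₁ : G → ℂ) n = (θ : N → ℂ) n := by
    intro n
    rw [hχ₁, h₀, hμ, hlamN n n.2, one_pow, Units.val_one, mul_one]
  refine ⟨χ₁, hext1, ?_⟩
  apply mem_principalBlock_of_real_on_odd hM χ₁
  · intro g hg
    rw [← Complex.conj_eq_iff_im, hχ₁, map_mul]
    -- `lam g ^ b = 1`
    have hlb : lam g ^ b = 1 := by
      have h1 : (lam g ^ b) ^ (2 ^ a) = 1 := by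
        rw [← pow_mul, mul_comm, ← hab, ← map_pow, pow_card_eq_one', map_one]
      have h2 : (lam g ^ b) ^ orderOf g = 1 := by
        rw [← pow_mul, mul_comm, pow_mul, ← map_pow, pow_orderOf_eq_one, map_one, one_pow]
      have h3 : orderOf (lam g ^ b) ∣ Nat.gcd (2 ^ a) (orderOf g) :=
        Nat.dvd_gcd (orderOf_dvd_of_pow_eq_one h1) (orderOf_dvd_of_pow_eq_one h2)
      have hcop : Nat.Coprime (2 ^ a) (orderOf g) := by
        apply Nat.Coprime.pow_left
        exact (Nat.Prime.coprime_iff_not_dvd Nat.prime_two).mpr hg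
      rw [hcop, Nat.dvd_one, orderOf_eq_one_iff] at h3
      exact h3
    have hsq : μ g * μ g = lam g := by
      rw [hμ, ← pow_add]
      have : c + 1 + (c + 1) = b + 1 := by omega
      rw [this, pow_succ, hlb, one_mul]
    have hnorm : ‖((μ g : ℂˣ) : ℂ)‖ = 1 := by
      apply Complex.norm_eq_one_of_pow_eq_one (n := orderOf g)
      · rw [← Units.val_pow_eq_pow_val, ← map_pow, pow_orderOf_eq_one, map_one, Units.val_one]
      · exact (orderOf_pos g).ne'
    have hconjμ : conj ((μ g : ℂˣ) : ℂ) = (((μ g)⁻¹ : ℂˣ) : ℂ) := by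
      rw [Units.val_inv_eq_inv_val, Complex.inv_eq_conj hnorm]
    have hconjχ : conj ((χ₀ : G → ℂ) g) = ((lam g : ℂˣ) : ℂ) * (χ₀ : G → ℂ) g := by
      rw [← IsCharacter.inv_eq_conj (IsIrrCharacter.isCharacter χ₀.2), ← hχb, hlam]
    rw [hconjμ, hconjχ, ← hsq]
    push_cast
    have hne : ((μ g : ℂˣ) : ℂ) ≠ 0 := Units.ne_zero _
    field_simp
  · have h1 : Cfsg.charDegree (χ₁ : G → ℂ) = Cfsg.charDegree (θ : N → ℂ) := by
      unfold Cfsg.charDegree
      have := hext1 1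
      rw [show ((1 : N) : G) = 1 from rfl] at this
      rw [this]
    rw [h1]
    exact hodd

end Cfsg.Agent.Helper6
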