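import Mathlib
import Cfsg.Prelude.Def_Characters
import Cfsg.Agent.Helper6.BrauerPerm2
import Cfsg.Agent.Helper6.NormalInd
import Cfsg.Agent.Helper6.CliffordOrbit

/-!
# Fixed points of `k ↦ g k⁻¹ g⁻¹` on characters and classes of a normal subgroup of odd index
-/

set_option autoImplicit false
set_option linter.style.haveILetI false

namespace Cfsg.Agent.Helper6

open scoped ComplexConjugate

universe u

variable {G : Type u} [Group G]

/-- `k ↦ g k⁻¹ g⁻¹` as a permutation of the normal subgroup `K`. -/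
def invConj (K : Subgroup G) [K.Normal] (g : G) : K ≃ K :=
  (Equiv.inv K).trans (MulAut.conjNormal g : K ≃* K).toEquiv

theorem invConj_apply (K : Subgroup G) [K.Normal] (g : G) (k : K) :
    invConj K g k = (MulAut.conjNormal g : K ≃* K) k⁻¹ := rfl

theorem conjFun_apply' (K : Subgroup G) [hK : K.Normal] (θ : K → ℂ) (g : G) (k : K) :
    conjFun K θ g k = θ ((MulAut.conjNormal g : K ≃* K) k) := rfl

theorem exists_pow_decomp (K : Subgroup G) [K.Normal] (hodd : Odd K.index) (g : G) :
    ∃ (j : ℕ) (c : G), c ∈ K ∧ g = (g * g) ^ j * c := by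
  obtain ⟨j, hj⟩ := hodd
  refine ⟨j + 1, (g ^ K.index)⁻¹, K.inv_mem (Subgroup.pow_index_mem K g), ?_⟩
  rw [hj, ← pow_two, ← pow_mul, eq_mul_inv_iff_mul_eq, ← pow_succ']
  congr 1

theorem char_fixed_invConj_iff [Finite G] (K : Subgroup G) [hK : K.Normal] (hodd : Odd K.index)
    (g : G) (θ : K → ℂ) (hθ : Cfsg.IsIrrCharacter K θ) :
    θ ∘ invConj K g = θ ↔ (∀ k : K, (θ k).im = 0) ∧ conjFun K θ g = θ := by
  have hθc := IsIrrCharacter.isCharacter hθ
  have hθcf := IsCharacter.isClassFunction hθc
  constructor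
  · intro h
    have hstar : ∀ k : K, θ ((MulAut.conjNormal g : K ≃* K) k⁻¹) = θ k := fun k => congrFun h k
    -- invariance under g * g
    have hgg : g * g ∈ conjStab K θ := by
      rw [mem_conjStab]
      funext k
      rw [conjFun_apply', map_mul, MulAut.mul_apply]
      have h1 := hstar ((MulAut.conjNormal g : K ≃* K) k⁻¹)
      rw [← map_inv, inv_inv] at h1
      rw [h1, hstar]
    have hKle : K ≤ conjStab K θ := le_conjStab_of_isClassFunction K θ hθcf
    obtain ⟨j, c, hc, hdecomp⟩ := exists_pow_decomp K hodd g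
    have hg : g ∈ conjStab K θ := by
      rw [hdecomp]
      exact (conjStab K θ).mul_mem ((conjStab K θ).pow_mem hgg j) (hKle hc)
    have hginv : conjFun K θ g = θ := (mem_conjStab K θ g).mp hg
    refine ⟨?_, hginv⟩
    intro k
    have h1 := hstar k
    have h2 := congrFun hginv k⁻¹
    rw [conjFun_apply'] at h2
    rw [h2, IsCharacter.inv_eq_conj hθc] at h1
    exact Complex.conj_eq_iff_im.mp h1
  · rintro ⟨hreal, hginv⟩
    funext k
    change θ ((MulAut.conjNormal g : K ≃* K) k⁻¹) = θ k
    have h2 := congrFun hginv k⁻¹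
    rw [conjFun_apply'] at h2
    rw [h2, IsCharacter.inv_eq_conj hθc]
    exact Complex.conj_eq_iff_im.mpr (hreal k)

theorem isConj_conjNormal_of_mem (K : Subgroup G) [hK : K.Normal] (c : G) (hc : c ∈ K) (y : K) :
    IsConj ((MulAut.conjNormal c : K ≃* K) y) y := by
  rw [isConj_comm, isConj_iff]
  refine ⟨⟨c, hc⟩, ?_⟩
  apply Subtype.ext
  rw [MulAut.conjNormal_apply]
  rfl

theorem isConj_conjNormal_map (K : Subgroup G) [hK : K.Normal] (g : G) {a b : K}
    (h : IsConj a b) :
    IsConj ((MulAut.conjNormal g : K ≃* K) a) ((MulAut.conjNormal g : K ≃* K) b) := by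
  obtain ⟨c, hc⟩ := isConj_iff.mp h
  rw [isConj_iff]
  refine ⟨(MulAut.conjNormal g : K ≃* K) c, ?_⟩
  rw [← map_inv, ← map_mul, ← map_mul, hc]

/-- The elements of `G` whose conjugation maps the `K`-class of `x` into itself. -/
def classStabMonoid (K : Subgroup G) [hK : K.Normal] (x : K) : Submonoid G where
  carrier := {h | ∀ y : K, IsConj y x → IsConj ((MulAut.conjNormal h : K ≃* K) y) x}
  one_mem' := by
    intro y hy
    rw [map_one]
    exact hy
  mul_mem' := by
    intro a b ha hb y hy
    rw [map_mul, MulAut.mul_apply]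
    exact ha _ (hb y hy)

theorem class_fixed_invConj_iff [Finite G] (K : Subgroup G) [hK : K.Normal] (hodd : Odd K.index)
    (g : G) (x : K) :
    (∀ k : K, ConjClasses.mk k = ConjClasses.mk x → IsConj (invConj K g k) k) ↔
      IsConj x x⁻¹ ∧ IsConj ((MulAut.conjNormal g : K ≃* K) x) x := by
  constructor
  · intro h
    have hstar : ∀ k : K, IsConj k x → IsConj ((MulAut.conjNormal g : K ≃* K) k⁻¹) k := by
      intro k hk
      exact h k (ConjClasses.mk_eq_mk_iff_isConj.mpr hk)
    have hgg : g * g ∈ classStabMonoid K x := by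
      intro y hy
      rw [map_mul, MulAut.mul_apply]
      have h1 : IsConj ((MulAut.conjNormal g : K ≃* K) y⁻¹) x := (hstar y hy).trans hy
      have h2 := hstar _ h1
      rw [← map_inv, inv_inv] at h2
      exact h2.trans h1
    have hKle : ∀ c ∈ K, c ∈ classStabMonoid K x := by
      intro c hc y hy
      exact (isConj_conjNormal_of_mem K c hc y).trans hy
    obtain ⟨j, c, hc, hdecomp⟩ := exists_pow_decomp K hodd g
    have hg : g ∈ classStabMonoid K x := by
      rw [hdecomp]
      exact (classStabMonoid K x).mul_mem ((classStabMonoid K x).pow_mem hgg j) (hKle c hc)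
    have hginv : g⁻¹ ∈ classStabMonoid K x := by
      have hfin : IsOfFinOrder g := isOfFinOrder_of_finite g
      have hpos : 0 < orderOf g := hfin.orderOf_pos
      have : g⁻¹ = g ^ (orderOf g - 1) := by
        rw [inv_eq_iff_mul_eq_one, ← pow_succ', Nat.sub_add_cancel hpos, pow_orderOf_eq_one]
      rw [this]
      exact (classStabMonoid K x).pow_mem hg _
    refine ⟨?_, hg x (IsConj.refl x)⟩
    have h1 : IsConj ((MulAut.conjNormal g : K ≃* K) x⁻¹) x := hstar x (IsConj.refl x)
    have h2 := hginv _ h1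
    rw [← MulAut.mul_apply, ← map_mul, inv_mul_cancel, map_one, MulAut.one_apply] at h2
    exact h2.symm
  · rintro ⟨hreal, hginv⟩ k hk
    have hkx : IsConj k x := ConjClasses.mk_eq_mk_iff_isConj.mp hk
    rw [invConj_apply]
    have h1 : IsConj k⁻¹ x⁻¹ := by
      obtain ⟨c, hc⟩ := isConj_iff.mp hkx
      rw [isConj_iff]
      refine ⟨c, ?_⟩
      rw [← hc]
      group
    have h2 : IsConj k⁻¹ x := h1.trans hreal.symm
    exact ((isConj_conjNormal_map K g h2).trans hginv).trans hkx.symm

end Cfsg.Agent.Helper6
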