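import Mathlib
import Cfsg.Prelude.Def_Characters
import Cfsg.Agent.Helper6.RealOrbits1
import Cfsg.Agent.Helper6.Burnside

/-!
# Orbits on real characters and real classes of a normal subgroup of odd index
-/

set_option autoImplicit false
set_option linter.style.haveILetI false

namespace Cfsg.Agent.Helper6

open scoped ComplexConjugate

universe u

/-- Burnside's lemma for an invariant subset. -/
theorem burnside_count_subset {G Ω : Type*} [Group G] [Fintype G] [Fintype Ω] [DecidableEq Ω]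
    (act : G → Ω → Ω) (h1 : ∀ a, act 1 a = a) (hmul : ∀ g h a, act (g * h) a = act g (act h a))
    (P : Ω → Prop) [DecidablePred P] (hP : ∀ g a, P a → P (act g a))
    (r : {a : Ω // P a} → {a : Ω // P a} → Prop)
    (hr : ∀ a b, r a b ↔ ∃ g, b.1 = act g a.1) :
    Nat.card (Quot r) * Fintype.card G =
      ∑ g : G, (Finset.univ.filter (fun a => P a ∧ act g a = a)).card := by
  classical
  have h := burnside_count (G := G) (Ω := {a : Ω // P a})
    (fun g a => ⟨act g a.1, hP g a.1 a.2⟩)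
    (fun a => Subtype.ext (h1 a.1)) (fun g h a => Subtype.ext (hmul g h a.1)) r
    (fun a b => by
      rw [hr]
      constructor
      · rintro ⟨g, hg⟩
        exact ⟨g, Subtype.ext hg⟩
      · rintro ⟨g, hg⟩
        exact ⟨g, congrArg Subtype.val hg⟩)
  rw [h]
  apply Finset.sum_congr rfl
  intro g _
  rw [← Fintype.card_subtype, ← Fintype.card_subtype]
  apply Fintype.card_congr
  refine ⟨fun a => ⟨a.1.1, a.1.2, congrArg Subtype.val a.2⟩,
    fun a => ⟨⟨a.1, a.2.1⟩, Subtype.ext a.2.2⟩, fun a => rfl, fun a => rfl⟩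

theorem orbit_rel_equivalence {G Ω : Type*} [Group G]
    (act : G → Ω → Ω) (h1 : ∀ a, act 1 a = a) (hmul : ∀ g h a, act (g * h) a = act g (act h a))
    (P : Ω → Prop)
    (r : {a : Ω // P a} → {a : Ω // P a} → Prop)
    (hr : ∀ a b, r a b ↔ ∃ g, b.1 = act g a.1) : Equivalence r := by
  refine ⟨fun a => (hr a a).mpr ⟨1, (h1 a.1).symm⟩, ?_, ?_⟩
  · intro a b hab
    obtain ⟨g, hg⟩ := (hr a b).mp hab
    refine (hr b a).mpr ⟨g⁻¹, ?_⟩
    rw [hg, ← hmul, inv_mul_cancel, h1]
  · intro a b c hab hbc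
    obtain ⟨g, hg⟩ := (hr a b).mp hab
    obtain ⟨h, hh⟩ := (hr b c).mp hbc
    refine (hr a c).mpr ⟨h * g, ?_⟩
    rw [hh, hg, hmul]

theorem card_quot_of_surj {α β : Type*} (f : α → β) (hf : Function.Surjective f)
    (r : α → α → Prop) (s : β → β → Prop) (hs : Equivalence s)
    (h : ∀ x y, r x y ↔ s (f x) (f y)) : Nat.card (Quot r) = Nat.card (Quot s) := by
  apply Nat.card_congr
  refine Equiv.ofBijective (Quot.map f (fun a b h' => (h a b).mp h')) ⟨?_, ?_⟩
  · intro a b
    induction a using Quot.ind with | _ x => ?_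
    induction b using Quot.ind with | _ y => ?_
    intro heq
    apply Quot.sound
    apply (h x y).mpr
    exact hs.eqvGen_iff.mp (Quot.eqvGen_exact heq)
  · intro b
    induction b using Quot.ind with | _ y => ?_
    obtain ⟨x, rfl⟩ := hf y
    exact ⟨Quot.mk r x, rfl⟩

end Cfsg.Agent.Helper6

namespace Cfsg.Agent.Helper6

open scoped ComplexConjugate

universe u

variable {G : Type u} [Group G]

theorem invConj_irr [Finite G] (K : Subgroup G) [hK : K.Normal] (g : G) (χ : K → ℂ)
    (hχ : Cfsg.IsIrrCharacter K χ) : Cfsg.IsIrrCharacter K (χ ∘ invConj K g) := by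
  have h1 : Cfsg.IsIrrCharacter K (χ ∘ (MulAut.conjNormal g : K ≃* K)) :=
    IsIrrCharacter.comp_mulEquiv _ hχ
  exact IsIrrCharacter.comp_inv h1

theorem isConj_inv_inv {H : Type*} [Group H] {a b : H} (h : IsConj a b) : IsConj a⁻¹ b⁻¹ := by
  obtain ⟨c, hc⟩ := isConj_iff.mp h
  rw [isConj_iff]
  refine ⟨c, ?_⟩
  rw [← hc]
  group

theorem invConj_isConj (K : Subgroup G) [hK : K.Normal] (g : G) (a b : K) (h : IsConj a b) :
    IsConj (invConj K g a) (invConj K g b) := by
  rw [invConj_apply, invConj_apply]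
  exact isConj_conjNormal_map K g (isConj_inv_inv h)

theorem conjNormal_conjNormal_inv (K : Subgroup G) [hK : K.Normal] (g : G) (x : K) :
    (MulAut.conjNormal g : K ≃* K) ((MulAut.conjNormal g⁻¹ : K ≃* K) x) = x := by
  rw [← MulAut.mul_apply, ← map_mul, mul_inv_cancel, map_one, MulAut.one_apply]

theorem conjNormal_inv_conjNormal (K : Subgroup G) [hK : K.Normal] (g : G) (x : K) :
    (MulAut.conjNormal g⁻¹ : K ≃* K) ((MulAut.conjNormal g : K ≃* K) x) = x := by
  rw [← MulAut.mul_apply, ← map_mul, inv_mul_cancel, map_one, MulAut.one_apply]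

theorem isConj_conjNormal_inv_iff (K : Subgroup G) [hK : K.Normal] (g : G) (x : K) :
    IsConj ((MulAut.conjNormal g⁻¹ : K ≃* K) x) x ↔ IsConj ((MulAut.conjNormal g : K ≃* K) x) x := by
  constructor
  · intro h
    have h2 := isConj_conjNormal_map K g h
    rw [conjNormal_conjNormal_inv] at h2
    exact h2.symm
  · intro h
    have h2 := isConj_conjNormal_map K g⁻¹ h
    rw [conjNormal_inv_conjNormal] at h2
    exact h2.symm

theorem real_orbits_eq [Finite G] (K : Subgroup G) [hK : K.Normal] (hodd : Odd K.index) :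
    Nat.card (Quot (fun θ η : {θ : Cfsg.IrrCharacter ↥K //
        (∀ k : ↥K, ((θ : ↥K → ℂ) k).im = 0)} =>
        ∃ g : G, ∀ k k' : ↥K, (k' : G) = g * (k : G) * g⁻¹ →
          (η.1 : ↥K → ℂ) k' = (θ.1 : ↥K → ℂ) k)) =
      Nat.card (Quot (fun x y : {x : ↥K // IsConj x x⁻¹} =>
        ∃ g : G, (y.1 : G) = g * x.1 * g⁻¹)) := by
  classical
  haveI := Fintype.ofFinite G
  haveI : Finite (Cfsg.IrrCharacter K) := irr_finite
  haveI : Fintype (Cfsg.IrrCharacter K) := Fintype.ofFinite _
  haveI : Fintype (ConjClasses K) := Fintype.ofFinite _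
  -- the two actions
  let act₁ : G → Cfsg.IrrCharacter K → Cfsg.IrrCharacter K :=
    fun g θ => ⟨conjFun K θ.1 g⁻¹, conjFun_isIrr K θ.2 g⁻¹⟩
  let act₂ : G → ConjClasses K → ConjClasses K :=
    fun g C => ConjClasses.map (MulAut.conjNormal g : K ≃* K).toMonoidHom C
  have h1₁ : ∀ a, act₁ 1 a = a := by
    intro a
    apply Subtype.ext
    change conjFun K a.1 1⁻¹ = a.1
    rw [inv_one, conjFun_one]
  have hmul₁ : ∀ g h a, act₁ (g * h) a = act₁ g (act₁ h a) := by
    intro g h a
    apply Subtype.ext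
    change conjFun K a.1 (g * h)⁻¹ = conjFun K (conjFun K a.1 h⁻¹) g⁻¹
    rw [conjFun_mul, mul_inv_rev]
  have h1₂ : ∀ a, act₂ 1 a = a := by
    intro a
    obtain ⟨x, rfl⟩ := ConjClasses.mk_surjective a
    change ConjClasses.mk ((MulAut.conjNormal (1 : G) : K ≃* K) x) = ConjClasses.mk x
    rw [map_one, MulAut.one_apply]
  have hmul₂ : ∀ g h a, act₂ (g * h) a = act₂ g (act₂ h a) := by
    intro g h a
    obtain ⟨x, rfl⟩ := ConjClasses.mk_surjective a
    change ConjClasses.mk ((MulAut.conjNormal (g * h) : K ≃* K) x) =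
      ConjClasses.mk ((MulAut.conjNormal g : K ≃* K) ((MulAut.conjNormal h : K ≃* K) x))
    rw [map_mul, MulAut.mul_apply]
  let P₁ : Cfsg.IrrCharacter K → Prop := fun θ => ∀ k : ↥K, ((θ : ↥K → ℂ) k).im = 0
  let P₂ : ConjClasses K → Prop := fun C => ∃ x : K, ConjClasses.mk x = C ∧ IsConj x x⁻¹
  have hP₁ : ∀ g a, P₁ a → P₁ (act₁ g a) := by
    intro g a ha k
    exact ha _
  have hP₂ : ∀ g a, P₂ a → P₂ (act₂ g a) := by
    rintro g a ⟨x, rfl, hx⟩
    refine ⟨(MulAut.conjNormal g : K ≃* K) x, rfl, ?_⟩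
    have := isConj_conjNormal_map K g hx
    rwa [map_inv] at this
  have hP₂mk : ∀ x : K, P₂ (ConjClasses.mk x) ↔ IsConj x x⁻¹ := by
    intro x
    constructor
    · rintro ⟨y, hy, hyy⟩
      have hyx : IsConj y x := ConjClasses.mk_eq_mk_iff_isConj.mp hy
      exact (hyx.symm.trans hyy).trans (isConj_inv_inv hyx)
    · intro hx
      exact ⟨x, rfl, hx⟩
  let r₂' : {C : ConjClasses K // P₂ C} → {C : ConjClasses K // P₂ C} → Prop :=
    fun C D => ∃ g, D.1 = act₂ g C.1
  have B₁ := burnside_count_subset act₁ h1₁ hmul₁ P₁ hP₁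
    (fun θ η : {θ : Cfsg.IrrCharacter ↥K // (∀ k : ↥K, ((θ : ↥K → ℂ) k).im = 0)} =>
        ∃ g : G, ∀ k k' : ↥K, (k' : G) = g * (k : G) * g⁻¹ →
          (η.1 : ↥K → ℂ) k' = (θ.1 : ↥K → ℂ) k)
    (by
      intro a b
      apply exists_congr
      intro g
      constructor
      · intro h
        apply Subtype.ext
        funext k'
        change b.1.1 k' = conjFun K a.1.1 g⁻¹ k'
        refine h ⟨g⁻¹ * k' * g⁻¹⁻¹, hK.conj_mem k' k'.2 g⁻¹⟩ k' ?_
        simp only [inv_inv]
        group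
      · intro h k k' hk
        rw [h]
        change conjFun K a.1.1 g⁻¹ k' = a.1.1 k
        unfold conjFun
        refine congrArg a.1.1 (Subtype.ext ?_)
        simp only [hk, inv_inv]
        group)
  have B₂ := burnside_count_subset act₂ h1₂ hmul₂ P₂ hP₂ r₂' (fun a b => Iff.rfl)
  have hE : Equivalence r₂' :=
    orbit_rel_equivalence act₂ h1₂ hmul₂ P₂ r₂' (fun a b => Iff.rfl)
  have Q := card_quot_of_surj
    (fun x : {x : ↥K // IsConj x x⁻¹} =>
      (⟨ConjClasses.mk x.1, x.1, rfl, x.2⟩ : {C : ConjClasses K // P₂ C}))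
    (by
      rintro ⟨C, x, hx, hreal⟩
      exact ⟨⟨x, hreal⟩, Subtype.ext hx⟩)
    (fun x y : {x : ↥K // IsConj x x⁻¹} => ∃ g : G, (y.1 : G) = g * x.1 * g⁻¹) r₂' hE
    (by
      intro x y
      constructor
      · rintro ⟨g, hg⟩
        refine ⟨g, ?_⟩
        change ConjClasses.mk y.1 = ConjClasses.mk ((MulAut.conjNormal g : K ≃* K) x.1)
        congr 1
        apply Subtype.ext
        rw [MulAut.conjNormal_apply]
        exact hg
      · rintro ⟨g, hg⟩
        change ConjClasses.mk y.1 = ConjClasses.mk ((MulAut.conjNormal g : K ≃* K) x.1) at hg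
        have hconj : IsConj ((MulAut.conjNormal g : K ≃* K) x.1) y.1 :=
          (ConjClasses.mk_eq_mk_iff_isConj.mp hg).symm
        obtain ⟨c, hc⟩ := isConj_iff.mp hconj
        refine ⟨(c : G) * g, ?_⟩
        have hc' := congrArg Subtype.val hc
        simp only [Subgroup.coe_mul, MulAut.conjNormal_apply, Subgroup.coe_inv] at hc'
        rw [← hc', mul_inv_rev]
        group)
  -- per-element fixed point comparison
  have hfix : ∀ g : G, (Finset.univ.filter (fun a => P₁ a ∧ act₁ g a = a)).card =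
      (Finset.univ.filter (fun a => P₂ a ∧ act₂ g a = a)).card := by
    intro g
    have hbr := brauer_permutation_count (invConj K g⁻¹) (invConj_irr K g⁻¹)
      (invConj_isConj K g⁻¹)
    rw [← Fintype.card_subtype, ← Fintype.card_subtype, ← Nat.card_eq_fintype_card,
      ← Nat.card_eq_fintype_card]
    have e1 : Nat.card {a : Cfsg.IrrCharacter K // P₁ a ∧ act₁ g a = a} =
        Nat.card {χ : Cfsg.IrrCharacter K // (χ : K → ℂ) ∘ invConj K g⁻¹ = (χ : K → ℂ)} := by
      apply Nat.card_congr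
      apply Equiv.subtypeEquivRight
      intro θ
      rw [char_fixed_invConj_iff K hodd g⁻¹ θ.1 θ.2]
      exact and_congr Iff.rfl Subtype.ext_iff
    have e2 : Nat.card {a : ConjClasses K // P₂ a ∧ act₂ g a = a} =
        Nat.card {C : ConjClasses K // ∀ k : K, ConjClasses.mk k = C →
          IsConj (invConj K g⁻¹ k) k} := by
      apply Nat.card_congr
      apply Equiv.subtypeEquivRight
      intro C
      obtain ⟨x, rfl⟩ := ConjClasses.mk_surjective C
      rw [class_fixed_invConj_iff K hodd g⁻¹ x, hP₂mk, isConj_conjNormal_inv_iff]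
      apply and_congr Iff.rfl
      change ConjClasses.mk ((MulAut.conjNormal g : K ≃* K) x) = ConjClasses.mk x ↔ _
      exact ConjClasses.mk_eq_mk_iff_isConj
    rw [e1, e2, hbr]
  have hsum : Nat.card (Quot (fun θ η : {θ : Cfsg.IrrCharacter ↥K //
        (∀ k : ↥K, ((θ : ↥K → ℂ) k).im = 0)} =>
        ∃ g : G, ∀ k k' : ↥K, (k' : G) = g * (k : G) * g⁻¹ →
          (η.1 : ↥K → ℂ) k' = (θ.1 : ↥K → ℂ) k)) * Fintype.card G =
      Nat.card (Quot r₂') * Fintype.card G := by
    rw [B₁, B₂]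
    exact Finset.sum_congr rfl (fun g _ => hfix g)
  rw [Q]
  exact Nat.eq_of_mul_eq_mul_right Fintype.card_pos hsum

end Cfsg.Agent.Helper6
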