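import Mathlib
import Cfsg.Prelude.Def_Characters
import Cfsg.Agent.Helper6.OddReal
import Cfsg.Agent.Helper6.SigmaParity1X

/-!
(Fork of `RealPA` with one declaration renamed, so that it can be imported together with the
`RelGlaub` files.)

# Subgroups generated by `p`-elements; lifting real elements modulo odd normal subgroups
-/

set_option autoImplicit false
set_option linter.style.haveILetI false

namespace Cfsg.Agent.Helper6

universe u

variable {G : Type u} [Group G]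

/-- the subgroup generated by the `p`-elements -/
abbrev pGen (p : ℕ) (G : Type u) [Group G] : Subgroup G :=
  Subgroup.closure {g : G | ∃ k : ℕ, orderOf g = p ^ k}

theorem mem_pGen {p : ℕ} {g : G} (hg : ∃ k : ℕ, orderOf g = p ^ k) : g ∈ pGen p G :=
  Subgroup.subset_closure hg

theorem pGen_map_le {H : Type u} [Group H] (p : ℕ) (f : G →* H) (hf : Function.Injective f) :
    (pGen p G).map f ≤ pGen p H := by
  rw [MonoidHom.map_closure, Subgroup.closure_le]
  rintro _ ⟨g, ⟨k, hk⟩, rfl⟩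
  exact mem_pGen ⟨k, by rw [orderOf_injective f hf g, hk]⟩

instance pGen_normal (p : ℕ) : (pGen p G).Normal := by
  constructor
  intro n hn g
  have h1 : (pGen p G).map (MulAut.conj g).toMonoidHom ≤ pGen p G :=
    pGen_map_le p _ (MulAut.conj g).injective
  exact h1 ⟨n, hn, rfl⟩

/-- a normal subgroup of index prime to `p` contains all `p`-elements -/
theorem mem_of_index_coprime {p : ℕ} [hp : Fact p.Prime] (N : Subgroup G) [N.Normal]
    (hN : ¬ p ∣ N.index) {g : G} (hg : ∃ k : ℕ, orderOf g = p ^ k) : g ∈ N := by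
  obtain ⟨k, hk⟩ := hg
  have h1 : g ^ N.index ∈ N := Subgroup.pow_index_mem N g
  have h2 : g ^ (p ^ k) ∈ N := by rw [← hk, pow_orderOf_eq_one]; exact N.one_mem
  have hcop : Nat.Coprime N.index (p ^ k) :=
    Nat.Coprime.pow_right k ((Nat.Prime.coprime_iff_not_dvd hp.out).mpr hN).symm
  have h3 : g ^ (Nat.gcd N.index (p ^ k)) ∈ N := by
    rw [← zpow_natCast, Nat.gcd_eq_gcd_ab, zpow_add, zpow_mul, zpow_mul, zpow_natCast, zpow_natCast]
    exact N.mul_mem (N.zpow_mem h1 _) (N.zpow_mem h2 _)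
  rwa [hcop, pow_one] at h3

theorem pGen_le_of_index_coprime {p : ℕ} [hp : Fact p.Prime] (N : Subgroup G) [N.Normal]
    (hN : ¬ p ∣ N.index) : pGen p G ≤ N := by
  rw [Subgroup.closure_le]
  intro g hg
  exact mem_of_index_coprime N hN hg

/-- the index of the subgroup generated by the `p`-elements is prime to `p` -/
theorem pGen_index_coprime [Finite G] (p : ℕ) [hp : Fact p.Prime] : ¬ p ∣ (pGen p G).index := by
  obtain P : Sylow p G := default
  have hP : (P : Subgroup G) ≤ pGen p G := by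
    intro x hx
    obtain ⟨k, hk⟩ := (IsPGroup.iff_orderOf.mp P.isPGroup') ⟨x, hx⟩
    refine mem_pGen ⟨k, ?_⟩
    rw [← hk]
    exact (Subgroup.orderOf_coe (⟨x, hx⟩ : (P : Subgroup G)))
  intro hdvd
  have h2 : (pGen p G).index ∣ (P : Subgroup G).index := Subgroup.index_dvd_of_le hP
  exact P.not_dvd_index (dvd_trans hdvd h2)

theorem pGen_two_index_odd [Finite G] : Odd (pGen 2 G).index := by
  haveI : Fact (Nat.Prime 2) := ⟨Nat.prime_two⟩
  rw [← Nat.not_even_iff_odd, even_iff_two_dvd]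
  exact pGen_index_coprime 2

/-- images of the `p`-generated subgroup under surjections -/
theorem pGen_le_map {H : Type u} [Group H] [Finite G] (p : ℕ) [hp : Fact p.Prime] (f : G →* H)
    (hf : Function.Surjective f) : pGen p H ≤ (pGen p G).map f := by
  haveI : ((pGen p G).map f).Normal := Subgroup.Normal.map inferInstance f hf
  apply pGen_le_of_index_coprime
  intro hdvd
  have h1 : ((pGen p G).map f).index ∣ (pGen p G).index := Subgroup.index_map_dvd _ hf
  exact pGen_index_coprime (G := G) p (dvd_trans hdvd h1)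

theorem map_pGen_le {H : Type u} [Group H] (p : ℕ) [hp : Fact p.Prime] (f : G →* H) :
    (pGen p G).map f ≤ pGen p H := by
  rw [MonoidHom.map_closure, Subgroup.closure_le]
  rintro _ ⟨g, ⟨k, hk⟩, rfl⟩
  have h1 : orderOf (f g) ∣ p ^ k := by
    rw [← hk]
    exact orderOf_map_dvd f g
  obtain ⟨j, -, hj⟩ := (Nat.dvd_prime_pow hp.out).1 h1
  exact mem_pGen ⟨j, hj⟩

theorem map_pGen_eq {H : Type u} [Group H] [Finite G] (p : ℕ) [hp : Fact p.Prime] (f : G →* H)
    (hf : Function.Surjective f) : (pGen p G).map f = pGen p H :=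
  le_antisymm (map_pGen_le p f) (pGen_le_map p f hf)

/-- a `2`-element lies in `pGen 2`; in particular every element conjugate to its inverse does -/
theorem mem_pGen_two_of_isConj_inv [Finite G] {x : G} (hx : IsConj x x⁻¹) : x ∈ pGen 2 G := by
  have hodd : Odd (Nat.card (G ⧸ pGen 2 G)) := by
    have := pGen_two_index_odd (G := G)
    rwa [Subgroup.index_eq_card] at this
  have h1 : IsConj (QuotientGroup.mk x : G ⧸ pGen 2 G) (QuotientGroup.mk x : G ⧸ pGen 2 G)⁻¹ := by
    obtain ⟨c, hc⟩ := isConj_iff.mp hx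
    rw [isConj_iff]
    exact ⟨QuotientGroup.mk c, by rw [← QuotientGroup.mk_inv, ← QuotientGroup.mk_inv, ← QuotientGroup.mk_mul, ← QuotientGroup.mk_mul, hc]⟩
  have h2 := eq_one_of_isConj_inv_of_odd hodd _ h1
  exact (QuotientGroup.eq_one_iff x).mp h2

/-- the coset of `x` modulo `N` -/
def cosetType (N : Subgroup G) (x : G) : Type u := {y : G // x⁻¹ * y ∈ N}

noncomputable def cosetEquiv (N : Subgroup G) (x : G) : N ≃ cosetType N x where
  toFun n := ⟨x * n, by simp⟩
  invFun y := ⟨x⁻¹ * y.1, y.2⟩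
  left_inv n := by simp
  right_inv y := by
    apply Subtype.ext
    simp

/-- the map `y ↦ g y⁻¹ g⁻¹` on the coset `xN`, when `g x g⁻¹ ∈ x⁻¹ N` -/
def invConjCoset (N : Subgroup G) [hN : N.Normal] (x g : G) (h : x * (g * x * g⁻¹) ∈ N)
    (y : cosetType N x) : cosetType N x :=
  ⟨g * y.1⁻¹ * g⁻¹, by
    -- x⁻¹ * g y⁻¹ g⁻¹ ; y = x n
    have hy := y.2
    have h1 : g * (x⁻¹ * y.1)⁻¹ * g⁻¹ ∈ N := hN.conj_mem _ (N.inv_mem hy) g
    have h2 : (x * (g * x * g⁻¹))⁻¹ ∈ N := N.inv_mem h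
    have h3 : x⁻¹ * ((g * (x⁻¹ * y.1)⁻¹ * g⁻¹) * (x * (g * x * g⁻¹))⁻¹) * x⁻¹⁻¹ ∈ N :=
      hN.conj_mem _ (N.mul_mem h1 h2) x⁻¹
    have : x⁻¹ * (g * y.1⁻¹ * g⁻¹) =
        x⁻¹ * ((g * (x⁻¹ * y.1)⁻¹ * g⁻¹) * (x * (g * x * g⁻¹))⁻¹) * x⁻¹⁻¹ := by
      group
    rw [this]
    exact h3⟩

theorem invConjCoset_sq (N : Subgroup G) [hN : N.Normal] (x g : G) (h : x * (g * x * g⁻¹) ∈ N)
    (y : cosetType N x) :
    ((invConjCoset N x g h (invConjCoset N x g h y)) : cosetType N x).1 = g ^ 2 * y.1 * (g ^ 2)⁻¹ := by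
  unfold invConjCoset
  simp only [pow_two]
  group

theorem invConjCoset_iterate (N : Subgroup G) [hN : N.Normal] (x g : G)
    (h : x * (g * x * g⁻¹) ∈ N) (k : ℕ) (y : cosetType N x) :
    (((invConjCoset N x g h)^[2 * k] y) : cosetType N x).1 = g ^ (2 * k) * y.1 * (g ^ (2 * k))⁻¹ := by
  induction k with
  | zero => simp
  | succ k ih =>
    have h1 : 2 * (k + 1) = 2 + 2 * k := by ring
    rw [h1, Function.iterate_add_apply]
    have h2 : ((invConjCoset N x g h)^[2] ((invConjCoset N x g h)^[2 * k] y) : cosetType N x).1 =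
        g ^ 2 * ((invConjCoset N x g h)^[2 * k] y).1 * (g ^ 2)⁻¹ :=
      invConjCoset_sq N x g h _
    rw [h2, ih, pow_add]
    group

/-- conjugation-inversion passes to odd powers, modulo `N` -/
theorem mul_conj_pow_mem (N : Subgroup G) [hN : N.Normal] (x g : G)
    (h : x * (g * x * g⁻¹) ∈ N) (j : ℕ) :
    x * (g ^ (2 * j + 1) * x * (g ^ (2 * j + 1))⁻¹) ∈ N := by
  have key : ∀ a : G ⧸ N, ∀ b : G ⧸ N, a * (b * a * b⁻¹) = 1 →
      a * (b ^ (2 * j + 1) * a * (b ^ (2 * j + 1))⁻¹) = 1 := by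
    intro a b hab
    have h1 : b * a * b⁻¹ = a⁻¹ := by
      rw [← mul_eq_one_iff_eq_inv']
      exact hab
    have h2 : b ^ 2 * a * (b ^ 2)⁻¹ = a := by
      have : b ^ 2 * a * (b ^ 2)⁻¹ = b * (b * a * b⁻¹) * b⁻¹ := by rw [pow_two]; group
      rw [this, h1]
      have h3 : b * a⁻¹ * b⁻¹ = (b * a * b⁻¹)⁻¹ := by group
      rw [h3, h1, inv_inv]
    have h4 : ∀ i : ℕ, (b ^ 2) ^ i * a * ((b ^ 2) ^ i)⁻¹ = a := by
      intro i
      induction i with
      | zero => simp
      | succ i ih =>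
        have : (b ^ 2) ^ (i + 1) * a * ((b ^ 2) ^ (i + 1))⁻¹ =
            (b ^ 2) ^ i * (b ^ 2 * a * (b ^ 2)⁻¹) * ((b ^ 2) ^ i)⁻¹ := by
          rw [pow_succ]; group
        rw [this, h2, ih]
    have h5 : b ^ (2 * j + 1) * a * (b ^ (2 * j + 1))⁻¹ =
        (b ^ 2) ^ j * (b * a * b⁻¹) * ((b ^ 2) ^ j)⁻¹ := by
      rw [pow_succ, pow_mul]; group
    rw [h5, h1]
    have h6 : (b ^ 2) ^ j * a⁻¹ * ((b ^ 2) ^ j)⁻¹ = ((b ^ 2) ^ j * a * ((b ^ 2) ^ j)⁻¹)⁻¹ := by group
    rw [h6, h4 j, mul_inv_cancel]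
  have h0 := key (QuotientGroup.mk x) (QuotientGroup.mk g) (by
    rw [← QuotientGroup.mk_inv, ← QuotientGroup.mk_mul, ← QuotientGroup.mk_mul, ← QuotientGroup.mk_mul]
    exact (QuotientGroup.eq_one_iff _).mpr h)
  rw [← QuotientGroup.mk_pow, ← QuotientGroup.mk_inv, ← QuotientGroup.mk_mul, ← QuotientGroup.mk_mul,
    ← QuotientGroup.mk_mul] at h0
  exact (QuotientGroup.eq_one_iff _).mp h0

/-- **Lifting real elements.**  If `N` is a normal subgroup of odd order and the image of `x` in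
`G ⧸ N` is inverted by the image of `g`, then the coset `xN` contains an element inverted by some
element of `G`. -/
theorem exists_real_lift [Finite G] (N : Subgroup G) [hN : N.Normal] (hodd : Odd (Nat.card N))
    (x g : G) (h : x * (g * x * g⁻¹) ∈ N) :
    ∃ y c : G, x⁻¹ * y ∈ N ∧ c * y * c⁻¹ = y⁻¹ := by
  classical
  obtain ⟨s, m, hm, hsm⟩ := Nat.exists_eq_two_pow_mul_odd (orderOf_pos g).ne'
  obtain ⟨j, hj⟩ := hm
  set c := g ^ m with hc
  have hc' : x * (c * x * c⁻¹) ∈ N := by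
    rw [hc, hj]
    exact mul_conj_pow_mem N x g h j
  have hcpow : c ^ (2 ^ s) = 1 := by
    rw [hc, ← pow_mul, mul_comm, ← hsm, pow_orderOf_eq_one]
  set φ := invConjCoset N x c hc' with hφ
  have hiter : φ^[2 * 2 ^ s] = id := by
    funext y
    apply Subtype.ext
    rw [hφ, invConjCoset_iterate, pow_mul, pow_two, ← pow_two, ← pow_mul, mul_comm 2, pow_mul, hcpow]
    simp
  haveI : Finite (cosetType N x) := Finite.of_equiv _ (cosetEquiv N x)
  haveI : Fintype (cosetType N x) := Fintype.ofFinite _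
  obtain ⟨n', hn'⟩ : ∃ n', 2 * 2 ^ s = n' + 1 := ⟨2 * 2 ^ s - 1, by
    have : 0 < 2 * 2 ^ s := by positivity
    omega⟩
  have hl : ∀ y, φ^[n'] (φ y) = y := by
    intro y
    have := congrFun hiter y
    rwa [hn', Function.iterate_succ_apply] at this
  have hr : ∀ y, φ (φ^[n'] y) = y := by
    intro y
    have := congrFun hiter y
    rwa [hn', Function.iterate_succ_apply'] at this
  let τ : Equiv.Perm (cosetType N x) := ⟨φ, φ^[n'], hl, hr⟩
  have hτpow : τ ^ (2 ^ (s + 1)) = 1 := by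
    ext y
    rw [← Equiv.Perm.iterate_eq_pow]
    have h2 : (2 : ℕ) ^ (s + 1) = 2 * 2 ^ s := by ring
    rw [h2]
    have : (⇑τ)^[2 * 2 ^ s] = φ^[2 * 2 ^ s] := rfl
    rw [this, hiter]
    rfl
  have hmod := sum_modEq_sum_fixed_two (s + 1) τ hτpow (fun _ => 1) (fun _ => rfl)
  have hcard : Fintype.card (cosetType N x) = Nat.card N := by
    rw [← Nat.card_eq_fintype_card]
    exact (Nat.card_congr (cosetEquiv N x)).symm
  simp only [Finset.sum_const, smul_eq_mul, mul_one, Finset.card_univ] at hmod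
  have hne : (Finset.univ.filter (fun a => τ a = a)).Nonempty := by
    rw [Finset.nonempty_iff_ne_empty]
    intro hempty
    rw [hempty, Finset.card_empty, hcard] at hmod
    have h3 : ((Nat.card N : ℕ) : ZMod 2) = 1 := by
      obtain ⟨i, hi⟩ := hodd
      rw [hi]
      push_cast
      have : (2 : ZMod 2) = 0 := rfl
      rw [this, zero_mul, zero_add]
    rw [h3] at hmod
    simp at hmod
  obtain ⟨y, hy⟩ := hne
  rw [Finset.mem_filter] at hy
  have hy2 : c * y.1⁻¹ * c⁻¹ = y.1 := congrArg Subtype.val hy.2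
  refine ⟨y.1, c, y.2, ?_⟩
  have h4 : c * y.1 * c⁻¹ = (c * y.1⁻¹ * c⁻¹)⁻¹ := by group
  rw [h4, hy2]

end Cfsg.Agent.Helper6
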