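import Mathlib
import Cfsg.Prelude.Def_Characters
import Cfsg.Agent.Helper6.RealPA
import Cfsg.Agent.Helper6.BrauerPerm2
import Cfsg.Agent.Helper6.Inflation

/-!
# Real classes in normal subgroups of odd order lying in the kernels of all real characters
-/

set_option autoImplicit false
set_option linter.style.haveILetI false

namespace Cfsg.Agent.Helper6

open scoped ComplexConjugate

universe u

variable {G : Type u} [Group G]

/-- real-valued irreducible characters -/
abbrev RealIrr (G : Type u) [Group G] : Type u :=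
  {χ : Cfsg.IrrCharacter G // ∀ g : G, ((χ : G → ℂ) g).im = 0}

/-- real conjugacy classes -/
abbrev RealCl (G : Type u) [Group G] : Type u :=
  {C : ConjClasses G // ∀ g : G, ConjClasses.mk g = C → IsConj g g⁻¹}

theorem conjClasses_map_mk_rfl {H : Type*} [Group H] (f : G →* H) (g : G) :
    ConjClasses.map f (ConjClasses.mk g) = ConjClasses.mk (f g) := rfl

/-- inflation of real characters -/
noncomputable def realInflate (N : Subgroup G) [hN : N.Normal] (χ : RealIrr (G ⧸ N)) : RealIrr G :=
  ⟨⟨(χ.1 : G ⧸ N → ℂ) ∘ QuotientGroup.mk, isIrrCharacter_inflate N χ.1⟩, fun _ => χ.2 _⟩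

theorem realInflate_injective (N : Subgroup G) [hN : N.Normal] :
    Function.Injective (realInflate N) := by
  intro χ ψ h
  apply Subtype.ext
  apply Subtype.ext
  funext q
  obtain ⟨g, rfl⟩ := QuotientGroup.mk_surjective q
  have := congrArg (fun r : RealIrr G => (r.1 : G → ℂ) g) h
  exact this

theorem realInflate_surjective [Finite G] (N : Subgroup G) [hN : N.Normal]
    (hker : ∀ χ : Cfsg.IrrCharacter G, (∀ g : G, ((χ : G → ℂ) g).im = 0) →
      ∀ n ∈ N, (χ : G → ℂ) n = (χ : G → ℂ) 1) :
    Function.Surjective (realInflate N) := by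
  intro χ
  obtain ⟨ψ', hψ'⟩ := exists_deflate N χ.1 (hker χ.1 χ.2)
  refine ⟨⟨ψ', ?_⟩, ?_⟩
  · intro q
    obtain ⟨g, rfl⟩ := QuotientGroup.mk_surjective q
    have := χ.2 g
    rw [hψ'] at this
    exact this
  · apply Subtype.ext
    apply Subtype.ext
    exact hψ'.symm

/-- the image of a real class in a quotient -/
def realClMap (N : Subgroup G) [hN : N.Normal] (C : RealCl G) : RealCl (G ⧸ N) :=
  ⟨ConjClasses.map (QuotientGroup.mk' N) C.1, by
    intro q hq
    obtain ⟨g, hg⟩ := ConjClasses.mk_surjective C.1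
    have hreal := C.2 g hg
    rw [← hg, conjClasses_map_mk_rfl] at hq
    have h1 : IsConj q (QuotientGroup.mk' N g) := ConjClasses.mk_eq_mk_iff_isConj.mp hq
    have h2 : IsConj (QuotientGroup.mk' N g) (QuotientGroup.mk' N g)⁻¹ := by
      have := (QuotientGroup.mk' N).map_isConj hreal
      rwa [map_inv] at this
    have h3 : IsConj (QuotientGroup.mk' N g)⁻¹ q⁻¹ := by
      obtain ⟨c, hc⟩ := isConj_iff.mp h1.symm
      refine isConj_iff.mpr ⟨c, ?_⟩
      rw [← hc]
      group
    exact (h1.trans h2).trans h3⟩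

theorem realClMap_surjective [Finite G] (N : Subgroup G) [hN : N.Normal]
    (hodd : Odd (Nat.card N)) : Function.Surjective (realClMap N) := by
  intro D
  obtain ⟨q, hq⟩ := ConjClasses.mk_surjective D.1
  obtain ⟨x, rfl⟩ := QuotientGroup.mk_surjective q
  have hreal := D.2 _ hq
  obtain ⟨c, hc⟩ := isConj_iff.mp hreal
  obtain ⟨g, rfl⟩ := QuotientGroup.mk_surjective c
  have h : x * (g * x * g⁻¹) ∈ N := by
    rw [← QuotientGroup.eq_one_iff]
    rw [QuotientGroup.mk_mul, QuotientGroup.mk_mul, QuotientGroup.mk_mul, QuotientGroup.mk_inv, hc]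
    simp
  obtain ⟨y, c', hy, hc'⟩ := exists_real_lift N hodd x g h
  have hyreal : IsConj y y⁻¹ := isConj_iff.mpr ⟨c', hc'⟩
  refine ⟨⟨ConjClasses.mk y, ?_⟩, ?_⟩
  · intro z hz
    have h1 : IsConj z y := ConjClasses.mk_eq_mk_iff_isConj.mp hz
    have h3 : IsConj y⁻¹ z⁻¹ := by
      obtain ⟨d, hd⟩ := isConj_iff.mp h1.symm
      refine isConj_iff.mpr ⟨d, ?_⟩
      rw [← hd]
      group
    exact (h1.trans hyreal).trans h3
  · apply Subtype.ext
    change ConjClasses.map (QuotientGroup.mk' N) (ConjClasses.mk y) = D.1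
    rw [conjClasses_map_mk_rfl, ← hq]
    congr 1
    change (QuotientGroup.mk y : G ⧸ N) = QuotientGroup.mk x
    rw [eq_comm, QuotientGroup.eq]
    exact hy

/-- **No real elements.**  If `N` is a normal subgroup of odd order contained in the kernel of every
real-valued irreducible character, then no non-identity element of `N` is conjugate in `G` to its
inverse. -/
theorem eq_one_of_real_of_real_kernel [Finite G] (N : Subgroup G) [hN : N.Normal]
    (hodd : Odd (Nat.card N))
    (hker : ∀ χ : Cfsg.IrrCharacter G, (∀ g : G, ((χ : G → ℂ) g).im = 0) →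
      ∀ n ∈ N, (χ : G → ℂ) n = (χ : G → ℂ) 1)
    (x : G) (hx : x ∈ N) (hreal : IsConj x x⁻¹) : x = 1 := by
  haveI : Finite (Cfsg.IrrCharacter G) := irr_finite
  haveI : Finite (Cfsg.IrrCharacter (G ⧸ N)) := irr_finite
  have h1 : Nat.card (RealIrr (G ⧸ N)) = Nat.card (RealIrr G) :=
    Nat.card_congr (Equiv.ofBijective _ ⟨realInflate_injective N, realInflate_surjective N hker⟩)
  have h2 : Nat.card (RealIrr G) = Nat.card (RealCl G) := card_real_irr_eq_card_real_classes
  have h3 : Nat.card (RealIrr (G ⧸ N)) = Nat.card (RealCl (G ⧸ N)) :=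
    card_real_irr_eq_card_real_classes
  have hbij : Function.Bijective (realClMap N) :=
    (realClMap_surjective N hodd).bijective_of_nat_card_le (by rw [← h2, ← h1, h3])
  have hx1 : ∀ z : G, ConjClasses.mk z = ConjClasses.mk x → IsConj z z⁻¹ := by
    intro z hz
    have h1 : IsConj z x := ConjClasses.mk_eq_mk_iff_isConj.mp hz
    have h3 : IsConj x⁻¹ z⁻¹ := by
      obtain ⟨d, hd⟩ := isConj_iff.mp h1.symm
      refine isConj_iff.mpr ⟨d, ?_⟩
      rw [← hd]
      group
    exact (h1.trans hreal).trans h3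
  have h11 : ∀ z : G, ConjClasses.mk z = ConjClasses.mk (1 : G) → IsConj z z⁻¹ := by
    intro z hz
    have h1 : IsConj z 1 := ConjClasses.mk_eq_mk_iff_isConj.mp hz
    have hz1 : z = 1 := isConj_one_left.mp h1
    rw [hz1, inv_one]
  have heq : realClMap N ⟨ConjClasses.mk x, hx1⟩ = realClMap N ⟨ConjClasses.mk 1, h11⟩ := by
    apply Subtype.ext
    change ConjClasses.map (QuotientGroup.mk' N) (ConjClasses.mk x) =
      ConjClasses.map (QuotientGroup.mk' N) (ConjClasses.mk 1)
    rw [conjClasses_map_mk_rfl, conjClasses_map_mk_rfl]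
    congr 1
    rw [map_one]
    exact (QuotientGroup.eq_one_iff x).mpr hx
  have h5 := congrArg Subtype.val (hbij.1 heq)
  have h6 : IsConj x 1 := ConjClasses.mk_eq_mk_iff_isConj.mp h5
  exact isConj_one_left.mp h6

end Cfsg.Agent.Helper6
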