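import Mathlib
import Cfsg.Prelude.Def_Characters
import Cfsg.Agent.Helper6.RealPB
import Cfsg.Agent.Helper6.PpKerD

/-!
# Real characters of `p'`-degree: normal subgroups inside `P'` are centralized by `2`-elements
-/

set_option autoImplicit false
set_option linter.style.haveILetI false

namespace Cfsg.Agent.Helper6

open scoped ComplexConjugate

universe u

variable {G : Type u} [Group G]

/-- If no non-identity element of the normal subgroup `M` is conjugate to its inverse and `t²`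
centralizes `M`, then `t` centralizes `M`. -/
theorem centralizes_of_sq_centralizes (M : Subgroup G) [hM : M.Normal]
    (hnr : ∀ x ∈ M, IsConj x x⁻¹ → x = 1) (t : G)
    (ht : ∀ m ∈ M, t ^ 2 * m * (t ^ 2)⁻¹ = m) : ∀ m ∈ M, t * m * t⁻¹ = m := by
  intro m hm
  have hu : m⁻¹ * (t * m * t⁻¹) ∈ M := M.mul_mem (M.inv_mem hm) (hM.conj_mem m hm t)
  have hinv : t * (m⁻¹ * (t * m * t⁻¹)) * t⁻¹ = (m⁻¹ * (t * m * t⁻¹))⁻¹ := by
    have h1 : t * (m⁻¹ * (t * m * t⁻¹)) * t⁻¹ = (t * m * t⁻¹)⁻¹ * (t ^ 2 * m * (t ^ 2)⁻¹) := by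
      rw [pow_two]; group
    rw [h1, ht m hm]
    group
  have h1 := hnr _ hu (isConj_iff.mpr ⟨t, hinv⟩)
  have h2 : t * m * t⁻¹ = m * (m⁻¹ * (t * m * t⁻¹)) := by group
  rw [h2, h1, mul_one]

/-- If no non-identity element of the normal subgroup `M` is conjugate to its inverse, then every
`2`-element centralizes `M`. -/
theorem two_element_centralizes (M : Subgroup G) [hM : M.Normal]
    (hnr : ∀ x ∈ M, IsConj x x⁻¹ → x = 1) (g : G) (hg : ∃ k : ℕ, orderOf g = 2 ^ k) :
    ∀ m ∈ M, g * m * g⁻¹ = m := by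
  obtain ⟨k, hk⟩ := hg
  have key : ∀ j : ℕ, j ≤ k → ∀ m ∈ M, g ^ (2 ^ (k - j)) * m * (g ^ (2 ^ (k - j)))⁻¹ = m := by
    intro j
    induction j with
    | zero =>
      intro _ m _
      rw [Nat.sub_zero, ← hk, pow_orderOf_eq_one]
      simp
    | succ j ih =>
      intro hj m hm
      apply centralizes_of_sq_centralizes M hnr (g ^ (2 ^ (k - (j + 1)))) _ m hm
      intro m' hm'
      have h1 : (g ^ 2 ^ (k - (j + 1))) ^ 2 = g ^ 2 ^ (k - j) := by
        rw [← pow_mul, ← pow_succ]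
        congr 2
        omega
      rw [h1]
      exact ih (by omega) m' hm'
  have := key k le_rfl
  simpa using this

theorem pGen_two_le_centralizer (M : Subgroup G) [hM : M.Normal]
    (hnr : ∀ x ∈ M, IsConj x x⁻¹ → x = 1) :
    pGen 2 G ≤ Subgroup.centralizer (M : Set G) := by
  rw [Subgroup.closure_le]
  intro g hg
  rw [SetLike.mem_coe, Subgroup.mem_centralizer_iff]
  intro m hm
  have := two_element_centralizes M hnr g hg m hm
  rw [mul_inv_eq_iff_eq_mul] at this
  exact this.symm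

/-- **S4862 core.** -/
theorem central_of_real_pPrime [Finite G] (p : ℕ) [hp : Fact p.Prime] (hp2 : p ≠ 2)
    (hreal : ∀ χ : Cfsg.IrrCharacter G, (∀ g : G, ((χ : G → ℂ) g).im = 0) →
      ¬ p ∣ Cfsg.charDegree (χ : G → ℂ))
    (P : Sylow p G) (M : Subgroup G) (hM : M.Normal)
    (hMP : M ≤ ⁅(P : Subgroup G), (P : Subgroup G)⁆) :
    pGen 2 G ≤ Subgroup.centralizer (M : Set G) := by
  haveI := hM
  apply pGen_two_le_centralizer
  have hMleP : M ≤ (P : Subgroup G) := hMP.trans (Subgroup.commutator_le_self _)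
  have hodd : Odd (Nat.card M) := by
    have hpg : IsPGroup p M := P.2.to_le hMleP
    obtain ⟨n, hn⟩ := hpg.exists_card_eq
    rw [hn]
    exact (hp.out.odd_of_ne_two hp2).pow
  have hker : ∀ χ : Cfsg.IrrCharacter G, (∀ g : G, ((χ : G → ℂ) g).im = 0) →
      ∀ n ∈ M, (χ : G → ℂ) n = (χ : G → ℂ) 1 := by
    intro χ hχ n hn
    have hbot : (⊥ : Subgroup G) ⊓ Subgroup.centralizer ((P : Subgroup G) : Set G) = ⊥ :=
      bot_inf_eq _
    apply PpKer.normalCore_le_kernel p P ⊥ hbot χ (hreal χ hχ) n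
    have hle : M ≤ (⊥ ⊔ ⁅(P : Subgroup G), (P : Subgroup G)⁆).normalCore := by
      rw [bot_sup_eq]
      exact (Subgroup.normal_le_normalCore).mpr hMP
    exact hle hn
  intro x hx hconj
  exact eq_one_of_real_of_real_kernel M hodd hker x hx hconj

end Cfsg.Agent.Helper6
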