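import Mathlib
import Cfsg.Prelude.Def_Characters
import Cfsg.Agent.Helper6.RealPCX

/-!
(Fork of `RealPD` with one declaration renamed, so that it can be imported together with the
`RelGlaub` files.)

# Real characters of `p'`-degree: group-theoretic lemmas for the main lemma
-/

set_option autoImplicit false
set_option linter.style.haveILetI false

namespace Cfsg.Agent.Helper6.RealP

open Cfsg.Agent.Helper6

universe u

variable {G : Type u} [Group G]

/-- existence of a minimal normal subgroup -/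
theorem exists_min_normal [Finite G] [Nontrivial G] :
    ∃ N : Subgroup G, N.Normal ∧ N ≠ ⊥ ∧
      ∀ L : Subgroup G, L.Normal → L ≤ N → L = ⊥ ∨ L = N := by
  classical
  have hne : ({N : Subgroup G | N.Normal ∧ N ≠ ⊥}).Nonempty :=
    ⟨⊤, inferInstance, top_ne_bot⟩
  obtain ⟨N, ⟨hN1, hN2⟩, hmin⟩ := (wellFounded_lt (α := Subgroup G)).has_min _ hne
  refine ⟨N, hN1, hN2, fun L hL hLN => ?_⟩
  by_contra h
  push Not at h
  exact hmin L ⟨hL, h.1⟩ (lt_of_le_of_ne hLN h.2)

/-- A Sylow subgroup that is normalized by a normal subgroup containing it is normal. -/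
theorem sylow_normal_of_le_normalizer [Finite G] {p : ℕ} [Fact p.Prime] (P : Sylow p G)
    (L : Subgroup G) [L.Normal] (hPL : (P : Subgroup G) ≤ L)
    (hL : L ≤ Subgroup.normalizer ((P : Subgroup G) : Set G)) : (P : Subgroup G).Normal := by
  rw [← Subgroup.normalizer_eq_top_iff, ← Sylow.normalizer_sup_eq_top' P hPL]
  exact (sup_of_le_left hL).symm

/-- If the image of a Sylow subgroup in `G ⧸ N` is normal then `P ⊔ N` is normal. -/
theorem sup_normal_of_map_normal (N : Subgroup G) [hN : N.Normal] (P : Subgroup G)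
    (h : (P.map (QuotientGroup.mk' N)).Normal) : (P ⊔ N).Normal := by
  have h1 : ((P.map (QuotientGroup.mk' N)).comap (QuotientGroup.mk' N)).Normal := h.comap _
  rwa [Subgroup.comap_map_eq, QuotientGroup.ker_mk'] at h1

/-- the subgroup generated by the `p`-elements of a quotient is solvable -/
theorem pGen_quotient_solvable [Finite G] (p : ℕ) [hp : Fact p.Prime] (N : Subgroup G)
    [hN : N.Normal] (hsolv : Group.IsSolvable ↥(pGen p G)) :
    Group.IsSolvable ↥(pGen p (G ⧸ N)) := by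
  rw [← map_pGen_eq p (QuotientGroup.mk' N) (QuotientGroup.mk'_surjective N)]
  exact Group.isSolvable_of_surjective
    ((QuotientGroup.mk' N).subgroupMap_surjective (pGen p G))

/-- the real characters of a quotient have `p'`-degree -/
theorem real_quotient (p : ℕ) (N : Subgroup G) [hN : N.Normal]
    (hreal : ∀ χ : Cfsg.IrrCharacter G, (∀ g : G, ((χ : G → ℂ) g).im = 0) →
      ¬ p ∣ Cfsg.charDegree (χ : G → ℂ)) :
    ∀ χ : Cfsg.IrrCharacter (G ⧸ N), (∀ g : G ⧸ N, ((χ : G ⧸ N → ℂ) g).im = 0) →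
      ¬ p ∣ Cfsg.charDegree (χ : G ⧸ N → ℂ) := by
  intro χ hχ
  have := hreal ⟨(χ : G ⧸ N → ℂ) ∘ QuotientGroup.mk, isIrrCharacter_inflate N χ⟩
    (fun g => hχ _)
  exact this

/-- the index of the subgroup generated by the `2`-elements of a quotient -/
theorem pGen_two_quotient_index [Finite G] (p : ℕ) [hp : Fact p.Prime] (N : Subgroup G)
    [hN : N.Normal] (h : ∃ a : ℕ, (pGen 2 G).index = p ^ a) :
    ∃ b : ℕ, (pGen 2 (G ⧸ N)).index = p ^ b := by
  obtain ⟨a, ha⟩ := h
  haveI : Fact (Nat.Prime 2) := ⟨Nat.prime_two⟩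
  have h1 : (pGen 2 (G ⧸ N)).index ∣ (pGen 2 G).index := by
    rw [← map_pGen_eq 2 (QuotientGroup.mk' N) (QuotientGroup.mk'_surjective N)]
    exact Subgroup.index_map_dvd _ (QuotientGroup.mk'_surjective N)
  rw [ha] at h1
  obtain ⟨b, -, hb⟩ := (Nat.dvd_prime_pow hp.out).mp h1
  exact ⟨b, hb⟩

/-- a solvable minimal normal subgroup is abelian -/
theorem abelian_of_min_normal_solvable (N : Subgroup G) [hN : N.Normal] (hN1 : N ≠ ⊥)
    (hmin : ∀ L : Subgroup G, L.Normal → L ≤ N → L = ⊥ ∨ L = N)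
    (hsolv : Group.IsSolvable ↥N) : ∀ x ∈ N, ∀ y ∈ N, x * y = y * x := by
  haveI : Nontrivial ↥N := (Subgroup.nontrivial_iff_ne_bot N).mpr hN1
  have hlt : commutator ↥N < ⊤ := Group.IsSolvable.commutator_lt_top_of_nontrivial ↥N
  have hmap : (commutator ↥N).map N.subtype = ⁅N, N⁆ := Subgroup.map_subtype_commutator N
  have hnorm : (⁅N, N⁆).Normal := Subgroup.commutator_normal N N
  have hle : ⁅N, N⁆ ≤ N := Subgroup.commutator_le_self N
  rcases hmin _ hnorm hle with h | h
  · intro x hx y hy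
    have hc : N ≤ Subgroup.centralizer (N : Set G) :=
      Subgroup.commutator_eq_bot_iff_le_centralizer.mp h
    have := Subgroup.mem_centralizer_iff.mp (hc hx) y hy
    exact this.symm
  · exfalso
    rw [← hmap] at h
    have h2 : commutator ↥N = ⊤ := by
      rw [eq_top_iff]
      intro x _
      have hx : (x : G) ∈ (commutator ↥N).map N.subtype := by rw [h]; exact x.2
      obtain ⟨y, hy, hyx⟩ := Subgroup.mem_map.mp hx
      have : y = x := Subtype.ext hyx
      rwa [← this]
    exact hlt.ne h2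

/-- iterated `q`-th power roots of one -/
theorem eq_one_of_pow_prime_pow (N : Subgroup G) (q : ℕ)
    (h : ∀ y ∈ N, y ^ q = 1 → y = 1) : ∀ k : ℕ, ∀ y ∈ N, y ^ (q ^ k) = 1 → y = 1 := by
  intro k
  induction k with
  | zero => intro y _ hy; simpa using hy
  | succ k ih =>
    intro y hy hyk
    apply ih y hy
    apply h _ (N.pow_mem hy _)
    rw [← pow_mul, ← pow_succ]
    exact hyk

/-- in an abelian minimal normal subgroup either all or no non-identity elements have order
dividing `q` -/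
theorem min_normal_torsion_cases (N : Subgroup G) [hN : N.Normal]
    (hmin : ∀ L : Subgroup G, L.Normal → L ≤ N → L = ⊥ ∨ L = N)
    (hab : ∀ x ∈ N, ∀ y ∈ N, x * y = y * x) (q : ℕ) :
    (∀ y ∈ N, y ^ q = 1) ∨ (∀ y ∈ N, y ^ q = 1 → y = 1) := by
  let Ω : Subgroup G :=
    { carrier := {x | x ∈ N ∧ x ^ q = 1}
      one_mem' := ⟨N.one_mem, one_pow q⟩
      mul_mem' := by
        rintro a b ⟨ha, hap⟩ ⟨hb, hbp⟩
        refine ⟨N.mul_mem ha hb, ?_⟩
        have hc : Commute a b := hab a ha b hb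
        rw [hc.mul_pow, hap, hbp, one_mul]
      inv_mem' := by
        rintro a ⟨ha, hap⟩
        exact ⟨N.inv_mem ha, by rw [inv_pow, hap, inv_one]⟩ }
  have hΩn : Ω.Normal := by
    constructor
    rintro x ⟨hx, hxp⟩ g
    refine ⟨hN.conj_mem x hx g, ?_⟩
    rw [conj_pow, hxp, mul_one, mul_inv_cancel]
  have hΩN : Ω ≤ N := fun x hx => hx.1
  rcases hmin Ω hΩn hΩN with h | h
  · right
    intro y hy hyq
    have : y ∈ Ω := ⟨hy, hyq⟩
    rw [h] at this
    exact Subgroup.mem_bot.mp this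
  · left
    intro y hy
    have : y ∈ Ω := by rw [h]; exact hy
    exact this.2

/-- real classes of a quotient by a complemented normal subgroup lift -/
theorem realClMap_surjective_of_compl (N : Subgroup G) [hN : N.Normal] (H : Subgroup G)
    (hHN : H ⊔ N = ⊤) (hinf : N ⊓ H = ⊥) : Function.Surjective (realClMap N) := by
  have hrep : ∀ g : G, ∃ h ∈ H, (QuotientGroup.mk h : G ⧸ N) = QuotientGroup.mk g := by
    intro g
    have hg : g ∈ H ⊔ N := by rw [hHN]; exact Subgroup.mem_top g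
    obtain ⟨h, hh, n, hn, rfl⟩ := Subgroup.mem_sup_of_normal_right.mp hg
    refine ⟨h, hh, ?_⟩
    rw [QuotientGroup.eq]
    simpa using hn
  intro D
  obtain ⟨q, hq⟩ := ConjClasses.mk_surjective D.1
  obtain ⟨x, rfl⟩ := QuotientGroup.mk_surjective q
  obtain ⟨h, hh, hhx⟩ := hrep x
  have hreal := D.2 _ hq
  rw [← hhx] at hreal
  obtain ⟨c, hc⟩ := isConj_iff.mp hreal
  obtain ⟨g, rfl⟩ := QuotientGroup.mk_surjective c
  obtain ⟨h₀, hh₀, hh₀g⟩ := hrep g
  rw [← hh₀g] at hc
  have hmem : h₀ * h * h₀⁻¹ * h ∈ N ⊓ H := by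
    refine ⟨?_, H.mul_mem (H.mul_mem (H.mul_mem hh₀ hh) (H.inv_mem hh₀)) hh⟩
    change h₀ * h * h₀⁻¹ * h ∈ N
    rw [← QuotientGroup.eq_one_iff]
    rw [QuotientGroup.mk_mul, QuotientGroup.mk_mul, QuotientGroup.mk_mul, QuotientGroup.mk_inv, hc]
    simp
  rw [hinf, Subgroup.mem_bot] at hmem
  have hyreal : IsConj h h⁻¹ := isConj_iff.mpr ⟨h₀, eq_inv_of_mul_eq_one_left hmem⟩
  refine ⟨⟨ConjClasses.mk h, ?_⟩, ?_⟩
  · intro z hz
    have h1 : IsConj z h := ConjClasses.mk_eq_mk_iff_isConj.mp hz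
    have h3 : IsConj h⁻¹ z⁻¹ := by
      obtain ⟨d, hd⟩ := isConj_iff.mp h1.symm
      refine isConj_iff.mpr ⟨d, ?_⟩
      rw [← hd]
      group
    exact (h1.trans hyreal).trans h3
  · apply Subtype.ext
    change ConjClasses.map (QuotientGroup.mk' N) (ConjClasses.mk h) = D.1
    rw [conjClasses_map_mk_rfl, ← hq]
    congr 1

/-- **No real elements**, general form. -/
theorem eq_one_of_real_of_real_kernel_of_surj [Finite G] (N : Subgroup G) [hN : N.Normal]
    (hsurj : Function.Surjective (realClMap N))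
    (hker : ∀ χ : Cfsg.IrrCharacter G, (∀ g : G, ((χ : G → ℂ) g).im = 0) →
      ∀ n ∈ N, (χ : G → ℂ) n = (χ : G → ℂ) 1)
    (x : G) (hx : x ∈ N) (hreal : IsConj x x⁻¹) : x = 1 := by
  haveI : Finite (Cfsg.IrrCharacter G) := irr_finite
  haveI : Finite (Cfsg.IrrCharacter (G ⧸ N)) := irr_finite
  have h1 : Nat.card (RealIrr (G ⧸ N)) = Nat.card (RealIrr G) :=
    Nat.card_congr (Equiv.ofBijective _ ⟨realInflate_injective N, realInflate_surjective N hker⟩)
  have h2 : Nat.card (RealIrr G) = Nat.card (RealCl G) := card_real_irr_eq_card_real_classes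
  have h3 : Nat.card (RealIrr (G ⧸ N)) = Nat.card (RealCl (G ⧸ N)) :=
    card_real_irr_eq_card_real_classes
  have hbij : Function.Bijective (realClMap N) :=
    hsurj.bijective_of_nat_card_le (by rw [← h2, ← h1, h3])
  have hx1 : ∀ z : G, ConjClasses.mk z = ConjClasses.mk x → IsConj z z⁻¹ := by
    intro z hz
    have h1 : IsConj z x := ConjClasses.mk_eq_mk_iff_isConj.mp hz
    have h3 : IsConj x⁻¹ z⁻¹ := by
      obtain ⟨d, hd⟩ := isConj_iff.mp h1.symm
      refine isConj_iff.mpr ⟨d, ?_⟩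
      rw [← hd]
      group
    exact (h1.trans hreal).trans h3
  have h11 : ∀ z : G, ConjClasses.mk z = ConjClasses.mk (1 : G) → IsConj z z⁻¹ := by
    intro z hz
    have h1 : IsConj z 1 := ConjClasses.mk_eq_mk_iff_isConj.mp hz
    have hz1 : z = 1 := isConj_one_left.mp h1
    rw [hz1, inv_one]
  have heq : realClMap N ⟨ConjClasses.mk x, hx1⟩ = realClMap N ⟨ConjClasses.mk 1, h11⟩ := by
    apply Subtype.ext
    change ConjClasses.map (QuotientGroup.mk' N) (ConjClasses.mk x) =
      ConjClasses.map (QuotientGroup.mk' N) (ConjClasses.mk 1)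
    rw [conjClasses_map_mk_rfl, conjClasses_map_mk_rfl]
    congr 1
    rw [map_one]
    exact (QuotientGroup.eq_one_iff x).mpr hx
  have h5 := congrArg Subtype.val (hbij.1 heq)
  have h6 : IsConj x 1 := ConjClasses.mk_eq_mk_iff_isConj.mp h5
  exact isConj_one_left.mp h6

end Cfsg.Agent.Helper6.RealP
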