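import Mathlib
import Cfsg.Prelude.Def_Characters
import Cfsg.Agent.Helper6.RealPDX
import Cfsg.Agent.Helper6.PpKerB

/-!
(Fork of `RealPE` with one declaration renamed, so that it can be imported together with the
`RelGlaub` files.)

# Real characters of `p'`-degree: the main lemma

If the subgroup generated by the `p`-elements of `G` is solvable, all real-valued irreducible
characters of `G` have `p'`-degree and the subgroup generated by the `2`-elements has `p`-power
index, then the Sylow `p`-subgroups of `G` are normal.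
-/

set_option autoImplicit false
set_option linter.style.haveILetI false

namespace Cfsg.Agent.Helper6.RealP

open Cfsg.Agent.Helper6

universe u

variable {G : Type u} [Group G]

theorem sylow_le_pGen {p : ℕ} [hp : Fact p.Prime] (P : Sylow p G) :
    (P : Subgroup G) ≤ pGen p G := by
  intro y hy
  obtain ⟨k, hk⟩ := (IsPGroup.iff_orderOf.mp P.2) ⟨y, hy⟩
  apply mem_pGen
  refine ⟨k, ?_⟩
  rw [← hk]
  exact (Subgroup.orderOf_mk y hy).symm

theorem sylow_normal_of_centralizes [Finite G] {p : ℕ} [Fact p.Prime] (P : Sylow p G)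
    (N : Subgroup G) (hL : ((P : Subgroup G) ⊔ N).Normal)
    (hc : N ≤ Subgroup.centralizer ((P : Subgroup G) : Set G)) : (P : Subgroup G).Normal :=
  haveI := hL
  sylow_normal_of_le_normalizer P ((P : Subgroup G) ⊔ N) le_sup_left
    (sup_le Subgroup.le_normalizer (hc.trans (Subgroup.centralizer_le_normalizer _)))

theorem card_quotient_lt [Finite G] (N : Subgroup G) [N.Normal] (hN1 : N ≠ ⊥) :
    Nat.card (G ⧸ N) < Nat.card G := by
  have h1 := Subgroup.card_mul_index N
  have h2 : 1 < Nat.card N := (Subgroup.one_lt_card_iff_ne_bot N).mpr hN1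
  have h3 : 0 < N.index := Nat.pos_of_ne_zero Subgroup.index_ne_zero_of_finite
  change N.index < Nat.card G
  nlinarith

/-- **Main lemma.** -/
theorem main_lemma (p : ℕ) [hp : Fact p.Prime] :
    ∀ (n : ℕ) (G : Type u) [Group G] [Finite G], Nat.card G = n →
      Group.IsSolvable ↥(pGen p G) →
      (∀ χ : Cfsg.IrrCharacter G, (∀ g : G, ((χ : G → ℂ) g).im = 0) →
        ¬ p ∣ Cfsg.charDegree (χ : G → ℂ)) →
      (∃ a : ℕ, (pGen 2 G).index = p ^ a) →
      ∀ P : Sylow p G, (P : Subgroup G).Normal := by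
  intro n
  induction n using Nat.strong_induction_on with
  | _ n ih =>
  intro G _ _ hcard hsolv hreal hidx P
  rcases subsingleton_or_nontrivial G with hss | hnt
  · have : (P : Subgroup G) = ⊤ := Subsingleton.elim _ _
    rw [this]; infer_instance
  obtain ⟨N, hNn, hN1, hNmin⟩ := exists_min_normal (G := G)
  haveI := hNn
  -- the quotient
  have hLn : ((P : Subgroup G) ⊔ N).Normal := by
    apply sup_normal_of_map_normal N
    have hlt : Nat.card (G ⧸ N) < n := by
      rw [← hcard]; exact card_quotient_lt N hN1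
    exact ih _ hlt (G ⧸ N) rfl (pGen_quotient_solvable p N hsolv) (real_quotient p N hreal)
      (pGen_two_quotient_index p N hidx) (P.mapSurjective (QuotientGroup.mk'_surjective N))
  -- `N ⊓ O^{p'}(G)`
  rcases hNmin (N ⊓ pGen p G) inferInstance inf_le_left with hM1 | hM1
  · -- `P` centralizes `N`
    apply sylow_normal_of_centralizes P N hLn
    intro x hx
    rw [Subgroup.mem_centralizer_iff]
    intro y hy
    have hypg : y ∈ pGen p G := sylow_le_pGen P hy
    have hc1 : x * y * x⁻¹ * y⁻¹ ∈ N := by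
      have : x * y * x⁻¹ * y⁻¹ = x * (y * x⁻¹ * y⁻¹) := by group
      rw [this]; exact N.mul_mem hx (hNn.conj_mem _ (N.inv_mem hx) y)
    have hc2 : x * y * x⁻¹ * y⁻¹ ∈ pGen p G :=
      (pGen p G).mul_mem ((pGen_normal p).conj_mem y hypg x) ((pGen p G).inv_mem hypg)
    have hc : x * y * x⁻¹ * y⁻¹ ∈ N ⊓ pGen p G := ⟨hc1, hc2⟩
    rw [hM1, Subgroup.mem_bot] at hc
    have : x * y = y * x := by
      have h1 : x * y = (x * y * x⁻¹ * y⁻¹) * (y * x) := by group
      rw [h1, hc, one_mul]
    exact this.symm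
  -- `N` is solvable, hence abelian
  have hNle : N ≤ pGen p G := inf_eq_left.mp hM1
  have hNsolv : Group.IsSolvable ↥N :=
    haveI := hsolv
    Group.isSolvable_of_isSolvable_injective (Subgroup.inclusion_injective hNle)
  have hab := abelian_of_min_normal_solvable N hN1 hNmin hNsolv
  rcases min_normal_torsion_cases N hNmin hab p with hall | hnone
  · -- `N` is a `p`-group
    have hNp : IsPGroup p N := by
      intro g
      refine ⟨1, ?_⟩
      apply Subtype.ext
      rw [pow_one, Subgroup.coe_pow, Subgroup.coe_one]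
      exact hall g.1 g.2
    have hsup : IsPGroup p ((P : Subgroup G) ⊔ N : Subgroup G) :=
      IsPGroup.to_sup_of_normal_right P.2 hNp
    have heq : (P : Subgroup G) ⊔ N = P := P.is_maximal' hsup le_sup_left
    rw [heq] at hLn
    exact hLn
  -- `N ∩ P = 1`
  have hPN : ∀ x ∈ N, x ∈ (P : Subgroup G) → x = 1 := by
    intro x hx hxP
    obtain ⟨k, hk⟩ := P.2 ⟨x, hxP⟩
    have hk' : x ^ (p ^ k) = 1 := by
      have := congrArg Subtype.val hk
      simpa using this
    exact eq_one_of_pow_prime_pow N p hnone k x hx hk'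
  -- Frattini
  have hHN : Subgroup.normalizer ((P : Subgroup G) : Set G) ⊔ N = ⊤ := by
    have h1 := Sylow.normalizer_sup_eq_top' P (le_sup_left : (P : Subgroup G) ≤ (P : Subgroup G) ⊔ N)
    rw [← sup_assoc] at h1
    have h2 : Subgroup.normalizer ((P : Subgroup G) : Set G) ⊔ (P : Subgroup G) =
        Subgroup.normalizer ((P : Subgroup G) : Set G) := sup_of_le_left Subgroup.le_normalizer
    rw [← h2]
    exact h1
  -- `C_N(P)` is normal
  have hCn : (N ⊓ Subgroup.centralizer ((P : Subgroup G) : Set G)).Normal := by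
    constructor
    intro x hx g
    have hg : g ∈ Subgroup.normalizer ((P : Subgroup G) : Set G) ⊔ N := by
      rw [hHN]; exact Subgroup.mem_top g
    obtain ⟨h, hh, m, hm, rfl⟩ := Subgroup.mem_sup_of_normal_right.mp hg
    have h1 : m * x * m⁻¹ = x := by rw [hab m hm x hx.1]; group
    have h2 : h * m * x * (h * m)⁻¹ = h * (m * x * m⁻¹) * h⁻¹ := by group
    rw [h2, h1]
    refine ⟨hNn.conj_mem x hx.1 h, ?_⟩
    change h * x * h⁻¹ ∈ Subgroup.centralizer ((P : Subgroup G) : Set G)
    rw [Subgroup.mem_centralizer_iff]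
    intro y hy
    have hy' : h⁻¹ * y * h ∈ (P : Subgroup G) :=
      (Subgroup.mem_normalizer_iff''.mp hh y).mp hy
    have hc := Subgroup.mem_centralizer_iff.mp hx.2 _ hy'
    calc y * (h * x * h⁻¹) = h * ((h⁻¹ * y * h) * x) * h⁻¹ := by group
      _ = h * (x * (h⁻¹ * y * h)) * h⁻¹ := by rw [hc]
      _ = h * x * h⁻¹ * y := by group
  rcases hNmin _ hCn inf_le_left with hC | hC
  swap
  · exact sylow_normal_of_centralizes P N hLn (inf_eq_left.mp hC)
  exfalso
  -- `N ∩ N_G(P) = 1`
  have hNH : N ⊓ Subgroup.normalizer ((P : Subgroup G) : Set G) = ⊥ := by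
    rw [eq_bot_iff]
    intro x hx
    have hxC : x ∈ N ⊓ Subgroup.centralizer ((P : Subgroup G) : Set G) := by
      refine ⟨hx.1, Subgroup.mem_centralizer_iff.mpr (fun y hy => ?_)⟩
      have hc1 : x * y * x⁻¹ * y⁻¹ ∈ N := by
        have : x * y * x⁻¹ * y⁻¹ = x * (y * x⁻¹ * y⁻¹) := by group
        rw [this]; exact N.mul_mem hx.1 (hNn.conj_mem _ (N.inv_mem hx.1) y)
      have hc2 : x * y * x⁻¹ * y⁻¹ ∈ (P : Subgroup G) :=
        (P : Subgroup G).mul_mem ((Subgroup.mem_normalizer_iff.mp hx.2 y).mp hy)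
          ((P : Subgroup G).inv_mem hy)
      have hc := hPN _ hc1 hc2
      have : x * y = y * x := by
        have h1 : x * y = (x * y * x⁻¹ * y⁻¹) * (y * x) := by group
        rw [h1, hc, one_mul]
      exact this.symm
    rw [hC] at hxC
    exact hxC
  -- the kernels of the real characters contain `N`
  have hker : ∀ χ : Cfsg.IrrCharacter G, (∀ g : G, ((χ : G → ℂ) g).im = 0) →
      ∀ m ∈ N, (χ : G → ℂ) m = (χ : G → ℂ) 1 := fun χ hχ =>
    PpKer.le_kernel_of_inf_centralizer_eq_bot p P N hC χ (hreal χ hχ)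
  have hsurj := realClMap_surjective_of_compl N _ hHN hNH
  have hnr : ∀ x ∈ N, IsConj x x⁻¹ → x = 1 := fun x hx hconj =>
    eq_one_of_real_of_real_kernel_of_surj N hsurj hker x hx hconj
  have hKc := pGen_two_le_centralizer N hnr
  have h2tor : ∀ y ∈ N, y ^ 2 = 1 → y = 1 := by
    intro y hy hy2
    apply hnr y hy
    have : y⁻¹ = y := by
      rw [inv_eq_iff_mul_eq_one, ← pow_two, hy2]
    rw [this]
  -- the `2`-elements normalize `P`
  have hKH : pGen 2 G ≤ Subgroup.normalizer ((P : Subgroup G) : Set G) := by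
    rw [Subgroup.closure_le]
    rintro g ⟨k, hk⟩
    have hgK : g ∈ pGen 2 G := mem_pGen ⟨k, hk⟩
    have hg : g ∈ Subgroup.normalizer ((P : Subgroup G) : Set G) ⊔ N := by
      rw [hHN]; exact Subgroup.mem_top g
    obtain ⟨h, hh, m, hm, rfl⟩ := Subgroup.mem_sup_of_normal_right.mp hg
    have hcm : m * (h * m) = (h * m) * m := Subgroup.mem_centralizer_iff.mp (hKc hgK) m hm
    have hcomm : Commute h m := by
      have : m * h = h * m := by
        have h3 : m * h = (m * (h * m)) * m⁻¹ := by group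
        rw [h3, hcm]; group
      exact this.symm
    have hpow : (h * m) ^ (2 ^ k) = 1 := by rw [← hk]; exact pow_orderOf_eq_one _
    rw [hcomm.mul_pow] at hpow
    have hmem : m ^ (2 ^ k) ∈ N ⊓ Subgroup.normalizer ((P : Subgroup G) : Set G) := by
      refine ⟨N.pow_mem hm _, ?_⟩
      have : m ^ (2 ^ k) = (h ^ (2 ^ k))⁻¹ := (eq_inv_of_mul_eq_one_right hpow)
      rw [this]
      exact Subgroup.inv_mem _ (Subgroup.pow_mem _ hh _)
    rw [hNH, Subgroup.mem_bot] at hmem
    have hm1 : m = 1 := eq_one_of_pow_prime_pow N 2 h2tor k m hm hmem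
    rw [hm1, mul_one]
    exact hh
  obtain ⟨a, ha⟩ := hidx
  rcases hNmin (N ⊓ pGen 2 G) inferInstance inf_le_left with hM2 | hM2
  · -- `N ∩ K = 1`
    apply hN1
    rw [eq_bot_iff]
    intro m hm
    have h1 : ((QuotientGroup.mk m : G ⧸ pGen 2 G)) ^ (p ^ a) = 1 := by
      rw [← ha]
      exact pow_card_eq_one'
    have h2 : m ^ (p ^ a) ∈ pGen 2 G := by
      rw [← QuotientGroup.eq_one_iff, QuotientGroup.mk_pow]
      exact h1
    have h3 : m ^ (p ^ a) ∈ N ⊓ pGen 2 G := ⟨N.pow_mem hm _, h2⟩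
    rw [hM2, Subgroup.mem_bot] at h3
    rw [Subgroup.mem_bot]
    exact eq_one_of_pow_prime_pow N p hnone a m hm h3
  · apply hN1
    rw [eq_bot_iff, ← hNH]
    exact le_inf le_rfl ((inf_eq_left.mp hM2).trans hKH)

end Cfsg.Agent.Helper6.RealP
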