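import Mathlib
import Cfsg.Prelude.Def_Characters
import Cfsg.Agent.Helper6.RealPEX
import Cfsg.Agent.Helper6.FSOddIndexX
import Cfsg.Agent.Helper6.ItoMichler

/-!
(Fork of `RealPF` with one declaration renamed, so that it can be imported together with the
`RelGlaub` files.)

# Real characters of `p'`-degree: normal subgroups of odd index, and the normal Sylow subgroups
-/

set_option autoImplicit false
set_option linter.style.haveILetI false

namespace Cfsg.Agent.Helper6.RealP

open Cfsg.Agent.Helper6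

universe u

variable {G : Type u} [Group G]

/-- a real-valued irreducible character of a normal subgroup of odd index lies under a
real-valued irreducible character -/
theorem exists_real_over [Fintype G] (U : Subgroup G) [hU : U.Normal] [Fintype U]
    (hodd : Odd U.index)
    (θ : Cfsg.IrrCharacter U) (hθ : ∀ u : U, ((θ : U → ℂ) u).im = 0) :
    ∃ χ : Cfsg.IrrCharacter G, (∀ g : G, ((χ : G → ℂ) g).im = 0) ∧
      Cfsg.classInner (fun n : U => (χ : G → ℂ) n) (θ : U → ℂ) ≠ 0 := by
  classical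
  haveI : Finite (Cfsg.IrrCharacter G) := irr_finite
  haveI : Finite (Cfsg.IrrCharacter U) := irr_finite
  haveI : Fintype (Cfsg.IrrCharacter G) := Fintype.ofFinite _
  haveI : Fintype (Cfsg.IrrCharacter U) := Fintype.ofFinite _
  have hsum := sum_fs_restrict U hodd θ
  have hθ0 : fsIndFun (θ : U → ℂ) ≠ 0 := by
    rcases irr_fs_cases θ with ⟨-, h | h⟩ | ⟨⟨g, hg⟩, -⟩
    · rw [h]; exact one_ne_zero
    · rw [h]; exact neg_ne_zero.mpr one_ne_zero
    · exact absurd (hθ g) hg
  rw [← hsum] at hθ0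
  obtain ⟨χ, -, hχ⟩ := Finset.exists_ne_zero_of_sum_ne_zero hθ0
  refine ⟨χ, ?_, right_ne_zero_of_mul hχ⟩
  have hν : fsIndFun (χ : G → ℂ) ≠ 0 := left_ne_zero_of_mul hχ
  rcases irr_fs_cases χ with ⟨h, -⟩ | ⟨-, h⟩
  · exact h
  · exact absurd h hν

/-- the hypothesis on real characters passes to normal subgroups of odd index -/
theorem real_of_odd_index [Finite G] (p : ℕ) (U : Subgroup G) [hU : U.Normal] (hodd : Odd U.index)
    (hreal : ∀ χ : Cfsg.IrrCharacter G, (∀ g : G, ((χ : G → ℂ) g).im = 0) →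
      ¬ p ∣ Cfsg.charDegree (χ : G → ℂ)) :
    ∀ θ : Cfsg.IrrCharacter U, (∀ u : U, ((θ : U → ℂ) u).im = 0) →
      ¬ p ∣ Cfsg.charDegree (θ : U → ℂ) := by
  classical
  intro θ hθ hdvd
  haveI : Fintype G := Fintype.ofFinite G
  haveI : Fintype U := Fintype.ofFinite U
  obtain ⟨χ, hχ, hover⟩ := exists_real_over U hodd θ hθ
  exact hreal χ hχ (hdvd.trans (degree_dvd_of_over U χ θ hover).1)

/-- the subgroup generated by the `p`-elements of a subgroup is solvable -/
theorem pGen_subgroup_solvable (p : ℕ) (U : Subgroup G)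
    (hsolv : Group.IsSolvable ↥(pGen p G)) : Group.IsSolvable ↥(pGen p ↥U) := by
  have hle : (pGen p ↥U).map U.subtype ≤ pGen p G :=
    pGen_map_le p U.subtype U.subtype_injective
  let f : ↥(pGen p ↥U) →* ↥(pGen p G) :=
    (U.subtype.comp (pGen p ↥U).subtype).codRestrict (pGen p G)
      (fun x => hle (Subgroup.mem_map_of_mem _ x.2))
  have hf : Function.Injective f := by
    intro x y hxy
    have := congrArg Subtype.val hxy
    exact Subtype.ext (Subtype.ext this)
  haveI := hsolv
  exact Group.isSolvable_of_isSolvable_injective hf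

/-- the `2`-elements of a subgroup containing all `2`-elements -/
theorem pGen_two_subgroup_map (U : Subgroup G) (hKU : pGen 2 G ≤ U) :
    (pGen 2 ↥U).map U.subtype = pGen 2 G := by
  apply le_antisymm (pGen_map_le 2 U.subtype U.subtype_injective)
  rw [Subgroup.closure_le]
  rintro g ⟨k, hk⟩
  have hgU : g ∈ U := hKU (mem_pGen ⟨k, hk⟩)
  refine ⟨⟨g, hgU⟩, mem_pGen ⟨k, ?_⟩, rfl⟩
  rw [← hk]
  exact Subgroup.orderOf_mk g hgU

theorem pGen_two_subgroup_index (U : Subgroup G) (hKU : pGen 2 G ≤ U) :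
    (pGen 2 ↥U).index = (pGen 2 G).relIndex U := by
  have h1 : pGen 2 ↥U = (pGen 2 G).subgroupOf U := by
    rw [← pGen_two_subgroup_map U hKU]
    exact (Subgroup.comap_map_eq_self_of_injective U.subtype_injective _).symm
  rw [h1]
  rfl

/-- **Normal Sylow subgroups** (common form of S4861 and S4863). -/
theorem sylow_normal_of_odd_index [Finite G] (p : ℕ) [hp : Fact p.Prime]
    (hsolv : Group.IsSolvable ↥(pGen p G))
    (hreal : ∀ χ : Cfsg.IrrCharacter G, (∀ g : G, ((χ : G → ℂ) g).im = 0) →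
      ¬ p ∣ Cfsg.charDegree (χ : G → ℂ))
    (U : Subgroup G) [hU : U.Normal] (hKU : pGen 2 G ≤ U)
    (hUp : ∃ a : ℕ, (pGen 2 G).relIndex U = p ^ a) (Q : Sylow p ↥U) :
    (Q : Subgroup ↥U).Normal := by
  have hodd : Odd U.index :=
    Odd.of_dvd_nat pGen_two_index_odd (Subgroup.index_dvd_of_le hKU)
  apply main_lemma p (Nat.card ↥U) ↥U rfl (pGen_subgroup_solvable p U hsolv)
    (real_of_odd_index p U hodd hreal)
  obtain ⟨a, ha⟩ := hUp
  exact ⟨a, by rw [pGen_two_subgroup_index U hKU, ha]⟩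

end Cfsg.Agent.Helper6.RealP
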