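import Mathlib
import Cfsg.Prelude.Def_Characters

/-!
# Real characters of `p'`-degree: Sylow subgroups and stabilizers
-/

set_option autoImplicit false
set_option linter.style.haveILetI false

namespace Cfsg.Agent.Helper6.RealP

universe u
variable {G : Type u} [Group G]

theorem exists_conj_sylow_le [Finite G] {p : ℕ} [Fact p.Prime] (P : Sylow p G) (T : Subgroup G)
    (h : ¬ p ∣ T.index) : ∃ g : G, ∀ x ∈ (P : Subgroup G), g⁻¹ * x * g ∈ T := by
  have hP : IsPGroup p (P : Subgroup G) := P.2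
  have hcard : ¬ p ∣ Nat.card (G ⧸ T) := h
  obtain ⟨q, hq⟩ := hP.nonempty_fixed_point_of_prime_not_dvd_card (G ⧸ T) hcard
  obtain ⟨g, rfl⟩ := QuotientGroup.mk_surjective q
  refine ⟨g, fun x hx => ?_⟩
  have h1 := hq ⟨x, hx⟩
  have h2 : ((x * g : G) : G ⧸ T) = (g : G ⧸ T) := h1
  rw [QuotientGroup.eq] at h2
  have h3 := T.inv_mem h2
  have h4 : ((x * g)⁻¹ * g)⁻¹ = g⁻¹ * x * g := by group
  rwa [h4] at h3

theorem exists_conj_into_sylow [Finite G] {p : ℕ} [Fact p.Prime]
    (P : Sylow p G) (D : Subgroup G) (hPD : (P : Subgroup G) ≤ D) (H : Subgroup G) (hHD : H ≤ D)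
    (hH : IsPGroup p H) : ∃ d ∈ D, ∀ h ∈ H, d * h * d⁻¹ ∈ (P : Subgroup G) := by
  have hH' : IsPGroup p (H.subgroupOf D) := hH.comap_subtype
  obtain ⟨Q, hQ⟩ := hH'.exists_le_sylow
  obtain ⟨d, hd⟩ := MulAction.exists_smul_eq D Q (P.subtype hPD)
  refine ⟨d.1, d.2, fun h hh => ?_⟩
  have h1 : (⟨h, hHD hh⟩ : D) ∈ (Q : Subgroup D) := hQ (Subgroup.mem_subgroupOf.mpr hh)
  have h2 : d * ⟨h, hHD hh⟩ * d⁻¹ ∈ ((d • Q : Sylow p D) : Subgroup D) := by
    rw [Sylow.coe_subgroup_smul]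
    exact ⟨_, h1, rfl⟩
  rw [hd, Sylow.coe_subtype, Subgroup.mem_subgroupOf] at h2
  simpa using h2

theorem exists_mem_normalizer_of_conj_le [Finite G] {p : ℕ} [Fact p.Prime] (P : Sylow p G)
    (T : Subgroup G) (hPT : (P : Subgroup G) ≤ T) (g : G)
    (hg : ∀ x ∈ (P : Subgroup G), g * x * g⁻¹ ∈ T) :
    ∃ t ∈ T, t * g ∈ Subgroup.normalizer ((P : Subgroup G) : Set G) := by
  have hH : IsPGroup p ((P : Subgroup G).map (MulAut.conj g).toMonoidHom) := P.2.map _
  have hle : (P : Subgroup G).map (MulAut.conj g).toMonoidHom ≤ T := by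
    rintro _ ⟨x, hx, rfl⟩
    exact hg x hx
  obtain ⟨d, hd, hdP⟩ := exists_conj_into_sylow P T hPT _ hle hH
  refine ⟨d, hd, ?_⟩
  apply Subgroup.mem_normalizer_fintype
  intro x hx
  have := hdP (g * x * g⁻¹) ⟨x, hx, rfl⟩
  have h2 : d * g * x * (d * g)⁻¹ = d * (g * x * g⁻¹) * d⁻¹ := by group
  rw [h2]
  exact this

theorem index_modEq_relIndex_normalizer [Finite G] {p : ℕ} [hp : Fact p.Prime] (P : Sylow p G)
    (T : Subgroup G) (hPT : (P : Subgroup G) ≤ T) :
    T.index ≡ T.relIndex (Subgroup.normalizer ((P : Subgroup G) : Set G)) [MOD p] := by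
  set N := Subgroup.normalizer ((P : Subgroup G) : Set G) with hN
  have h1 : N.index ≡ 1 [MOD p] := by
    have e0 := Sylow.card_eq_index_normalizer P
    have e00 := card_sylow_modEq_one p G
    rw [e0] at e00
    exact e00
  have h2 : N.relIndex T ≡ 1 [MOD p] := by
    have e1 := Sylow.card_eq_index_normalizer (P.subtype hPT)
    have e2 := card_sylow_modEq_one p ↥T
    rw [e1] at e2
    have e3 : N.subgroupOf T =
        Subgroup.normalizer (((P : Subgroup G).subgroupOf T : Subgroup T) : Set T) :=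
      Subgroup.subgroupOf_normalizer_eq hPT
    change (N.subgroupOf T).index ≡ 1 [MOD p]
    rw [e3]
    exact e2
  have h3 : N.relIndex T * T.index = T.relIndex N * N.index := by
    rw [← Subgroup.inf_relIndex_right, Subgroup.relIndex_mul_index inf_le_right,
      ← Subgroup.inf_relIndex_left (H := N) (K := T), Subgroup.relIndex_mul_index inf_le_left]
  calc T.index = 1 * T.index := (one_mul _).symm
    _ ≡ N.relIndex T * T.index [MOD p] := (h2.symm.mul_right _)
    _ = T.relIndex N * N.index := h3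
    _ ≡ T.relIndex N * 1 [MOD p] := (h1.mul_left _)
    _ = T.relIndex N := mul_one _

end Cfsg.Agent.Helper6.RealP
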