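import Mathlib
import Cfsg.Prelude.Def_Characters
import Cfsg.Agent.Helper6.RealPFX
import Cfsg.Agent.Helper6.RealOrbits1

/-!
# Real characters over a normal subgroup of odd index
-/

set_option autoImplicit false
set_option linter.style.haveILetI false

namespace Cfsg.Agent.Helper6.RealP

open Cfsg.Agent.Helper6
open scoped ComplexConjugate

universe u

variable {G : Type u} [Group G]

/-- inner product with the complex conjugate, for a real-valued first argument -/
theorem classInner_conj_of_real {H : Type u} [Group H] [Fintype H] (a b : H → ℂ)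
    (ha : ∀ h, (a h).im = 0) :
    Cfsg.classInner a (fun h => conj (b h)) = conj (Cfsg.classInner a b) := by
  unfold Cfsg.classInner
  rw [map_mul, map_inv₀, Complex.conj_natCast, map_sum]
  congr 1
  apply Finset.sum_congr rfl
  intro h _
  rw [map_mul, Complex.conj_conj, Complex.conj_eq_iff_im.mpr (ha h)]

/-- the irreducible constituents of the restriction of a real-valued irreducible character to a
normal subgroup of odd index are real-valued -/
theorem real_of_constituent [Fintype G] (N : Subgroup G) [hN : N.Normal] [Fintype N]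
    (hodd : Odd N.index) (χ : Cfsg.IrrCharacter G) (hχ : ∀ g, ((χ : G → ℂ) g).im = 0)
    (θ : Cfsg.IrrCharacter N)
    (hover : Cfsg.classInner (fun n : N => (χ : G → ℂ) n) (θ : N → ℂ) ≠ 0) :
    ∀ n : N, ((θ : N → ℂ) n).im = 0 := by
  have hθ' : Cfsg.IsIrrCharacter N (fun n => conj ((θ : N → ℂ) n)) := conj_isIrr θ.2
  have hne : Cfsg.classInner (fun n : N => (χ : G → ℂ) n) (fun n => conj ((θ : N → ℂ) n)) ≠ 0 := by
    rw [classInner_conj_of_real (H := N) (fun n : N => (χ : G → ℂ) n) (θ : N → ℂ) (fun n => hχ n)]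
    intro h
    apply hover
    have := congrArg conj h
    rwa [Complex.conj_conj, map_zero] at this
  obtain ⟨g, hg⟩ := conj_of_constituents N (χ : G → ℂ) χ.2 (θ : N → ℂ) θ.2 hover _ hθ' hne
  have hfix : (θ : N → ℂ) ∘ invConj N g = (θ : N → ℂ) := by
    funext k
    have h1 : ((θ : N → ℂ) ∘ invConj N g) k = conjFun N (θ : N → ℂ) g k⁻¹ := rfl
    rw [h1, ← hg]
    change conj ((θ : N → ℂ) k⁻¹) = (θ : N → ℂ) k
    rw [IsCharacter.inv_eq_conj (IsIrrCharacter.isCharacter θ.2), Complex.conj_conj]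
  exact ((char_fixed_invConj_iff N hodd g (θ : N → ℂ) θ.2).mp hfix).1

/-- uniqueness of the real character over a real character -/
theorem real_over_unique [Fintype G] (N : Subgroup G) [hN : N.Normal] [Fintype N]
    (hodd : Odd N.index) (θ : Cfsg.IrrCharacter N) (χ χ' : Cfsg.IrrCharacter G)
    (hχ : ∀ g, ((χ : G → ℂ) g).im = 0) (hχ' : ∀ g, ((χ' : G → ℂ) g).im = 0)
    (hover : Cfsg.classInner (fun n : N => (χ : G → ℂ) n) (θ : N → ℂ) ≠ 0)
    (hover' : Cfsg.classInner (fun n : N => (χ' : G → ℂ) n) (θ : N → ℂ) ≠ 0) : χ = χ' := by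
  have hσ : SigmaHyp G (Nat.card G - 1) 1 := sigmaHyp_card_sub_one
  apply Subtype.ext
  exact sigma_unique_over hσ N hodd (θ : N → ℂ) θ.2 _ _ χ.2 χ'.2
    ((real_iff_fixed_card_sub_one _ (IsIrrCharacter.isCharacter χ.2)).mp hχ)
    ((real_iff_fixed_card_sub_one _ (IsIrrCharacter.isCharacter χ'.2)).mp hχ') hover hover'

/-- a real character lies over a real character of an odd-index normal subgroup with
multiplicity one -/
theorem real_over_mult_one [Fintype G] (N : Subgroup G) [hN : N.Normal] [Fintype N]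
    (hodd : Odd N.index) (θ : Cfsg.IrrCharacter N) (hθ : ∀ n, ((θ : N → ℂ) n).im = 0)
    (χ : Cfsg.IrrCharacter G) (hχ : ∀ g, ((χ : G → ℂ) g).im = 0)
    (hover : Cfsg.classInner (fun n : N => (χ : G → ℂ) n) (θ : N → ℂ) ≠ 0) :
    Cfsg.classInner (fun n : N => (χ : G → ℂ) n) (θ : N → ℂ) = 1 := by
  classical
  haveI : Finite (Cfsg.IrrCharacter G) := irr_finite
  haveI : Fintype (Cfsg.IrrCharacter G) := Fintype.ofFinite _
  haveI : Finite (Cfsg.IrrCharacter N) := irr_finite
  haveI : Fintype (Cfsg.IrrCharacter N) := Fintype.ofFinite _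
  have hsum := sum_fs_restrict N hodd θ
  have hsingle : fsIndFun (χ : G → ℂ) *
      Cfsg.classInner (fun n : N => (χ : G → ℂ) n) (θ : N → ℂ) = fsIndFun (θ : N → ℂ) := by
    rw [← hsum]
    symm
    apply Finset.sum_eq_single χ
    · intro χ' _ hne
      rcases irr_fs_cases χ' with ⟨hr, -⟩ | ⟨-, h0⟩
      · by_contra hne0
        exact hne (real_over_unique N hodd θ χ' χ hr hχ (right_ne_zero_of_mul hne0) hover)
      · rw [h0, zero_mul]
    · intro h; exact absurd (Finset.mem_univ χ) h
  obtain ⟨m, hm⟩ := classInner_char_char_nat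
    (IsCharacter.restrict N (IsIrrCharacter.isCharacter χ.2)) (IsIrrCharacter.isCharacter θ.2)
  rw [hm] at hsingle hover ⊢
  have hm0 : m ≠ 0 := by
    rintro rfl
    exact hover (by simp)
  have hνχ : fsIndFun (χ : G → ℂ) = 1 ∨ fsIndFun (χ : G → ℂ) = -1 := by
    rcases irr_fs_cases χ with ⟨-, h⟩ | ⟨⟨g, hg⟩, -⟩
    · exact h
    · exact absurd (hχ g) hg
  have hνθ : fsIndFun (θ : N → ℂ) = 1 ∨ fsIndFun (θ : N → ℂ) = -1 := by
    rcases irr_fs_cases θ with ⟨-, h⟩ | ⟨⟨g, hg⟩, -⟩
    · exact h
    · exact absurd (hθ g) hg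
  have hcases : (m : ℂ) = 1 ∨ (m : ℂ) = -1 := by
    rcases hνχ with h1 | h1 <;> rcases hνθ with h2 | h2 <;> rw [h1, h2] at hsingle
    · left; simpa using hsingle
    · right; simpa using hsingle
    · right
      have := congrArg (fun z => -z) hsingle
      simpa using this
    · left
      have := congrArg (fun z => -z) hsingle
      simpa using this
  rcases hcases with h | h
  · exact h
  · exfalso
    have h1 : ((m : ℂ)).re = -1 := by rw [h]; simp
    rw [Complex.natCast_re] at h1
    have : (0 : ℝ) ≤ (m : ℝ) := Nat.cast_nonneg m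
    linarith

/-- the degree of the real character over a real character -/
theorem real_over_degree [Fintype G] (N : Subgroup G) [hN : N.Normal] [Fintype N]
    (hodd : Odd N.index) (θ : Cfsg.IrrCharacter N) (hθ : ∀ n, ((θ : N → ℂ) n).im = 0)
    (χ : Cfsg.IrrCharacter G) (hχ : ∀ g, ((χ : G → ℂ) g).im = 0)
    (hover : Cfsg.classInner (fun n : N => (χ : G → ℂ) n) (θ : N → ℂ) ≠ 0) :
    Cfsg.charDegree (χ : G → ℂ) =
      (conjStab N (θ : N → ℂ)).index * Cfsg.charDegree (θ : N → ℂ) := by
  have h1 := clifford_degree N (χ : G → ℂ) χ.2 (θ : N → ℂ) θ.2 hover (conjStab N (θ : N → ℂ))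
    (fun g => mem_conjStab N _ g)
  rw [real_over_mult_one N hodd θ hθ χ hχ hover, one_mul,
    ← charDegree_cast_of_isCharacter (IsIrrCharacter.isCharacter χ.2),
    ← charDegree_cast_of_isCharacter (IsIrrCharacter.isCharacter θ.2)] at h1
  exact_mod_cast h1

end Cfsg.Agent.Helper6.RealP
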