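import Mathlib
import Cfsg.Prelude.Def_Characters
import Cfsg.Agent.Helper6.RelGlaubD

/-!
# The relative Glauberman correspondence over an invariant character, inside a stable subgroup
-/

set_option autoImplicit false
set_option linter.style.haveILetI false
set_option linter.unusedSimpArgs false

namespace Cfsg.Agent.Helper6.RelGlaub

open scoped ComplexConjugate

universe u

variable {X : Type u} [Group X]

/-- The relative Glauberman correspondence over `θ`, inside an `A`-stable subgroup `T`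
stabilizing `θ`. -/
theorem relGlaub_in_stabilizer [Fintype X] {p : ℕ} [hp : Fact p.Prime] (H : Subgroup X)
    [hHn : H.Normal] [Fintype H] (A : Subgroup (MulAut X)) (hA : IsPGroup p A)
    (hHp : IsPGroup p H) (hidx : ¬ p ∣ H.index) (hAH : ∀ a ∈ A, ∀ h ∈ H, a h ∈ H)
    (D : Subgroup X) (hHD : H ≤ D) (hD : ∀ x : X, x ∈ D ↔ ∀ a ∈ A, a x * x⁻¹ ∈ H)
    (θ : H → ℂ) (hθ : Cfsg.IsIrrCharacter H θ)
    (hinvA : ∀ a ∈ A, ∀ h h' : H, (h' : X) = a (h : X) → θ h' = θ h)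
    (T : Subgroup X) [Fintype T] (hHT : H ≤ T) (hAT : ∀ a ∈ A, ∀ t ∈ T, a t ∈ T)
    (hTθ : ∀ t ∈ T, conjFun H θ t = θ) [Fintype (D.subgroupOf T)] :
    (∀ ψ : T → ℂ, Cfsg.IsIrrCharacter T ψ →
      Cfsg.classInner (fun n : H => ψ ⟨n, hHT n.2⟩) θ ≠ 0 →
      InvOn (A : Set (MulAut X)) T ψ →
      ∃ ν₀ : Cfsg.IrrCharacter (D.subgroupOf T),
        Cfsg.classInner (fun n : H => (ν₀ : D.subgroupOf T → ℂ)
          ⟨⟨n, hHT n.2⟩, Subgroup.mem_subgroupOf.mpr (hHD n.2)⟩) θ ≠ 0 ∧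
        (∃ m : ℕ, Cfsg.classInner (fun y : D.subgroupOf T => ψ y)
            (ν₀ : D.subgroupOf T → ℂ) = (m : ℂ) ∧
          ((m : ℤ) ≡ 1 [ZMOD p] ∨ (m : ℤ) ≡ -1 [ZMOD p])) ∧
        ∀ ν : Cfsg.IrrCharacter (D.subgroupOf T),
          Cfsg.classInner (fun n : H => (ν : D.subgroupOf T → ℂ)
            ⟨⟨n, hHT n.2⟩, Subgroup.mem_subgroupOf.mpr (hHD n.2)⟩) θ ≠ 0 → ν ≠ ν₀ →
          ∃ m : ℕ, Cfsg.classInner (fun y : D.subgroupOf T => ψ y)
            (ν : D.subgroupOf T → ℂ) = (m : ℂ) ∧ p ∣ m) ∧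
    (∀ ν : Cfsg.IrrCharacter (D.subgroupOf T),
      Cfsg.classInner (fun n : H => (ν : D.subgroupOf T → ℂ)
        ⟨⟨n, hHT n.2⟩, Subgroup.mem_subgroupOf.mpr (hHD n.2)⟩) θ ≠ 0 →
      ∀ a ∈ A, ∀ y y' : D.subgroupOf T, (((y' : T) : X)) = a ((y : T) : X) →
        (ν : D.subgroupOf T → ℂ) y' = (ν : D.subgroupOf T → ℂ) y) ∧
    (∀ ψ ψ' : T → ℂ, Cfsg.IsIrrCharacter T ψ →
      Cfsg.classInner (fun n : H => ψ ⟨n, hHT n.2⟩) θ ≠ 0 →
      InvOn (A : Set (MulAut X)) T ψ → Cfsg.IsIrrCharacter T ψ' →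
      Cfsg.classInner (fun n : H => ψ' ⟨n, hHT n.2⟩) θ ≠ 0 →
      InvOn (A : Set (MulAut X)) T ψ' →
      ∀ ν : Cfsg.IrrCharacter (D.subgroupOf T),
        Cfsg.classInner (fun n : H => (ν : D.subgroupOf T → ℂ)
          ⟨⟨n, hHT n.2⟩, Subgroup.mem_subgroupOf.mpr (hHD n.2)⟩) θ ≠ 0 →
        (∃ m : ℕ, Cfsg.classInner (fun y : D.subgroupOf T => ψ y)
          (ν : D.subgroupOf T → ℂ) = (m : ℂ) ∧ ¬ p ∣ m) →
        (∃ m : ℕ, Cfsg.classInner (fun y : D.subgroupOf T => ψ' y)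
          (ν : D.subgroupOf T → ℂ) = (m : ℂ) ∧ ¬ p ∣ m) → ψ = ψ') ∧
    (∀ ν : Cfsg.IrrCharacter (D.subgroupOf T),
      Cfsg.classInner (fun n : H => (ν : D.subgroupOf T → ℂ)
        ⟨⟨n, hHT n.2⟩, Subgroup.mem_subgroupOf.mpr (hHD n.2)⟩) θ ≠ 0 →
      ∃ ψ : T → ℂ, Cfsg.IsIrrCharacter T ψ ∧
        Cfsg.classInner (fun n : H => ψ ⟨n, hHT n.2⟩) θ ≠ 0 ∧
        InvOn (A : Set (MulAut X)) T ψ ∧
        ∃ m : ℕ, Cfsg.classInner (fun y : D.subgroupOf T => ψ y)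
          (ν : D.subgroupOf T → ℂ) = (m : ℂ) ∧ ¬ p ∣ m) := by
  classical
  haveI hH'n : (H.subgroupOf T).Normal := hHn.subgroupOf T
  haveI : Fintype (H.subgroupOf T) := Fintype.ofFinite _
  set A' : Subgroup (MulAut T) := (restrictHom A T hAT).range with hA'def
  have hA' : IsPGroup p A' :=
    IsPGroup.of_surjective hA (restrictHom A T hAT).rangeRestrict
      (MonoidHom.rangeRestrict_surjective _)
  have hHp' : IsPGroup p (H.subgroupOf T) :=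
    IsPGroup.of_equiv hHp (Subgroup.subgroupOfEquivOfLe hHT).symm
  have hidx' : ¬ p ∣ (H.subgroupOf T).index := by
    intro h
    apply hidx
    exact h.trans (Subgroup.relIndex_dvd_index_of_normal (H := H) (K := T))
  have hAH' : ∀ a' ∈ A', ∀ h ∈ H.subgroupOf T, a' h ∈ H.subgroupOf T := by
    rintro _ ⟨a, rfl⟩ h hh
    rw [Subgroup.mem_subgroupOf] at hh ⊢
    rw [restrictHom_apply]
    exact hAH a.1 a.2 _ hh
  have hHD' : H.subgroupOf T ≤ D.subgroupOf T := by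
    intro t ht
    rw [Subgroup.mem_subgroupOf] at ht ⊢
    exact hHD ht
  have hD' : ∀ x : T, x ∈ D.subgroupOf T ↔ ∀ a' ∈ A', a' x * x⁻¹ ∈ H.subgroupOf T := by
    intro x
    rw [Subgroup.mem_subgroupOf, hD]
    constructor
    · intro h a' ha'
      obtain ⟨a, rfl⟩ := ha'
      rw [Subgroup.mem_subgroupOf]
      exact h a.1 a.2
    · intro h a ha
      have := h (restrictHom A T hAT ⟨a, ha⟩) ⟨⟨a, ha⟩, rfl⟩
      rw [Subgroup.mem_subgroupOf] at this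
      exact this
  set θ' : H.subgroupOf T → ℂ :=
    fun n => θ ⟨((n : T) : X), Subgroup.mem_subgroupOf.mp n.2⟩ with hθ'def
  have hθ' : Cfsg.IsIrrCharacter (H.subgroupOf T) θ' :=
    IsIrrCharacter.comp_mulEquiv (Subgroup.subgroupOfEquivOfLe hHT) hθ
  have hinvX' : ∀ (g : T) (n : H.subgroupOf T),
      θ' ⟨g * n * g⁻¹, hH'n.conj_mem (n : T) n.2 g⟩ = θ' n := by
    intro g n
    have h1 := congrFun (hTθ g.1 g.2) ⟨((n : T) : X), Subgroup.mem_subgroupOf.mp n.2⟩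
    exact h1
  have hinvA' : ∀ a' ∈ A', ∀ h h' : H.subgroupOf T, (h' : T) = a' (h : T) → θ' h' = θ' h := by
    rintro _ ⟨a, rfl⟩ h h' hh'
    apply hinvA a.1 a.2
    show ((h' : T) : X) = _
    rw [hh', restrictHom_apply]
  obtain ⟨L1, L2, L3, L4⟩ := relGlaub_over_invariant (H.subgroupOf T) A' hA' hHp' hidx' hAH'
    (D.subgroupOf T) hHD' hD' θ' hθ' hinvX' hinvA'
  -- conversions
  have hovT : ∀ ψ : T → ℂ, Cfsg.classInner (fun n : H.subgroupOf T => ψ n) θ' =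
      Cfsg.classInner (fun n : H => ψ ⟨n, hHT n.2⟩) θ :=
    fun ψ => classInner_subgroupOf_eq H T hHT ψ θ
  have hovD : ∀ ν : D.subgroupOf T → ℂ,
      Cfsg.classInner (fun n : H.subgroupOf T => ν ⟨n, hHD' n.2⟩) θ' =
      Cfsg.classInner (fun n : H => ν
        ⟨⟨n, hHT n.2⟩, Subgroup.mem_subgroupOf.mpr (hHD n.2)⟩) θ := by
    intro ν
    rw [← classInner_comp_equiv' (Subgroup.subgroupOfEquivOfLe hHT).toEquiv
      (fun n : H => ν ⟨⟨n, hHT n.2⟩, Subgroup.mem_subgroupOf.mpr (hHD n.2)⟩) θ]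
    rfl
  have hinvT : ∀ ψ : T → ℂ, InvUnder (A' : Set (MulAut T)) ψ ↔
      InvOn (A : Set (MulAut X)) T ψ := by
    intro ψ
    constructor
    · intro h a ha y y' hyy'
      have := h (restrictHom A T hAT ⟨a, ha⟩) ⟨⟨a, ha⟩, rfl⟩ y
      rw [← this]
      congr 1
      apply Subtype.ext
      rw [hyy', restrictHom_apply]
    · rintro h _ ⟨a, rfl⟩ y
      exact h a.1 a.2 y _ (restrictHom_apply A T hAT a y)
  refine ⟨?_, ?_, ?_, ?_⟩
  · intro ψ hψ hover hinv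
    obtain ⟨ν₀, hν₀, hm, hrest⟩ := L1 ψ hψ (by rw [hovT]; exact hover) ((hinvT ψ).mpr hinv)
    refine ⟨ν₀, by rw [← hovD]; exact hν₀, hm, ?_⟩
    intro ν hν hne
    exact hrest ν (by rw [hovD]; exact hν) hne
  · intro ν hν a ha y y' hyy'
    have := L2 ν (by rw [hovD]; exact hν) (restrictHom A T hAT ⟨a, ha⟩) ⟨⟨a, ha⟩, rfl⟩ y y'
    apply this
    apply Subtype.ext
    rw [hyy', restrictHom_apply]
  · intro ψ ψ' hψ hover hinv hψ' hover' hinv' ν hν hrel hrel'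
    exact L3 ψ ψ' hψ (by rw [hovT]; exact hover) ((hinvT ψ).mpr hinv) hψ'
      (by rw [hovT]; exact hover') ((hinvT ψ').mpr hinv') ν (by rw [hovD]; exact hν) hrel hrel'
  · intro ν hν
    obtain ⟨ψ, hψ, hover, hinv, hm⟩ := L4 ν (by rw [hovD]; exact hν)
    exact ⟨ψ, hψ, by rw [← hovT]; exact hover, (hinvT ψ).mp hinv, hm⟩

end Cfsg.Agent.Helper6.RelGlaub
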