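import Mathlib
import Cfsg.Prelude.Def_Characters
import Cfsg.Agent.Helper6.RelGlaubD
import Cfsg.Agent.Helper6.CliffordOrbit
import Cfsg.Agent.Helper6.CliffordCorr2
import Cfsg.Agent.Helper6.NormalComplementBlock2

/-!
# Tools for the Clifford reduction of the relative Glauberman correspondence
-/

set_option autoImplicit false
set_option linter.style.haveILetI false
set_option linter.unusedSimpArgs false

namespace Cfsg.Agent.Helper6.RelGlaub

open scoped ComplexConjugate

universe u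

variable {X : Type u} [Group X]

/-- induction commutes with automorphisms stabilizing the subgroup -/
theorem indFun_comp_aut [Fintype X] (T : Subgroup X) (a : X ≃* X)
    (haT : ∀ x : X, x ∈ T ↔ a x ∈ T) (ψ : T → ℂ) :
    (fun x => Cfsg.indFun T ψ (a x)) =
      Cfsg.indFun T (fun t : T => ψ ⟨a t, (haT t).mp t.2⟩) := by
  funext x
  rw [indFun_apply, indFun_apply]
  congr 1
  symm
  apply Fintype.sum_equiv a.toEquiv
  intro y
  have hy : a (y⁻¹ * x * y) = (a y)⁻¹ * a x * a y := by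
    rw [map_mul, map_mul, map_inv]
  show Cfsg.extendByZero T _ (y⁻¹ * x * y) = Cfsg.extendByZero T ψ ((a y)⁻¹ * a x * a y)
  rw [← hy]
  by_cases hm : y⁻¹ * x * y ∈ T
  · rw [extendByZero_mem _ _ hm, extendByZero_mem _ _ ((haT _).mp hm)]
  · have hm' : a (y⁻¹ * x * y) ∉ T := fun h => hm ((haT _).mpr h)
    rw [extendByZero_not_mem _ _ hm, extendByZero_not_mem _ _ hm']

/-- a character orthogonal to `θ` on a subgroup is orthogonal to every irreducible character
lying over `θ` -/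
theorem classInner_eq_zero_of_not_over {Y H₀ : Type u} [Group Y] [Fintype Y] [Group H₀]
    [Fintype H₀] (ι : H₀ →* Y) (θ : H₀ → ℂ) (hθ : Cfsg.IsIrrCharacter H₀ θ) (Δ : Y → ℂ)
    (hΔ : Cfsg.IsCharacter Y Δ) (hΔθ : Cfsg.classInner (Δ ∘ ι) θ = 0) (ν : Y → ℂ)
    (hν : Cfsg.IsIrrCharacter Y ν) (hνθ : Cfsg.classInner (ν ∘ ι) θ ≠ 0) :
    Cfsg.classInner Δ ν = 0 := by
  by_contra hne
  have hsub := sub_isCharacter_of_constituent hΔ hν hne
  have hsubH : Cfsg.IsCharacter H₀ ((Δ - ν) ∘ ι) := IsCharacter.comp_hom ι hsub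
  obtain ⟨n, hn⟩ := classInner_irr_char_nat hθ hsubH
  obtain ⟨n', hn'⟩ : ∃ n' : ℕ, Cfsg.classInner θ (ν ∘ ι) = n' :=
    classInner_irr_char_nat hθ (IsCharacter.comp_hom ι (IsIrrCharacter.isCharacter hν))
  have h1 : Cfsg.classInner θ ((Δ - ν) ∘ ι) =
      Cfsg.classInner θ (Δ ∘ ι) - Cfsg.classInner θ (ν ∘ ι) := by
    have : (Δ - ν) ∘ ι = Δ ∘ ι - ν ∘ ι := rfl
    rw [this, classInner_sub_right]
  have h2 : Cfsg.classInner θ (Δ ∘ ι) = 0 := by
    rw [classInner_conj_symm, hΔθ, map_zero]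
  have h3 : n' ≠ 0 := by
    rintro rfl
    apply hνθ
    rw [classInner_conj_symm, hn', Nat.cast_zero, map_zero]
  rw [hn, h2, hn', zero_sub] at h1
  have h4 : ((n + n' : ℕ) : ℂ) = 0 := by
    push_cast
    rw [h1]
    ring
  have h5 : n + n' = 0 := by exact_mod_cast h4
  omega

/-- An irreducible character invariant under a `p`-group of automorphisms has an invariant
irreducible constituent on a stable normal subgroup of index prime to `p`. -/
theorem exists_invariant_constituent [Fintype X] {p : ℕ} [hp : Fact p.Prime] (H : Subgroup X)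
    [hHn : H.Normal] [Fintype H] (A : Subgroup (MulAut X)) (hA : IsPGroup p A)
    (hidx : ¬ p ∣ H.index) (hAH : ∀ a ∈ A, ∀ h ∈ H, a h ∈ H) (χ : X → ℂ)
    (hχ : Cfsg.IsIrrCharacter X χ) (hχinv : InvUnder (A : Set (MulAut X)) χ) :
    ∃ θ : Cfsg.IrrCharacter H, Cfsg.classInner (fun n : H => χ n) (θ : H → ℂ) ≠ 0 ∧
      ∀ a ∈ A, ∀ h h' : H, (h' : X) = a (h : X) → (θ : H → ℂ) h' = (θ : H → ℂ) h := by
  classical
  haveI : Finite (Cfsg.IrrCharacter H) := irr_finite
  haveI : Fintype (Cfsg.IrrCharacter H) := Fintype.ofFinite _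
  have hχcf := IsCharacter.isClassFunction (IsIrrCharacter.isCharacter hχ)
  letI : MulAction (MulAut H) (Cfsg.IrrCharacter H) := irrMulAction H
  letI : MulAction A (Cfsg.IrrCharacter H) := MulAction.compHom _ (restrictHom A H hAH)
  have hsmul : ∀ (t : A) (θ : Cfsg.IrrCharacter H) (h : H),
      ((t • θ : Cfsg.IrrCharacter H) : H → ℂ) h =
        (θ : H → ℂ) ((restrictHom A H hAH t)⁻¹ h) := fun _ _ _ => rfl
  have hres : ∀ (t : A) (h : H), χ ((restrictHom A H hAH t h : H) : X) = χ h := by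
    intro t h
    rw [restrictHom_apply]
    exact hχinv t.1 t.2 h
  set w : Cfsg.IrrCharacter H → ℕ := fun θ =>
    if Cfsg.classInner (fun n : H => χ n) (θ : H → ℂ) ≠ 0 then 1 else 0 with hw
  have hinner : ∀ (t : A) (θ : Cfsg.IrrCharacter H),
      Cfsg.classInner (fun n : H => χ n) ((t • θ : Cfsg.IrrCharacter H) : H → ℂ) =
        Cfsg.classInner (fun n : H => χ n) (θ : H → ℂ) := by
    intro t θ
    have h1 : ((t • θ : Cfsg.IrrCharacter H) : H → ℂ) =
        (θ : H → ℂ) ∘ ((restrictHom A H hAH t)⁻¹ : MulAut H).toEquiv := by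
      funext h
      exact hsmul t θ h
    have h2 : (fun n : H => χ n) =
        (fun n : H => χ n) ∘ ((restrictHom A H hAH t)⁻¹ : MulAut H).toEquiv := by
      funext h
      show χ h = χ (((restrictHom A H hAH t)⁻¹ h : H) : X)
      rw [← map_inv]
      exact (hres t⁻¹ h).symm
    rw [h1]
    conv_lhs => rw [h2]
    exact classInner_comp_equiv' _ _ _
  have hwinv : ∀ (t : A) (θ : Cfsg.IrrCharacter H), w (t • θ) = w θ := by
    intro t θ
    simp only [hw]
    rw [hinner t θ]
  set F : Finset (Cfsg.IrrCharacter H) := Finset.univ.filter (fun θ => ∀ t : A, t • θ = θ)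
    with hF
  have hFmem : ∀ θ : Cfsg.IrrCharacter H, θ ∈ F ↔ ∀ t : A, t • θ = θ := by
    intro θ
    rw [hF, Finset.mem_filter]
    simp
  have hmod := sum_modEq_sum_fixed hA w hwinv F hFmem
  obtain ⟨θ₁, hθ₁⟩ := exists_constituent_restrict H ⟨χ, hχ⟩
  have hsum : ∑ θ, w θ = (conjStab H (θ₁ : H → ℂ)).index := by
    rw [← card_conj_orbit H (θ₁ : H → ℂ)]
    simp only [hw]
    rw [Finset.sum_ite, Finset.sum_const_zero, add_zero, Finset.sum_const, smul_eq_mul, mul_one]
    rw [← Finset.card_image_of_injective _ (Subtype.val_injective)]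
    congr 1
    ext φ
    simp only [Finset.mem_image, Finset.mem_filter, Finset.mem_univ, true_and]
    constructor
    · rintro ⟨θ, hθ, rfl⟩
      obtain ⟨g, hg⟩ := conj_of_constituents H χ hχ (θ₁ : H → ℂ) θ₁.2 hθ₁ (θ : H → ℂ) θ.2 hθ
      exact ⟨g, hg.symm⟩
    · rintro ⟨g, rfl⟩
      refine ⟨⟨conjFun H (θ₁ : H → ℂ) g, conjFun_isIrr H θ₁.2 g⟩, ?_, rfl⟩
      show Cfsg.classInner (fun n : H => χ n) (conjFun H (θ₁ : H → ℂ) g) ≠ 0
      rw [← conjFun_restrict H χ hχcf g, classInner_conjFun]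
      exact hθ₁
  have hnd : ¬ p ∣ ∑ θ ∈ F, w θ := by
    intro hdvd
    apply hidx
    have h1 : p ∣ ∑ θ, w θ :=
      Nat.modEq_zero_iff_dvd.mp (hmod.trans (Nat.modEq_zero_iff_dvd.mpr hdvd))
    rw [hsum] at h1
    exact h1.trans (Subgroup.index_dvd_of_le (le_conjStab_of_isClassFunction H (θ₁ : H → ℂ)
      (IsCharacter.isClassFunction (IsIrrCharacter.isCharacter θ₁.2))))
  have hex : ∃ θ ∈ F, w θ ≠ 0 := by
    by_contra hcon
    simp only [not_exists, not_and, not_not] at hcon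
    apply hnd
    rw [Finset.sum_eq_zero hcon]
    exact dvd_zero p
  obtain ⟨θ, hθF, hθw⟩ := hex
  have hθc : Cfsg.classInner (fun n : H => χ n) (θ : H → ℂ) ≠ 0 := by
    by_contra hcon
    apply hθw
    simp only [hw]
    rw [if_neg (not_not.mpr hcon)]
  refine ⟨θ, hθc, ?_⟩
  intro a ha h h' hh'
  have h1 := (hFmem θ).mp hθF ⟨a⁻¹, inv_mem ha⟩
  have h2 := congrArg (fun φ : Cfsg.IrrCharacter H => (φ : H → ℂ) h) h1
  rw [hsmul] at h2
  rw [← h2]
  have h3 : h' = ((restrictHom A H hAH) ⟨a⁻¹, inv_mem ha⟩)⁻¹ h := by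
    apply Subtype.ext
    rw [hh', ← map_inv, restrictHom_apply]
    simp
  rw [h3]

/-- Glauberman's lemma: two invariant characters of `H` that are conjugate in `X` are conjugate
under the fixed points modulo `H`. -/
theorem glauberman_transitive [Fintype X] {p : ℕ} [hp : Fact p.Prime] (H : Subgroup X)
    [hHn : H.Normal] [Fintype H] (A : Subgroup (MulAut X)) (hA : IsPGroup p A)
    (hidx : ¬ p ∣ H.index) (hAH : ∀ a ∈ A, ∀ h ∈ H, a h ∈ H) (D : Subgroup X)
    (hD : ∀ x : X, x ∈ D ↔ ∀ a ∈ A, a x * x⁻¹ ∈ H) (θ θ' : H → ℂ)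
    (hθ'cf : Cfsg.IsClassFunction H θ')
    (hinv : ∀ a ∈ A, ∀ h h' : H, (h' : X) = a (h : X) → θ h' = θ h)
    (hinv' : ∀ a ∈ A, ∀ h h' : H, (h' : X) = a (h : X) → θ' h' = θ' h)
    (x : X) (hx : θ' = conjFun H θ x) : ∃ c ∈ D, θ' = conjFun H θ c := by
  classical
  haveI : Fintype (X ⧸ H) := Fintype.ofFinite _
  set S : Set X := {y | conjFun H θ y = θ'} with hS
  have hxS : x ∈ S := hx.symm
  -- stability under `A`
  have hSA : ∀ a ∈ A, ∀ y ∈ S, a y ∈ S := by
    intro a ha y hy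
    show conjFun H θ (a y) = θ'
    funext h
    have hmem : a⁻¹ (h : X) ∈ H := hAH _ (inv_mem ha) h h.2
    set h₀ : H := ⟨a⁻¹ (h : X), hmem⟩ with hh₀
    have hah₀ : a (h₀ : X) = h := by
      show a (a⁻¹ (h : X)) = h
      rw [← MulAut.mul_apply, mul_inv_cancel]
      rfl
    have h1 : a y * (h : X) * (a y)⁻¹ = a (y * (h₀ : X) * y⁻¹) := by
      rw [map_mul, map_mul, map_inv, hah₀]
    have h2 : conjFun H θ (a y) h = θ ⟨y * (h₀ : X) * y⁻¹, hHn.conj_mem _ h₀.2 y⟩ := by
      show θ ⟨a y * (h : X) * (a y)⁻¹, _⟩ = _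
      exact hinv a ha ⟨y * (h₀ : X) * y⁻¹, hHn.conj_mem _ h₀.2 y⟩ _ h1
    rw [h2]
    have h3 : θ ⟨y * (h₀ : X) * y⁻¹, hHn.conj_mem _ h₀.2 y⟩ = θ' h₀ := by
      rw [← (show conjFun H θ y = θ' from hy)]
      rfl
    rw [h3]
    exact (hinv' a ha h₀ h hah₀.symm).symm
  -- right `H`-stability
  have hSH : ∀ y ∈ S, ∀ h ∈ H, y * h ∈ S := by
    intro y hy h hh
    show conjFun H θ (y * h) = θ'
    rw [← conjFun_mul, (show conjFun H θ y = θ' from hy)]
    exact le_conjStab_of_isClassFunction H θ' hθ'cf hh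
  set Sbar : Finset (X ⧸ H) := Finset.univ.filter (fun q => ∃ y ∈ S, (QuotientGroup.mk y : X ⧸ H) = q)
    with hSbar
  have hmk : ∀ y : X, (QuotientGroup.mk y : X ⧸ H) ∈ Sbar ↔ y ∈ S := by
    intro y
    rw [hSbar, Finset.mem_filter]
    simp only [Finset.mem_univ, true_and]
    constructor
    · rintro ⟨y', hy', heq⟩
      rw [QuotientGroup.eq] at heq
      have := hSH y' hy' _ heq
      rwa [mul_inv_cancel_left] at this
    · intro hy
      exact ⟨y, hy, rfl⟩
  -- cardinalities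
  have hcardS : (Finset.univ.filter (fun y : X => y ∈ S)).card =
      Nat.card (conjStab H θ) := by
    rw [← Fintype.card_subtype, ← Nat.card_eq_fintype_card]
    symm
    apply Nat.card_congr
    refine ⟨fun t => ⟨(t : X) * x, ?_⟩, fun y => ⟨(y : X) * x⁻¹, ?_⟩, ?_, ?_⟩
    · show conjFun H θ ((t : X) * x) = θ'
      rw [← conjFun_mul, (show conjFun H θ (t : X) = θ from t.2)]
      exact hx.symm
    · show conjFun H θ ((y : X) * x⁻¹) = θ
      rw [← conjFun_mul, (show conjFun H θ (y : X) = θ' from y.2), hx, conjFun_mul,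
        mul_inv_cancel, conjFun_one]
    · intro t
      apply Subtype.ext
      show (t : X) * x * x⁻¹ = t
      rw [mul_inv_cancel_right]
    · intro y
      apply Subtype.ext
      show (y : X) * x⁻¹ * x = y
      rw [inv_mul_cancel_right]
  have hcardrel : Nat.card (conjStab H θ) = Nat.card H * Sbar.card := by
    have h1 := sum_comp_quotient_mk H (fun q : X ⧸ H => if q ∈ Sbar then (1 : ℂ) else 0)
    have h2 : ∑ y : X, (fun q : X ⧸ H => if q ∈ Sbar then (1 : ℂ) else 0)
        (QuotientGroup.mk' H y) = ((Finset.univ.filter (fun y : X => y ∈ S)).card : ℂ) := by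
      rw [Finset.card_filter]
      push_cast
      apply Finset.sum_congr rfl
      intro y _
      show (if (QuotientGroup.mk y : X ⧸ H) ∈ Sbar then (1 : ℂ) else 0) = _
      rw [if_congr (hmk y) rfl rfl]
    have h3 : ∑ q : X ⧸ H, (if q ∈ Sbar then (1 : ℂ) else 0) = (Sbar.card : ℂ) := by
      rw [Finset.sum_ite_mem, Finset.univ_inter, Finset.sum_const, nsmul_eq_mul, mul_one]
    rw [h2, h3, hcardS] at h1
    exact_mod_cast h1
  have hSbar_nd : ¬ p ∣ Sbar.card := by
    intro hdvd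
    apply hidx
    have h1 : Nat.card X = Nat.card (conjStab H θ) * (conjStab H θ).index :=
      (Subgroup.card_mul_index _).symm
    have h2 : Nat.card X = Nat.card H * H.index := (Subgroup.card_mul_index _).symm
    rw [hcardrel, h2, mul_assoc] at h1
    have hH0 : Nat.card H ≠ 0 := Nat.card_pos.ne'
    have h3 : H.index = Sbar.card * (conjStab H θ).index := Nat.eq_of_mul_eq_mul_left
      (Nat.pos_of_ne_zero hH0) h1
    rw [h3]
    exact hdvd.mul_right _
  -- the action on the quotient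
  letI : MulAction A (X ⧸ H) := MulAction.compHom _ (quotAutHom H A hAH)
  have hsmul : ∀ (t : A) (y : X), t • (QuotientGroup.mk y : X ⧸ H) =
      QuotientGroup.mk ((t : MulAut X) y) := fun _ _ => rfl
  set w : X ⧸ H → ℕ := fun q => if q ∈ Sbar then 1 else 0 with hw
  have hwinv : ∀ (t : A) (q : X ⧸ H), w (t • q) = w q := by
    intro t q
    induction q using QuotientGroup.induction_on with
    | H y =>
      simp only [hw]
      rw [hsmul, if_congr (hmk _) rfl rfl, if_congr (hmk y) rfl rfl]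
      have hiff : (t : MulAut X) y ∈ S ↔ y ∈ S := by
        constructor
        · intro h
          have := hSA _ (inv_mem t.2) _ h
          rwa [← MulAut.mul_apply, inv_mul_cancel] at this
        · exact hSA t.1 t.2 y
      rw [if_congr hiff rfl rfl]
  set F : Finset (X ⧸ H) := Finset.univ.filter (fun q => ∀ t : A, t • q = q) with hF
  have hFmem : ∀ q : X ⧸ H, q ∈ F ↔ ∀ t : A, t • q = q := by
    intro q
    rw [hF, Finset.mem_filter]
    simp
  have hmod := sum_modEq_sum_fixed hA w hwinv F hFmem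
  have hsum : ∑ q, w q = Sbar.card := by
    simp only [hw]
    rw [Finset.sum_ite_mem, Finset.univ_inter, Finset.sum_const, smul_eq_mul, mul_one]
  have hnd : ¬ p ∣ ∑ q ∈ F, w q := by
    intro hdvd
    apply hSbar_nd
    rw [← hsum]
    exact Nat.modEq_zero_iff_dvd.mp (hmod.trans (Nat.modEq_zero_iff_dvd.mpr hdvd))
  have hex : ∃ q ∈ F, w q ≠ 0 := by
    by_contra hcon
    simp only [not_exists, not_and, not_not] at hcon
    apply hnd
    rw [Finset.sum_eq_zero hcon]
    exact dvd_zero p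
  obtain ⟨q, hqF, hqw⟩ := hex
  induction q using QuotientGroup.induction_on with
  | H y =>
    have hyS : y ∈ S := by
      rw [← hmk]
      by_contra hcon
      apply hqw
      simp only [hw]
      rw [if_neg hcon]
    refine ⟨y, ?_, hyS.symm⟩
    rw [hD]
    intro a ha
    have h1 := (hFmem _).mp hqF ⟨a, ha⟩
    rw [hsmul, QuotientGroup.eq] at h1
    have h2 : a y * y⁻¹ = (a y) * ((a y)⁻¹ * y)⁻¹ * (a y)⁻¹ := by group
    rw [h2]
    exact hHn.conj_mem _ (H.inv_mem h1) _

end Cfsg.Agent.Helper6.RelGlaub
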