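import Mathlib
import Cfsg.Prelude.Def_Characters
import Cfsg.Agent.Helper6.RelGlaubE
import Cfsg.Agent.Helper6.CliffordCorr
import Cfsg.Agent.Helper6.CliffordCorr2
import Cfsg.Agent.Helper6.CliffordUnique
import Cfsg.Agent.Helper6.GlaubO

/-!
# Clifford correspondence and invariance; the multiplicity formula
-/

set_option autoImplicit false
set_option linter.style.haveILetI false
set_option linter.unusedSimpArgs false

namespace Cfsg.Agent.Helper6.RelGlaub

open scoped ComplexConjugate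

universe u

variable {G : Type u} [Group G]

/-- an automorphism fixing `θ` stabilizes the stabilizer of `θ` -/
theorem conjFun_aut_eq (N : Subgroup G) [hN : N.Normal] (a : MulAut G)
    (haN' : ∀ n ∈ N, a⁻¹ n ∈ N) (θ θ' : N → ℂ)
    (hinv : ∀ n n' : N, (n' : G) = a (n : G) → θ n' = θ n)
    (hinv' : ∀ n n' : N, (n' : G) = a (n : G) → θ' n' = θ' n)
    (y : G) (hy : conjFun N θ y = θ') : conjFun N θ (a y) = θ' := by
  funext h
  have hmem : a⁻¹ (h : G) ∈ N := haN' h h.2
  set h₀ : N := ⟨a⁻¹ (h : G), hmem⟩ with hh₀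
  have hah₀ : a (h₀ : G) = h := by
    show a (a⁻¹ (h : G)) = h
    rw [← MulAut.mul_apply, mul_inv_cancel]
    rfl
  have h1 : a y * (h : G) * (a y)⁻¹ = a (y * (h₀ : G) * y⁻¹) := by
    rw [map_mul, map_mul, map_inv, hah₀]
  have h2 : conjFun N θ (a y) h = θ ⟨y * (h₀ : G) * y⁻¹, hN.conj_mem _ h₀.2 y⟩ := by
    show θ ⟨a y * (h : G) * (a y)⁻¹, _⟩ = _
    exact hinv ⟨y * (h₀ : G) * y⁻¹, hN.conj_mem _ h₀.2 y⟩ _ h1
  rw [h2]
  have h3 : θ ⟨y * (h₀ : G) * y⁻¹, hN.conj_mem _ h₀.2 y⟩ = θ' h₀ := by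
    rw [← hy]
    rfl
  rw [h3]
  exact (hinv' h₀ h hah₀.symm).symm

/-- invariance passes through the Clifford correspondence -/
theorem clifford_inv_iff [Fintype G] (N : Subgroup G) [hN : N.Normal] [Fintype N] (θ : N → ℂ)
    (hθ : Cfsg.IsIrrCharacter N θ) (T : Subgroup G) [Fintype T]
    (hT' : ∀ g : G, g ∈ T ↔ conjFun N θ g = θ) (hNT : N ≤ T) (a : MulAut G)
    (haN : ∀ n ∈ N, a n ∈ N) (haN' : ∀ n ∈ N, a⁻¹ n ∈ N)
    (haθ : ∀ n n' : N, (n' : G) = a (n : G) → θ n' = θ n)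
    (ψ : T → ℂ) (hψ : Cfsg.IsIrrCharacter T ψ)
    (hover : Cfsg.classInner (fun n : N => ψ ⟨(n : G), hNT n.2⟩) θ ≠ 0) :
    (∀ g : G, Cfsg.indFun T ψ (a g) = Cfsg.indFun T ψ g) ↔
      (∀ t t' : T, (t' : G) = a (t : G) → ψ t' = ψ t) := by
  have haθ' : ∀ n n' : N, (n' : G) = a⁻¹ (n : G) → θ n' = θ n := by
    intro n n' hnn'
    have h1 : (n : G) = a (n' : G) := by
      rw [hnn', ← MulAut.mul_apply, mul_inv_cancel]
      rfl
    exact (haθ n' n h1).symm
  have haT : ∀ t ∈ T, a t ∈ T := by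
    intro t ht
    rw [hT']
    exact conjFun_aut_eq N a haN' θ θ haθ haθ t ((hT' t).mp ht)
  have haT' : ∀ t ∈ T, a⁻¹ t ∈ T := by
    intro t ht
    rw [hT']
    refine conjFun_aut_eq N a⁻¹ ?_ θ θ haθ' haθ' t ((hT' t).mp ht)
    intro n hn
    rw [inv_inv]
    exact haN n hn
  have haTiff : ∀ x : G, x ∈ T ↔ (a : G ≃* G) x ∈ T := by
    intro x
    constructor
    · exact haT x
    · intro h
      have := haT' _ h
      rwa [← MulAut.mul_apply, inv_mul_cancel] at this
  have hind := indFun_comp_aut T (a : G ≃* G) haTiff ψ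
  set ψa : T → ℂ := fun t : T => ψ ⟨(a : G ≃* G) t, (haTiff t).mp t.2⟩ with hψa
  constructor
  · intro h t t' htt'
    have hψairr : Cfsg.IsIrrCharacter T ψa :=
      IsIrrCharacter.comp_mulEquiv (restrictAut a T haT haT') hψ
    have hψaover : Cfsg.classInner (fun n : N => ψa ⟨(n : G), hNT n.2⟩) θ ≠ 0 := by
      have h1 : (fun n : N => ψa ⟨(n : G), hNT n.2⟩) =
          (fun n : N => ψ ⟨(n : G), hNT n.2⟩) ∘ (restrictAut a N haN haN').toEquiv := by
        funext n
        rfl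
      have h2 : θ = θ ∘ (restrictAut a N haN haN').toEquiv := by
        funext n
        exact (haθ n _ rfl).symm
      rw [h1]
      conv_lhs => rw [h2]
      rw [classInner_comp_equiv']
      exact hover
    have heq : Cfsg.indFun T ψa = Cfsg.indFun T ψ := by
      rw [← hind]
      funext g
      exact h g
    have := clifford_corr_unique N θ hθ T hT' hNT ψa ψ hψairr hψ hψaover hover heq
    have h3 := congrFun this t
    rw [← h3]
    show ψ t' = ψ ⟨(a : G ≃* G) t, _⟩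
    congr 1
    apply Subtype.ext
    exact htt'
  · intro h g
    have h1 : ψa = ψ := by
      funext t
      exact h t _ rfl
    have h2 := congrFun hind g
    rw [h1] at h2
    exact h2

/-- The multiplicity formula for Clifford correspondents over the same `θ`. -/
theorem mult_formula {X : Type u} [Group X] [Fintype X] (H : Subgroup X) [hHn : H.Normal]
    [Fintype H] (θ : H → ℂ) (hθ : Cfsg.IsIrrCharacter H θ) (T : Subgroup X) [Fintype T]
    (hT' : ∀ g : X, g ∈ T ↔ conjFun H θ g = θ) (hHT : H ≤ T) (ψ : T → ℂ)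
    (hψ : Cfsg.IsIrrCharacter T ψ)
    (hover : Cfsg.classInner (fun n : H => ψ ⟨(n : X), hHT n.2⟩) θ ≠ 0)
    (D : Subgroup X) [Fintype D] (hHD : H ≤ D) (TD : Subgroup D) [Fintype TD]
    (hTD : ∀ d : D, d ∈ TD ↔ (d : X) ∈ T) (ν' : TD → ℂ) (hν' : Cfsg.IsIrrCharacter TD ν')
    (hover' : Cfsg.classInner
      (fun n : H => ν' ⟨⟨(n : X), hHD n.2⟩, (hTD _).mpr (hHT n.2)⟩) θ ≠ 0) :
    Cfsg.classInner (fun d : D => Cfsg.indFun T ψ d) (Cfsg.indFun TD ν') =
      Cfsg.classInner (fun t : TD => ψ ⟨((t : D) : X), (hTD t).mp t.2⟩) ν' := by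
  classical
  obtain ⟨hχ, hmult⟩ := clifford_corr_ind_irr H θ hθ T hT' hHT ψ hψ hover
  set χ : X → ℂ := Cfsg.indFun T ψ with hχdef
  have hχchar := IsIrrCharacter.isCharacter hχ
  have hχcf := IsCharacter.isClassFunction hχchar
  have hχDcf : Cfsg.IsClassFunction D (fun d : D => χ d) :=
    IsCharacter.isClassFunction (IsCharacter.restrict D hχchar)
  have h1 := frobenius_reciprocity TD ν' (fun d : D => χ d) hχDcf
  -- the complement of `ψ` in `χ_T`
  have hne : Cfsg.classInner (fun t : T => χ t) ψ ≠ 0 := by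
    have h2 := frobenius_reciprocity T ψ χ hχcf
    rw [← hχdef, classInner_irr_self hχ] at h2
    rw [classInner_conj_symm, ← h2, map_one]
    exact one_ne_zero
  have hΔ : Cfsg.IsCharacter T ((fun t : T => χ t) - ψ) :=
    sub_isCharacter_of_constituent (IsCharacter.restrict T hχchar) hψ hne
  set Δ : T → ℂ := (fun t : T => χ t) - ψ with hΔdef
  have hΔθ : Cfsg.classInner (fun n : H => Δ ⟨(n : X), hHT n.2⟩) θ = 0 := by
    have h3 : (fun n : H => Δ ⟨(n : X), hHT n.2⟩) =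
        (fun n : H => χ n) - fun n : H => ψ ⟨(n : X), hHT n.2⟩ := rfl
    rw [h3, classInner_sub_left, hmult, sub_self]
  -- transport to `TD`
  let κ : TD →* T :=
    { toFun := fun t => ⟨((t : D) : X), (hTD t).mp t.2⟩
      map_one' := rfl
      map_mul' := fun _ _ => rfl }
  let ι : H →* TD :=
    { toFun := fun n => ⟨⟨(n : X), hHD n.2⟩, (hTD _).mpr (hHT n.2)⟩
      map_one' := rfl
      map_mul' := fun _ _ => rfl }
  have hΔκ : Cfsg.IsCharacter TD (Δ ∘ κ) := IsCharacter.comp_hom κ hΔ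
  have hzero : Cfsg.classInner (Δ ∘ κ) ν' = 0 :=
    classInner_eq_zero_of_not_over ι θ hθ (Δ ∘ κ) hΔκ hΔθ ν' hν' hover'
  have hsplit : (fun t : TD => (fun d : D => χ d) t) =
      (fun t : TD => ψ ⟨((t : D) : X), (hTD t).mp t.2⟩) + Δ ∘ κ := by
    funext t
    show χ ((t : D) : X) = ψ (κ t) + (χ ((κ t : T) : X) - ψ (κ t))
    have : ((κ t : T) : X) = ((t : D) : X) := rfl
    rw [this]
    ring
  rw [classInner_conj_symm, h1, hsplit, classInner_add_right, map_add,
    ← classInner_conj_symm, ← classInner_conj_symm, hzero, add_zero]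

end Cfsg.Agent.Helper6.RelGlaub
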