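import Mathlib
import Cfsg.Prelude.Def_Characters
import Cfsg.Agent.Helper6.RelGlaubF
import Cfsg.Agent.Helper6.RelGlaubG

/-!
# The Clifford correspondence inside a subgroup containing the normal subgroup
-/

set_option autoImplicit false
set_option linter.style.haveILetI false
set_option linter.unusedSimpArgs false

namespace Cfsg.Agent.Helper6.RelGlaub

open scoped ComplexConjugate

universe u

variable {X : Type u} [Group X]

/-- the character `θ` of `H`, seen on `H` as a subgroup of `D` -/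
def resTheta (H D : Subgroup X) (θ : H → ℂ) : H.subgroupOf D → ℂ :=
  fun n => θ ⟨((n : D) : X), Subgroup.mem_subgroupOf.mp n.2⟩

/-- the stabilizer of `θ` in `D` -/
def stabIn (H D : Subgroup X) [H.Normal] (θ : H → ℂ) : Subgroup D :=
  conjStab (H.subgroupOf D) (resTheta H D θ)

theorem mem_stabIn_iff (H D : Subgroup X) [hHn : H.Normal] (hHD : H ≤ D) (θ : H → ℂ) (d : D) :
    d ∈ stabIn H D θ ↔ (d : X) ∈ conjStab H θ := by
  unfold stabIn
  rw [mem_conjStab, mem_conjStab]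
  constructor
  · intro h
    funext n
    have := congrFun h ⟨⟨(n : X), hHD n.2⟩, Subgroup.mem_subgroupOf.mpr n.2⟩
    exact this
  · intro h
    funext n
    have := congrFun h ⟨((n : D) : X), Subgroup.mem_subgroupOf.mp n.2⟩
    exact this

theorem le_stabIn (H D : Subgroup X) [hHn : H.Normal] (hHD : H ≤ D) (θ : H → ℂ)
    (hθcf : Cfsg.IsClassFunction H θ) : H.subgroupOf D ≤ stabIn H D θ := by
  intro d hd
  rw [mem_stabIn_iff H D hHD]
  exact le_conjStab_of_isClassFunction H θ hθcf (Subgroup.mem_subgroupOf.mp hd)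

theorem resTheta_isIrr (H D : Subgroup X) [Finite H] [Finite D] (hHD : H ≤ D) {θ : H → ℂ}
    (hθ : Cfsg.IsIrrCharacter H θ) : Cfsg.IsIrrCharacter (H.subgroupOf D) (resTheta H D θ) :=
  IsIrrCharacter.comp_mulEquiv (Subgroup.subgroupOfEquivOfLe hHD) hθ

/-- over-ness, converted -/
theorem over_stabIn_iff (H D : Subgroup X) (hHD : H ≤ D) [Fintype H]
    [Fintype (H.subgroupOf D)] (θ : H → ℂ) (TD : Subgroup D) (hle : H.subgroupOf D ≤ TD)
    (g : TD → ℂ) :
    Cfsg.classInner (fun n : H.subgroupOf D => g ⟨(n : D), hle n.2⟩) (resTheta H D θ) =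
      Cfsg.classInner (fun n : H => g ⟨⟨(n : X), hHD n.2⟩,
        hle (Subgroup.mem_subgroupOf.mpr n.2)⟩) θ := by
  rw [← classInner_comp_equiv' (Subgroup.subgroupOfEquivOfLe hHD).toEquiv
    (fun n : H => g ⟨⟨(n : X), hHD n.2⟩, hle (Subgroup.mem_subgroupOf.mpr n.2)⟩) θ]
  rfl

theorem stabIn_mem_iff' (H D : Subgroup X) [hHn : H.Normal] (θ : H → ℂ) (g : D) :
    g ∈ stabIn H D θ ↔ ∀ n : H.subgroupOf D,
      resTheta H D θ ⟨g * n * g⁻¹, (inferInstance : (H.subgroupOf D).Normal).conj_mem (n : D) n.2 g⟩ =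
        resTheta H D θ n := by
  unfold stabIn
  rw [mem_conjStab, funext_iff]
  rfl

/-- existence of the Clifford correspondent inside `D` -/
theorem cliffD_exists (H D : Subgroup X) [hHn : H.Normal] (hHD : H ≤ D) [Fintype D] [Fintype H]
    (θ : H → ℂ) [Fintype (stabIn H D θ)] (hθ : Cfsg.IsIrrCharacter H θ) (ξ : D → ℂ)
    (hξ : Cfsg.IsIrrCharacter D ξ)
    (hover : Cfsg.classInner (fun n : H => ξ ⟨(n : X), hHD n.2⟩) θ ≠ 0) :
    ∃ ν' : stabIn H D θ → ℂ, Cfsg.IsIrrCharacter (stabIn H D θ) ν' ∧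
      Cfsg.indFun (stabIn H D θ) ν' = ξ ∧
      Cfsg.classInner (fun n : H => ν' ⟨⟨(n : X), hHD n.2⟩,
        le_stabIn H D hHD θ (IsCharacter.isClassFunction (IsIrrCharacter.isCharacter hθ))
          (Subgroup.mem_subgroupOf.mpr n.2)⟩) θ ≠ 0 := by
  classical
  haveI : Fintype (H.subgroupOf D) := Fintype.ofFinite _
  have hθcf := IsCharacter.isClassFunction (IsIrrCharacter.isCharacter hθ)
  have hcon : Cfsg.classInner (fun n : H.subgroupOf D => ξ n) (resTheta H D θ) ≠ 0 := by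
    have := classInner_subgroupOf_eq H D hHD ξ θ
    unfold resTheta
    rw [this]
    exact hover
  obtain ⟨ν', hν', hind, hmult⟩ := clifford_correspondence (H.subgroupOf D) (resTheta H D θ)
    (resTheta_isIrr H D hHD hθ) (stabIn H D θ) (stabIn_mem_iff' H D θ)
    (le_stabIn H D hHD θ hθcf) ξ hξ hcon
  refine ⟨ν', hν', hind, ?_⟩
  rw [← over_stabIn_iff H D hHD θ (stabIn H D θ) (le_stabIn H D hHD θ hθcf) ν', hmult]
  exact hcon

/-- induction from the stabilizer inside `D` -/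
theorem cliffD_ind (H D : Subgroup X) [hHn : H.Normal] (hHD : H ≤ D) [Fintype D] [Fintype H]
    (θ : H → ℂ) [Fintype (stabIn H D θ)] (hθ : Cfsg.IsIrrCharacter H θ)
    (ν' : stabIn H D θ → ℂ) (hν' : Cfsg.IsIrrCharacter (stabIn H D θ) ν')
    (hover : Cfsg.classInner (fun n : H => ν' ⟨⟨(n : X), hHD n.2⟩,
        le_stabIn H D hHD θ (IsCharacter.isClassFunction (IsIrrCharacter.isCharacter hθ))
          (Subgroup.mem_subgroupOf.mpr n.2)⟩) θ ≠ 0) :
    Cfsg.IsIrrCharacter D (Cfsg.indFun (stabIn H D θ) ν') ∧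
      Cfsg.classInner (fun n : H => Cfsg.indFun (stabIn H D θ) ν' ⟨(n : X), hHD n.2⟩) θ ≠ 0 := by
  classical
  haveI : Fintype (H.subgroupOf D) := Fintype.ofFinite _
  have hθcf := IsCharacter.isClassFunction (IsIrrCharacter.isCharacter hθ)
  have hf : Cfsg.classInner (fun n : H.subgroupOf D => ν' ⟨(n : D),
      le_stabIn H D hHD θ hθcf n.2⟩) (resTheta H D θ) ≠ 0 := by
    rw [over_stabIn_iff H D hHD θ (stabIn H D θ) (le_stabIn H D hHD θ hθcf) ν']
    exact hover
  obtain ⟨hirr, hmult⟩ := clifford_corr_ind_irr (H.subgroupOf D) (resTheta H D θ)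
    (resTheta_isIrr H D hHD hθ) (stabIn H D θ) (fun g => Iff.rfl)
    (le_stabIn H D hHD θ hθcf) ν' hν' hf
  refine ⟨hirr, ?_⟩
  have := classInner_subgroupOf_eq H D hHD (Cfsg.indFun (stabIn H D θ) ν') θ
  unfold resTheta at hmult hf
  rw [← this, ← hmult]
  exact hf

/-- uniqueness of the Clifford correspondent inside `D` -/
theorem cliffD_unique (H D : Subgroup X) [hHn : H.Normal] (hHD : H ≤ D) [Fintype D] [Fintype H]
    (θ : H → ℂ) [Fintype (stabIn H D θ)] (hθ : Cfsg.IsIrrCharacter H θ)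
    (ν₁ ν₂ : stabIn H D θ → ℂ) (hν₁ : Cfsg.IsIrrCharacter (stabIn H D θ) ν₁)
    (hν₂ : Cfsg.IsIrrCharacter (stabIn H D θ) ν₂)
    (hover₁ : Cfsg.classInner (fun n : H => ν₁ ⟨⟨(n : X), hHD n.2⟩,
        le_stabIn H D hHD θ (IsCharacter.isClassFunction (IsIrrCharacter.isCharacter hθ))
          (Subgroup.mem_subgroupOf.mpr n.2)⟩) θ ≠ 0)
    (hover₂ : Cfsg.classInner (fun n : H => ν₂ ⟨⟨(n : X), hHD n.2⟩,
        le_stabIn H D hHD θ (IsCharacter.isClassFunction (IsIrrCharacter.isCharacter hθ))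
          (Subgroup.mem_subgroupOf.mpr n.2)⟩) θ ≠ 0)
    (heq : Cfsg.indFun (stabIn H D θ) ν₁ = Cfsg.indFun (stabIn H D θ) ν₂) : ν₁ = ν₂ := by
  classical
  haveI : Fintype (H.subgroupOf D) := Fintype.ofFinite _
  have hθcf := IsCharacter.isClassFunction (IsIrrCharacter.isCharacter hθ)
  have hf₁ : Cfsg.classInner (fun n : H.subgroupOf D => ν₁ ⟨(n : D),
      le_stabIn H D hHD θ hθcf n.2⟩) (resTheta H D θ) ≠ 0 := by
    rw [over_stabIn_iff H D hHD θ (stabIn H D θ) (le_stabIn H D hHD θ hθcf) ν₁]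
    exact hover₁
  have hf₂ : Cfsg.classInner (fun n : H.subgroupOf D => ν₂ ⟨(n : D),
      le_stabIn H D hHD θ hθcf n.2⟩) (resTheta H D θ) ≠ 0 := by
    rw [over_stabIn_iff H D hHD θ (stabIn H D θ) (le_stabIn H D hHD θ hθcf) ν₂]
    exact hover₂
  exact clifford_corr_unique (H.subgroupOf D) (resTheta H D θ)
    (resTheta_isIrr H D hHD hθ) (stabIn H D θ) (fun g => Iff.rfl)
    (le_stabIn H D hHD θ hθcf) ν₁ ν₂ hν₁ hν₂ hf₁ hf₂ heq

/-- invariance through the Clifford correspondence inside `D` -/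
theorem cliffD_inv_iff (H D : Subgroup X) [hHn : H.Normal] (hHD : H ≤ D) [Fintype D] [Fintype H]
    (θ : H → ℂ) [Fintype (stabIn H D θ)] (hθ : Cfsg.IsIrrCharacter H θ) (a : MulAut X)
    (haH : ∀ h ∈ H, a h ∈ H) (haH' : ∀ h ∈ H, a⁻¹ h ∈ H) (haD : ∀ d ∈ D, a d ∈ D)
    (haD' : ∀ d ∈ D, a⁻¹ d ∈ D)
    (haθ : ∀ h h' : H, (h' : X) = a (h : X) → θ h' = θ h)
    (ν' : stabIn H D θ → ℂ) (hν' : Cfsg.IsIrrCharacter (stabIn H D θ) ν')
    (hover : Cfsg.classInner (fun n : H => ν' ⟨⟨(n : X), hHD n.2⟩,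
        le_stabIn H D hHD θ (IsCharacter.isClassFunction (IsIrrCharacter.isCharacter hθ))
          (Subgroup.mem_subgroupOf.mpr n.2)⟩) θ ≠ 0) :
    (∀ d d' : D, (d' : X) = a (d : X) →
        Cfsg.indFun (stabIn H D θ) ν' d' = Cfsg.indFun (stabIn H D θ) ν' d) ↔
      (∀ t t' : stabIn H D θ, (((t' : D) : X)) = a ((t : D) : X) → ν' t' = ν' t) := by
  classical
  haveI : Fintype (H.subgroupOf D) := Fintype.ofFinite _
  have hθcf := IsCharacter.isClassFunction (IsIrrCharacter.isCharacter hθ)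
  have hf : Cfsg.classInner (fun n : H.subgroupOf D => ν' ⟨(n : D),
      le_stabIn H D hHD θ hθcf n.2⟩) (resTheta H D θ) ≠ 0 := by
    rw [over_stabIn_iff H D hHD θ (stabIn H D θ) (le_stabIn H D hHD θ hθcf) ν']
    exact hover
  set aD : MulAut D := restrictAut a D haD haD' with haDdef
  have haDapp : ∀ d : D, ((aD d : D) : X) = a (d : X) := fun d => rfl
  have haDinv : ∀ d : D, ((aD⁻¹ d : D) : X) = a⁻¹ (d : X) := fun d => rfl
  have key := clifford_inv_iff (H.subgroupOf D) (resTheta H D θ) (resTheta_isIrr H D hHD hθ)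
    (stabIn H D θ) (fun g => Iff.rfl) (le_stabIn H D hHD θ hθcf) aD
    (by
      intro n hn
      rw [Subgroup.mem_subgroupOf] at hn ⊢
      rw [haDapp]
      exact haH _ hn)
    (by
      intro n hn
      rw [Subgroup.mem_subgroupOf] at hn ⊢
      rw [haDinv]
      exact haH' _ hn)
    (by
      intro n n' hnn'
      apply haθ
      show ((n' : D) : X) = a ((n : D) : X)
      rw [hnn', haDapp])
    ν' hν' hf
  constructor
  · intro h t t' htt'
    apply key.mp
    · intro g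
      exact h g (aD g) rfl
    · apply Subtype.ext
      rw [haDapp]
      exact htt'
  · intro h d d' hdd'
    have h1 := key.mpr (by
      intro t t' htt'
      apply h
      rw [htt', haDapp]) d
    rw [← h1]
    congr 1
    apply Subtype.ext
    rw [hdd', haDapp]

end Cfsg.Agent.Helper6.RelGlaub
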