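import Mathlib
import Cfsg.Prelude.Def_Characters
import Cfsg.Agent.Helper6.RelGlaubH

/-!
# The relative Glauberman correspondence over a fixed invariant character of the Sylow subgroup
-/

set_option autoImplicit false
set_option linter.style.haveILetI false
set_option linter.unusedSimpArgs false

namespace Cfsg.Agent.Helper6.RelGlaub

open scoped ComplexConjugate

universe u

variable {X : Type u} [Group X]

/-- the two descriptions of the stabilizer of `θ` in `D` -/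
def stabEquiv (H D : Subgroup X) [hHn : H.Normal] (hHD : H ≤ D) (θ : H → ℂ) :
    D.subgroupOf (conjStab H θ) ≃* stabIn H D θ where
  toFun y := ⟨⟨((y : conjStab H θ) : X), Subgroup.mem_subgroupOf.mp y.2⟩,
    (mem_stabIn_iff H D hHD θ _).mpr y.1.2⟩
  invFun t := ⟨⟨((t : D) : X), (mem_stabIn_iff H D hHD θ t).mp t.2⟩,
    Subgroup.mem_subgroupOf.mpr t.1.2⟩
  left_inv _ := rfl
  right_inv _ := rfl
  map_mul' _ _ := rfl

/-- stability of `D` -/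
theorem fix_stable (H : Subgroup X) (A : Subgroup (MulAut X))
    (hAH : ∀ a ∈ A, ∀ h ∈ H, a h ∈ H) (D : Subgroup X)
    (hD : ∀ x : X, x ∈ D ↔ ∀ a ∈ A, a x * x⁻¹ ∈ H) : ∀ a ∈ A, ∀ d ∈ D, a d ∈ D := by
  intro a ha d hd
  rw [hD]
  intro a' ha'
  have h1 : (a⁻¹ * a' * a) d * d⁻¹ ∈ H :=
    (hD d).mp hd _ (A.mul_mem (A.mul_mem (A.inv_mem ha) ha') ha)
  have h2 := hAH a ha _ h1
  have h3 : a ((a⁻¹ * a' * a) d * d⁻¹) = a' (a d) * (a d)⁻¹ := by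
    rw [map_mul, map_inv]
    congr 1
    show a ((a⁻¹ * a' * a) d) = a' (a d)
    rw [← MulAut.mul_apply, ← mul_assoc, ← mul_assoc, mul_inv_cancel, one_mul]
    rfl
  rw [← h3]
  exact h2

theorem le_fix (H : Subgroup X) (A : Subgroup (MulAut X))
    (hAH : ∀ a ∈ A, ∀ h ∈ H, a h ∈ H) (D : Subgroup X)
    (hD : ∀ x : X, x ∈ D ↔ ∀ a ∈ A, a x * x⁻¹ ∈ H) : H ≤ D := by
  intro h hh
  rw [hD]
  intro a ha
  exact H.mul_mem (hAH a ha h hh) (H.inv_mem hh)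

/-- The relative Glauberman correspondence between the characters of `X` and of `D` lying over
a fixed invariant irreducible character `θ` of the normal Sylow `p`-subgroup `H`. -/
theorem relGlaub_fibre [Fintype X] {p : ℕ} [hp : Fact p.Prime] (H : Subgroup X)
    [hHn : H.Normal] [Fintype H] (A : Subgroup (MulAut X)) (hA : IsPGroup p A)
    (hHp : IsPGroup p H) (hidx : ¬ p ∣ H.index) (hAH : ∀ a ∈ A, ∀ h ∈ H, a h ∈ H)
    (D : Subgroup X) [Fintype D] (hHD : H ≤ D)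
    (hD : ∀ x : X, x ∈ D ↔ ∀ a ∈ A, a x * x⁻¹ ∈ H)
    (θ : H → ℂ) (hθ : Cfsg.IsIrrCharacter H θ)
    (hinvA : ∀ a ∈ A, ∀ h h' : H, (h' : X) = a (h : X) → θ h' = θ h) :
    (∀ χ : X → ℂ, Cfsg.IsIrrCharacter X χ → Cfsg.classInner (fun n : H => χ n) θ ≠ 0 →
      InvUnder (A : Set (MulAut X)) χ →
      ∃ ξ₀ : Cfsg.IrrCharacter D,
        Cfsg.classInner (fun n : H => (ξ₀ : D → ℂ) ⟨(n : X), hHD n.2⟩) θ ≠ 0 ∧
        InvOn (A : Set (MulAut X)) D (ξ₀ : D → ℂ) ∧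
        (∃ m : ℕ, Cfsg.classInner (fun d : D => χ d) (ξ₀ : D → ℂ) = (m : ℂ) ∧
          ((m : ℤ) ≡ 1 [ZMOD p] ∨ (m : ℤ) ≡ -1 [ZMOD p])) ∧
        ∀ ξ : Cfsg.IrrCharacter D,
          Cfsg.classInner (fun n : H => (ξ : D → ℂ) ⟨(n : X), hHD n.2⟩) θ ≠ 0 → ξ ≠ ξ₀ →
          ∃ m : ℕ, Cfsg.classInner (fun d : D => χ d) (ξ : D → ℂ) = (m : ℂ) ∧ p ∣ m) ∧
    (∀ χ χ' : X → ℂ, Cfsg.IsIrrCharacter X χ → Cfsg.classInner (fun n : H => χ n) θ ≠ 0 →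
      InvUnder (A : Set (MulAut X)) χ → Cfsg.IsIrrCharacter X χ' →
      Cfsg.classInner (fun n : H => χ' n) θ ≠ 0 → InvUnder (A : Set (MulAut X)) χ' →
      ∀ ξ : Cfsg.IrrCharacter D,
        Cfsg.classInner (fun n : H => (ξ : D → ℂ) ⟨(n : X), hHD n.2⟩) θ ≠ 0 →
        (∃ m : ℕ, Cfsg.classInner (fun d : D => χ d) (ξ : D → ℂ) = (m : ℂ) ∧ ¬ p ∣ m) →
        (∃ m : ℕ, Cfsg.classInner (fun d : D => χ' d) (ξ : D → ℂ) = (m : ℂ) ∧ ¬ p ∣ m) →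
        χ = χ') ∧
    (∀ ξ : Cfsg.IrrCharacter D,
      Cfsg.classInner (fun n : H => (ξ : D → ℂ) ⟨(n : X), hHD n.2⟩) θ ≠ 0 →
      ∃ χ : X → ℂ, Cfsg.IsIrrCharacter X χ ∧ Cfsg.classInner (fun n : H => χ n) θ ≠ 0 ∧
        InvUnder (A : Set (MulAut X)) χ ∧
        ∃ m : ℕ, Cfsg.classInner (fun d : D => χ d) (ξ : D → ℂ) = (m : ℂ) ∧ ¬ p ∣ m) := by
  classical
  have hθcf := IsCharacter.isClassFunction (IsIrrCharacter.isCharacter hθ)
  set T : Subgroup X := conjStab H θ with hTdef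
  haveI : Fintype T := Fintype.ofFinite _
  haveI : Fintype (D.subgroupOf T) := Fintype.ofFinite _
  haveI : Fintype (stabIn H D θ) := Fintype.ofFinite _
  have hT' : ∀ g : X, g ∈ T ↔ conjFun H θ g = θ := fun g => Iff.rfl
  have hT : ∀ g : X, g ∈ T ↔ ∀ n : H, θ ⟨g * n * g⁻¹, hHn.conj_mem (n : X) n.2 g⟩ = θ n := by
    intro g
    rw [hT', funext_iff]
    rfl
  have hHT : H ≤ T := le_conjStab_of_isClassFunction H θ hθcf
  have hAH' : ∀ a ∈ A, ∀ h ∈ H, a⁻¹ h ∈ H := fun a ha => hAH a⁻¹ (A.inv_mem ha)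
  have hAT : ∀ a ∈ A, ∀ t ∈ T, a t ∈ T := by
    intro a ha t ht
    exact conjFun_aut_eq H a (hAH' a ha) θ θ (hinvA a ha) (hinvA a ha) t ht
  have hAD : ∀ a ∈ A, ∀ d ∈ D, a d ∈ D := fix_stable H A hAH D hD
  have hAD' : ∀ a ∈ A, ∀ d ∈ D, a⁻¹ d ∈ D := fun a ha => hAD a⁻¹ (A.inv_mem ha)
  obtain ⟨L1, L2, L3, L4⟩ := relGlaub_in_stabilizer H A hA hHp hidx hAH D hHD hD θ hθ hinvA T
    hHT hAT (fun t ht => ht)
  set e := stabEquiv H D hHD θ with hedef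
  have hTD : ∀ d : D, d ∈ stabIn H D θ ↔ (d : X) ∈ T := mem_stabIn_iff H D hHD θ
  -- transfer between the two descriptions
  have hirr_e : ∀ ν : D.subgroupOf T → ℂ, Cfsg.IsIrrCharacter (D.subgroupOf T) ν →
      Cfsg.IsIrrCharacter (stabIn H D θ) (ν ∘ e.symm) :=
    fun ν hν => IsIrrCharacter.comp_mulEquiv e.symm hν
  have hirr_e' : ∀ ν' : stabIn H D θ → ℂ, Cfsg.IsIrrCharacter (stabIn H D θ) ν' →
      Cfsg.IsIrrCharacter (D.subgroupOf T) (ν' ∘ e) :=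
    fun ν' hν' => IsIrrCharacter.comp_mulEquiv e hν'
  have hinner_e : ∀ (ψ : T → ℂ) (ν' : stabIn H D θ → ℂ),
      Cfsg.classInner (fun t : stabIn H D θ => ψ ⟨((t : D) : X), (hTD t).mp t.2⟩) ν' =
        Cfsg.classInner (fun y : D.subgroupOf T => ψ y) (ν' ∘ e) := by
    intro ψ ν'
    rw [← classInner_comp_equiv' e.toEquiv
      (fun t : stabIn H D θ => ψ ⟨((t : D) : X), (hTD t).mp t.2⟩) ν']
    rfl
  -- X-level Clifford data
  have hXcl : ∀ χ : X → ℂ, Cfsg.IsIrrCharacter X χ →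
      Cfsg.classInner (fun n : H => χ n) θ ≠ 0 → InvUnder (A : Set (MulAut X)) χ →
      ∃ ψ : T → ℂ, Cfsg.IsIrrCharacter T ψ ∧ Cfsg.indFun T ψ = χ ∧
        Cfsg.classInner (fun n : H => ψ ⟨(n : X), hHT n.2⟩) θ ≠ 0 ∧
        InvOn (A : Set (MulAut X)) T ψ := by
    intro χ hχ hover hinv
    obtain ⟨ψ, hψ, hind, hmult⟩ := clifford_correspondence H θ hθ T hT hHT χ hχ hover
    have hoverψ : Cfsg.classInner (fun n : H => ψ ⟨(n : X), hHT n.2⟩) θ ≠ 0 := by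
      rw [hmult]
      exact hover
    refine ⟨ψ, hψ, hind, hoverψ, ?_⟩
    intro a ha t t' htt'
    have key := clifford_inv_iff H θ hθ T hT' hHT a (hAH a ha) (hAH' a ha) (hinvA a ha) ψ hψ
      hoverψ
    apply key.mp _ t t' htt'
    intro g
    rw [hind]
    exact hinv a ha g
  -- D-level data from `ν`
  have hDdata : ∀ (ψ : T → ℂ), Cfsg.IsIrrCharacter T ψ →
      Cfsg.classInner (fun n : H => ψ ⟨(n : X), hHT n.2⟩) θ ≠ 0 →
      ∀ ν : Cfsg.IrrCharacter (D.subgroupOf T),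
      Cfsg.classInner (fun n : H => (ν : D.subgroupOf T → ℂ)
        ⟨⟨n, hHT n.2⟩, Subgroup.mem_subgroupOf.mpr (hHD n.2)⟩) θ ≠ 0 →
      Cfsg.IsIrrCharacter D (Cfsg.indFun (stabIn H D θ) ((ν : D.subgroupOf T → ℂ) ∘ e.symm)) ∧
      Cfsg.classInner (fun n : H =>
        Cfsg.indFun (stabIn H D θ) ((ν : D.subgroupOf T → ℂ) ∘ e.symm) ⟨(n : X), hHD n.2⟩) θ ≠ 0 ∧
      InvOn (A : Set (MulAut X)) D
        (Cfsg.indFun (stabIn H D θ) ((ν : D.subgroupOf T → ℂ) ∘ e.symm)) ∧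
      Cfsg.classInner (fun d : D => Cfsg.indFun T ψ d)
        (Cfsg.indFun (stabIn H D θ) ((ν : D.subgroupOf T → ℂ) ∘ e.symm)) =
        Cfsg.classInner (fun y : D.subgroupOf T => ψ y) (ν : D.subgroupOf T → ℂ) := by
    intro ψ hψ hoverψ ν hν
    have hν'irr := hirr_e (ν : D.subgroupOf T → ℂ) ν.2
    have hν'over : Cfsg.classInner (fun n : H => ((ν : D.subgroupOf T → ℂ) ∘ e.symm)
        ⟨⟨(n : X), hHD n.2⟩, le_stabIn H D hHD θ hθcf (Subgroup.mem_subgroupOf.mpr n.2)⟩) θ ≠ 0 :=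
      hν
    obtain ⟨hirr, hover⟩ := cliffD_ind H D hHD θ hθ _ hν'irr hν'over
    refine ⟨hirr, hover, ?_, ?_⟩
    · intro a ha d d' hdd'
      have key := cliffD_inv_iff H D hHD θ hθ a (hAH a ha) (hAH' a ha) (hAD a ha) (hAD' a ha)
        (hinvA a ha) _ hν'irr hν'over
      apply key.mpr _ d d' hdd'
      intro t t' htt'
      exact L2 ν hν a ha (e.symm t) (e.symm t') htt'
    · have := mult_formula H θ hθ T hT' hHT ψ hψ hoverψ D hHD (stabIn H D θ) hTD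
        ((ν : D.subgroupOf T → ℂ) ∘ e.symm) hν'irr hν'over
      rw [this, hinner_e]
      congr 1
  -- every character of `D` over `θ` arises
  have hDex : ∀ ξ : Cfsg.IrrCharacter D,
      Cfsg.classInner (fun n : H => (ξ : D → ℂ) ⟨(n : X), hHD n.2⟩) θ ≠ 0 →
      ∃ ν : Cfsg.IrrCharacter (D.subgroupOf T),
        Cfsg.classInner (fun n : H => (ν : D.subgroupOf T → ℂ)
          ⟨⟨n, hHT n.2⟩, Subgroup.mem_subgroupOf.mpr (hHD n.2)⟩) θ ≠ 0 ∧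
        Cfsg.indFun (stabIn H D θ) ((ν : D.subgroupOf T → ℂ) ∘ e.symm) = (ξ : D → ℂ) := by
    intro ξ hξ
    obtain ⟨ν', hν', hind, hover⟩ := cliffD_exists H D hHD θ hθ (ξ : D → ℂ) ξ.2 hξ
    refine ⟨⟨ν' ∘ e, hirr_e' ν' hν'⟩, hover, ?_⟩
    rw [← hind]
    congr 1
  refine ⟨?_, ?_, ?_⟩
  · intro χ hχ hover hinv
    obtain ⟨ψ, hψ, hind, hoverψ, hψinv⟩ := hXcl χ hχ hover hinv
    obtain ⟨ν₀, hν₀, ⟨m, hm, hm1⟩, hrest⟩ := L1 ψ hψ hoverψ hψinv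
    obtain ⟨hirr, hov, hinvξ, hmul⟩ := hDdata ψ hψ hoverψ ν₀ hν₀
    refine ⟨⟨_, hirr⟩, hov, hinvξ, ⟨m, ?_, hm1⟩, ?_⟩
    · rw [← hm, ← hmul, hind]
    · intro ξ hξ hne
      obtain ⟨ν, hν, hνξ⟩ := hDex ξ hξ
      have hνne : ν ≠ ν₀ := by
        rintro rfl
        apply hne
        apply Subtype.ext
        exact hνξ.symm
      obtain ⟨m', hm', hdvd⟩ := hrest ν hν hνne
      obtain ⟨-, -, -, hmul'⟩ := hDdata ψ hψ hoverψ ν hν
      refine ⟨m', ?_, hdvd⟩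
      rw [← hm', ← hmul', hind, hνξ]
  · intro χ χ' hχ hover hinv hχ' hover' hinv' ξ hξ hrel hrel'
    obtain ⟨ψ, hψ, hind, hoverψ, hψinv⟩ := hXcl χ hχ hover hinv
    obtain ⟨ψ', hψ', hind', hoverψ', hψ'inv⟩ := hXcl χ' hχ' hover' hinv'
    obtain ⟨ν, hν, hνξ⟩ := hDex ξ hξ
    obtain ⟨-, -, -, hmul⟩ := hDdata ψ hψ hoverψ ν hν
    obtain ⟨-, -, -, hmul'⟩ := hDdata ψ' hψ' hoverψ' ν hν
    rw [hind, hνξ] at hmul
    rw [hind', hνξ] at hmul'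
    have h1 : ∃ m : ℕ, Cfsg.classInner (fun y : D.subgroupOf T => ψ y)
        (ν : D.subgroupOf T → ℂ) = (m : ℂ) ∧ ¬ p ∣ m := by
      rw [← hmul]
      exact hrel
    have h2 : ∃ m : ℕ, Cfsg.classInner (fun y : D.subgroupOf T => ψ' y)
        (ν : D.subgroupOf T → ℂ) = (m : ℂ) ∧ ¬ p ∣ m := by
      rw [← hmul']
      exact hrel'
    have := L3 ψ ψ' hψ hoverψ hψinv hψ' hoverψ' hψ'inv ν hν h1 h2
    rw [← hind, ← hind', this]
  · intro ξ hξ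
    obtain ⟨ν, hν, hνξ⟩ := hDex ξ hξ
    obtain ⟨ψ, hψ, hoverψ, hψinv, m, hm, hnd⟩ := L4 ν hν
    obtain ⟨hχirr, hmult⟩ := clifford_corr_ind_irr H θ hθ T hT' hHT ψ hψ hoverψ
    obtain ⟨-, -, -, hmul⟩ := hDdata ψ hψ hoverψ ν hν
    refine ⟨Cfsg.indFun T ψ, hχirr, ?_, ?_, m, ?_, hnd⟩
    · rw [← hmult]
      exact hoverψ
    · intro a ha g
      have key := clifford_inv_iff H θ hθ T hT' hHT a (hAH a ha) (hAH' a ha) (hinvA a ha) ψ hψ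
        hoverψ
      exact key.mpr (hψinv a ha) g
    · rw [← hm, ← hmul, hνξ]

end Cfsg.Agent.Helper6.RelGlaub
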