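import Mathlib
import Cfsg.Prelude.Def_Characters
import Cfsg.Agent.Helper6.RelGlaubI

/-!
# The relative Glauberman correspondence: the abstract theorem
-/

set_option autoImplicit false
set_option linter.style.haveILetI false
set_option linter.unusedSimpArgs false

namespace Cfsg.Agent.Helper6.RelGlaub

open scoped ComplexConjugate

universe u

variable {X : Type u} [Group X]

/-- an invariant irreducible character of `D` has an invariant constituent on `H` -/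
theorem exists_invariant_constituent_sub [Fintype X] {p : ℕ} [hp : Fact p.Prime] (H : Subgroup X)
    [hHn : H.Normal] [Fintype H] (A : Subgroup (MulAut X)) (hA : IsPGroup p A)
    (hidx : ¬ p ∣ H.index) (hAH : ∀ a ∈ A, ∀ h ∈ H, a h ∈ H) (D : Subgroup X) [Fintype D]
    (hHD : H ≤ D) (hAD : ∀ a ∈ A, ∀ d ∈ D, a d ∈ D) (ξ : D → ℂ)
    (hξ : Cfsg.IsIrrCharacter D ξ) (hξinv : InvOn (A : Set (MulAut X)) D ξ) :
    ∃ θ : Cfsg.IrrCharacter H,
      Cfsg.classInner (fun n : H => ξ ⟨(n : X), hHD n.2⟩) (θ : H → ℂ) ≠ 0 ∧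
      ∀ a ∈ A, ∀ h h' : H, (h' : X) = a (h : X) → (θ : H → ℂ) h' = (θ : H → ℂ) h := by
  classical
  haveI : Fintype (H.subgroupOf D) := Fintype.ofFinite _
  set A' : Subgroup (MulAut D) := (restrictHom A D hAD).range with hA'def
  have hA' : IsPGroup p A' :=
    IsPGroup.of_surjective hA (restrictHom A D hAD).rangeRestrict
      (MonoidHom.rangeRestrict_surjective _)
  have hidx' : ¬ p ∣ (H.subgroupOf D).index := by
    intro h
    apply hidx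
    exact h.trans (Subgroup.relIndex_dvd_index_of_normal (H := H) (K := D))
  have hAH' : ∀ a' ∈ A', ∀ h ∈ H.subgroupOf D, a' h ∈ H.subgroupOf D := by
    rintro _ ⟨a, rfl⟩ h hh
    rw [Subgroup.mem_subgroupOf] at hh ⊢
    rw [restrictHom_apply]
    exact hAH a.1 a.2 _ hh
  have hξinv' : InvUnder (A' : Set (MulAut D)) ξ := by
    rintro _ ⟨a, rfl⟩ d
    exact hξinv a.1 a.2 d _ (restrictHom_apply A D hAD a d)
  obtain ⟨θD, hθD, hθDinv⟩ := exists_invariant_constituent (H.subgroupOf D) A' hA' hidx' hAH'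
    ξ hξ hξinv'
  set eH := Subgroup.subgroupOfEquivOfLe hHD with heH
  refine ⟨⟨(θD : H.subgroupOf D → ℂ) ∘ eH.symm, IsIrrCharacter.comp_mulEquiv eH.symm θD.2⟩,
    ?_, ?_⟩
  · rw [← classInner_comp_equiv' eH.toEquiv (fun n : H => ξ ⟨(n : X), hHD n.2⟩)
      ((θD : H.subgroupOf D → ℂ) ∘ eH.symm)]
    have h1 : ((θD : H.subgroupOf D → ℂ) ∘ eH.symm) ∘ eH.toEquiv = (θD : H.subgroupOf D → ℂ) := by
      funext n
      show (θD : H.subgroupOf D → ℂ) (eH.symm (eH n)) = _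
      rw [MulEquiv.symm_apply_apply]
    rw [h1]
    exact hθD
  · intro a ha h h' hhh'
    show (θD : H.subgroupOf D → ℂ) (eH.symm h') = (θD : H.subgroupOf D → ℂ) (eH.symm h)
    apply hθDinv (restrictHom A D hAD ⟨a, ha⟩) ⟨⟨a, ha⟩, rfl⟩
    apply Subtype.ext
    rw [restrictHom_apply]
    exact hhh'

/-- constituents: if `ξ` is a constituent of `χ_D` and `θ` is a constituent of `ξ_H`, then `θ`
is a constituent of `χ_H` -/
theorem over_trans [Fintype X] (H D : Subgroup X) [Fintype H] [Fintype D] (hHD : H ≤ D)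
    (θ : H → ℂ) (hθ : Cfsg.IsIrrCharacter H θ) (χ : X → ℂ) (hχ : Cfsg.IsCharacter X χ)
    (ξ : D → ℂ) (hξ : Cfsg.IsIrrCharacter D ξ)
    (hχξ : Cfsg.classInner (fun d : D => χ d) ξ ≠ 0)
    (hξθ : Cfsg.classInner (fun n : H => ξ ⟨(n : X), hHD n.2⟩) θ ≠ 0) :
    Cfsg.classInner (fun n : H => χ n) θ ≠ 0 := by
  intro h0
  apply hχξ
  exact classInner_eq_zero_of_not_over (Subgroup.inclusion hHD) θ hθ (fun d : D => χ d)
    (IsCharacter.restrict D hχ) h0 ξ hξ hξθ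

/-- an invariant constituent of `χ_D` lies over every invariant constituent of `χ_H` -/
theorem over_of_constituent [Fintype X] {p : ℕ} [hp : Fact p.Prime] (H : Subgroup X)
    [hHn : H.Normal] [Fintype H] (A : Subgroup (MulAut X)) (hA : IsPGroup p A)
    (hidx : ¬ p ∣ H.index) (hAH : ∀ a ∈ A, ∀ h ∈ H, a h ∈ H) (D : Subgroup X) [Fintype D]
    (hHD : H ≤ D) (hD : ∀ x : X, x ∈ D ↔ ∀ a ∈ A, a x * x⁻¹ ∈ H)
    (θ : H → ℂ) (hθ : Cfsg.IsIrrCharacter H θ)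
    (hinvA : ∀ a ∈ A, ∀ h h' : H, (h' : X) = a (h : X) → θ h' = θ h)
    (χ : X → ℂ) (hχ : Cfsg.IsIrrCharacter X χ)
    (hover : Cfsg.classInner (fun n : H => χ n) θ ≠ 0)
    (ξ : D → ℂ) (hξ : Cfsg.IsIrrCharacter D ξ) (hξinv : InvOn (A : Set (MulAut X)) D ξ)
    (hχξ : Cfsg.classInner (fun d : D => χ d) ξ ≠ 0) :
    Cfsg.classInner (fun n : H => ξ ⟨(n : X), hHD n.2⟩) θ ≠ 0 := by
  classical
  have hAD := fix_stable H A hAH D hD
  obtain ⟨θ', hθ'ξ, hθ'inv⟩ := exists_invariant_constituent_sub H A hA hidx hAH D hHD hAD ξ hξ hξinv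
  have hθ'χ := over_trans H D hHD (θ' : H → ℂ) θ'.2 χ (IsIrrCharacter.isCharacter hχ) ξ hξ hχξ
    hθ'ξ
  obtain ⟨g, hg⟩ := conj_of_constituents H χ hχ θ hθ hover (θ' : H → ℂ) θ'.2 hθ'χ
  obtain ⟨c, hcD, hc⟩ := glauberman_transitive H A hA hidx hAH D hD θ (θ' : H → ℂ)
    (IsCharacter.isClassFunction (IsIrrCharacter.isCharacter θ'.2)) hinvA hθ'inv g hg
  have hξcf := IsCharacter.isClassFunction (IsIrrCharacter.isCharacter hξ)
  have h1 : conjFun H (fun n : H => ξ ⟨(n : X), hHD n.2⟩) c = fun n : H => ξ ⟨(n : X), hHD n.2⟩ := by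
    funext n
    have := hξcf ⟨(n : X), hHD n.2⟩ ⟨c, hcD⟩
    exact this
  rw [← classInner_conjFun H (fun n : H => ξ ⟨(n : X), hHD n.2⟩) θ c, h1, ← hc]
  exact hθ'ξ

/-- **The relative Glauberman correspondence.**  `H` is a normal Sylow `p`-subgroup of `X`, `A`
a `p`-group of automorphisms and `D/H` the fixed points of `A` on `X/H`. -/
theorem relGlaub_main [Fintype X] {p : ℕ} [hp : Fact p.Prime] (H : Subgroup X)
    [hHn : H.Normal] (A : Subgroup (MulAut X)) (hA : IsPGroup p A)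
    (hHp : IsPGroup p H) (hidx : ¬ p ∣ H.index) (hAH : ∀ a ∈ A, ∀ h ∈ H, a h ∈ H)
    (D : Subgroup X) [Fintype D] (hD : ∀ x : X, x ∈ D ↔ ∀ a ∈ A, a x * x⁻¹ ∈ H) :
    (∀ χ : X → ℂ, Cfsg.IsIrrCharacter X χ → InvUnder (A : Set (MulAut X)) χ →
      ∃ ξ₀ : Cfsg.IrrCharacter D, InvOn (A : Set (MulAut X)) D (ξ₀ : D → ℂ) ∧
        (∃ m : ℕ, Cfsg.classInner (fun d : D => χ d) (ξ₀ : D → ℂ) = (m : ℂ) ∧
          ((m : ℤ) ≡ 1 [ZMOD p] ∨ (m : ℤ) ≡ -1 [ZMOD p])) ∧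
        ∀ ξ : Cfsg.IrrCharacter D, InvOn (A : Set (MulAut X)) D (ξ : D → ℂ) → ξ ≠ ξ₀ →
          ∃ m : ℕ, Cfsg.classInner (fun d : D => χ d) (ξ : D → ℂ) = (m : ℂ) ∧ p ∣ m) ∧
    (∀ χ χ' : X → ℂ, Cfsg.IsIrrCharacter X χ → InvUnder (A : Set (MulAut X)) χ →
      Cfsg.IsIrrCharacter X χ' → InvUnder (A : Set (MulAut X)) χ' →
      ∀ ξ : Cfsg.IrrCharacter D, InvOn (A : Set (MulAut X)) D (ξ : D → ℂ) →
        (∃ m : ℕ, Cfsg.classInner (fun d : D => χ d) (ξ : D → ℂ) = (m : ℂ) ∧ ¬ p ∣ m) →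
        (∃ m : ℕ, Cfsg.classInner (fun d : D => χ' d) (ξ : D → ℂ) = (m : ℂ) ∧ ¬ p ∣ m) →
        χ = χ') ∧
    (∀ ξ : Cfsg.IrrCharacter D, InvOn (A : Set (MulAut X)) D (ξ : D → ℂ) →
      ∃ χ : X → ℂ, Cfsg.IsIrrCharacter X χ ∧ InvUnder (A : Set (MulAut X)) χ ∧
        ∃ m : ℕ, Cfsg.classInner (fun d : D => χ d) (ξ : D → ℂ) = (m : ℂ) ∧ ¬ p ∣ m) := by
  classical
  haveI : Fintype H := Fintype.ofFinite _
  have hHD : H ≤ D := le_fix H A hAH D hD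
  have hAD := fix_stable H A hAH D hD
  have hne_of_rel : ∀ (z : ℂ), (∃ m : ℕ, z = (m : ℂ) ∧ ¬ p ∣ m) → z ≠ 0 := by
    rintro z ⟨m, rfl, hnd⟩ h0
    apply hnd
    have : m = 0 := by exact_mod_cast h0
    rw [this]
    exact dvd_zero p
  refine ⟨?_, ?_, ?_⟩
  · intro χ hχ hinv
    obtain ⟨θ, hθχ, hθinv⟩ := exists_invariant_constituent H A hA hidx hAH χ hχ hinv
    obtain ⟨F1, -, -⟩ := relGlaub_fibre H A hA hHp hidx hAH D hHD hD (θ : H → ℂ) θ.2 hθinv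
    obtain ⟨ξ₀, hξ₀over, hξ₀inv, hm, hrest⟩ := F1 χ hχ hθχ hinv
    refine ⟨ξ₀, hξ₀inv, hm, ?_⟩
    intro ξ hξinv hne
    by_cases hov : Cfsg.classInner (fun n : H => (ξ : D → ℂ) ⟨(n : X), hHD n.2⟩) (θ : H → ℂ) ≠ 0
    · exact hrest ξ hov hne
    · refine ⟨0, ?_, dvd_zero p⟩
      rw [Nat.cast_zero]
      by_contra hχξ
      exact hov (over_of_constituent H A hA hidx hAH D hHD hD (θ : H → ℂ) θ.2 hθinv χ hχ hθχ
        (ξ : D → ℂ) ξ.2 hξinv hχξ)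
  · intro χ χ' hχ hinv hχ' hinv' ξ hξinv hrel hrel'
    obtain ⟨θ, hθχ, hθinv⟩ := exists_invariant_constituent H A hA hidx hAH χ hχ hinv
    obtain ⟨-, F2, -⟩ := relGlaub_fibre H A hA hHp hidx hAH D hHD hD (θ : H → ℂ) θ.2 hθinv
    have hξθ := over_of_constituent H A hA hidx hAH D hHD hD (θ : H → ℂ) θ.2 hθinv χ hχ hθχ
      (ξ : D → ℂ) ξ.2 hξinv (hne_of_rel _ hrel)
    have hθχ' := over_trans H D hHD (θ : H → ℂ) θ.2 χ' (IsIrrCharacter.isCharacter hχ')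
      (ξ : D → ℂ) ξ.2 (hne_of_rel _ hrel') hξθ
    exact F2 χ χ' hχ hθχ hinv hχ' hθχ' hinv' ξ hξθ hrel hrel'
  · intro ξ hξinv
    obtain ⟨θ, hθξ, hθinv⟩ := exists_invariant_constituent_sub H A hA hidx hAH D hHD hAD
      (ξ : D → ℂ) ξ.2 hξinv
    obtain ⟨-, -, F3⟩ := relGlaub_fibre H A hA hHp hidx hAH D hHD hD (θ : H → ℂ) θ.2 hθinv
    obtain ⟨χ, hχ, -, hinv, hm⟩ := F3 ξ hθξ
    exact ⟨χ, hχ, hinv, hm⟩

end Cfsg.Agent.Helper6.RelGlaub
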