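import Mathlib
import Cfsg.Prelude.Def_Characters
import Cfsg.Agent.Helper6.RelGlaubJ
import Cfsg.Agent.Helper6.Expansion
import Cfsg.Agent.Helper6.BlockPart

/-!
# The relative Glauberman correspondence: degrees
-/

set_option autoImplicit false
set_option linter.style.haveILetI false
set_option linter.unusedSimpArgs false

namespace Cfsg.Agent.Helper6.RelGlaub

open scoped ComplexConjugate

universe u

variable {X : Type u} [Group X]

/-- the degree congruence -/
theorem relGlaub_degree [Fintype X] {p : ℕ} [hp : Fact p.Prime] (A : Subgroup (MulAut X))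
    (hA : IsPGroup p A) (D : Subgroup X) [Fintype D] (hAD : ∀ a ∈ A, ∀ d ∈ D, a d ∈ D)
    (χ : X → ℂ) (hχ : Cfsg.IsIrrCharacter X χ) (hinv : InvUnder (A : Set (MulAut X)) χ)
    (ξ₀ : Cfsg.IrrCharacter D) (hξ₀inv : InvOn (A : Set (MulAut X)) D (ξ₀ : D → ℂ)) (m₀ : ℕ)
    (hm₀ : Cfsg.classInner (fun d : D => χ d) (ξ₀ : D → ℂ) = (m₀ : ℂ))
    (hm₀1 : (m₀ : ℤ) ≡ 1 [ZMOD p] ∨ (m₀ : ℤ) ≡ -1 [ZMOD p])
    (hrest : ∀ ξ : Cfsg.IrrCharacter D, InvOn (A : Set (MulAut X)) D (ξ : D → ℂ) → ξ ≠ ξ₀ →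
      ∃ m : ℕ, Cfsg.classInner (fun d : D => χ d) (ξ : D → ℂ) = (m : ℂ) ∧ p ∣ m) :
    (Cfsg.charDegree (ξ₀ : D → ℂ) : ZMod p) = (Cfsg.charDegree χ : ZMod p) ∨
      (Cfsg.charDegree (ξ₀ : D → ℂ) : ZMod p) = -(Cfsg.charDegree χ : ZMod p) := by
  classical
  haveI : Finite (Cfsg.IrrCharacter D) := irr_finite
  haveI : Fintype (Cfsg.IrrCharacter D) := Fintype.ofFinite _
  have hχchar := IsIrrCharacter.isCharacter hχ
  have hχD : Cfsg.IsCharacter D (fun d : D => χ d) := IsCharacter.restrict D hχchar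
  have hmultex : ∀ ξ : Cfsg.IrrCharacter D, ∃ n : ℕ,
      Cfsg.classInner (fun d : D => χ d) (ξ : D → ℂ) = (n : ℂ) := by
    intro ξ
    obtain ⟨n, hn⟩ := classInner_irr_char_nat ξ.2 hχD
    refine ⟨n, ?_⟩
    rw [classInner_conj_symm, hn, map_natCast]
  choose mult hmult using hmultex
  -- the degree formula
  have hdeg : Cfsg.charDegree χ = ∑ ξ : Cfsg.IrrCharacter D, mult ξ * Cfsg.charDegree (ξ : D → ℂ) := by
    have hexp := classFunction_expansion (fun d : D => χ d) (IsCharacter.isClassFunction hχD)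
    have h1 := congrFun hexp 1
    rw [Finset.sum_apply] at h1
    have h2 : (Cfsg.charDegree χ : ℂ) =
        ((∑ ξ : Cfsg.IrrCharacter D, mult ξ * Cfsg.charDegree (ξ : D → ℂ) : ℕ) : ℂ) := by
      rw [charDegree_cast_of_isCharacter hχchar]
      push_cast
      have h1' : χ 1 = ∑ c : Cfsg.IrrCharacter D,
          (Cfsg.classInner (fun d : D => χ d) (c : D → ℂ) • (c : D → ℂ)) 1 := h1
      rw [h1']
      apply Finset.sum_congr rfl
      intro ξ _
      rw [Pi.smul_apply, smul_eq_mul, hmult,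
        charDegree_cast_of_isCharacter (IsIrrCharacter.isCharacter ξ.2)]
    exact_mod_cast h2
  -- the action
  letI : MulAction (MulAut D) (Cfsg.IrrCharacter D) := irrMulAction D
  letI : MulAction A (Cfsg.IrrCharacter D) := MulAction.compHom _ (restrictHom A D hAD)
  have hsmul : ∀ (t : A) (ξ : Cfsg.IrrCharacter D) (d : D),
      ((t • ξ : Cfsg.IrrCharacter D) : D → ℂ) d =
        (ξ : D → ℂ) ((restrictHom A D hAD t)⁻¹ d) := fun _ _ _ => rfl
  have hres : ∀ (t : A) (d : D), χ ((restrictHom A D hAD t d : D) : X) = χ d := by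
    intro t d
    rw [restrictHom_apply]
    exact hinv t.1 t.2 d
  have hinner : ∀ (t : A) (ξ : Cfsg.IrrCharacter D),
      Cfsg.classInner (fun d : D => χ d) ((t • ξ : Cfsg.IrrCharacter D) : D → ℂ) =
        Cfsg.classInner (fun d : D => χ d) (ξ : D → ℂ) := by
    intro t ξ
    have h1 : ((t • ξ : Cfsg.IrrCharacter D) : D → ℂ) =
        (ξ : D → ℂ) ∘ ((restrictHom A D hAD t)⁻¹ : MulAut D).toEquiv := by
      funext d
      exact hsmul t ξ d
    have h2 : (fun d : D => χ d) =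
        (fun d : D => χ d) ∘ ((restrictHom A D hAD t)⁻¹ : MulAut D).toEquiv := by
      funext d
      show χ d = χ (((restrictHom A D hAD t)⁻¹ d : D) : X)
      rw [← map_inv]
      exact (hres t⁻¹ d).symm
    rw [h1]
    conv_lhs => rw [h2]
    exact classInner_comp_equiv' _ _ _
  have hmultinv : ∀ (t : A) (ξ : Cfsg.IrrCharacter D), mult (t • ξ) = mult ξ := by
    intro t ξ
    have h1 := hinner t ξ
    rw [hmult, hmult] at h1
    exact_mod_cast h1
  have hdeginv : ∀ (t : A) (ξ : Cfsg.IrrCharacter D),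
      Cfsg.charDegree ((t • ξ : Cfsg.IrrCharacter D) : D → ℂ) = Cfsg.charDegree (ξ : D → ℂ) := by
    intro t ξ
    have h1 : (Cfsg.charDegree ((t • ξ : Cfsg.IrrCharacter D) : D → ℂ) : ℂ) =
        (Cfsg.charDegree (ξ : D → ℂ) : ℂ) := by
      rw [charDegree_cast_of_isCharacter (IsIrrCharacter.isCharacter (t • ξ).2),
        charDegree_cast_of_isCharacter (IsIrrCharacter.isCharacter ξ.2), hsmul, map_one]
    exact_mod_cast h1
  set w : Cfsg.IrrCharacter D → ℕ := fun ξ => mult ξ * Cfsg.charDegree (ξ : D → ℂ) with hw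
  have hwinv : ∀ (t : A) (ξ : Cfsg.IrrCharacter D), w (t • ξ) = w ξ := by
    intro t ξ
    simp only [hw]
    rw [hmultinv, hdeginv]
  set F : Finset (Cfsg.IrrCharacter D) := Finset.univ.filter (fun ξ => ∀ t : A, t • ξ = ξ)
    with hF
  have hFmem : ∀ ξ : Cfsg.IrrCharacter D, ξ ∈ F ↔ ∀ t : A, t • ξ = ξ := by
    intro ξ
    rw [hF, Finset.mem_filter]
    simp
  have hmod := sum_modEq_sum_fixed hA w hwinv F hFmem
  have hFinv : ∀ ξ ∈ F, InvOn (A : Set (MulAut X)) D (ξ : D → ℂ) := by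
    intro ξ hξ a ha d d' hdd'
    have h1 := (hFmem ξ).mp hξ ⟨a⁻¹, inv_mem ha⟩
    have h2 := congrArg (fun φ : Cfsg.IrrCharacter D => (φ : D → ℂ) d) h1
    rw [hsmul] at h2
    rw [← h2]
    have h3 : d' = ((restrictHom A D hAD) ⟨a⁻¹, inv_mem ha⟩)⁻¹ d := by
      apply Subtype.ext
      rw [hdd', ← map_inv, restrictHom_apply]
      simp
    rw [h3]
  have hξ₀F : ξ₀ ∈ F := by
    rw [hFmem]
    intro t
    apply Subtype.ext
    funext d
    rw [hsmul]
    apply hξ₀inv (t⁻¹ : A).1 (t⁻¹ : A).2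
    rw [← map_inv, restrictHom_apply]
  have hsumF : ∑ ξ ∈ F, w ξ ≡ w ξ₀ [MOD p] := by
    rw [← Finset.add_sum_erase F w hξ₀F]
    have h0 : ∑ ξ ∈ F.erase ξ₀, w ξ ≡ 0 [MOD p] := by
      rw [Nat.modEq_zero_iff_dvd]
      apply Finset.dvd_sum
      intro ξ hξ
      rw [Finset.mem_erase] at hξ
      obtain ⟨m, hm, hdvd⟩ := hrest ξ (hFinv ξ hξ.2) hξ.1
      have hmm : mult ξ = m := by
        have := hmult ξ
        rw [hm] at this
        exact_mod_cast this.symm
      simp only [hw]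
      rw [hmm]
      exact hdvd.mul_right _
    have := Nat.ModEq.add_left (w ξ₀) h0
    rwa [add_zero] at this
  have hfinal : Cfsg.charDegree χ ≡ m₀ * Cfsg.charDegree (ξ₀ : D → ℂ) [MOD p] := by
    rw [hdeg]
    have hm₀' : mult ξ₀ = m₀ := by
      have := hmult ξ₀
      rw [hm₀] at this
      exact_mod_cast this.symm
    have := hmod.trans hsumF
    simp only [hw] at this
    rw [hm₀'] at this
    exact this
  have hz : (Cfsg.charDegree χ : ZMod p) = (m₀ : ZMod p) * (Cfsg.charDegree (ξ₀ : D → ℂ) : ZMod p) := by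
    have := (ZMod.natCast_eq_natCast_iff _ _ p).mpr hfinal
    rw [this]
    push_cast
    rfl
  rcases hm₀1 with h1 | h1
  · left
    have h2 : (m₀ : ZMod p) = 1 := by
      have := (ZMod.intCast_eq_intCast_iff _ _ p).mpr h1
      simpa using this
    rw [hz, h2, one_mul]
  · right
    have h2 : (m₀ : ZMod p) = -1 := by
      have := (ZMod.intCast_eq_intCast_iff _ _ p).mpr h1
      simpa using this
    rw [hz, h2]
    ring

end Cfsg.Agent.Helper6.RelGlaub
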