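import Mathlib
import Cfsg.Prelude.Def_Characters
import Cfsg.Agent.Helper6.RelGlaubK
import Cfsg.Agent.Helper6.GlaubS

/-!
# The relative Glauberman correspondence: the concrete statement
-/

set_option autoImplicit false
set_option linter.style.haveILetI false
set_option linter.unusedSimpArgs false

namespace Cfsg.Agent.Helper6.RelGlaub

open scoped ComplexConjugate

universe u

/-- a normal Sylow `p`-subgroup contains every `p`-subgroup -/
theorem le_of_normal_sylow {Y : Type u} [Group Y] [Finite Y] {p : ℕ} [hp : Fact p.Prime]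
    (N : Subgroup Y) [hN : N.Normal] (hNp : IsPGroup p N) (hidx : ¬ p ∣ N.index)
    (R : Subgroup Y) (hR : IsPGroup p R) : R ≤ N := by
  set S : Sylow p Y := hNp.toSylow hidx with hS
  have hSN : (S : Subgroup Y) = N := IsPGroup.toSylow_coe hNp hidx
  haveI : (S : Subgroup Y).Normal := by rw [hSN]; exact hN
  obtain ⟨S', hS'⟩ := hR.exists_le_sylow
  obtain ⟨g, hg⟩ := MulAction.exists_smul_eq Y S S'
  rw [Sylow.smul_eq_of_normal] at hg
  rw [← hSN, hg]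
  exact hS'

variable {G : Type u} [Group G]

/-- the subgroup `P` normalizes the normal Sylow subgroup `Q` of `K` -/
theorem conj_mem_of_normal_sylow [Finite G] {p : ℕ} [hp : Fact p.Prime] (K Q : Subgroup G)
    (hQK : Q ≤ K) (hQn : ∀ k ∈ K, ∀ q ∈ Q, k * q * k⁻¹ ∈ Q) (hQp : IsPGroup p Q)
    (hQsyl : ¬ p ∣ Q.relIndex K) (x : G) (hx : ∀ k ∈ K, x * k * x⁻¹ ∈ K) :
    ∀ q ∈ Q, x * q * x⁻¹ ∈ Q := by
  intro q hq
  haveI hn : (Q.subgroupOf K).Normal := by
    constructor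
    intro n hn g
    rw [Subgroup.mem_subgroupOf] at hn ⊢
    exact hQn g g.2 n hn
  have hNp : IsPGroup p (Q.subgroupOf K) :=
    IsPGroup.of_equiv hQp (Subgroup.subgroupOfEquivOfLe hQK).symm
  -- the conjugate of `Q` inside `K`
  let R : Subgroup K :=
    { carrier := {k | x⁻¹ * (k : G) * x ∈ Q}
      one_mem' := by
        show x⁻¹ * ((1 : K) : G) * x ∈ Q
        simp
      mul_mem' := by
        intro a b ha hb
        show x⁻¹ * ((a * b : K) : G) * x ∈ Q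
        have : x⁻¹ * ((a * b : K) : G) * x = (x⁻¹ * (a : G) * x) * (x⁻¹ * (b : G) * x) := by
          rw [Subgroup.coe_mul]
          group
        rw [this]
        exact Q.mul_mem ha hb
      inv_mem' := by
        intro a ha
        show x⁻¹ * ((a⁻¹ : K) : G) * x ∈ Q
        have : x⁻¹ * ((a⁻¹ : K) : G) * x = (x⁻¹ * (a : G) * x)⁻¹ := by
          rw [Subgroup.coe_inv]
          group
        rw [this]
        exact Q.inv_mem ha }
  let φ : R →* Q :=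
    { toFun := fun r => ⟨x⁻¹ * ((r : K) : G) * x, r.2⟩
      map_one' := by
        apply Subtype.ext
        show x⁻¹ * (((1 : R) : K) : G) * x = 1
        simp
      map_mul' := by
        intro a b
        apply Subtype.ext
        show x⁻¹ * (((a * b : R) : K) : G) * x =
          (x⁻¹ * ((a : K) : G) * x) * (x⁻¹ * ((b : K) : G) * x)
        rw [Subgroup.coe_mul, Subgroup.coe_mul]
        group }
  have hφ : Function.Injective φ := by
    intro a b hab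
    have h1 : x⁻¹ * ((a : K) : G) * x = x⁻¹ * ((b : K) : G) * x := congrArg Subtype.val hab
    apply Subtype.ext
    apply Subtype.ext
    have h2 := mul_right_cancel h1
    exact mul_left_cancel h2
  have hR : IsPGroup p R := IsPGroup.of_injective hQp φ hφ
  have hle := le_of_normal_sylow (Q.subgroupOf K) hNp hQsyl R hR
  have hmem : (⟨x * q * x⁻¹, hx q (hQK hq)⟩ : K) ∈ R := by
    show x⁻¹ * (x * q * x⁻¹) * x ∈ Q
    have : x⁻¹ * (x * q * x⁻¹) * x = q := by group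
    rw [this]
    exact hq
  exact Subgroup.mem_subgroupOf.mp (hle hmem)

/-- the inner product over `C`, as in the statement -/
theorem classInner_subgroupOf_finsum (K C : Subgroup G) (hCK : C ≤ K) [Fintype C]
    [Fintype (C.subgroupOf K)] (χ : K → ℂ) (ξ : C → ℂ) :
    Cfsg.classInner (fun d : C.subgroupOf K => χ d) (ξ ∘ Subgroup.subgroupOfEquivOfLe hCK) =
      (Nat.card C : ℂ)⁻¹ * ∑ᶠ c : C, χ (Subgroup.inclusion hCK c) * conj (ξ c) := by
  rw [finsum_eq_sum_of_fintype]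
  unfold Cfsg.classInner
  rw [Nat.card_congr (Subgroup.subgroupOfEquivOfLe hCK).toEquiv]
  congr 1
  exact Equiv.sum_comp (Subgroup.subgroupOfEquivOfLe hCK).toEquiv
    (fun c : C => χ (Subgroup.inclusion hCK c) * conj (ξ c))

/-- **The relative Glauberman correspondence**, in the concrete form. -/
theorem relGlaub_concrete [Finite G] (p : ℕ) [hp : Fact p.Prime] (P K Q C : Subgroup G)
    (hP : IsPGroup p ↥P) (hPK : P ≤ Subgroup.normalizer (K : Set G)) (hQK : Q ≤ K)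
    (hQn : ∀ k ∈ K, ∀ q ∈ Q, k * q * k⁻¹ ∈ Q) (hQp : ∃ a : ℕ, Nat.card ↥Q = p ^ a)
    (hQsyl : ¬ p ∣ Q.relIndex K) (hCK : C ≤ K)
    (hC : ∀ k : G, k ∈ C ↔ (k ∈ K ∧ ∀ x ∈ P, x * k * x⁻¹ * k⁻¹ ∈ Q)) :
    ∃ f : {χ : Cfsg.IrrCharacter ↥K // (∀ x ∈ P, ∀ k k' : ↥K, (k' : G) = x * (k : G) * x⁻¹ →
        (χ : ↥K → ℂ) k' = (χ : ↥K → ℂ) k)} →
      {ξ : Cfsg.IrrCharacter ↥C // (∀ x ∈ P, ∀ k k' : ↥C, (k' : G) = x * (k : G) * x⁻¹ →
        (ξ : ↥C → ℂ) k' = (ξ : ↥C → ℂ) k)},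
      Function.Bijective f ∧ ∀ χ,
        (∀ ξ : {ξ : Cfsg.IrrCharacter ↥C // (∀ x ∈ P, ∀ k k' : ↥C,
            (k' : G) = x * (k : G) * x⁻¹ → (ξ : ↥C → ℂ) k' = (ξ : ↥C → ℂ) k)},
          ∃ m : ℕ, (Nat.card ↥C : ℂ)⁻¹ * ∑ᶠ c : ↥C, (χ.1 : ↥K → ℂ) (Subgroup.inclusion hCK c) *
              (starRingEnd ℂ) ((ξ.1 : ↥C → ℂ) c) = (m : ℂ) ∧
            (ξ = f χ → ((m : ZMod p) = 1 ∨ (m : ZMod p) = -1)) ∧ (ξ ≠ f χ → p ∣ m)) ∧
        ((Cfsg.charDegree ((f χ).1 : ↥C → ℂ) : ZMod p) =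
            (Cfsg.charDegree (χ.1 : ↥K → ℂ) : ZMod p) ∨
          (Cfsg.charDegree ((f χ).1 : ↥C → ℂ) : ZMod p) =
            -(Cfsg.charDegree (χ.1 : ↥K → ℂ) : ZMod p)) := by
  classical
  haveI : Fintype K := Fintype.ofFinite _
  haveI : Fintype C := Fintype.ofFinite _
  haveI : Fintype (C.subgroupOf K) := Fintype.ofFinite _
  have hnorm : ∀ s ∈ P, ∀ g ∈ K, s * g * s⁻¹ ∈ K :=
    fun s hs g hg => (Subgroup.mem_normalizer_iff.mp (hPK hs) g).mp hg
  have hQpg : IsPGroup p Q := by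
    obtain ⟨a, ha⟩ := hQp
    exact IsPGroup.of_card ha
  haveI hHn : (Q.subgroupOf K).Normal := by
    constructor
    intro n hn g
    rw [Subgroup.mem_subgroupOf] at hn ⊢
    exact hQn g g.2 n hn
  have hHp : IsPGroup p (Q.subgroupOf K) :=
    IsPGroup.of_equiv hQpg (Subgroup.subgroupOfEquivOfLe hQK).symm
  have hidx : ¬ p ∣ (Q.subgroupOf K).index := hQsyl
  set A : Subgroup (MulAut K) := (conjHomOn K P hnorm).range with hAdef
  have hA : IsPGroup p A :=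
    IsPGroup.of_surjective hP (conjHomOn K P hnorm).rangeRestrict
      (MonoidHom.rangeRestrict_surjective _)
  have hAH : ∀ a ∈ A, ∀ h ∈ Q.subgroupOf K, a h ∈ Q.subgroupOf K := by
    rintro _ ⟨s, rfl⟩ h hh
    rw [Subgroup.mem_subgroupOf] at hh ⊢
    rw [conjHomOn_apply]
    exact conj_mem_of_normal_sylow K Q hQK hQn hQpg hQsyl s.1 (hnorm s.1 s.2) _ hh
  set D : Subgroup K := C.subgroupOf K with hDdef
  have hD : ∀ k : K, k ∈ D ↔ ∀ a ∈ A, a k * k⁻¹ ∈ Q.subgroupOf K := by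
    intro k
    rw [hDdef, Subgroup.mem_subgroupOf, hC]
    constructor
    · rintro ⟨-, h⟩ _ ⟨s, rfl⟩
      rw [Subgroup.mem_subgroupOf]
      exact h s.1 s.2
    · intro h
      refine ⟨k.2, ?_⟩
      intro x hx
      have := h (conjHomOn K P hnorm ⟨x, hx⟩) ⟨⟨x, hx⟩, rfl⟩
      rw [Subgroup.mem_subgroupOf] at this
      exact this
  have hAD := fix_stable (Q.subgroupOf K) A hAH D hD
  obtain ⟨M1, M2, M3⟩ := relGlaub_main (Q.subgroupOf K) A hA hHp hidx hAH D hD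
  set eC := Subgroup.subgroupOfEquivOfLe hCK with heC
  -- invariance translations
  have hinvK : ∀ χ : K → ℂ, (∀ x ∈ P, ∀ k k' : ↥K, (k' : G) = x * (k : G) * x⁻¹ → χ k' = χ k) ↔
      InvUnder (A : Set (MulAut K)) χ := fun χ => (invUnder_conj_iff K P hnorm χ).symm
  have hinvC : ∀ ξ : C → ℂ, (∀ x ∈ P, ∀ k k' : ↥C, (k' : G) = x * (k : G) * x⁻¹ → ξ k' = ξ k) ↔
      InvOn (A : Set (MulAut K)) D (ξ ∘ eC) := by
    intro ξ
    constructor
    · rintro h _ ⟨s, rfl⟩ y y' hyy'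
      apply h s.1 s.2 (eC y) (eC y')
      show ((y' : K) : G) = _
      rw [hyy', conjHomOn_apply]
      rfl
    · intro h x hx k k' hkk'
      have := h (conjHomOn K P hnorm ⟨x, hx⟩) ⟨⟨x, hx⟩, rfl⟩ (eC.symm k) (eC.symm k') (by
        apply Subtype.ext
        rw [conjHomOn_apply]
        exact hkk')
      simpa using this
  have hinner : ∀ (χ : K → ℂ) (ξ : C → ℂ),
      Cfsg.classInner (fun d : D => χ d) (ξ ∘ eC) =
        (Nat.card C : ℂ)⁻¹ * ∑ᶠ c : C, χ (Subgroup.inclusion hCK c) * conj (ξ c) :=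
    fun χ ξ => classInner_subgroupOf_finsum K C hCK χ ξ
  -- the map
  have hex : ∀ χ : {χ : Cfsg.IrrCharacter ↥K // (∀ x ∈ P, ∀ k k' : ↥K,
      (k' : G) = x * (k : G) * x⁻¹ → (χ : ↥K → ℂ) k' = (χ : ↥K → ℂ) k)},
      ∃ ξ₀ : Cfsg.IrrCharacter D, InvOn (A : Set (MulAut K)) D (ξ₀ : D → ℂ) ∧
        (∃ m : ℕ, Cfsg.classInner (fun d : D => (χ.1 : K → ℂ) d) (ξ₀ : D → ℂ) = (m : ℂ) ∧
          ((m : ℤ) ≡ 1 [ZMOD p] ∨ (m : ℤ) ≡ -1 [ZMOD p])) ∧
        ∀ ξ : Cfsg.IrrCharacter D, InvOn (A : Set (MulAut K)) D (ξ : D → ℂ) → ξ ≠ ξ₀ →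
          ∃ m : ℕ, Cfsg.classInner (fun d : D => (χ.1 : K → ℂ) d) (ξ : D → ℂ) = (m : ℂ) ∧ p ∣ m :=
    fun χ => M1 (χ.1 : K → ℂ) χ.1.2 ((hinvK _).mp χ.2)
  choose g hg1 hg2 hg3 using hex
  have hcomp : ∀ ξ' : D → ℂ, (ξ' ∘ eC.symm) ∘ eC = ξ' := by
    intro ξ'
    funext d
    show ξ' (eC.symm (eC d)) = ξ' d
    rw [MulEquiv.symm_apply_apply]
  have hcomp' : ∀ ξ : C → ℂ, (ξ ∘ eC) ∘ eC.symm = ξ := by
    intro ξ
    funext c
    show ξ (eC (eC.symm c)) = ξ c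
    rw [MulEquiv.apply_symm_apply]
  let f : {χ : Cfsg.IrrCharacter ↥K // (∀ x ∈ P, ∀ k k' : ↥K, (k' : G) = x * (k : G) * x⁻¹ →
        (χ : ↥K → ℂ) k' = (χ : ↥K → ℂ) k)} →
      {ξ : Cfsg.IrrCharacter ↥C // (∀ x ∈ P, ∀ k k' : ↥C, (k' : G) = x * (k : G) * x⁻¹ →
        (ξ : ↥C → ℂ) k' = (ξ : ↥C → ℂ) k)} := fun χ =>
    ⟨⟨(g χ : D → ℂ) ∘ eC.symm, IsIrrCharacter.comp_mulEquiv eC.symm (g χ).2⟩, by
      rw [hinvC]
      show InvOn (A : Set (MulAut K)) D (((g χ : D → ℂ) ∘ eC.symm) ∘ eC)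
      rw [hcomp]
      exact hg1 χ⟩
  have hfval : ∀ χ, ((f χ).1 : C → ℂ) = (g χ : D → ℂ) ∘ eC.symm := fun χ => rfl
  have hpm_nd : ∀ m : ℕ, ((m : ℤ) ≡ 1 [ZMOD p] ∨ (m : ℤ) ≡ -1 [ZMOD p]) → ¬ p ∣ m := by
    intro m hm hdvd
    have h0 : (m : ℤ) ≡ 0 [ZMOD p] := by
      rw [Int.modEq_zero_iff_dvd]
      exact_mod_cast hdvd
    have hp1 : ¬ ((p : ℤ) ∣ 1) := by
      intro h
      have := Int.eq_one_of_dvd_one (by positivity) h
      have h2 : p = 1 := by exact_mod_cast this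
      exact hp.out.one_lt.ne' h2
    rcases hm with h | h
    · have := (h0.symm.trans h)
      rw [Int.modEq_comm, Int.modEq_zero_iff_dvd] at this
      exact hp1 this
    · have := (h0.symm.trans h)
      rw [Int.modEq_comm, Int.modEq_zero_iff_dvd] at this
      exact hp1 ((dvd_neg).mp this)
  have hg_unique : ∀ χ (ξ' : Cfsg.IrrCharacter D), InvOn (A : Set (MulAut K)) D (ξ' : D → ℂ) →
      (∃ m : ℕ, Cfsg.classInner (fun d : D => (χ.1 : K → ℂ) d) (ξ' : D → ℂ) = (m : ℂ) ∧ ¬ p ∣ m) →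
      ξ' = g χ := by
    intro χ ξ' hinv hrel
    by_contra hne
    obtain ⟨m, hm, hnd⟩ := hrel
    obtain ⟨m', hm', hdvd⟩ := hg3 χ ξ' hinv hne
    rw [hm] at hm'
    have : m = m' := by exact_mod_cast hm'
    rw [this] at hnd
    exact hnd hdvd
  refine ⟨f, ⟨?_, ?_⟩, ?_⟩
  · -- injective
    intro χ χ' hff
    have h1 : (g χ : D → ℂ) = (g χ' : D → ℂ) := by
      have h2 : ((f χ).1 : C → ℂ) = ((f χ').1 : C → ℂ) := by rw [hff]
      rw [hfval, hfval] at h2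
      have h3 := congrArg (fun φ : C → ℂ => φ ∘ eC) h2
      simp only [hcomp] at h3
      exact h3
    have h2 : g χ = g χ' := Subtype.ext h1
    obtain ⟨m, hm, hm1⟩ := hg2 χ
    obtain ⟨m', hm', hm1'⟩ := hg2 χ'
    rw [← h2] at hm'
    have := M2 (χ.1 : K → ℂ) (χ'.1 : K → ℂ) χ.1.2 ((hinvK _).mp χ.2) χ'.1.2 ((hinvK _).mp χ'.2)
      (g χ) (hg1 χ) ⟨m, hm, hpm_nd m hm1⟩ ⟨m', hm', hpm_nd m' hm1'⟩
    apply Subtype.ext
    apply Subtype.ext
    exact this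
  · -- surjective
    intro ξ
    set ξ' : Cfsg.IrrCharacter D :=
      ⟨(ξ.1 : C → ℂ) ∘ eC, IsIrrCharacter.comp_mulEquiv eC ξ.1.2⟩ with hξ'
    have hξ'inv : InvOn (A : Set (MulAut K)) D (ξ' : D → ℂ) := (hinvC _).mp ξ.2
    obtain ⟨χ, hχ, hχinv, hrel⟩ := M3 ξ' hξ'inv
    refine ⟨⟨⟨χ, hχ⟩, (hinvK _).mpr hχinv⟩, ?_⟩
    have h1 := hg_unique ⟨⟨χ, hχ⟩, (hinvK _).mpr hχinv⟩ ξ' hξ'inv hrel
    apply Subtype.ext
    apply Subtype.ext
    rw [hfval, ← h1]
    exact hcomp' _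
  · intro χ
    refine ⟨?_, ?_⟩
    · intro ξ
      set ξ' : Cfsg.IrrCharacter D :=
        ⟨(ξ.1 : C → ℂ) ∘ eC, IsIrrCharacter.comp_mulEquiv eC ξ.1.2⟩ with hξ'
      have hξ'inv : InvOn (A : Set (MulAut K)) D (ξ' : D → ℂ) := (hinvC _).mp ξ.2
      have hiff : ξ = f χ ↔ ξ' = g χ := by
        constructor
        · intro h
          apply Subtype.ext
          show (ξ.1 : C → ℂ) ∘ eC = (g χ : D → ℂ)
          rw [h, hfval, hcomp]
        · intro h
          apply Subtype.ext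
          apply Subtype.ext
          rw [hfval, ← h]
          exact (hcomp' _).symm
      by_cases heq : ξ' = g χ
      · obtain ⟨m, hm, hm1⟩ := hg2 χ
        refine ⟨m, ?_, ?_, ?_⟩
        · rw [← hinner, ← hm, ← heq]
        · intro _
          rcases hm1 with h | h
          · left
            have := (ZMod.intCast_eq_intCast_iff _ _ p).mpr h
            simpa using this
          · right
            have := (ZMod.intCast_eq_intCast_iff _ _ p).mpr h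
            simpa using this
        · intro hne
          exact absurd (hiff.mpr heq) hne
      · obtain ⟨m, hm, hdvd⟩ := hg3 χ ξ' hξ'inv heq
        refine ⟨m, ?_, ?_, fun _ => hdvd⟩
        · rw [← hinner, ← hm]
        · intro h
          exact absurd (hiff.mp h) heq
    · obtain ⟨m, hm, hm1⟩ := hg2 χ
      have hdeg := relGlaub_degree A hA D hAD (χ.1 : K → ℂ) χ.1.2 ((hinvK _).mp χ.2) (g χ)
        (hg1 χ) m hm hm1 (hg3 χ)
      have hdeq : Cfsg.charDegree ((f χ).1 : C → ℂ) = Cfsg.charDegree (g χ : D → ℂ) := by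
        have h1 : (Cfsg.charDegree ((f χ).1 : C → ℂ) : ℂ) = (Cfsg.charDegree (g χ : D → ℂ) : ℂ) := by
          rw [charDegree_cast_of_isCharacter (IsIrrCharacter.isCharacter (f χ).1.2),
            charDegree_cast_of_isCharacter (IsIrrCharacter.isCharacter (g χ).2), hfval]
          show (g χ : D → ℂ) (eC.symm 1) = _
          rw [map_one]
        exact_mod_cast h1
      rw [hdeq]
      exact hdeg

end Cfsg.Agent.Helper6.RelGlaub
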