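import Mathlib
import Cfsg.Prelude.Def_Characters
import Cfsg.Agent.Helper6.RelGlaubL
import Cfsg.Agent.Helper6.Constituent

/-!
# The relative Glauberman correspondence, for the normalizer of a Sylow subgroup

We restate the correspondence of `RelGlaubL` with the fixed-point subgroup `C = N ∩ K` replaced by
the normal subgroup `K.subgroupOf N` of `N`, where `N` is a subgroup normalizing `P`.
-/

set_option autoImplicit false
set_option linter.style.haveILetI false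

namespace Cfsg.Agent.Helper6.RealP

open Cfsg.Agent.Helper6
open scoped ComplexConjugate

universe u

variable {G : Type u} [Group G]

/-- the embedding of `K ∩ N`, as a subgroup of `N`, into `K` -/
def subOfHom (K N : Subgroup G) : ↥(K.subgroupOf N) →* ↥K where
  toFun l := ⟨((l : N) : G), Subgroup.mem_subgroupOf.mp l.2⟩
  map_one' := rfl
  map_mul' _ _ := rfl

theorem subOfHom_coe (K N : Subgroup G) (l : ↥(K.subgroupOf N)) :
    ((subOfHom K N l : ↥K) : G) = ((l : N) : G) := rfl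

/-- the identification of `K.subgroupOf N` with `N ⊓ K` -/
def subOfEquiv (K N : Subgroup G) : ↥(K.subgroupOf N) ≃* ↥(N ⊓ K) where
  toFun l := ⟨((l : N) : G), ⟨l.1.2, Subgroup.mem_subgroupOf.mp l.2⟩⟩
  invFun c := ⟨⟨c.1, c.2.1⟩, Subgroup.mem_subgroupOf.mpr c.2.2⟩
  left_inv _ := rfl
  right_inv _ := rfl
  map_mul' _ _ := rfl

theorem subOfEquiv_coe (K N : Subgroup G) (l : ↥(K.subgroupOf N)) :
    ((subOfEquiv K N l : ↥(N ⊓ K)) : G) = ((l : N) : G) := rfl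

theorem pinv_iff_conjFun (P K : Subgroup G) [hK : K.Normal] (χ : ↥K → ℂ) :
    (∀ x ∈ P, ∀ k k' : ↥K, (k' : G) = x * (k : G) * x⁻¹ → χ k' = χ k) ↔
      ∀ x ∈ P, conjFun K χ x = χ := by
  constructor
  · intro h x hx
    funext k
    exact h x hx k ⟨x * k * x⁻¹, hK.conj_mem k k.2 x⟩ rfl
  · intro h x hx k k' hkk'
    have h1 := congrFun (h x hx) k
    rw [← h1]
    unfold conjFun
    congr 1
    exact Subtype.ext hkk'

theorem pinv_iff_conjFun_sub (P K N : Subgroup G) [hK : K.Normal] (hPN : P ≤ N)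
    (ξ : ↥(N ⊓ K) → ℂ) :
    (∀ x ∈ P, ∀ k k' : ↥(N ⊓ K), (k' : G) = x * (k : G) * x⁻¹ → ξ k' = ξ k) ↔
      ∀ x : ↥N, (x : G) ∈ P →
        conjFun (K.subgroupOf N) (ξ ∘ subOfEquiv K N) x = ξ ∘ subOfEquiv K N := by
  constructor
  · intro h x hx
    funext l
    exact h (x : G) hx (subOfEquiv K N l) _ rfl
  · intro h x hx k k' hkk'
    have h1 := congrFun (h ⟨x, hPN hx⟩ hx) ((subOfEquiv K N).symm k)
    have h2 : (ξ ∘ subOfEquiv K N) ((subOfEquiv K N).symm k) = ξ k := by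
      simp
    rw [h2] at h1
    rw [← h1]
    unfold conjFun
    change ξ k' = ξ (subOfEquiv K N _)
    congr 1
    apply Subtype.ext
    rw [hkk']
    rfl

/-- **The relative Glauberman correspondence for a subgroup normalizing `P`.** -/
theorem relGlaub_normalizer [Finite G] (p : ℕ) [hp : Fact p.Prime] (P K N : Subgroup G)
    [hK : K.Normal] [Fintype ↥(K.subgroupOf N)] (hP : IsPGroup p ↥P) (hPN : P ≤ N)
    (hQn : ∀ k ∈ K, ∀ q ∈ P ⊓ K, k * q * k⁻¹ ∈ P ⊓ K)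
    (hQsyl : ¬ p ∣ (P ⊓ K).relIndex K)
    (hC : ∀ k : G, k ∈ N ⊓ K ↔ (k ∈ K ∧ ∀ x ∈ P, x * k * x⁻¹ * k⁻¹ ∈ P ⊓ K)) :
    ∃ g₀ : {χ : Cfsg.IrrCharacter ↥K // ∀ x ∈ P, conjFun K (χ : ↥K → ℂ) x = χ} →
        {θ : Cfsg.IrrCharacter ↥(K.subgroupOf N) // ∀ x : ↥N, (x : G) ∈ P →
          conjFun (K.subgroupOf N) (θ : ↥(K.subgroupOf N) → ℂ) x = θ},
      Function.Bijective g₀ ∧ ∀ χ,
        (∀ θ, θ = g₀ χ ↔ ∃ m : ℕ, Cfsg.classInner ((χ.1 : ↥K → ℂ) ∘ subOfHom K N)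
          (θ.1 : ↥(K.subgroupOf N) → ℂ) = m ∧ ¬ p ∣ m) ∧
        ((Cfsg.charDegree ((g₀ χ).1 : ↥(K.subgroupOf N) → ℂ) : ZMod p) =
            (Cfsg.charDegree (χ.1 : ↥K → ℂ) : ZMod p) ∨
          (Cfsg.charDegree ((g₀ χ).1 : ↥(K.subgroupOf N) → ℂ) : ZMod p) =
            -(Cfsg.charDegree (χ.1 : ↥K → ℂ) : ZMod p)) := by
  classical
  have hPK : P ≤ Subgroup.normalizer (K : Set G) := by
    rw [Subgroup.normalizer_eq_top]; exact le_top
  have hQp : ∃ a : ℕ, Nat.card ↥(P ⊓ K) = p ^ a :=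
    IsPGroup.iff_card.mp (hP.to_le inf_le_left)
  obtain ⟨f, hfbij, hf⟩ := RelGlaub.relGlaub_concrete p P K (P ⊓ K) (N ⊓ K) hP hPK inf_le_right
    hQn hQp hQsyl inf_le_right hC
  haveI : Finite ↥(K.subgroupOf N) := inferInstance
  haveI : Fintype ↥(N ⊓ K) := Fintype.ofFinite _
  -- the transported map
  let g₀ : {χ : Cfsg.IrrCharacter ↥K // ∀ x ∈ P, conjFun K (χ : ↥K → ℂ) x = χ} →
        {θ : Cfsg.IrrCharacter ↥(K.subgroupOf N) // ∀ x : ↥N, (x : G) ∈ P →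
          conjFun (K.subgroupOf N) (θ : ↥(K.subgroupOf N) → ℂ) x = θ} := fun χ =>
    ⟨⟨((f ⟨χ.1, (pinv_iff_conjFun P K _).mpr χ.2⟩).1 : ↥(N ⊓ K) → ℂ) ∘ subOfEquiv K N,
      IsIrrCharacter.comp_mulEquiv (subOfEquiv K N) (f ⟨χ.1, (pinv_iff_conjFun P K _).mpr χ.2⟩).1.2⟩,
      (pinv_iff_conjFun_sub P K N hPN _).mp (f ⟨χ.1, (pinv_iff_conjFun P K _).mpr χ.2⟩).2⟩
  have hg₀ : ∀ χ, ((g₀ χ).1 : ↥(K.subgroupOf N) → ℂ) =
      ((f ⟨χ.1, (pinv_iff_conjFun P K _).mpr χ.2⟩).1 : ↥(N ⊓ K) → ℂ) ∘ subOfEquiv K N :=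
    fun _ => rfl
  -- from `θ` back to a character of `N ⊓ K`
  have hback : ∀ θ : {θ : Cfsg.IrrCharacter ↥(K.subgroupOf N) // ∀ x : ↥N, (x : G) ∈ P →
      conjFun (K.subgroupOf N) (θ : ↥(K.subgroupOf N) → ℂ) x = θ},
      ∃ ξ : {ξ : Cfsg.IrrCharacter ↥(N ⊓ K) // (∀ x ∈ P, ∀ k k' : ↥(N ⊓ K),
        (k' : G) = x * (k : G) * x⁻¹ → (ξ : ↥(N ⊓ K) → ℂ) k' = (ξ : ↥(N ⊓ K) → ℂ) k)},
        (θ.1 : ↥(K.subgroupOf N) → ℂ) = (ξ.1 : ↥(N ⊓ K) → ℂ) ∘ subOfEquiv K N := by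
    intro θ
    have hirr : Cfsg.IsIrrCharacter ↥(N ⊓ K)
        ((θ.1 : ↥(K.subgroupOf N) → ℂ) ∘ (subOfEquiv K N).symm) :=
      IsIrrCharacter.comp_mulEquiv (subOfEquiv K N).symm θ.1.2
    have hcomp : ((θ.1 : ↥(K.subgroupOf N) → ℂ) ∘ (subOfEquiv K N).symm) ∘ subOfEquiv K N =
        (θ.1 : ↥(K.subgroupOf N) → ℂ) := by
      funext l; simp
    refine ⟨⟨⟨_, hirr⟩, ?_⟩, hcomp.symm⟩
    rw [pinv_iff_conjFun_sub P K N hPN]
    intro x hx
    change conjFun (K.subgroupOf N)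
      (((θ.1 : ↥(K.subgroupOf N) → ℂ) ∘ (subOfEquiv K N).symm) ∘ subOfEquiv K N) x = _
    rw [hcomp]
    exact θ.2 x hx
  have hcomp_inj : ∀ a b : ↥(N ⊓ K) → ℂ, a ∘ subOfEquiv K N = b ∘ subOfEquiv K N → a = b := by
    intro a b hab
    funext c
    have := congrFun hab ((subOfEquiv K N).symm c)
    simpa using this
  refine ⟨g₀, ⟨?_, ?_⟩, ?_⟩
  · -- injective
    intro χ₁ χ₂ h12
    have h1 : ((g₀ χ₁).1 : ↥(K.subgroupOf N) → ℂ) = ((g₀ χ₂).1 : ↥(K.subgroupOf N) → ℂ) := by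
      rw [h12]
    rw [hg₀, hg₀] at h1
    have h2 := hcomp_inj _ _ h1
    have h3 : f ⟨χ₁.1, (pinv_iff_conjFun P K _).mpr χ₁.2⟩ =
        f ⟨χ₂.1, (pinv_iff_conjFun P K _).mpr χ₂.2⟩ := Subtype.ext (Subtype.ext h2)
    have h4 := hfbij.1 h3
    apply Subtype.ext
    have h5 := congrArg Subtype.val h4
    exact h5
  · -- surjective
    intro θ
    obtain ⟨ξ, hξ⟩ := hback θ
    obtain ⟨χ', hχ'⟩ := hfbij.2 ξ
    refine ⟨⟨χ'.1, (pinv_iff_conjFun P K _).mp χ'.2⟩, ?_⟩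
    apply Subtype.ext
    apply Subtype.ext
    rw [hg₀, hξ]
    have : (⟨χ'.1, (pinv_iff_conjFun P K _).mpr ((pinv_iff_conjFun P K _).mp χ'.2)⟩ :
        {χ : Cfsg.IrrCharacter ↥K // (∀ x ∈ P, ∀ k k' : ↥K, (k' : G) = x * (k : G) * x⁻¹ →
        (χ : ↥K → ℂ) k' = (χ : ↥K → ℂ) k)}) = χ' := Subtype.ext rfl
    rw [this, hχ']
  · intro χ
    obtain ⟨hmult, hdeg⟩ := hf ⟨χ.1, (pinv_iff_conjFun P K _).mpr χ.2⟩
    refine ⟨?_, ?_⟩
    · intro θ
      obtain ⟨ξ, hξ⟩ := hback θ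
      obtain ⟨m, hm, hm1, hm2⟩ := hmult ξ
      -- the inner product
      have hinner : Cfsg.classInner ((χ.1 : ↥K → ℂ) ∘ subOfHom K N)
          (θ.1 : ↥(K.subgroupOf N) → ℂ) = (m : ℂ) := by
        rw [← hm, hξ, finsum_eq_sum_of_fintype]
        unfold Cfsg.classInner
        rw [Nat.card_congr (subOfEquiv K N).toEquiv]
        congr 1
        exact Equiv.sum_comp (subOfEquiv K N).toEquiv
          (fun c : ↥(N ⊓ K) => (χ.1 : ↥K → ℂ) (Subgroup.inclusion inf_le_right c) *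
            conj ((ξ.1 : ↥(N ⊓ K) → ℂ) c))
      have heq_iff : θ = g₀ χ ↔ ξ = f ⟨χ.1, (pinv_iff_conjFun P K _).mpr χ.2⟩ := by
        constructor
        · intro h
          have h1 : (θ.1 : ↥(K.subgroupOf N) → ℂ) = ((g₀ χ).1 : ↥(K.subgroupOf N) → ℂ) := by
            rw [h]
          rw [hg₀, hξ] at h1
          exact Subtype.ext (Subtype.ext (hcomp_inj _ _ h1))
        · intro h
          apply Subtype.ext
          apply Subtype.ext
          rw [hg₀, hξ, h]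
      constructor
      · intro h
        refine ⟨m, hinner, ?_⟩
        intro hdvd
        have h0 : (m : ZMod p) = 0 := (ZMod.natCast_eq_zero_iff m p).mpr hdvd
        rcases hm1 (heq_iff.mp h) with h1 | h1
        · rw [h0] at h1; exact zero_ne_one h1
        · rw [h0] at h1
          have : (1 : ZMod p) = 0 := by
            have := congrArg (fun z => -z) h1
            simpa using this.symm
          exact one_ne_zero this
      · rintro ⟨m', hm', hndvd⟩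
        rw [heq_iff]
        by_contra hne
        have : (m' : ℂ) = (m : ℂ) := by rw [← hm', hinner]
        have hmm : m' = m := by exact_mod_cast this
        rw [hmm] at hndvd
        exact hndvd (hm2 hne)
    · have hd : Cfsg.charDegree ((g₀ χ).1 : ↥(K.subgroupOf N) → ℂ) =
          Cfsg.charDegree ((f ⟨χ.1, (pinv_iff_conjFun P K _).mpr χ.2⟩).1 : ↥(N ⊓ K) → ℂ) := by
        unfold Cfsg.charDegree
        rw [hg₀]
        simp
      rw [hd]
      exact hdeg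

end Cfsg.Agent.Helper6.RealP
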