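import Mathlib
import Cfsg.Prelude.Def_Characters
import Cfsg.Agent.Helper6.RealPH
import Cfsg.Agent.Helper6.RealPG

/-!
# Real characters over a normal subgroup of odd index: Sylow-invariant constituents
-/

set_option autoImplicit false
set_option linter.style.haveILetI false

namespace Cfsg.Agent.Helper6.RealP

open Cfsg.Agent.Helper6
open scoped ComplexConjugate

universe u

variable {G : Type u} [Group G]

theorem conjFun_inv_of_conj_mem (N : Subgroup G) [hN : N.Normal] (θ : N → ℂ) (g : G)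
    (P : Subgroup G) (h : ∀ x ∈ P, g * x * g⁻¹ ∈ conjStab N θ) :
    ∀ x ∈ P, conjFun N (conjFun N θ g) x = conjFun N θ g := by
  intro x hx
  have h1 := (mem_conjStab N θ _).mp (h x hx)
  rw [conjFun_mul]
  have h2 : g * x = (g * x * g⁻¹) * g := by group
  rw [h2, ← conjFun_mul, h1]

theorem classInner_restrict_conjFun [Fintype G] (N : Subgroup G) [hN : N.Normal] [Fintype N]
    (χ : G → ℂ) (hχ : Cfsg.IsClassFunction G χ) (θ : N → ℂ) (g : G) :
    Cfsg.classInner (fun n : N => χ n) (conjFun N θ g) =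
      Cfsg.classInner (fun n : N => χ n) θ := by
  have := classInner_conjFun N (fun n : N => χ n) θ g
  rw [conjFun_restrict N χ hχ g] at this
  exact this

/-- a real character of `p'`-degree has a real `P`-invariant constituent -/
theorem exists_real_pinv_constituent [Fintype G] (N : Subgroup G) [hN : N.Normal] [Fintype N]
    (hodd : Odd N.index) {p : ℕ} [hp : Fact p.Prime] (P : Sylow p G)
    (χ : Cfsg.IrrCharacter G) (hχ : ∀ g, ((χ : G → ℂ) g).im = 0)
    (hdeg : ¬ p ∣ Cfsg.charDegree (χ : G → ℂ)) :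
    ∃ θ : Cfsg.IrrCharacter N, (∀ n, ((θ : N → ℂ) n).im = 0) ∧
      (∀ x ∈ (P : Subgroup G), conjFun N (θ : N → ℂ) x = θ) ∧
      Cfsg.classInner (fun n : N => (χ : G → ℂ) n) (θ : N → ℂ) ≠ 0 := by
  have hχc := IsIrrCharacter.isCharacter χ.2
  have hres : Cfsg.IsCharacter N (fun n : N => (χ : G → ℂ) n) := IsCharacter.restrict N hχc
  have hne : (fun n : N => (χ : G → ℂ) n) ≠ 0 := by
    intro h
    have h1 := congrFun h 1
    exact IsIrrCharacter.apply_one_ne_zero χ.2 h1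
  obtain ⟨θ₀f, hθ₀irr, hθ₀⟩ := exists_irr_constituent hres hne
  have hreal₀ := real_of_constituent N hodd χ hχ ⟨θ₀f, hθ₀irr⟩ hθ₀
  have hidx := (degree_dvd_of_over N χ ⟨θ₀f, hθ₀irr⟩ hθ₀).2
  have hnd : ¬ p ∣ (conjStab N θ₀f).index := fun h => hdeg (h.trans hidx)
  obtain ⟨g, hg⟩ := exists_conj_sylow_le P (conjStab N θ₀f) hnd
  refine ⟨⟨conjFun N θ₀f g⁻¹, conjFun_isIrr N hθ₀irr g⁻¹⟩, fun n => hreal₀ _, ?_, ?_⟩
  · apply conjFun_inv_of_conj_mem
    intro x hx
    have := hg x hx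
    rwa [inv_inv]
  · change Cfsg.classInner (fun n : N => (χ : G → ℂ) n) (conjFun N θ₀f g⁻¹) ≠ 0
    rw [classInner_restrict_conjFun N _ (IsCharacter.isClassFunction hχc)]
    exact hθ₀

/-- two `P`-invariant constituents are conjugate under the normalizer of `P` -/
theorem exists_normalizer_conj [Fintype G] (N : Subgroup G) [hN : N.Normal] [Fintype N]
    {p : ℕ} [hp : Fact p.Prime] (P : Sylow p G) (χ : G → ℂ) (hχ : Cfsg.IsIrrCharacter G χ)
    (θ₁ θ₂ : N → ℂ) (hθ₁ : Cfsg.IsIrrCharacter N θ₁) (hθ₂ : Cfsg.IsIrrCharacter N θ₂)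
    (h₁ : Cfsg.classInner (fun n : N => χ n) θ₁ ≠ 0)
    (h₂ : Cfsg.classInner (fun n : N => χ n) θ₂ ≠ 0)
    (hP₁ : ∀ x ∈ (P : Subgroup G), conjFun N θ₁ x = θ₁)
    (hP₂ : ∀ x ∈ (P : Subgroup G), conjFun N θ₂ x = θ₂) :
    ∃ n ∈ Subgroup.normalizer ((P : Subgroup G) : Set G), θ₂ = conjFun N θ₁ n := by
  obtain ⟨g, hg⟩ := conj_of_constituents N χ hχ θ₁ hθ₁ h₁ θ₂ hθ₂ h₂
  have hPT : (P : Subgroup G) ≤ conjStab N θ₁ := fun x hx => hP₁ x hx
  have hgT : ∀ x ∈ (P : Subgroup G), g * x * g⁻¹ ∈ conjStab N θ₁ := by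
    intro x hx
    rw [mem_conjStab]
    have h := hP₂ x hx
    rw [hg, conjFun_mul] at h
    have h3 := congrArg (fun φ => conjFun N φ g⁻¹) h
    simp only [conjFun_mul] at h3
    rw [mul_inv_cancel, conjFun_one] at h3
    exact h3
  obtain ⟨t, ht, htg⟩ := exists_mem_normalizer_of_conj_le P _ hPT g hgT
  refine ⟨t * g, htg, ?_⟩
  rw [← conjFun_mul, (mem_conjStab N θ₁ t).mp ht]
  exact hg

end Cfsg.Agent.Helper6.RealP
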