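import Mathlib
import Cfsg.Prelude.Def_Characters
import Cfsg.Agent.Helper6.RealPI
import Cfsg.Agent.Helper6.RealPK

/-!
# The relative Glauberman correspondence for a normalizer: equivariance
-/

set_option autoImplicit false
set_option linter.style.haveILetI false

namespace Cfsg.Agent.Helper6.RealP

open Cfsg.Agent.Helper6
open scoped ComplexConjugate

universe u

variable {G : Type u} [Group G]

theorem classInner_conj_conj {H : Type u} [Group H] [Fintype H] (a b : H → ℂ) :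
    Cfsg.classInner (fun h => conj (a h)) (fun h => conj (b h)) = conj (Cfsg.classInner a b) := by
  unfold Cfsg.classInner
  rw [map_mul, map_inv₀, Complex.conj_natCast, map_sum]
  congr 1
  apply Finset.sum_congr rfl
  intro h _
  rw [map_mul]

theorem comp_subOfHom_conjFun (K N : Subgroup G) [hK : K.Normal] (χ : ↥K → ℂ) (n : ↥N) :
    (conjFun K χ (n : G)) ∘ subOfHom K N = conjFun (K.subgroupOf N) (χ ∘ subOfHom K N) n := by
  funext l
  change χ _ = χ _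
  congr 1

/-- **The relative Glauberman correspondence for a subgroup normalizing `P`**, with its
compatibility with conjugation and with complex conjugation. -/
theorem relGlaub_normalizer_equivariant [Finite G] (p : ℕ) [hp : Fact p.Prime] (P K N : Subgroup G)
    [hK : K.Normal] [Fintype ↥(K.subgroupOf N)] (hP : IsPGroup p ↥P) (hPN : P ≤ N)
    (hNP : ∀ n ∈ N, ∀ x ∈ P, n * x * n⁻¹ ∈ P)
    (hQn : ∀ k ∈ K, ∀ q ∈ P ⊓ K, k * q * k⁻¹ ∈ P ⊓ K)
    (hQsyl : ¬ p ∣ (P ⊓ K).relIndex K)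
    (hC : ∀ k : G, k ∈ N ⊓ K ↔ (k ∈ K ∧ ∀ x ∈ P, x * k * x⁻¹ * k⁻¹ ∈ P ⊓ K)) :
    ∃ g₀ : {χ : Cfsg.IrrCharacter ↥K // ∀ x ∈ P, conjFun K (χ : ↥K → ℂ) x = χ} →
        {θ : Cfsg.IrrCharacter ↥(K.subgroupOf N) // ∀ x : ↥N, (x : G) ∈ P →
          conjFun (K.subgroupOf N) (θ : ↥(K.subgroupOf N) → ℂ) x = θ},
      Function.Bijective g₀ ∧
      (∀ χ, ((Cfsg.charDegree ((g₀ χ).1 : ↥(K.subgroupOf N) → ℂ) : ZMod p) =
            (Cfsg.charDegree (χ.1 : ↥K → ℂ) : ZMod p) ∨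
          (Cfsg.charDegree ((g₀ χ).1 : ↥(K.subgroupOf N) → ℂ) : ZMod p) =
            -(Cfsg.charDegree (χ.1 : ↥K → ℂ) : ZMod p))) ∧
      (∀ (χ χ' : {χ : Cfsg.IrrCharacter ↥K // ∀ x ∈ P, conjFun K (χ : ↥K → ℂ) x = χ}) (n : ↥N),
        (χ'.1 : ↥K → ℂ) = conjFun K (χ.1 : ↥K → ℂ) (n : G) →
        ((g₀ χ').1 : ↥(K.subgroupOf N) → ℂ) =
          conjFun (K.subgroupOf N) ((g₀ χ).1 : ↥(K.subgroupOf N) → ℂ) n) ∧
      (∀ (χ χ' : {χ : Cfsg.IrrCharacter ↥K // ∀ x ∈ P, conjFun K (χ : ↥K → ℂ) x = χ}),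
        (χ'.1 : ↥K → ℂ) = (fun k => conj ((χ.1 : ↥K → ℂ) k)) →
        ((g₀ χ').1 : ↥(K.subgroupOf N) → ℂ) =
          fun l => conj (((g₀ χ).1 : ↥(K.subgroupOf N) → ℂ) l)) := by
  classical
  haveI : Fintype ↥N := Fintype.ofFinite _
  obtain ⟨g₀, hbij, hg₀⟩ := relGlaub_normalizer p P K N hP hPN hQn hQsyl hC
  refine ⟨g₀, hbij, fun χ => (hg₀ χ).2, ?_, ?_⟩
  · intro χ χ' n hχ'
    obtain ⟨m, hm, hmp⟩ := ((hg₀ χ).1 (g₀ χ)).mp rfl
    -- the conjugate of `g₀ χ`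
    have hinv : ∀ x : ↥N, (x : G) ∈ P →
        conjFun (K.subgroupOf N)
          (conjFun (K.subgroupOf N) ((g₀ χ).1 : ↥(K.subgroupOf N) → ℂ) n) x =
        conjFun (K.subgroupOf N) ((g₀ χ).1 : ↥(K.subgroupOf N) → ℂ) n := by
      intro x hx
      apply conjFun_inv_of_conj_mem (K.subgroupOf N) _ n (P.subgroupOf N) _ x
        (Subgroup.mem_subgroupOf.mpr hx)
      intro y hy
      rw [mem_conjStab]
      apply (g₀ χ).2
      exact hNP n n.2 y (Subgroup.mem_subgroupOf.mp hy)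
    let θ' : {θ : Cfsg.IrrCharacter ↥(K.subgroupOf N) // ∀ x : ↥N, (x : G) ∈ P →
          conjFun (K.subgroupOf N) (θ : ↥(K.subgroupOf N) → ℂ) x = θ} :=
      ⟨⟨conjFun (K.subgroupOf N) ((g₀ χ).1 : ↥(K.subgroupOf N) → ℂ) n,
        conjFun_isIrr (K.subgroupOf N) (g₀ χ).1.2 n⟩, hinv⟩
    have hθ' : θ' = g₀ χ' := by
      rw [(hg₀ χ').1 θ']
      refine ⟨m, ?_, hmp⟩
      rw [← hm, hχ', comp_subOfHom_conjFun]
      exact classInner_conjFun (K.subgroupOf N) _ _ n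
    rw [← hθ']
  · intro χ χ' hχ'
    obtain ⟨m, hm, hmp⟩ := ((hg₀ χ).1 (g₀ χ)).mp rfl
    have hinv : ∀ x : ↥N, (x : G) ∈ P →
        conjFun (K.subgroupOf N)
          (fun l => conj (((g₀ χ).1 : ↥(K.subgroupOf N) → ℂ) l)) x =
        fun l => conj (((g₀ χ).1 : ↥(K.subgroupOf N) → ℂ) l) := by
      intro x hx
      have h1 := (g₀ χ).2 x hx
      funext l
      have h2 := congrFun h1 l
      change conj (conjFun (K.subgroupOf N) ((g₀ χ).1 : ↥(K.subgroupOf N) → ℂ) x l) = _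
      rw [h2]
    let θ' : {θ : Cfsg.IrrCharacter ↥(K.subgroupOf N) // ∀ x : ↥N, (x : G) ∈ P →
          conjFun (K.subgroupOf N) (θ : ↥(K.subgroupOf N) → ℂ) x = θ} :=
      ⟨⟨fun l => conj (((g₀ χ).1 : ↥(K.subgroupOf N) → ℂ) l), conj_isIrr (g₀ χ).1.2⟩, hinv⟩
    have hθ' : θ' = g₀ χ' := by
      rw [(hg₀ χ').1 θ']
      refine ⟨m, ?_, hmp⟩
      rw [hχ']
      have h1 := classInner_conj_conj (H := ↥(K.subgroupOf N))
        ((χ.1 : ↥K → ℂ) ∘ subOfHom K N) ((g₀ χ).1 : ↥(K.subgroupOf N) → ℂ)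
      rw [hm, Complex.conj_natCast] at h1
      exact h1
    rw [← hθ']

end Cfsg.Agent.Helper6.RealP
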