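import Mathlib
import Cfsg.Prelude.Def_Characters
import Cfsg.Agent.Helper6.RelGlaubL

/-!
# Real characters of `p'`-degree: a bijection lemma, and the Sylow subgroup of `O^{2'}(G)`
-/

set_option autoImplicit false
set_option linter.style.haveILetI false

namespace Cfsg.Agent.Helper6.RealP

open Cfsg.Agent.Helper6

universe u

/-- two "surjective relations" with corresponding fibres induce a bijection -/
theorem exists_bijection_of_rel {X A Y B : Type*} (R : X → A → Prop) (S : Y → B → Prop)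
    (f₀ : X → Y) (hf₀ : Function.Surjective f₀) (rX : X → X → Prop) (rY : Y → Y → Prop)
    (hR1 : ∀ x, ∃ a, R x a) (hR1u : ∀ x a a', R x a → R x a' → a = a') (hR2 : ∀ a, ∃ x, R x a)
    (hR3 : ∀ x₁ x₂ a, R x₁ a → R x₂ a → rX x₁ x₂)
    (hR4 : ∀ x₁ x₂ a, rX x₁ x₂ → R x₁ a → R x₂ a)
    (hS1 : ∀ y, ∃ b, S y b) (hS1u : ∀ y b b', S y b → S y b' → b = b') (hS2 : ∀ b, ∃ y, S y b)
    (hS3 : ∀ y₁ y₂ b, S y₁ b → S y₂ b → rY y₁ y₂)
    (hS4 : ∀ y₁ y₂ b, rY y₁ y₂ → S y₁ b → S y₂ b)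
    (hr : ∀ x₁ x₂, rX x₁ x₂ ↔ rY (f₀ x₁) (f₀ x₂)) :
    ∃ f : A → B, Function.Bijective f ∧ ∀ x a, R x a → S (f₀ x) (f a) := by
  choose xa hxa using hR2
  choose bs hbs using hS1
  have key : ∀ x a, R x a → S (f₀ x) (bs (f₀ (xa a))) := by
    intro x a hxa'
    have h1 : rX (xa a) x := hR3 _ _ a (hxa a) hxa'
    have h2 : rY (f₀ (xa a)) (f₀ x) := (hr _ _).mp h1
    exact hS4 _ _ _ h2 (hbs _)
  refine ⟨fun a => bs (f₀ (xa a)), ⟨?_, ?_⟩, key⟩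
  · intro a a' h
    have h1 : S (f₀ (xa a)) (bs (f₀ (xa a))) := hbs _
    have h2 : S (f₀ (xa a')) (bs (f₀ (xa a))) := by
      have h3 : bs (f₀ (xa a)) = bs (f₀ (xa a')) := h
      rw [h3]; exact hbs _
    have h4 : rX (xa a) (xa a') := (hr _ _).mpr (hS3 _ _ _ h1 h2)
    have h5 : R (xa a') a := hR4 _ _ a h4 (hxa a)
    exact hR1u (xa a') a a' h5 (hxa a')
  · intro b
    obtain ⟨y, hy⟩ := hS2 b
    obtain ⟨x, rfl⟩ := hf₀ y
    obtain ⟨a, ha⟩ := hR1 x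
    exact ⟨a, hS1u _ _ _ (key x a ha) hy⟩

variable {G : Type u} [Group G]

/-- if the Sylow `p`-subgroups of the normal subgroup `K` are normal in `K`, then `P ∩ K` is
normalized by `K` and has `p'`-index in `K` -/
theorem sylow_inf_of_normal_sylow [Finite G] {p : ℕ} [hp : Fact p.Prime] (P : Sylow p G)
    (K : Subgroup G) [hK : K.Normal] (h : ∀ Q₀ : Sylow p ↥K, (Q₀ : Subgroup ↥K).Normal) :
    (∀ k ∈ K, ∀ q ∈ (P : Subgroup G) ⊓ K, k * q * k⁻¹ ∈ (P : Subgroup G) ⊓ K) ∧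
      ¬ p ∣ ((P : Subgroup G) ⊓ K).relIndex K := by
  obtain Q₀ : Sylow p ↥K := default
  haveI hQ₀n : (Q₀ : Subgroup ↥K).Normal := h Q₀
  have hQ₀idx : ¬ p ∣ (Q₀ : Subgroup ↥K).index := Q₀.not_dvd_index
  -- the image of `Q₀` in `G`
  have hQ₁K : (Q₀ : Subgroup ↥K).map K.subtype ≤ K := Subgroup.map_subtype_le _
  have hQ₁p : IsPGroup p ((Q₀ : Subgroup ↥K).map K.subtype) := Q₀.2.map _
  have hsub : ((Q₀ : Subgroup ↥K).map K.subtype).subgroupOf K = (Q₀ : Subgroup ↥K) :=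
    Subgroup.comap_map_eq_self_of_injective K.subtype_injective _
  have hQ₁idx : ¬ p ∣ ((Q₀ : Subgroup ↥K).map K.subtype).relIndex K := by
    change ¬ p ∣ (((Q₀ : Subgroup ↥K).map K.subtype).subgroupOf K).index
    rw [hsub]; exact hQ₀idx
  have hQ₁n : ∀ k ∈ K, ∀ q ∈ (Q₀ : Subgroup ↥K).map K.subtype,
      k * q * k⁻¹ ∈ (Q₀ : Subgroup ↥K).map K.subtype := by
    rintro k hk _ ⟨q, hq, rfl⟩
    exact ⟨⟨k, hk⟩ * q * ⟨k, hk⟩⁻¹, hQ₀n.conj_mem q hq ⟨k, hk⟩, rfl⟩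
  -- it is normal in `G`
  haveI hQ₁normal : ((Q₀ : Subgroup ↥K).map K.subtype).Normal := by
    constructor
    intro q hq g
    exact RelGlaub.conj_mem_of_normal_sylow K _ hQ₁K hQ₁n hQ₁p hQ₁idx g
      (fun k hk => hK.conj_mem k hk g) q hq
  -- hence contained in `P`
  have hQ₁P : (Q₀ : Subgroup ↥K).map K.subtype ≤ (P : Subgroup G) := by
    have hsup : IsPGroup p ((P : Subgroup G) ⊔ (Q₀ : Subgroup ↥K).map K.subtype : Subgroup G) :=
      IsPGroup.to_sup_of_normal_right P.2 hQ₁p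
    have heq := P.is_maximal' hsup le_sup_left
    rw [← heq]
    exact le_sup_right
  -- and equal to `P ⊓ K`
  have heq : (P : Subgroup G) ⊓ K = (Q₀ : Subgroup ↥K).map K.subtype := by
    apply le_antisymm
    · intro x hx
      have hp' : IsPGroup p (((P : Subgroup G) ⊓ K).subgroupOf K) :=
        (P.2.to_le inf_le_left).comap_subtype
      have hle := RelGlaub.le_of_normal_sylow (Q₀ : Subgroup ↥K) Q₀.2 hQ₀idx _ hp'
      have hmem : (⟨x, hx.2⟩ : ↥K) ∈ ((P : Subgroup G) ⊓ K).subgroupOf K :=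
        Subgroup.mem_subgroupOf.mpr hx
      exact ⟨⟨x, hx.2⟩, hle hmem, rfl⟩
    · exact le_inf hQ₁P hQ₁K
  rw [heq]
  exact ⟨hQ₁n, hQ₁idx⟩

/-- the subgroup of `K` acting trivially on `P` modulo `P ∩ K` is `N_K(P)` -/
theorem mem_normalizer_inf_iff [Finite G] (P K : Subgroup G) [hK : K.Normal] (k : G) :
    k ∈ Subgroup.normalizer (P : Set G) ⊓ K ↔
      (k ∈ K ∧ ∀ x ∈ P, x * k * x⁻¹ * k⁻¹ ∈ P ⊓ K) := by
  constructor
  · rintro ⟨hkN, hkK⟩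
    refine ⟨hkK, fun x hx => ⟨?_, ?_⟩⟩
    · have h1 : k * x⁻¹ * k⁻¹ ∈ P :=
        (Subgroup.mem_normalizer_iff.mp hkN x⁻¹).mp (P.inv_mem hx)
      have h2 : x * k * x⁻¹ * k⁻¹ = x * (k * x⁻¹ * k⁻¹) := by group
      rw [h2]
      exact P.mul_mem hx h1
    · exact K.mul_mem (hK.conj_mem k hkK x) (K.inv_mem hkK)
  · rintro ⟨hkK, hcomm⟩
    refine ⟨?_, hkK⟩
    apply Subgroup.mem_normalizer_fintype
    intro n hn
    have h1 := (hcomm n⁻¹ (P.inv_mem hn)).1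
    have h2 : k * n * k⁻¹ = n * (n⁻¹ * k * n⁻¹⁻¹ * k⁻¹) := by group
    rw [h2]
    exact P.mul_mem hn h1

end Cfsg.Agent.Helper6.RealP
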