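import Mathlib
import Cfsg.Prelude.Def_Characters
import Cfsg.Agent.Helper6.RealPJ
import Cfsg.Agent.Helper6.RealPL

/-!
# Real characters of `p'`-degree: the bijection with the normalizer of a Sylow subgroup
-/

set_option autoImplicit false
set_option linter.style.haveILetI false

namespace Cfsg.Agent.Helper6.RealP

open Cfsg.Agent.Helper6
open scoped ComplexConjugate

universe u

variable {G : Type u} [Group G]

/-- `P`-invariant irreducible characters of a normal subgroup -/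
abbrev InvIrr (K P : Subgroup G) [K.Normal] : Type u :=
  {χ : Cfsg.IrrCharacter ↥K // ∀ x ∈ P, conjFun K (χ : ↥K → ℂ) x = χ}

/-- `P`-invariant irreducible characters of `K ∩ N`, as a subgroup of `N` -/
abbrev InvIrrSub (K N P : Subgroup G) [K.Normal] : Type u :=
  {θ : Cfsg.IrrCharacter ↥(K.subgroupOf N) // ∀ x : ↥N, (x : G) ∈ P →
    conjFun (K.subgroupOf N) (θ : ↥(K.subgroupOf N) → ℂ) x = θ}

/-- the conjugate of an invariant character by an element normalizing `P` -/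
noncomputable def conjInv [Finite G] (K P : Subgroup G) [hK : K.Normal] (θ : InvIrr K P) (n : G)
    (hn : ∀ x ∈ P, n * x * n⁻¹ ∈ P) : InvIrr K P :=
  ⟨⟨conjFun K (θ.1 : ↥K → ℂ) n, conjFun_isIrr K θ.1.2 n⟩,
    conjFun_inv_of_conj_mem K _ n P (fun x hx => (mem_conjStab K _ _).mpr (θ.2 _ (hn x hx)))⟩

theorem conjInv_coe [Finite G] (K P : Subgroup G) [hK : K.Normal] (θ : InvIrr K P) (n : G)
    (hn : ∀ x ∈ P, n * x * n⁻¹ ∈ P) :
    ((conjInv K P θ n hn).1 : ↥K → ℂ) = conjFun K (θ.1 : ↥K → ℂ) n := rfl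

/-- the complex conjugate of an invariant character -/
noncomputable def barInv [Finite G] (K P : Subgroup G) [hK : K.Normal] (θ : InvIrr K P) :
    InvIrr K P :=
  ⟨⟨fun k => conj ((θ.1 : ↥K → ℂ) k), conj_isIrr θ.1.2⟩, fun x hx => by
    funext k
    have h := congrFun (θ.2 x hx) k
    change conj (conjFun K (θ.1 : ↥K → ℂ) x k) = _
    rw [h]⟩

theorem barInv_coe [Finite G] (K P : Subgroup G) [hK : K.Normal] (θ : InvIrr K P) :
    ((barInv K P θ).1 : ↥K → ℂ) = fun k => conj ((θ.1 : ↥K → ℂ) k) := rfl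

theorem real_iff_conj_eq {H : Type*} (a : H → ℂ) :
    (∀ h, (a h).im = 0) ↔ a = fun h => conj (a h) := by
  constructor
  · intro h
    funext x
    exact (Complex.conj_eq_iff_im.mpr (h x)).symm
  · intro h x
    have := congrFun h x
    exact Complex.conj_eq_iff_im.mp this.symm

/-- **Theorem D, core form.** -/
theorem real_bijection_core [Finite G] (p : ℕ) [hp : Fact p.Prime] (P : Sylow p G)
    (K : Subgroup G) [hK : K.Normal] (hodd : Odd K.index)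
    (hrealG : ∀ χ : Cfsg.IrrCharacter G, (∀ g : G, ((χ : G → ℂ) g).im = 0) →
      ¬ p ∣ Cfsg.charDegree (χ : G → ℂ))
    (hrealK : ∀ θ : Cfsg.IrrCharacter ↥K, (∀ k : ↥K, ((θ : ↥K → ℂ) k).im = 0) →
      ¬ p ∣ Cfsg.charDegree (θ : ↥K → ℂ))
    (hsyl : ∀ Q₀ : Sylow p ↥K, (Q₀ : Subgroup ↥K).Normal) :
    ∃ f : {χ : Cfsg.IrrCharacter G // ∀ g : G, ((χ : G → ℂ) g).im = 0} →
        {ξ : Cfsg.IrrCharacter ↥(Subgroup.normalizer ((P : Subgroup G) : Set G)) //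
          (∀ n, ((ξ : ↥(Subgroup.normalizer ((P : Subgroup G) : Set G)) → ℂ) n).im = 0) ∧
          ¬ p ∣ Cfsg.charDegree (ξ : ↥(Subgroup.normalizer ((P : Subgroup G) : Set G)) → ℂ)},
      Function.Bijective f ∧ ∀ χ,
        ((Cfsg.charDegree ((f χ).1 : ↥(Subgroup.normalizer ((P : Subgroup G) : Set G)) → ℂ) :
            ZMod p) = (Cfsg.charDegree (χ.1 : G → ℂ) : ZMod p) ∨
          (Cfsg.charDegree ((f χ).1 : ↥(Subgroup.normalizer ((P : Subgroup G) : Set G)) → ℂ) :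
            ZMod p) = -(Cfsg.charDegree (χ.1 : G → ℂ) : ZMod p)) := by
  classical
  haveI : Fintype G := Fintype.ofFinite G
  haveI : Fintype ↥K := Fintype.ofFinite _
  obtain ⟨Nn, hNn⟩ : ∃ Nn : Subgroup G, Nn = Subgroup.normalizer ((P : Subgroup G) : Set G) :=
    ⟨_, rfl⟩
  rw [← hNn]
  haveI : Fintype ↥Nn := Fintype.ofFinite _
  haveI : Fintype ↥(K.subgroupOf Nn) := Fintype.ofFinite _
  obtain ⟨hQn, hQsyl⟩ := sylow_inf_of_normal_sylow P K hsyl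
  have hPN : (P : Subgroup G) ≤ Nn := by rw [hNn]; exact Subgroup.le_normalizer
  have hNP : ∀ n ∈ Nn, ∀ x ∈ (P : Subgroup G), n * x * n⁻¹ ∈ (P : Subgroup G) := by
    intro n hn x hx
    rw [hNn] at hn
    exact (Subgroup.mem_normalizer_iff.mp hn x).mp hx
  have hC : ∀ k : G, k ∈ Nn ⊓ K ↔
      (k ∈ K ∧ ∀ x ∈ (P : Subgroup G), x * k * x⁻¹ * k⁻¹ ∈ (P : Subgroup G) ⊓ K) := by
    rw [hNn]; exact mem_normalizer_inf_iff (P : Subgroup G) K
  obtain ⟨g₀, hg₀bij, hg₀deg, hg₀conj, hg₀bar⟩ :=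
    relGlaub_normalizer_equivariant p (P : Subgroup G) K Nn P.2 hPN hNP hQn hQsyl hC
  -- the odd index of `K ∩ N` in `N`
  have hoddL : Odd (K.subgroupOf Nn).index :=
    Odd.of_dvd_nat hodd (Subgroup.relIndex_dvd_index_of_normal K Nn)
  -- the Sylow subgroup of `N`
  obtain ⟨PN, hPNdef⟩ : ∃ PN : Sylow p ↥Nn, PN = P.subtype hPN := ⟨_, rfl⟩
  have hmemPN : ∀ x : ↥Nn, x ∈ (PN : Subgroup ↥Nn) ↔ (x : G) ∈ (P : Subgroup G) := by
    intro x
    rw [hPNdef, Sylow.coe_subtype, Subgroup.mem_subgroupOf]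
  -- real characters correspond
  have hreal_iff : ∀ θ : InvIrr K (P : Subgroup G), (∀ k, ((θ.1 : ↥K → ℂ) k).im = 0) ↔
      (∀ l, (((g₀ θ).1 : ↥(K.subgroupOf Nn) → ℂ) l).im = 0) := by
    intro θ
    constructor
    · intro h
      rw [real_iff_conj_eq]
      exact hg₀bar θ θ ((real_iff_conj_eq _).mp h)
    · intro h
      have h1 := hg₀bar θ (barInv K (P : Subgroup G) θ) rfl
      rw [← (real_iff_conj_eq _).mp h] at h1
      have h2 : g₀ (barInv K (P : Subgroup G) θ) = g₀ θ := Subtype.ext (Subtype.ext h1)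
      have h3 := hg₀bij.1 h2
      rw [real_iff_conj_eq]
      have h4 := congrArg (fun t : InvIrr K (P : Subgroup G) => (t.1 : ↥K → ℂ)) h3
      exact h4.symm
  -- the restricted correspondence
  obtain ⟨f₁, hf₁⟩ : ∃ f₁ : {θ : InvIrr K (P : Subgroup G) // ∀ k, ((θ.1 : ↥K → ℂ) k).im = 0} →
      {θ : InvIrrSub K Nn (P : Subgroup G) //
        ∀ l, ((θ.1 : ↥(K.subgroupOf Nn) → ℂ) l).im = 0}, ∀ θ, (f₁ θ).1 = g₀ θ.1 :=
    ⟨fun θ => ⟨g₀ θ.1, (hreal_iff θ.1).mp θ.2⟩, fun _ => rfl⟩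
  have hf₁surj : Function.Surjective f₁ := by
    intro y
    obtain ⟨χ, hχ⟩ := hg₀bij.2 y.1
    refine ⟨⟨χ, (hreal_iff χ).mpr (by rw [hχ]; exact y.2)⟩, ?_⟩
    apply Subtype.ext
    rw [hf₁]
    exact hχ
  -- the relations
  obtain ⟨f, hfbij, hf⟩ := exists_bijection_of_rel
    (X := {θ : InvIrr K (P : Subgroup G) // ∀ k, ((θ.1 : ↥K → ℂ) k).im = 0})
    (A := {χ : Cfsg.IrrCharacter G // ∀ g : G, ((χ : G → ℂ) g).im = 0})
    (Y := {θ : InvIrrSub K Nn (P : Subgroup G) //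
        ∀ l, ((θ.1 : ↥(K.subgroupOf Nn) → ℂ) l).im = 0})
    (B := {ξ : Cfsg.IrrCharacter ↥Nn // (∀ n, ((ξ : ↥Nn → ℂ) n).im = 0) ∧
          ¬ p ∣ Cfsg.charDegree (ξ : ↥Nn → ℂ)})
    (fun θ χ => Cfsg.classInner (fun k : ↥K => (χ.1 : G → ℂ) k) (θ.1.1 : ↥K → ℂ) ≠ 0)
    (fun θ ξ => Cfsg.classInner (fun l : ↥(K.subgroupOf Nn) => (ξ.1 : ↥Nn → ℂ) l)
      (θ.1.1 : ↥(K.subgroupOf Nn) → ℂ) ≠ 0)
    f₁ hf₁surj
    (fun θ₁ θ₂ => ∃ n : ↥Nn, (θ₂.1.1 : ↥K → ℂ) = conjFun K (θ₁.1.1 : ↥K → ℂ) (n : G))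
    (fun θ₁ θ₂ => ∃ n : ↥Nn, (θ₂.1.1 : ↥(K.subgroupOf Nn) → ℂ) =
      conjFun (K.subgroupOf Nn) (θ₁.1.1 : ↥(K.subgroupOf Nn) → ℂ) n)
    (by
      intro θ
      obtain ⟨χ, hχ, hover⟩ := exists_real_over K hodd θ.1.1 θ.2
      exact ⟨⟨χ, hχ⟩, hover⟩)
    (by
      intro θ a a' h h'
      exact Subtype.ext (real_over_unique K hodd θ.1.1 a.1 a'.1 a.2 a'.2 h h'))
    (by
      intro χ
      obtain ⟨θ, hθr, hθP, hover⟩ :=
        exists_real_pinv_constituent K hodd P χ.1 χ.2 (hrealG χ.1 χ.2)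
      exact ⟨⟨⟨θ, hθP⟩, hθr⟩, hover⟩)
    (by
      intro θ₁ θ₂ χ h₁ h₂
      obtain ⟨n, hn, h⟩ := exists_normalizer_conj K P (χ.1 : G → ℂ) χ.1.2
        (θ₁.1.1 : ↥K → ℂ) (θ₂.1.1 : ↥K → ℂ) θ₁.1.1.2 θ₂.1.1.2 h₁ h₂ θ₁.1.2 θ₂.1.2
      rw [← hNn] at hn
      exact ⟨⟨n, hn⟩, h⟩)
    (by
      rintro θ₁ θ₂ χ ⟨n, hn⟩ h
      change Cfsg.classInner (fun k : ↥K => (χ.1 : G → ℂ) k) (θ₂.1.1 : ↥K → ℂ) ≠ 0
      rw [hn, classInner_restrict_conjFun K _
        (IsCharacter.isClassFunction (IsIrrCharacter.isCharacter χ.1.2))]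
      exact h)
    (by
      intro θ'
      obtain ⟨ξ, hξ, hover⟩ := exists_real_over (K.subgroupOf Nn) hoddL θ'.1.1 θ'.2
      refine ⟨⟨ξ, hξ, ?_⟩, hover⟩
      rw [real_over_degree (K.subgroupOf Nn) hoddL θ'.1.1 θ'.2 ξ hξ hover]
      intro hdvd
      rcases (Nat.Prime.dvd_mul hp.out).mp hdvd with h | h
      · -- the stabilizer contains the Sylow subgroup
        have hle : (PN : Subgroup ↥Nn) ≤
            conjStab (K.subgroupOf Nn) (θ'.1.1 : ↥(K.subgroupOf Nn) → ℂ) := by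
          intro x hx
          exact θ'.1.2 x ((hmemPN x).mp hx)
        exact PN.not_dvd_index (h.trans (Subgroup.index_dvd_of_le hle))
      · obtain ⟨θ, hθ⟩ := hf₁surj θ'
        have hd := hg₀deg θ.1
        have h0 : (Cfsg.charDegree ((g₀ θ.1).1 : ↥(K.subgroupOf Nn) → ℂ) : ZMod p) = 0 := by
          rw [ZMod.natCast_eq_zero_iff, ← hf₁, hθ]
          exact h
        have h1 : (Cfsg.charDegree (θ.1.1 : ↥K → ℂ) : ZMod p) = 0 := by
          rcases hd with hd | hd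
          · rw [← hd, h0]
          · rw [h0] at hd
            have := congrArg (fun z => -z) hd
            simpa using this.symm
        exact hrealK θ.1.1 θ.2 ((ZMod.natCast_eq_zero_iff _ _).mp h1))
    (by
      intro θ' b b' h h'
      exact Subtype.ext (real_over_unique (K.subgroupOf Nn) hoddL θ'.1.1 b.1 b'.1 b.2.1 b'.2.1 h h'))
    (by
      intro ξ
      obtain ⟨θ, hθr, hθP, hover⟩ :=
        exists_real_pinv_constituent (K.subgroupOf Nn) hoddL PN ξ.1 ξ.2.1 ξ.2.2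
      exact ⟨⟨⟨θ, fun x hx => hθP x ((hmemPN x).mpr hx)⟩, hθr⟩, hover⟩)
    (by
      intro θ₁ θ₂ ξ h₁ h₂
      obtain ⟨n, -, h⟩ := exists_normalizer_conj (K.subgroupOf Nn) PN (ξ.1 : ↥Nn → ℂ) ξ.1.2
        (θ₁.1.1 : ↥(K.subgroupOf Nn) → ℂ) (θ₂.1.1 : ↥(K.subgroupOf Nn) → ℂ) θ₁.1.1.2 θ₂.1.1.2
        h₁ h₂ (fun x hx => θ₁.1.2 x ((hmemPN x).mp hx)) (fun x hx => θ₂.1.2 x ((hmemPN x).mp hx))
      exact ⟨n, h⟩)
    (by
      rintro θ₁ θ₂ ξ ⟨n, hn⟩ h
      change Cfsg.classInner (fun l : ↥(K.subgroupOf Nn) => (ξ.1 : ↥Nn → ℂ) l)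
        (θ₂.1.1 : ↥(K.subgroupOf Nn) → ℂ) ≠ 0
      rw [hn, classInner_restrict_conjFun (K.subgroupOf Nn) _
        (IsCharacter.isClassFunction (IsIrrCharacter.isCharacter ξ.1.2))]
      exact h)
    (by
      intro θ₁ θ₂
      constructor
      · rintro ⟨n, hn⟩
        refine ⟨n, ?_⟩
        rw [hf₁, hf₁]
        exact hg₀conj θ₁.1 θ₂.1 n hn
      · rintro ⟨n, hn⟩
        refine ⟨n, ?_⟩
        rw [hf₁, hf₁] at hn
        have h1 := hg₀conj θ₁.1 (conjInv K (P : Subgroup G) θ₁.1 (n : G) (hNP n n.2)) n rfl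
        rw [← hn] at h1
        have h2 : g₀ (conjInv K (P : Subgroup G) θ₁.1 (n : G) (hNP n n.2)) = g₀ θ₂.1 :=
          Subtype.ext (Subtype.ext h1)
        have h3 := hg₀bij.1 h2
        have h4 := congrArg (fun t : InvIrr K (P : Subgroup G) => (t.1 : ↥K → ℂ)) h3
        exact h4.symm)
  refine ⟨f, hfbij, ?_⟩
  -- the degrees
  intro χ
  obtain ⟨θ, hθr, hθP, hover⟩ :=
    exists_real_pinv_constituent K hodd P χ.1 χ.2 (hrealG χ.1 χ.2)
  have hS := hf ⟨⟨θ, hθP⟩, hθr⟩ χ hover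
  rw [hf₁] at hS
  have d1 := real_over_degree K hodd θ hθr χ.1 χ.2 hover
  have hrealY := (hreal_iff ⟨θ, hθP⟩).mp hθr
  have d2 := real_over_degree (K.subgroupOf Nn) hoddL (g₀ ⟨θ, hθP⟩).1 hrealY (f χ).1 (f χ).2.1 hS
  -- the stabilizers
  have hT' : conjStab (K.subgroupOf Nn) ((g₀ ⟨θ, hθP⟩).1 : ↥(K.subgroupOf Nn) → ℂ) =
      (conjStab K (θ : ↥K → ℂ)).subgroupOf Nn := by
    ext n
    rw [mem_conjStab, Subgroup.mem_subgroupOf, mem_conjStab]
    have h1 := hg₀conj ⟨θ, hθP⟩ (conjInv K (P : Subgroup G) ⟨θ, hθP⟩ (n : G) (hNP n n.2)) n rfl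
    constructor
    · intro h
      rw [h] at h1
      have h2 : g₀ (conjInv K (P : Subgroup G) ⟨θ, hθP⟩ (n : G) (hNP n n.2)) = g₀ ⟨θ, hθP⟩ :=
        Subtype.ext (Subtype.ext h1)
      have h3 := hg₀bij.1 h2
      exact congrArg (fun t : InvIrr K (P : Subgroup G) => (t.1 : ↥K → ℂ)) h3
    · intro h
      have h2 : conjInv K (P : Subgroup G) ⟨θ, hθP⟩ (n : G) (hNP n n.2) = ⟨θ, hθP⟩ :=
        Subtype.ext (Subtype.ext h)
      rw [h2] at h1
      exact h1.symm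
  have hidx : (conjStab (K.subgroupOf Nn)
      ((g₀ ⟨θ, hθP⟩).1 : ↥(K.subgroupOf Nn) → ℂ)).index =
      (conjStab K (θ : ↥K → ℂ)).relIndex Nn := by
    rw [hT']; rfl
  have hPT : (P : Subgroup G) ≤ conjStab K (θ : ↥K → ℂ) := fun x hx => hθP x hx
  have hmod := index_modEq_relIndex_normalizer P (conjStab K (θ : ↥K → ℂ)) hPT
  rw [← hNn] at hmod
  have hmod' : ((conjStab K (θ : ↥K → ℂ)).index : ZMod p) =
      ((conjStab K (θ : ↥K → ℂ)).relIndex Nn : ZMod p) :=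
    (ZMod.natCast_eq_natCast_iff _ _ _).mpr hmod
  rw [d1, d2, hidx, Nat.cast_mul, Nat.cast_mul, hmod']
  rcases hg₀deg ⟨θ, hθP⟩ with hd | hd
  · left; rw [hd]
  · right; rw [hd]; ring

/-- **Theorem D** (Isaacs–Navarro): a degree-preserving (mod `p`, up to sign) bijection between the
real-valued irreducible characters of `G` and the real-valued irreducible characters of `p'`-degree
of the normalizer of a Sylow `p`-subgroup. -/
theorem real_bijection [Finite G] (p : ℕ) [hp : Fact p.Prime]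
    (hsolv : Group.IsSolvable ↥(pGen p G))
    (hreal : ∀ χ : Cfsg.IrrCharacter G, (∀ g : G, ((χ : G → ℂ) g).im = 0) →
      ¬ p ∣ Cfsg.charDegree (χ : G → ℂ))
    (P : Sylow p G) :
    ∃ f : {χ : Cfsg.IrrCharacter G // ∀ g : G, ((χ : G → ℂ) g).im = 0} →
        {ξ : Cfsg.IrrCharacter ↥(Subgroup.normalizer ((P : Subgroup G) : Set G)) //
          (∀ n, ((ξ : ↥(Subgroup.normalizer ((P : Subgroup G) : Set G)) → ℂ) n).im = 0) ∧
          ¬ p ∣ Cfsg.charDegree (ξ : ↥(Subgroup.normalizer ((P : Subgroup G) : Set G)) → ℂ)},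
      Function.Bijective f ∧ ∀ χ,
        ((Cfsg.charDegree ((f χ).1 : ↥(Subgroup.normalizer ((P : Subgroup G) : Set G)) → ℂ) :
            ZMod p) = (Cfsg.charDegree (χ.1 : G → ℂ) : ZMod p) ∨
          (Cfsg.charDegree ((f χ).1 : ↥(Subgroup.normalizer ((P : Subgroup G) : Set G)) → ℂ) :
            ZMod p) = -(Cfsg.charDegree (χ.1 : G → ℂ) : ZMod p)) := by
  have hodd : Odd (pGen 2 G).index := pGen_two_index_odd
  exact real_bijection_core p P (pGen 2 G) hodd hreal (real_of_odd_index p (pGen 2 G) hodd hreal)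
    (fun Q₀ => sylow_normal_of_odd_index p hsolv hreal (pGen 2 G) le_rfl
      ⟨0, by rw [Subgroup.relIndex_self, pow_zero]⟩ Q₀)

end Cfsg.Agent.Helper6.RealP
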