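import Mathlib
import Cfsg.Prelude.Def_Characters
import Cfsg.Agent.Helper6.RealPM

/-!
# Real characters of `p'`-degree: the normalizer of a Sylow subgroup meets every real class
-/

set_option autoImplicit false
set_option linter.style.haveILetI false

namespace Cfsg.Agent.Helper6.RealP

open Cfsg.Agent.Helper6
open scoped ComplexConjugate

universe u

variable {G : Type u} [Group G]

theorem isConj_inv_of_isConj {H : Type*} [Group H] {z x : H} (h1 : IsConj z x)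
    (hreal : IsConj x x⁻¹) : IsConj z z⁻¹ := by
  have h3 : IsConj x⁻¹ z⁻¹ := by
    obtain ⟨d, hd⟩ := isConj_iff.mp h1.symm
    refine isConj_iff.mpr ⟨d, ?_⟩
    rw [← hd]
    group
  exact (h1.trans hreal).trans h3

/-- the map from the real classes of a subgroup to the real classes of the group -/
def realClIncl (N : Subgroup G) (C : RealCl ↥N) : RealCl G :=
  ⟨ConjClasses.map N.subtype C.1, by
    intro q hq
    obtain ⟨y, hy⟩ := ConjClasses.mk_surjective C.1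
    have hreal := C.2 y hy
    rw [← hy, conjClasses_map_mk_rfl] at hq
    have h1 : IsConj q (N.subtype y) := ConjClasses.mk_eq_mk_iff_isConj.mp hq
    have h2 : IsConj (N.subtype y) (N.subtype y)⁻¹ := by
      have := N.subtype.map_isConj hreal
      rwa [map_inv] at this
    exact isConj_inv_of_isConj h1 h2⟩

/-- real elements of the normalizer of `P` centralize `P` when `P ∩ O^{2'}(G) = 1` -/
theorem real_normalizer_centralizes [Finite G] {p : ℕ} [hp : Fact p.Prime] (P : Sylow p G)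
    (hbot : (P : Subgroup G) ⊓ pGen 2 G = ⊥)
    (y : ↥(Subgroup.normalizer ((P : Subgroup G) : Set G))) (hy : IsConj y y⁻¹) :
    ∀ a ∈ (P : Subgroup G), (y : G) * a = a * (y : G) := by
  intro a ha
  have hyK : (y : G) ∈ pGen 2 G := by
    have h1 : y ∈ pGen 2 ↥(Subgroup.normalizer ((P : Subgroup G) : Set G)) :=
      mem_pGen_two_of_isConj_inv hy
    exact pGen_map_le 2 (Subgroup.normalizer ((P : Subgroup G) : Set G)).subtype
      (Subgroup.subtype_injective _) ⟨y, h1, rfl⟩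
  have hc1 : (y : G) * a * (y : G)⁻¹ * a⁻¹ ∈ (P : Subgroup G) :=
    (P : Subgroup G).mul_mem ((Subgroup.mem_normalizer_iff.mp y.2 a).mp ha)
      ((P : Subgroup G).inv_mem ha)
  have hc2 : (y : G) * a * (y : G)⁻¹ * a⁻¹ ∈ pGen 2 G := by
    have h2 : (y : G) * a * (y : G)⁻¹ * a⁻¹ = (y : G) * (a * (y : G)⁻¹ * a⁻¹) := by group
    rw [h2]
    exact (pGen 2 G).mul_mem hyK ((pGen_normal 2).conj_mem _ ((pGen 2 G).inv_mem hyK) a)
  have hc : (y : G) * a * (y : G)⁻¹ * a⁻¹ ∈ (P : Subgroup G) ⊓ pGen 2 G := ⟨hc1, hc2⟩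
  rw [hbot, Subgroup.mem_bot] at hc
  have h1 : (y : G) * a = ((y : G) * a * (y : G)⁻¹ * a⁻¹) * (a * (y : G)) := by group
  rw [h1, hc, one_mul]

/-- fusion of real classes of the normalizer is controlled by the normalizer -/
theorem realClIncl_injective [Finite G] {p : ℕ} [hp : Fact p.Prime] (P : Sylow p G)
    (hbot : (P : Subgroup G) ⊓ pGen 2 G = ⊥) :
    Function.Injective (realClIncl (Subgroup.normalizer ((P : Subgroup G) : Set G))) := by
  intro C₁ C₂ h
  obtain ⟨y₁, hy₁⟩ := ConjClasses.mk_surjective C₁.1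
  obtain ⟨y₂, hy₂⟩ := ConjClasses.mk_surjective C₂.1
  have h' := congrArg Subtype.val h
  change ConjClasses.map _ C₁.1 = ConjClasses.map _ C₂.1 at h'
  rw [← hy₁, ← hy₂, conjClasses_map_mk_rfl, conjClasses_map_mk_rfl] at h'
  have hconj : IsConj (y₁ : G) (y₂ : G) := ConjClasses.mk_eq_mk_iff_isConj.mp h'
  obtain ⟨g, hg⟩ := isConj_iff.mp hconj
  have hc₁ := real_normalizer_centralizes P hbot y₁ (C₁.2 y₁ hy₁)
  have hc₂ := real_normalizer_centralizes P hbot y₂ (C₂.2 y₂ hy₂)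
  -- `P` and `g P g⁻¹` lie in the centralizer of `y₂`
  have hPD : (P : Subgroup G) ≤ Subgroup.centralizer ({(y₂ : G)} : Set G) := by
    intro a ha
    rw [Subgroup.mem_centralizer_iff]
    intro z hz
    rw [Set.mem_singleton_iff] at hz
    subst hz
    exact hc₂ a ha
  have hgD : ∀ a ∈ (P : Subgroup G), g * a * g⁻¹ ∈ Subgroup.centralizer ({(y₂ : G)} : Set G) := by
    intro a ha
    rw [Subgroup.mem_centralizer_iff]
    intro z hz
    rw [Set.mem_singleton_iff] at hz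
    subst hz
    rw [← hg]
    have := hc₁ a ha
    calc g * (y₁ : G) * g⁻¹ * (g * a * g⁻¹) = g * ((y₁ : G) * a) * g⁻¹ := by group
      _ = g * (a * (y₁ : G)) * g⁻¹ := by rw [this]
      _ = g * a * g⁻¹ * (g * (y₁ : G) * g⁻¹) := by group
  obtain ⟨d, hd, hdg⟩ := exists_mem_normalizer_of_conj_le P _ hPD g hgD
  -- `d g` conjugates `y₁` to `y₂` inside the normalizer
  have hdy : d * (y₂ : G) * d⁻¹ = (y₂ : G) := by
    have := Subgroup.mem_centralizer_iff.mp hd (y₂ : G) (Set.mem_singleton _)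
    rw [← this]; group
  have hfinal : IsConj y₁ y₂ := by
    rw [isConj_iff]
    refine ⟨⟨d * g, hdg⟩, ?_⟩
    apply Subtype.ext
    change d * g * (y₁ : G) * (d * g)⁻¹ = (y₂ : G)
    have h2 : d * g * (y₁ : G) * (d * g)⁻¹ = d * (g * (y₁ : G) * g⁻¹) * d⁻¹ := by group
    rw [h2, hg, hdy]
  apply Subtype.ext
  rw [← hy₁, ← hy₂]
  exact ConjClasses.mk_eq_mk_iff_isConj.mpr hfinal

/-- **Theorem C**, when `P ∩ O^{2'}(G) = 1`. -/
theorem real_class_meets_normalizer_of_inf_bot [Finite G] (p : ℕ) [hp : Fact p.Prime]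
    (hsolv : Group.IsSolvable ↥(pGen p G))
    (hreal : ∀ χ : Cfsg.IrrCharacter G, (∀ g : G, ((χ : G → ℂ) g).im = 0) →
      ¬ p ∣ Cfsg.charDegree (χ : G → ℂ))
    (P : Sylow p G) (hbot : (P : Subgroup G) ⊓ pGen 2 G = ⊥) (x : G) (hx : IsConj x x⁻¹) :
    ∃ y ∈ Subgroup.normalizer ((P : Subgroup G) : Set G), IsConj x y := by
  haveI : Finite (Cfsg.IrrCharacter G) := irr_finite
  haveI : Finite (Cfsg.IrrCharacter ↥(Subgroup.normalizer ((P : Subgroup G) : Set G))) :=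
    irr_finite
  obtain ⟨f, hfbij, -⟩ := real_bijection p hsolv hreal P
  have h1 : Nat.card (RealIrr G) =
      Nat.card {ξ : Cfsg.IrrCharacter ↥(Subgroup.normalizer ((P : Subgroup G) : Set G)) //
        (∀ n, ((ξ : ↥(Subgroup.normalizer ((P : Subgroup G) : Set G)) → ℂ) n).im = 0) ∧
        ¬ p ∣ Cfsg.charDegree (ξ : ↥(Subgroup.normalizer ((P : Subgroup G) : Set G)) → ℂ)} :=
    Nat.card_congr (Equiv.ofBijective f hfbij)
  have h2 : Nat.card {ξ : Cfsg.IrrCharacter ↥(Subgroup.normalizer ((P : Subgroup G) : Set G)) //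
        (∀ n, ((ξ : ↥(Subgroup.normalizer ((P : Subgroup G) : Set G)) → ℂ) n).im = 0) ∧
        ¬ p ∣ Cfsg.charDegree (ξ : ↥(Subgroup.normalizer ((P : Subgroup G) : Set G)) → ℂ)} ≤
      Nat.card (RealIrr ↥(Subgroup.normalizer ((P : Subgroup G) : Set G))) := by
    apply Nat.card_le_card_of_injective
      (fun ξ => (⟨ξ.1, ξ.2.1⟩ : RealIrr ↥(Subgroup.normalizer ((P : Subgroup G) : Set G))))
    intro a b hab
    apply Subtype.ext
    have h := congrArg Subtype.val hab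
    exact h
  have h3 : Nat.card (RealIrr G) = Nat.card (RealCl G) := card_real_irr_eq_card_real_classes
  have h4 : Nat.card (RealIrr ↥(Subgroup.normalizer ((P : Subgroup G) : Set G))) =
      Nat.card (RealCl ↥(Subgroup.normalizer ((P : Subgroup G) : Set G))) :=
    card_real_irr_eq_card_real_classes
  have hle : Nat.card (RealCl G) ≤
      Nat.card (RealCl ↥(Subgroup.normalizer ((P : Subgroup G) : Set G))) := by
    rw [← h3, h1, ← h4]; exact h2
  have hbij := (realClIncl_injective P hbot).bijective_of_nat_card_le hle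
  have hxcl : ∀ z : G, ConjClasses.mk z = ConjClasses.mk x → IsConj z z⁻¹ := fun z hz =>
    isConj_inv_of_isConj (ConjClasses.mk_eq_mk_iff_isConj.mp hz) hx
  obtain ⟨C, hC⟩ := hbij.2 ⟨ConjClasses.mk x, hxcl⟩
  obtain ⟨y, hy⟩ := ConjClasses.mk_surjective C.1
  refine ⟨(y : G), y.2, ?_⟩
  have h5 := congrArg Subtype.val hC
  change ConjClasses.map _ C.1 = ConjClasses.mk x at h5
  rw [← hy, conjClasses_map_mk_rfl] at h5
  exact (ConjClasses.mk_eq_mk_iff_isConj.mp h5).symm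

/-- `P ∩ O^{2'}(G)` is normal in `G` -/
theorem sylow_inf_normal [Finite G] (p : ℕ) [hp : Fact p.Prime]
    (hsolv : Group.IsSolvable ↥(pGen p G))
    (hreal : ∀ χ : Cfsg.IrrCharacter G, (∀ g : G, ((χ : G → ℂ) g).im = 0) →
      ¬ p ∣ Cfsg.charDegree (χ : G → ℂ))
    (P : Sylow p G) : ((P : Subgroup G) ⊓ pGen 2 G).Normal := by
  have hsyl : ∀ Q₀ : Sylow p ↥(pGen 2 G), (Q₀ : Subgroup ↥(pGen 2 G)).Normal := fun Q₀ =>
    sylow_normal_of_odd_index p hsolv hreal (pGen 2 G) le_rfl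
      ⟨0, by rw [Subgroup.relIndex_self, pow_zero]⟩ Q₀
  obtain ⟨hQn, hQsyl⟩ := sylow_inf_of_normal_sylow P (pGen 2 G) hsyl
  constructor
  intro q hq g
  exact RelGlaub.conj_mem_of_normal_sylow (pGen 2 G) _ inf_le_right hQn
    (P.2.to_le inf_le_left) hQsyl g (fun k hk => (pGen_normal 2).conj_mem k hk g) q hq

/-- **Theorem C** (Isaacs–Navarro): the normalizer of a Sylow `p`-subgroup meets every real
class. -/
theorem real_class_meets_normalizer [Finite G] (p : ℕ) [hp : Fact p.Prime]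
    (hsolv : Group.IsSolvable ↥(pGen p G))
    (hreal : ∀ χ : Cfsg.IrrCharacter G, (∀ g : G, ((χ : G → ℂ) g).im = 0) →
      ¬ p ∣ Cfsg.charDegree (χ : G → ℂ))
    (P : Sylow p G) (x : G) (hx : IsConj x x⁻¹) :
    ∃ y ∈ Subgroup.normalizer ((P : Subgroup G) : Set G), IsConj x y := by
  haveI hQnormal : ((P : Subgroup G) ⊓ pGen 2 G).Normal := sylow_inf_normal p hsolv hreal P
  obtain ⟨Q, hQ⟩ : ∃ Q : Subgroup G, Q = (P : Subgroup G) ⊓ pGen 2 G := ⟨_, rfl⟩
  haveI hQn : Q.Normal := by rw [hQ]; exact hQnormal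
  have hsurj := QuotientGroup.mk'_surjective Q
  obtain ⟨Pbar, hPbar⟩ : ∃ Pbar : Sylow p (G ⧸ Q), Pbar = P.mapSurjective hsurj := ⟨_, rfl⟩
  have hmemPbar : ∀ z : G ⧸ Q, z ∈ (Pbar : Subgroup (G ⧸ Q)) ↔
      ∃ a ∈ (P : Subgroup G), QuotientGroup.mk' Q a = z := by
    intro z
    rw [hPbar]
    exact Subgroup.mem_map
  have hbot : (Pbar : Subgroup (G ⧸ Q)) ⊓ pGen 2 (G ⧸ Q) = ⊥ := by
    rw [eq_bot_iff]
    rintro z ⟨hz1, hz2⟩
    haveI : Fact (Nat.Prime 2) := ⟨Nat.prime_two⟩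
    rw [← map_pGen_eq 2 (QuotientGroup.mk' Q) hsurj] at hz2
    obtain ⟨a, ha, rfl⟩ := (hmemPbar z).mp hz1
    obtain ⟨b, hb, hab⟩ := hz2
    have h1 : a⁻¹ * b ∈ Q := QuotientGroup.eq.mp hab.symm
    have hbP : b ∈ (P : Subgroup G) := by
      have h2 : a⁻¹ * b ∈ (P : Subgroup G) := by rw [hQ] at h1; exact h1.1
      have := (P : Subgroup G).mul_mem ha h2
      simpa using this
    have hbQ : b ∈ Q := by rw [hQ]; exact ⟨hbP, hb⟩
    rw [Subgroup.mem_bot, ← hab]
    exact (QuotientGroup.eq_one_iff b).mpr hbQ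
  have hxbar : IsConj (QuotientGroup.mk' Q x) (QuotientGroup.mk' Q x)⁻¹ := by
    have := (QuotientGroup.mk' Q).map_isConj hx
    rwa [map_inv] at this
  obtain ⟨ybar, hybar, hconj⟩ := real_class_meets_normalizer_of_inf_bot p
    (pGen_quotient_solvable p Q hsolv) (real_quotient p Q hreal) Pbar hbot _ hxbar
  obtain ⟨cbar, hc⟩ := isConj_iff.mp hconj
  obtain ⟨c, rfl⟩ := hsurj cbar
  refine ⟨c * x * c⁻¹, ?_, isConj_iff.mpr ⟨c, rfl⟩⟩
  apply Subgroup.mem_normalizer_fintype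
  intro a ha
  have hy : QuotientGroup.mk' Q (c * x * c⁻¹) = ybar := by
    rw [map_mul, map_mul, map_inv]; exact hc
  have h1 : QuotientGroup.mk' Q (c * x * c⁻¹ * a * (c * x * c⁻¹)⁻¹) ∈
      (Pbar : Subgroup (G ⧸ Q)) := by
    rw [map_mul, map_mul, map_inv, hy]
    exact (Subgroup.mem_normalizer_iff.mp hybar _).mp ((hmemPbar _).mpr ⟨a, ha, rfl⟩)
  obtain ⟨b, hb, hba⟩ := (hmemPbar _).mp h1
  have h2 : b⁻¹ * (c * x * c⁻¹ * a * (c * x * c⁻¹)⁻¹) ∈ Q := QuotientGroup.eq.mp hba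
  have h3 : b⁻¹ * (c * x * c⁻¹ * a * (c * x * c⁻¹)⁻¹) ∈ (P : Subgroup G) := by
    rw [hQ] at h2; exact h2.1
  have h4 : c * x * c⁻¹ * a * (c * x * c⁻¹)⁻¹ ∈ (P : Subgroup G) := by
    have h5 := (P : Subgroup G).mul_mem hb h3
    rwa [mul_inv_cancel_left] at h5
  exact h4

end Cfsg.Agent.Helper6.RealP
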