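import Mathlib
import Cfsg.Prelude.Def_Characters
import Cfsg.Agent.Helper6.IrrCrit
import Cfsg.Agent.Helper6.CliffordCorr2
import Cfsg.Agent.Helper6.Degrees

/-!
# Tools for Isaacs 6.23: class two groups with abelian Sylow subgroups, restriction of induced
characters
-/

set_option autoImplicit false
set_option linter.style.haveILetI false

namespace Cfsg.Agent.Helper6

open scoped ComplexConjugate

universe u

/-- A finite group of class at most two all of whose Sylow subgroups are abelian is abelian. -/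
theorem comm_of_class_two_of_abelian_sylow {Q : Type u} [Group Q] [Finite Q]
    (hc2 : ∀ x y z : Q, (x * y * x⁻¹ * y⁻¹) * z = z * (x * y * x⁻¹ * y⁻¹))
    (hsyl : ∀ (p : ℕ) [Fact p.Prime] (P : Sylow p Q), ∀ a ∈ P, ∀ b ∈ P, a * b = b * a) :
    ∀ x y : Q, x * y = y * x := by
  classical
  by_contra hcon
  push Not at hcon
  obtain ⟨x, y, hxy⟩ := hcon
  -- the commutator map q ↦ [x, q]
  let f : Q →* Q := MonoidHom.mk' (fun q => x * q * x⁻¹ * q⁻¹) (by
    intro a b
    have h1 : x * (a * b) * x⁻¹ * (a * b)⁻¹ =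
        (x * a * x⁻¹ * a⁻¹) * (a * (x * b * x⁻¹ * b⁻¹) * a⁻¹) := by group
    rw [h1, ← hc2 x b a, mul_inv_cancel_right])
  have hfy : y ∉ f.ker := by
    intro h
    rw [MonoidHom.mem_ker] at h
    apply hxy
    have h1 : x * y * x⁻¹ * y⁻¹ = 1 := h
    have := congrArg (fun z => z * y * x) h1
    simpa using this
  have hidx1 : f.ker.index ≠ 1 := by
    intro h
    rw [Subgroup.index_eq_one] at h
    exact hfy (h ▸ Subgroup.mem_top y)
  obtain ⟨p, hp, hpdvd⟩ := Nat.exists_prime_and_dvd hidx1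
  haveI : Fact p.Prime := ⟨hp⟩
  let P : Sylow p Q := default
  have hPf : ¬ (P : Subgroup Q) ≤ f.ker := by
    intro h
    exact P.not_dvd_index (hpdvd.trans (Subgroup.index_dvd_of_le h))
  obtain ⟨y', hy'P, hy'f⟩ := SetLike.not_le_iff_exists.mp hPf
  -- the commutator map q ↦ [q, y']
  let g : Q →* Q := MonoidHom.mk' (fun q => q * y' * q⁻¹ * y'⁻¹) (by
    intro a b
    have h1 : a * b * y' * (a * b)⁻¹ * y'⁻¹ =
        a * (b * y' * b⁻¹ * y'⁻¹) * a⁻¹ * (a * y' * a⁻¹ * y'⁻¹) := by group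
    rw [h1, ← hc2 b y' a, mul_inv_cancel_right, hc2 b y' (a * y' * a⁻¹ * y'⁻¹)])
  have hgx : x ∉ g.ker := by
    intro h
    apply hy'f
    rw [MonoidHom.mem_ker]
    exact h
  -- powers in the second variable
  have hpow : ∀ (q : Q) (n : ℕ), q * y' ^ n * q⁻¹ * (y' ^ n)⁻¹ = (q * y' * q⁻¹ * y'⁻¹) ^ n := by
    intro q n
    induction n with
    | zero => simp
    | succ n ih =>
      have h1 : q * y' ^ (n + 1) * q⁻¹ * (y' ^ (n + 1))⁻¹ =
          (q * y' ^ n * q⁻¹ * (y' ^ n)⁻¹) *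
            (y' ^ n * (q * y' * q⁻¹ * y'⁻¹) * (y' ^ n)⁻¹) := by
        rw [pow_succ]
        group
      rw [h1, ih, ← hc2 q y' (y' ^ n), mul_inv_cancel_right, pow_succ]
  -- the range of g is a p-group
  have hyp : ∃ j : ℕ, y' ^ (p ^ j) = 1 := by
    obtain ⟨j, hj⟩ := (P.isPGroup' ⟨y', hy'P⟩)
    refine ⟨j, ?_⟩
    have := congrArg Subtype.val hj
    simpa using this
  obtain ⟨j, hj⟩ := hyp
  have hrange : IsPGroup p g.range := by
    rintro ⟨r, q, rfl⟩
    refine ⟨j, ?_⟩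
    apply Subtype.ext
    show (g q) ^ (p ^ j) = 1
    have h1 : g q = q * y' * q⁻¹ * y'⁻¹ := rfl
    rw [h1, ← hpow, hj]
    simp
  obtain ⟨i, hi⟩ := hrange.exists_card_eq
  have hidx : g.ker.index = p ^ i := by
    rw [← hi]
    exact (Nat.card_congr (QuotientGroup.quotientKerEquivRange g).toEquiv)
  have hi0 : i ≠ 0 := by
    intro h0
    rw [h0, pow_zero, Subgroup.index_eq_one] at hidx
    exact hgx (hidx ▸ Subgroup.mem_top x)
  have hPg : ¬ (P : Subgroup Q) ≤ g.ker := by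
    intro h
    apply P.not_dvd_index
    refine dvd_trans ?_ (Subgroup.index_dvd_of_le h)
    rw [hidx]
    exact dvd_pow_self p hi0
  obtain ⟨x', hx'P, hx'g⟩ := SetLike.not_le_iff_exists.mp hPg
  apply hx'g
  rw [MonoidHom.mem_ker]
  show x' * y' * x'⁻¹ * y'⁻¹ = 1
  rw [hsyl p P x' hx'P y' hy'P]
  group

/-- Multiplicity times degree is at most the degree. -/
theorem mult_mul_degree_le {G : Type u} [Group G] [Fintype G] {ψ χ : G → ℂ}
    (hψ : Cfsg.IsCharacter G ψ) (hχ : Cfsg.IsIrrCharacter G χ) (t : ℕ)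
    (ht : Cfsg.classInner ψ χ = t) :
    ∃ a b : ℕ, χ 1 = a ∧ ψ 1 = b ∧ t * a ≤ b := by
  classical
  haveI : Finite (Cfsg.IrrCharacter G) := irr_finite
  haveI : Fintype (Cfsg.IrrCharacter G) := Fintype.ofFinite _
  have hcf := IsCharacter.isClassFunction hψ
  have hn : ∀ θ : Cfsg.IrrCharacter G, ∃ n : ℕ, Cfsg.classInner ψ (θ : G → ℂ) = n := fun θ =>
    classInner_char_char_nat hψ (IsIrrCharacter.isCharacter θ.2)
  choose n hn using hn
  have hd : ∀ θ : Cfsg.IrrCharacter G, ∃ d : ℕ, (θ : G → ℂ) 1 = d := fun θ =>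
    IsCharacter.apply_one (IsIrrCharacter.isCharacter θ.2)
  choose d hd using hd
  have hψ1 : ψ 1 = ((∑ θ : Cfsg.IrrCharacter G, n θ * d θ : ℕ) : ℂ) := by
    conv_lhs => rw [classFunction_expansion ψ hcf]
    rw [Finset.sum_apply]
    push_cast
    apply Finset.sum_congr rfl
    intro θ _
    rw [Pi.smul_apply, smul_eq_mul, hn, hd]
  refine ⟨d ⟨χ, hχ⟩, ∑ θ : Cfsg.IrrCharacter G, n θ * d θ, hd ⟨χ, hχ⟩, hψ1, ?_⟩
  have hnχ : n ⟨χ, hχ⟩ = t := by
    have := hn ⟨χ, hχ⟩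
    rw [ht] at this
    exact_mod_cast this.symm
  rw [← hnχ]
  exact Finset.single_le_sum (f := fun θ => n θ * d θ) (fun _ _ => Nat.zero_le _)
    (Finset.mem_univ _)

end Cfsg.Agent.Helper6
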