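import Mathlib
import Cfsg.Prelude.Def_Characters
import Cfsg.Agent.Helper6.RelMA
import Cfsg.Agent.Helper6.MGroup
import Cfsg.Agent.Helper6.BrauerPerm2

/-!
# Isaacs 6.23, part B: restriction of the inducing character stays irreducible
-/

set_option autoImplicit false
set_option linter.style.haveILetI false

namespace Cfsg.Agent.Helper6

open scoped ComplexConjugate

universe u

variable {G : Type u} [Group G]

/-- If `ψ = Ind_T^G η` is irreducible with irreducible restriction to `N`, then `η` restricted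
to `N ⊓ T` is irreducible. -/
theorem irr_restrict_inf_of_induced [Fintype G] (N T : Subgroup G) (η : T → ℂ)
    (hη : Cfsg.IsIrrCharacter T η)
    (hψ : Cfsg.IsIrrCharacter G (Cfsg.indFun T η))
    (hθ : Cfsg.IsIrrCharacter N (fun n : N => Cfsg.indFun T η n)) :
    Cfsg.IsIrrCharacter (N ⊓ T : Subgroup G)
      (fun r : (N ⊓ T : Subgroup G) => η ⟨(r : G), r.2.2⟩) := by
  classical
  haveI : Fintype N := Fintype.ofFinite _
  haveI : Fintype T := Fintype.ofFinite _
  haveI : Fintype (N ⊓ T : Subgroup G) := Fintype.ofFinite _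
  set ψ : G → ℂ := Cfsg.indFun T η with hψdef
  set R : Subgroup G := N ⊓ T with hRdef
  have hRN : R ≤ N := inf_le_left
  have hRT : R ≤ T := inf_le_right
  have hψc := IsIrrCharacter.isCharacter hψ
  have hηc := IsIrrCharacter.isCharacter hη
  -- ξ = η restricted to R
  set ξ : R → ℂ := fun r => η ⟨(r : G), hRT r.2⟩ with hξdef
  have hξc : Cfsg.IsCharacter R ξ :=
    IsCharacter.comp_hom (Subgroup.inclusion hRT) hηc
  -- [ψ_T, η] = 1
  have h1 : Cfsg.classInner (fun t : T => ψ t) η = 1 := by
    have h2 := frobenius_reciprocity T η ψ (IsCharacter.isClassFunction hψc)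
    rw [classInner_irr_self hψ] at h2
    rw [classInner_conj_symm, ← h2]
    simp
  -- Δ = ψ_T - η is a character
  have hΔ : Cfsg.IsCharacter T ((fun t : T => ψ t) - η) := by
    apply sub_isCharacter_of_constituent (IsCharacter.restrict T hψc) hη
    rw [h1]
    exact one_ne_zero
  set Δ : T → ℂ := (fun t : T => ψ t) - η with hΔdef
  have hΔR : Cfsg.IsCharacter R (fun r : R => Δ ⟨(r : G), hRT r.2⟩) :=
    IsCharacter.comp_hom (Subgroup.inclusion hRT) hΔ
  obtain ⟨s, hs⟩ := classInner_char_char_nat hξc hξc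
  obtain ⟨k, hk⟩ := classInner_char_char_nat hΔR hξc
  -- [ψ_R, ξ] = s + k
  have hψR : (fun r : R => ψ r) = ξ + fun r : R => Δ ⟨(r : G), hRT r.2⟩ := by
    ext r
    simp only [Pi.add_apply, hΔdef, Pi.sub_apply, hξdef]
    ring
  have h3 : Cfsg.classInner (fun r : R => ψ r) ξ = ((s + k : ℕ) : ℂ) := by
    rw [hψR, classInner_add_left, hs, hk]
    push_cast
    ring
  -- Frobenius reciprocity for R ≤ N
  have hθcf := IsCharacter.isClassFunction (IsIrrCharacter.isCharacter hθ)
  have h4 := classInner_indFun_subgroupOf R N hRN ξ (fun n : N => ψ n) hθcf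
  have h5 : Cfsg.classInner ξ (fun n : R => (fun n : N => ψ n) ⟨(n : G), hRN n.2⟩) =
      ((s + k : ℕ) : ℂ) := by
    rw [classInner_conj_symm]
    have : (fun n : R => (fun n : N => ψ n) ⟨(n : G), hRN n.2⟩) = fun r : R => ψ r := rfl
    rw [this, h3]
    simp
  rw [h5] at h4
  -- the induced character
  have hindc : Cfsg.IsCharacter N (Cfsg.indFun (R.subgroupOf N)
      (fun x => ξ ⟨(x : N), Subgroup.mem_subgroupOf.mp x.2⟩)) := by
    apply isCharacter_indFun
    exact IsCharacter.comp_hom (Subgroup.subgroupOfEquivOfLe hRN).toMonoidHom hξc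
  obtain ⟨a, b, ha, hb, hab⟩ := mult_mul_degree_le hindc hθ (s + k) h4
  -- degrees
  obtain ⟨d, hd⟩ := IsCharacter.apply_one hηc
  have hd0 : d ≠ 0 := by
    intro h0
    rw [h0, Nat.cast_zero] at hd
    exact IsIrrCharacter.apply_one_ne_zero hη hd
  have ha' : (a : ℂ) = ((T.index * d : ℕ) : ℂ) := by
    rw [← ha]
    show ψ ((1 : N) : G) = _
    rw [Subgroup.coe_one, hψdef, indFun_apply_one, hd]
    push_cast
    ring
  have hb' : (b : ℂ) = (((R.subgroupOf N).index * d : ℕ) : ℂ) := by
    rw [← hb, indFun_apply_one]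
    have : ξ ⟨((1 : R.subgroupOf N) : N), Subgroup.mem_subgroupOf.mp (1 : R.subgroupOf N).2⟩ =
        η 1 := rfl
    rw [this, hd]
    push_cast
    ring
  have ha'' : a = T.index * d := by exact_mod_cast ha'
  have hb'' : b = (R.subgroupOf N).index * d := by exact_mod_cast hb'
  have hidx : (R.subgroupOf N).index ≤ T.index := by
    show R.relIndex N ≤ T.index
    rw [hRdef, Subgroup.inf_relIndex_left, ← Subgroup.relIndex_top_right]
    apply Subgroup.relIndex_le_of_le_right le_top
    rw [Subgroup.relIndex_top_right]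
    exact Subgroup.index_ne_zero_of_finite
  have hTpos : 0 < T.index := Nat.pos_of_ne_zero Subgroup.index_ne_zero_of_finite
  have hsk : s + k ≤ 1 := by
    rw [ha'', hb''] at hab
    have h6 : (s + k) * (T.index * d) ≤ T.index * d :=
      hab.trans (Nat.mul_le_mul_right d hidx)
    have hpos : 0 < T.index * d := Nat.mul_pos hTpos (Nat.pos_of_ne_zero hd0)
    by_contra hcon
    push Not at hcon
    have : 2 * (T.index * d) ≤ (s + k) * (T.index * d) := Nat.mul_le_mul_right _ hcon
    omega
  have hs0 : s ≠ 0 := by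
    intro h0
    rw [h0, Nat.cast_zero] at hs
    have hz := classInner_self_eq_zero hs
    have : ξ 1 = 0 := by rw [hz]; rfl
    have h7 : ξ 1 = η 1 := rfl
    rw [h7, hd] at this
    exact hd0 (by exact_mod_cast this)
  have hs1 : s = 1 := by omega
  apply isIrrCharacter_of_classInner_self hξc
  rw [hs, hs1]
  simp

/-- The same, for `N.subgroupOf T` inside `↥T`. -/
theorem irr_restrict_subgroupOf_of_induced [Fintype G] (N T : Subgroup G) (η : T → ℂ)
    (hη : Cfsg.IsIrrCharacter T η)
    (hψ : Cfsg.IsIrrCharacter G (Cfsg.indFun T η))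
    (hθ : Cfsg.IsIrrCharacter N (fun n : N => Cfsg.indFun T η n)) :
    Cfsg.IsIrrCharacter (N.subgroupOf T) (fun x : N.subgroupOf T => η x) := by
  classical
  have h := irr_restrict_inf_of_induced N T η hη hψ hθ
  let e : N.subgroupOf T ≃* (N ⊓ T : Subgroup G) :=
    { toFun := fun x => ⟨((x : T) : G), ⟨Subgroup.mem_subgroupOf.mp x.2, (x : T).2⟩⟩
      invFun := fun r => ⟨⟨(r : G), r.2.2⟩, Subgroup.mem_subgroupOf.mpr r.2.1⟩
      left_inv := fun x => rfl
      right_inv := fun r => rfl
      map_mul' := fun x y => rfl }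
  exact IsIrrCharacter.comp_mulEquiv e h

end Cfsg.Agent.Helper6
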