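import Mathlib
import Cfsg.Prelude.Def_Characters
import Cfsg.Agent.Helper6.RelMB
import Cfsg.Agent.Helper6.Codegree
import Cfsg.Agent.Helper6.Linear

/-!
# Isaacs 6.23, part C: the core induction
-/

set_option autoImplicit false
set_option linter.style.haveILetI false

namespace Cfsg.Agent.Helper6

open scoped ComplexConjugate

universe u

/-- A perfect normal subgroup of a solvable group is trivial. -/
theorem eq_bot_of_commutator_self_of_solvable {H : Type u} [Group H] [hs : Group.IsSolvable H]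
    (B : Subgroup H) (hB : ⁅B, B⁆ = B) : B = ⊥ := by
  obtain ⟨n, hn⟩ := hs.solvable
  have h : ∀ m : ℕ, B ≤ derivedSeries H m := by
    intro m
    induction m with
    | zero => rw [derivedSeries_zero]; exact le_top
    | succ m ih =>
      rw [derivedSeries_succ, ← hB]
      exact Subgroup.commutator_mono ih ih
  exact le_bot_iff.mp (hn ▸ h n)

theorem relM_aux : ∀ (n : ℕ) (H : Type u) [Group H] [Fintype H] [Group.IsSolvable H],
    Fintype.card H = n →
    ∀ (N : Subgroup H) [N.Normal],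
    (∀ (p : ℕ) [Fact p.Prime] (Q : Subgroup H), Q ≤ N → IsPGroup p Q →
      ∀ a ∈ Q, ∀ b ∈ Q, a * b = b * a) →
    ∀ ψ : H → ℂ, Cfsg.IsIrrCharacter H ψ → Cfsg.IsIrrCharacter N (fun n : N => ψ n) →
      ∃ (U : Subgroup H) (lam : U →* ℂˣ), ψ = Cfsg.indFun U (fun h => (lam h : ℂ)) := by
  intro n
  induction n using Nat.strong_induction_on with
  | _ n ih =>
  intro H _ _ _ hcard N hNn hAS ψ hψ hθ
  classical
  by_cases hdeg : ψ 1 = 1
  · obtain ⟨μ, hμ⟩ := exists_hom_of_irr_degree_one hψ hdeg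
    refine ⟨⊤, μ.comp (⊤ : Subgroup H).subtype, ?_⟩
    rw [indFun_top]
    · rw [hμ]
      rfl
    · intro x y
      simp only [map_mul, map_inv, Units.val_mul, MonoidHom.coe_comp]
      rw [mul_comm, ← mul_assoc]
      simp
  · obtain ⟨K, hKn, hK, -, -, -⟩ := exists_kernel_data hψ
    haveI := hKn
    -- the family of normal subgroups of `H` inside `N`, not central in `N` modulo `K`
    let S : Set (Subgroup H) := {B | B.Normal ∧ B ≤ N ∧
      ∃ a ∈ B, ∃ m ∈ N, a * m * a⁻¹ * m⁻¹ ∉ K}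
    have hNS : N ∈ S := by
      refine ⟨hNn, le_refl _, ?_⟩
      by_contra hcon
      push Not at hcon
      apply hdeg
      have h1 : (fun n : N => ψ n) 1 = 1 := by
        apply irr_degree_one_of_commutators hθ
        intro a b
        show ψ ((a * b * a⁻¹ * b⁻¹ : N) : H) = ψ ((1 : N) : H)
        rw [Subgroup.coe_one]
        exact (hK _).mp (hcon a a.2 b b.2)
      exact h1
    obtain ⟨B, hBN', hBmin⟩ := Set.Finite.exists_le_minimal (Set.toFinite S) hNS
    obtain ⟨hBn, hBN, a₀, ha₀, m₀, hm₀, hnc⟩ := hBmin.prop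
    haveI := hBn
    -- the commutator subgroup of `B` is not in the family
    have hC : ⁅B, B⁆ ∉ S := by
      intro hCS
      have hCB : ⁅B, B⁆ ≤ B := Subgroup.commutator_le_left B B
      have hBC : B ≤ ⁅B, B⁆ := hBmin.le_of_le hCS hCB
      have hbot := eq_bot_of_commutator_self_of_solvable B (le_antisymm hCB hBC)
      apply hnc
      rw [hbot, Subgroup.mem_bot] at ha₀
      rw [ha₀]
      simp
    have hC' : ∀ c ∈ ⁅B, B⁆, ∀ m ∈ N, c * m * c⁻¹ * m⁻¹ ∈ K := by
      intro c hc m hm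
      by_contra hcon
      apply hC
      refine ⟨Subgroup.commutator_normal B B, (Subgroup.commutator_le_left B B).trans hBN,
        c, hc, m, hm, hcon⟩
    -- hence `B ⧸ B ⊓ K` has class two with abelian Sylow subgroups, so is abelian
    have hBab : ∀ x y : B ⧸ K.subgroupOf B, x * y = y * x := by
      apply comm_of_class_two_of_abelian_sylow
      · intro x y z
        obtain ⟨x₀, rfl⟩ := QuotientGroup.mk_surjective x
        obtain ⟨y₀, rfl⟩ := QuotientGroup.mk_surjective y
        obtain ⟨z₀, rfl⟩ := QuotientGroup.mk_surjective z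
        have hc : ((x₀ * y₀ * x₀⁻¹ * y₀⁻¹ : B) : H) ∈ ⁅B, B⁆ := by
          have := Subgroup.commutator_mem_commutator x₀.2 y₀.2
          rw [commutatorElement_def] at this
          exact this
        have h1 := hC' _ hc (z₀ : H) (hBN z₀.2)
        have h2 : (((x₀ * y₀ * x₀⁻¹ * y₀⁻¹) * z₀ * (x₀ * y₀ * x₀⁻¹ * y₀⁻¹)⁻¹ * z₀⁻¹ : B) :
            B ⧸ K.subgroupOf B) = 1 := by
          rw [QuotientGroup.eq_one_iff, Subgroup.mem_subgroupOf]
          exact h1
        simp only [QuotientGroup.mk_mul, QuotientGroup.mk_inv] at h2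
        have := congrArg (fun w => w * (z₀ : B ⧸ K.subgroupOf B) *
          ((x₀ : B ⧸ K.subgroupOf B) * (y₀ : B ⧸ K.subgroupOf B) *
            (x₀ : B ⧸ K.subgroupOf B)⁻¹ * (y₀ : B ⧸ K.subgroupOf B)⁻¹)) h2
        simpa [mul_assoc] using this
      · intro p _ P a ha b hb
        obtain ⟨P₀, hP₀⟩ := Sylow.mapSurjective_surjective
          (QuotientGroup.mk'_surjective (K.subgroupOf B)) p P
        have ha' : a ∈ (P₀ : Subgroup B).map (QuotientGroup.mk' (K.subgroupOf B)) := by
          rw [← Sylow.coe_mapSurjective (QuotientGroup.mk'_surjective (K.subgroupOf B)), hP₀]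
          exact ha
        have hb' : b ∈ (P₀ : Subgroup B).map (QuotientGroup.mk' (K.subgroupOf B)) := by
          rw [← Sylow.coe_mapSurjective (QuotientGroup.mk'_surjective (K.subgroupOf B)), hP₀]
          exact hb
        obtain ⟨a₁, ha₁, rfl⟩ := ha'
        obtain ⟨b₁, hb₁, rfl⟩ := hb'
        have h1 : (a₁ : H) * (b₁ : H) = (b₁ : H) * (a₁ : H) := by
          apply hAS p ((P₀ : Subgroup B).map B.subtype)
            ((Subgroup.map_subtype_le _).trans hBN) (P₀.isPGroup'.map B.subtype)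
          · exact ⟨a₁, ha₁, rfl⟩
          · exact ⟨b₁, hb₁, rfl⟩
        have h2 : a₁ * b₁ = b₁ * a₁ := Subtype.ext h1
        rw [← map_mul, ← map_mul, h2]
    have hab : ∀ a ∈ B, ∀ b ∈ B, ψ (a * b * a⁻¹ * b⁻¹) = ψ 1 := by
      intro a ha b hb
      rw [← hK]
      have h1 := hBab ((⟨a, ha⟩ : B) : B ⧸ K.subgroupOf B) ((⟨b, hb⟩ : B) : B ⧸ K.subgroupOf B)
      have h2 : (((⟨a, ha⟩ : B) * ⟨b, hb⟩ * (⟨a, ha⟩ : B)⁻¹ * (⟨b, hb⟩ : B)⁻¹ : B) :
          B ⧸ K.subgroupOf B) = 1 := by
        simp only [QuotientGroup.mk_mul, QuotientGroup.mk_inv]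
        rw [h1]
        simp
      rw [QuotientGroup.eq_one_iff, Subgroup.mem_subgroupOf] at h2
      exact h2
    have hstep : ∃ T : Subgroup H, T ≠ ⊤ ∧ ∃ η : T → ℂ, Cfsg.IsIrrCharacter T η ∧
        Cfsg.indFun T η = ψ := by
      refine monomial_step ψ hψ B hab ⟨a₀, ha₀, m₀, ?_⟩
      intro h
      exact hnc ((hK _).mpr h)
    obtain ⟨T, hT, η, hη, hind⟩ := hstep
    haveI : Fintype T := Fintype.ofFinite _
    have hlt : Fintype.card T < n := by
      rw [← hcard, ← Nat.card_eq_fintype_card, ← Nat.card_eq_fintype_card]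
      apply lt_of_le_of_ne (Subgroup.card_le_card_group T)
      intro h
      exact hT (Subgroup.card_eq_iff_eq_top T |>.mp h)
    have hηN : Cfsg.IsIrrCharacter (N.subgroupOf T) (fun x : N.subgroupOf T => η x) := by
      apply irr_restrict_subgroupOf_of_induced N T η hη
      · rw [hind]; exact hψ
      · rw [hind]; exact hθ
    have hAS' : ∀ (p : ℕ) [Fact p.Prime] (Q : Subgroup T), Q ≤ N.subgroupOf T → IsPGroup p Q →
        ∀ a ∈ Q, ∀ b ∈ Q, a * b = b * a := by
      intro p _ Q hQN hQp a ha b hb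
      apply Subtype.ext
      apply hAS p (Q.map T.subtype) ?_ (hQp.map T.subtype)
      · exact ⟨a, ha, rfl⟩
      · exact ⟨b, hb, rfl⟩
      · rintro _ ⟨q, hq, rfl⟩
        exact Subgroup.mem_subgroupOf.mp (hQN hq)
    obtain ⟨U', lam', hη'⟩ := ih (Fintype.card T) hlt T rfl (N.subgroupOf T) hAS' η hη hηN
    refine ⟨U'.map T.subtype, lam'.comp
      (Subgroup.equivMapOfInjective U' T.subtype T.subtype_injective).symm.toMonoidHom, ?_⟩
    rw [← hind, hη', indFun_indFun_subtype]
    rfl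

end Cfsg.Agent.Helper6
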