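import Mathlib
import Cfsg.Prelude.Def_Characters

/-!
# Abelian chief factors in solvable quotients, and hypothesis transfer to subgroups
-/

set_option autoImplicit false
set_option linter.style.haveILetI false

namespace Cfsg.Agent.Helper6

universe u

variable {G : Type u} [Group G]

/-- A chief factor `K/L` of `G` above `N` with `G/N` solvable is abelian. -/
theorem commutator_le_of_chief_solvable (N K L : Subgroup G) [N.Normal] [hK : K.Normal]
    [hL : L.Normal] (hsolv : Group.IsSolvable (G ⧸ N)) (hNL : N ≤ L) (hLK : L < K)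
    (hchief : ∀ M : Subgroup G, M.Normal → L ≤ M → M ≤ K → M = L ∨ M = K) : ⁅K, K⁆ ≤ L := by
  have hcomm : ⁅K, K⁆ ≤ K := Subgroup.commutator_le_left K K
  rcases hchief (⁅K, K⁆ ⊔ L) inferInstance le_sup_right (sup_le hcomm hLK.le) with h | h
  · exact le_sup_left.trans h.le
  · exfalso
    haveI := hsolv
    haveI : Group.IsSolvable (G ⧸ L) := by
      apply Group.isSolvable_of_surjective (f := QuotientGroup.map N L (MonoidHom.id G) hNL)
      intro q
      obtain ⟨g, rfl⟩ := QuotientGroup.mk_surjective q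
      exact ⟨QuotientGroup.mk g, rfl⟩
    set Kb := K.map (QuotientGroup.mk' L) with hKb
    have hperf : ⁅Kb, Kb⁆ = Kb := by
      rw [hKb, ← Subgroup.map_commutator]
      conv_rhs => rw [← h]
      rw [Subgroup.map_sup]
      have : L.map (QuotientGroup.mk' L) = ⊥ :=
        (Subgroup.map_eq_bot_iff _).mpr (by rw [QuotientGroup.ker_mk'])
      rw [this, sup_bot_eq]
    have hder : ∀ n : ℕ, Kb ≤ derivedSeries (G ⧸ L) n := by
      intro n
      induction n with
      | zero => exact le_top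
      | succ n ih =>
        rw [derivedSeries_succ, ← hperf]
        exact Subgroup.commutator_mono ih ih
    obtain ⟨n, hn⟩ := Group.IsSolvable.solvable (G := G ⧸ L)
    have hbot : Kb ≤ ⊥ := hn ▸ hder n
    have hKL : K ≤ L := by
      intro k hk
      have : (QuotientGroup.mk' L) k ∈ Kb := Subgroup.mem_map_of_mem _ hk
      have h1 := hbot this
      rw [Subgroup.mem_bot, QuotientGroup.mk'_apply, QuotientGroup.eq_one_iff] at h1
      exact h1
    exact (not_le_of_gt hLK) hKL

end Cfsg.Agent.Helper6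

namespace Cfsg.Agent.Helper6

universe u

variable {G : Type u} [Group G]

theorem solvable_quotient_subgroupOf (N T : Subgroup G) [N.Normal]
    (hsolv : Group.IsSolvable (G ⧸ N)) : Group.IsSolvable (T ⧸ N.subgroupOf T) := by
  haveI := hsolv
  apply Group.isSolvable_of_isSolvable_injective
    (f := QuotientGroup.map (N.subgroupOf T) N T.subtype le_rfl)
  rw [injective_iff_map_eq_one]
  intro q hq
  obtain ⟨t, rfl⟩ := QuotientGroup.mk_surjective q
  have hq' : (QuotientGroup.mk ((t : G)) : G ⧸ N) = 1 := hq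
  rw [QuotientGroup.eq_one_iff] at hq'
  rw [QuotientGroup.eq_one_iff]
  exact Subgroup.mem_subgroupOf.mpr hq'

theorem chief_hyp_subgroup (N T : Subgroup G) (hNT : N ≤ T)
    (hchief : ∀ (H K L : Subgroup G), N ≤ L → L < K → K ≤ H →
      (∀ h ∈ H, ∀ k ∈ K, h * k * h⁻¹ ∈ K) → (∀ h ∈ H, ∀ l ∈ L, h * l * h⁻¹ ∈ L) →
      (∀ M : Subgroup G, L ≤ M → M ≤ K → (∀ h ∈ H, ∀ m ∈ M, h * m * h⁻¹ ∈ M) → M = L ∨ M = K) →
      ¬ IsSquare (L.relIndex K)) :
    ∀ (H K L : Subgroup T), N.subgroupOf T ≤ L → L < K → K ≤ H →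
      (∀ h ∈ H, ∀ k ∈ K, h * k * h⁻¹ ∈ K) → (∀ h ∈ H, ∀ l ∈ L, h * l * h⁻¹ ∈ L) →
      (∀ M : Subgroup T, L ≤ M → M ≤ K → (∀ h ∈ H, ∀ m ∈ M, h * m * h⁻¹ ∈ M) → M = L ∨ M = K) →
      ¬ IsSquare (L.relIndex K) := by
  intro H K L hNL hLK hKH hHK hHL hM
  have hinj := T.subtype_injective
  have key := hchief (H.map T.subtype) (K.map T.subtype) (L.map T.subtype) ?_ ?_ ?_ ?_ ?_ ?_
  · rwa [Subgroup.relIndex_map_map_of_injective _ _ hinj] at key
  · intro x hx
    exact Subgroup.mem_map.mpr ⟨⟨x, hNT hx⟩, hNL (Subgroup.mem_subgroupOf.mpr hx), rfl⟩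
  · exact (Subgroup.map_lt_map_iff_of_injective hinj).mpr hLK
  · exact Subgroup.map_mono hKH
  · intro h hh k hk
    obtain ⟨h', hh', rfl⟩ := Subgroup.mem_map.mp hh
    obtain ⟨k', hk', rfl⟩ := Subgroup.mem_map.mp hk
    exact Subgroup.mem_map.mpr ⟨h' * k' * h'⁻¹, hHK h' hh' k' hk', by simp⟩
  · intro h hh k hk
    obtain ⟨h', hh', rfl⟩ := Subgroup.mem_map.mp hh
    obtain ⟨k', hk', rfl⟩ := Subgroup.mem_map.mp hk
    exact Subgroup.mem_map.mpr ⟨h' * k' * h'⁻¹, hHL h' hh' k' hk', by simp⟩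
  · intro M hLM hMK hHM
    have hMT : M ≤ T := hMK.trans (Subgroup.map_subtype_le K)
    have hM' := hM (M.subgroupOf T) ?_ ?_ ?_
    · have hmap : (M.subgroupOf T).map T.subtype = M := Subgroup.map_subgroupOf_eq_of_le hMT
      rcases hM' with h | h
      · left; rw [← hmap, h]
      · right; rw [← hmap, h]
    · intro l hl
      rw [Subgroup.mem_subgroupOf]
      exact hLM (Subgroup.mem_map_of_mem _ hl)
    · intro m hm
      rw [Subgroup.mem_subgroupOf] at hm
      obtain ⟨k, hk, hkm⟩ := Subgroup.mem_map.mp (hMK hm)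
      have : k = m := Subtype.ext hkm
      rw [← this]; exact hk
    · intro h hh m hm
      rw [Subgroup.mem_subgroupOf] at hm ⊢
      have := hHM h (Subgroup.mem_map_of_mem _ hh) m hm
      simpa using this

end Cfsg.Agent.Helper6
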