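import Mathlib
import Cfsg.Prelude.Def_Characters
import Cfsg.Agent.Helper6.RelativeM1
import Cfsg.Agent.Helper6.MGroup
import Cfsg.Agent.Helper6.CliffordCorr
import Cfsg.Agent.Helper6.AbelianInertia
import Cfsg.Agent.S0857

/-!
# Relative M-groups (Isaacs 6.22)
-/

set_option autoImplicit false
set_option linter.style.haveILetI false

namespace Cfsg.Agent.Helper6

open scoped ComplexConjugate

universe u

set_option maxHeartbeats 1600000 in
theorem relative_M_aux : ∀ (n : ℕ) (G : Type u) [Group G] [Fintype G] (N : Subgroup G) [N.Normal],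
    Fintype.card G = n → Group.IsSolvable (G ⧸ N) →
    (∀ (H K L : Subgroup G), N ≤ L → L < K → K ≤ H →
      (∀ h ∈ H, ∀ k ∈ K, h * k * h⁻¹ ∈ K) → (∀ h ∈ H, ∀ l ∈ L, h * l * h⁻¹ ∈ L) →
      (∀ M : Subgroup G, L ≤ M → M ≤ K → (∀ h ∈ H, ∀ m ∈ M, h * m * h⁻¹ ∈ M) → M = L ∨ M = K) →
      ¬ IsSquare (L.relIndex K)) →
    ∀ χ : G → ℂ, Cfsg.IsIrrCharacter G χ →
    ∃ (H : Subgroup G) (hNH : N ≤ H) (ψ : H → ℂ), Cfsg.IsIrrCharacter H ψ ∧
      Cfsg.indFun H ψ = χ ∧ Cfsg.IsIrrCharacter N (fun n : N => ψ ⟨(n : G), hNH n.2⟩) := by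
  intro n
  induction n using Nat.strong_induction_on with
  | _ n ih =>
  intro G _ _ N _ hcard hsolv hchief χ hχ
  classical
  haveI : Fintype N := Fintype.ofFinite N
  have hχc := IsIrrCharacter.isCharacter hχ
  have hχcf := IsCharacter.isClassFunction hχc
  have htopirr : Cfsg.IsIrrCharacter (⊤ : Subgroup G) (fun x : (⊤ : Subgroup G) => χ x) :=
    IsIrrCharacter.comp_mulEquiv Subgroup.topEquiv hχ
  by_cases hirrN : Cfsg.IsIrrCharacter N (fun n : N => χ n)
  · refine ⟨⊤, le_top, fun x => χ x, htopirr, ?_, hirrN⟩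
    rw [indFun_top _ (by
      intro x y
      have := hχcf x y
      simpa using this)]
  · let P : Subgroup G → Prop := fun K => K.Normal ∧ N ≤ K ∧
      Cfsg.IsIrrCharacter K (fun k : K => χ k)
    have hPtop : P ⊤ := ⟨inferInstance, le_top, htopirr⟩
    obtain ⟨K, hKmin⟩ := exists_minimal_of_wellFoundedLT P ⟨⊤, hPtop⟩
    obtain ⟨hKn, hNK, hKirr⟩ := hKmin.prop
    haveI := hKn
    have hNneK : N ≠ K := by
      rintro rfl
      exact hirrN hKirr
    have hNltK : N < K := lt_of_le_of_ne hNK hNneK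
    let Q : Subgroup G → Prop := fun L => L.Normal ∧ N ≤ L ∧ L < K
    obtain ⟨L, hLmax⟩ := exists_maximal_of_wellFoundedGT Q ⟨N, inferInstance, le_rfl, hNltK⟩
    obtain ⟨hLn, hNL, hLK⟩ := hLmax.prop
    haveI := hLn
    have hchiefKL : ∀ M : Subgroup G, M.Normal → L ≤ M → M ≤ K → M = L ∨ M = K := by
      intro M hMn hLM hMK
      by_cases hMeqK : M = K
      · right; exact hMeqK
      · left
        have hQ : Q M := ⟨hMn, hNL.trans hLM, lt_of_le_of_ne hMK hMeqK⟩
        exact le_antisymm (hLmax.le_of_ge hQ hLM) hLM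
    have hab := commutator_le_of_chief_solvable N K L hsolv hNL hLK hchiefKL
    have hinvK : ∀ (g : G) (k : K),
        (fun k : K => χ k) ⟨g * k * g⁻¹, hKn.conj_mem (k : G) k.2 g⟩ = (fun k : K => χ k) k :=
      fun g k => hχcf k g
    rcases Cfsg.Agent.S0857.result K L hLK hchiefKL hab (fun k : K => χ k) hKirr hinvK with
      h | ⟨φ, e, hφ, he, he2⟩ | ⟨F, hF, hFcard, hFsum⟩
    · exfalso
      have hPL : P L := ⟨hLn, hNL, h⟩
      have := hKmin.le_of_le hPL hLK.le
      exact (not_le_of_gt hLK) this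
    · exfalso
      apply hchief ⊤ K L hNL hLK le_top (fun h _ k hk => hKn.conj_mem k hk h)
        (fun h _ l hl => hLn.conj_mem l hl h) ?_ ⟨e, by rw [← he2, sq]⟩
      intro M hLM hMK hMinv
      exact hchiefKL M ⟨fun m hm g => hMinv g (Subgroup.mem_top g) m hm⟩ hLM hMK
    · haveI : Fintype L := Fintype.ofFinite L
      have hresL : (fun x : L => χ x) = ∑ φ ∈ F, φ := hFsum
      have hidx : 1 < L.relIndex K := by
        have h0 : L.relIndex K ≠ 0 := by
          unfold Subgroup.relIndex
          exact Subgroup.index_ne_zero_of_finite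
        have h1 : L.relIndex K ≠ 1 := by
          intro h
          exact (not_le_of_gt hLK) (Subgroup.relIndex_eq_one.mp h)
        omega
      rw [← hFcard] at hidx
      obtain ⟨φ₁, hφ₁F, φ₂, hφ₂F, hne12⟩ := Finset.one_lt_card.mp hidx
      have hφ₁ := hF φ₁ hφ₁F
      have hφ₂ := hF φ₂ hφ₂F
      have hinner : ∀ ψ ∈ F, Cfsg.classInner (fun x : L => χ x) ψ = 1 := by
        intro ψ hψF
        rw [hresL, classInner_sum_left, Finset.sum_eq_single ψ]
        · exact classInner_irr_self (hF ψ hψF)
        · intro b hb hbne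
          exact classInner_irr_ne (hF b hb) (hF ψ hψF) hbne
        · intro h
          exact absurd hψF h
      have hcon : Cfsg.classInner (fun x : L => χ x) φ₁ ≠ 0 := by
        rw [hinner φ₁ hφ₁F]
        exact one_ne_zero
      set T := conjStab L φ₁ with hTdef
      have hLT : L ≤ T := le_conjStab_of_isClassFunction L φ₁
        (IsCharacter.isClassFunction (IsIrrCharacter.isCharacter hφ₁))
      have hTtop : T ≠ ⊤ := by
        intro htop
        have hinv : ∀ x : G, conjFun L φ₁ x = φ₁ := by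
          intro x
          have hx : x ∈ T := htop ▸ Subgroup.mem_top x
          exact (mem_conjStab L φ₁ x).mp hx
        have h1 := clifford_invariant_top L φ₁ hφ₁ hinv χ hχ hcon
        have h2 := hinner φ₂ hφ₂F
        rw [h1, classInner_smul_left, classInner_irr_ne hφ₁ hφ₂ hne12, mul_zero] at h2
        exact zero_ne_one h2
      haveI : Fintype T := Fintype.ofFinite T
      have hT : ∀ g : G, g ∈ T ↔
          ∀ n : L, φ₁ ⟨g * n * g⁻¹, hLn.conj_mem (n : G) n.2 g⟩ = φ₁ n := by
        intro g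
        rw [hTdef, mem_conjStab]
        constructor
        · intro h n
          exact congrFun h n
        · intro h
          funext n
          exact h n
      obtain ⟨η, hη, hηind, -⟩ := clifford_correspondence L φ₁ hφ₁ T hT hLT χ hχ hcon
      have hNT : N ≤ T := hNL.trans hLT
      have hlt : Fintype.card T < n := by
        rw [← hcard, ← Nat.card_eq_fintype_card, ← Nat.card_eq_fintype_card]
        have hidxT : T.index ≠ 1 := fun h => hTtop (Subgroup.index_eq_one.mp h)
        have hidx0 : T.index ≠ 0 := Subgroup.index_ne_zero_of_finite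
        have hmul := T.index_mul_card
        have hpos : 0 < Nat.card T := Nat.card_pos
        nlinarith [hmul, hpos, Nat.two_le_iff T.index |>.mpr ⟨hidx0, hidxT⟩]
      obtain ⟨H', hNH', ψ, hψ, hind, hψN⟩ := ih (Fintype.card T) hlt T (N.subgroupOf T) rfl
        (solvable_quotient_subgroupOf N T hsolv) (chief_hyp_subgroup N T hNT hchief) η hη
      set e := Subgroup.equivMapOfInjective H' T.subtype T.subtype_injective with he
      have hNH : N ≤ H'.map T.subtype := by
        intro x hx
        exact Subgroup.mem_map.mpr ⟨⟨x, hNT hx⟩, hNH' (Subgroup.mem_subgroupOf.mpr hx), rfl⟩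
      refine ⟨H'.map T.subtype, hNH, fun h => ψ (e.symm h), ?_, ?_, ?_⟩
      · exact IsIrrCharacter.comp_mulEquiv e.symm hψ
      · rw [← hηind, ← hind, indFun_indFun_subtype]
      · let iso : N ≃* N.subgroupOf T := (Subgroup.subgroupOfEquivOfLe hNT).symm
        have hfun : (fun n : N => ψ (e.symm ⟨(n : G), hNH n.2⟩)) =
            (fun m : N.subgroupOf T => ψ ⟨(m : T), hNH' m.2⟩) ∘ iso := by
          ext n
          change ψ (e.symm ⟨(n : G), hNH n.2⟩) = ψ ⟨(iso n : T), hNH' (iso n).2⟩
          congr 1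
          apply e.injective
          rw [MulEquiv.apply_symm_apply]
          apply Subtype.ext
          rfl
        rw [hfun]
        exact IsIrrCharacter.comp_mulEquiv iso hψN

end Cfsg.Agent.Helper6
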