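import Mathlib
import Cfsg.Prelude.Def_Characters
import Cfsg.Prelude.Def_Blocks
import Cfsg.Agent.Helper6.ThirdMain
import Cfsg.Agent.Helper6.DefectClassValues

/-!
# Height zero constituents of restrictions to a subgroup whose block induces (S0937)
-/

set_option autoImplicit false
set_option linter.style.haveILetI false

namespace Cfsg.Agent.Helper6

open Module
open scoped ComplexConjugate

universe u

variable {G : Type u} [Group G] {M : Ideal Cfsg.AlgInt}

/-- the scaled truncated inner product is the truncated sum divided by the `p'`-part of the group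
order -/
theorem truncScaled_div_eq [Fintype G] (p : ℕ) [hp : Fact p.Prime] (ξ ψ : Cfsg.IrrCharacter G) :
    Cfsg.classInner (truncScaled p (ξ : G → ℂ)) (ψ : G → ℂ) / (ψ : G → ℂ) 1 =
      (1 : ℂ) / ((Nat.card G / p ^ (Nat.card G).factorization p : ℕ) : ℂ) *
        (truncSum p (ξ : G → ℂ) (ψ : G → ℂ) / (ψ : G → ℂ) 1) := by
  obtain ⟨n, hn, hT, -⟩ := exists_truncInt p ξ.2 ψ.2
  have hm0 : ((Nat.card G / p ^ (Nat.card G).factorization p : ℕ) : ℂ) ≠ 0 := by
    have h := not_dvd_ordCompl_card (G := G) p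
    have : Nat.card G / p ^ (Nat.card G).factorization p ≠ 0 := by
      intro h0
      rw [h0] at h
      exact h (dvd_zero p)
    exact_mod_cast this
  rw [hn, hT]
  field_simp

theorem truncScaled_div_memLocalRing [Fintype G] {p : ℕ} [hp : Fact p.Prime]
    (hM : Cfsg.IsPModular p M) (ξ ψ : Cfsg.IrrCharacter G) :
    Cfsg.MemLocalRing M
      (Cfsg.classInner (truncScaled p (ξ : G → ℂ)) (ψ : G → ℂ) / (ψ : G → ℂ) 1) := by
  rw [truncScaled_div_eq]
  apply MemLocalRing.mul hM.2.1
  · have := memLocalRing_natCast_div hM.2.1 p hp.1 hM.2.2 1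
      (Nat.card G / p ^ (Nat.card G).factorization p) (not_dvd_ordCompl_card (G := G) p)
    rwa [Nat.cast_one] at this
  · exact truncSum_div_memLocalRing hM.2.1 p (IsIrrCharacter.isCharacter ξ.2) ψ.2

/-- characters of positive height have truncated inner products in the ideal -/
theorem truncScaled_div_memLocalIdeal_of_height_ne_zero [Fintype G] {p : ℕ} [hp : Fact p.Prime]
    (hM : Cfsg.IsPModular p M) (B : Set (Cfsg.IrrCharacter G)) (hB : Cfsg.IsPBlock M B)
    (ξ : Cfsg.IrrCharacter G) (hξ : ξ ∈ B) (h0 : Cfsg.blockHeight p B (ξ : G → ℂ) ≠ 0)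
    (ψ : Cfsg.IrrCharacter G) (hψ : ψ ∈ B) :
    Cfsg.MemLocalIdeal M
      (Cfsg.classInner (truncScaled p (ξ : G → ℂ)) (ψ : G → ℂ) / (ψ : G → ℂ) 1) := by
  rw [truncScaled_div_eq]
  apply MemLocalIdeal.mul_left hM.2.1
  · have := memLocalRing_natCast_div hM.2.1 p hp.1 hM.2.2 1
      (Nat.card G / p ^ (Nat.card G).factorization p) (not_dvd_ordCompl_card (G := G) p)
    rwa [Nat.cast_one] at this
  · by_contra hnot
    apply h0
    rw [(height_zero_iff_trunc hM B hB ξ hξ).1]
    exact ⟨ψ, hψ, (truncInt_cond_iff hM ξ.2 ψ.2).mpr hnot⟩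

/-- **S0937** -/
theorem exists_height_zero_constituent [Fintype G] {p : ℕ} [hp : Fact p.Prime]
    (hM : Cfsg.IsPModular p M) (H : Subgroup G) [Fintype H] (b : Set (Cfsg.IrrCharacter H))
    (B : Set (Cfsg.IrrCharacter G)) (hind : Cfsg.IsInducedBlock M H b B)
    (χ : Cfsg.IrrCharacter G) (hχ : χ ∈ B) (h0 : Cfsg.blockHeight p B (χ : G → ℂ) = 0) :
    ∃ ξ ∈ b, Cfsg.blockHeight p b (ξ : H → ℂ) = 0 ∧ ∃ n : ℕ,
      Cfsg.classInner (fun h : H => (χ : G → ℂ) h) (ξ : H → ℂ) = (n : ℂ) ∧ ¬ p ∣ n := by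
  classical
  haveI : Finite (Cfsg.IrrCharacter H) := irr_finite
  haveI : Fintype (Cfsg.IrrCharacter H) := Fintype.ofFinite _
  have hMm := hM.2.1
  have hb := hind.1
  obtain ⟨ψ₁, hψ₁⟩ := hb
  have hbne : b.Nonempty := ⟨ψ₁, by rw [hψ₁]; exact mem_blockOf_self hMm ψ₁⟩
  obtain ⟨ψ, hψb, hψ0⟩ := exists_height_zero p b hbne
  have hX := (induced_trunc_statement hM H b B hind χ ψ hψb).2 hχ h0
  -- the restriction
  have hres : Cfsg.IsCharacter H (fun h : H => (χ : G → ℂ) h) :=
    IsCharacter.restrict H (IsIrrCharacter.isCharacter χ.2)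
  have hm : ∀ ξ : Cfsg.IrrCharacter H, ∃ m : ℕ,
      Cfsg.classInner (fun h : H => (χ : G → ℂ) h) (ξ : H → ℂ) = m := fun ξ =>
    classInner_char_char_nat hres (IsIrrCharacter.isCharacter ξ.2)
  choose m hm using hm
  by_contra hcon
  push Not at hcon
  apply hX
  -- expansion of the truncated restriction
  have hexp := classFunction_expansion (fun h : H => (χ : G → ℂ) h)
    (IsCharacter.isClassFunction hres)
  have hη : (fun h : H => if p ∣ orderOf h then (0 : ℂ) else
      ((p ^ (Nat.card H).factorization p : ℕ) : ℂ) * (χ : G → ℂ) h) =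
      ∑ ξ : Cfsg.IrrCharacter H, (m ξ : ℂ) • truncScaled p (ξ : H → ℂ) := by
    funext h
    rw [Finset.sum_apply]
    simp only [Pi.smul_apply, smul_eq_mul]
    unfold truncScaled
    by_cases hh : p ∣ orderOf h
    · simp only [if_pos hh, mul_zero, Finset.sum_const_zero]
    · simp only [if_neg hh]
      have h1 := congrFun hexp h
      rw [Finset.sum_apply] at h1
      simp only [Pi.smul_apply, smul_eq_mul] at h1
      rw [h1, Finset.mul_sum]
      apply Finset.sum_congr rfl
      intro ξ _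
      rw [hm ξ]
      ring
  rw [hη, classInner_sum_left, Finset.sum_div]
  apply MemLocalIdeal.sum hMm
  intro ξ _
  rw [classInner_smul_left, mul_div_assoc]
  by_cases hξb : ξ ∈ b
  · by_cases hξ0 : Cfsg.blockHeight p b (ξ : H → ℂ) = 0
    · -- `p ∣ m ξ`
      have hdvd := hcon ξ hξb hξ0 (m ξ) (hm ξ)
      obtain ⟨k, hk⟩ := hdvd
      have h1 : Cfsg.MemLocalIdeal M ((m ξ : ℕ) : ℂ) := by
        rw [hk]
        push_cast
        rw [mul_comm]
        exact MemLocalIdeal.mul_left hMm (memLocalRing_natCast hMm k) (memLocalIdeal_prime hM)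
      rw [mul_comm]
      exact MemLocalIdeal.mul_left hMm (truncScaled_div_memLocalRing hM ξ ψ) h1
    · exact MemLocalIdeal.mul_left hMm (memLocalRing_natCast hMm _)
        (truncScaled_div_memLocalIdeal_of_height_ne_zero hM b ⟨ψ₁, hψ₁⟩ ξ hξb hξ0 ψ hψb)
  · have hns : ¬ Cfsg.SameBlock M (ξ : H → ℂ) (ψ : H → ℂ) := by
      intro hs
      apply hξb
      rw [hψ₁] at hψb ⊢
      exact sameBlock_trans hMm hψb (sameBlock_symm hs)
    rw [classInner_truncScaled_eq_zero hMm p hM.2.2 ξ ψ hns, zero_div, mul_zero]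
    exact memLocalIdeal_zero hMm

end Cfsg.Agent.Helper6
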