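import Mathlib
import Cfsg.Prelude.Def_Characters
import Cfsg.Prelude.Def_Blocks
import Cfsg.Agent.Helper6.LocalSubring
import Cfsg.Agent.Helper6.GroupAlgC
import Cfsg.Agent.Helper6.BlockBasic2

/-!
# Robinson's rank formula (S4443), part A: linear algebra

* the rank of a square matrix over a field does not change under a field extension;
* the residue field of the local ring at `M`;
* a rank criterion: a matrix of natural numbers which, modulo the local ideal, factors as
  `Y' * V` with `Y'` left invertible and `V` right invertible has rank (over `ZMod p`) the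
  inner dimension.
-/

set_option autoImplicit false
set_option linter.style.haveILetI false
set_option linter.unusedSimpArgs false

namespace Cfsg.Agent.Helper6.Rob

open Cfsg.Agent.Helper6 Matrix

section BaseChange

variable {F K : Type*} [Field F] [Field K] {n : Type*} [Fintype n] [DecidableEq n]

/-- rank of the normal form -/
theorem rank_normal_form (R : Type*) [Field R] (r s : ℕ) :
    (fromBlocks (1 : Matrix (Fin r) (Fin r) R) (0 : Matrix (Fin r) (Fin s) R)
      (0 : Matrix (Fin s) (Fin r) R) (0 : Matrix (Fin s) (Fin s) R)).rank = r := by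
  classical
  have h1 : fromBlocks (1 : Matrix (Fin r) (Fin r) R) (0 : Matrix (Fin r) (Fin s) R)
      (0 : Matrix (Fin s) (Fin r) R) (0 : Matrix (Fin s) (Fin s) R) =
      diagonal (Sum.elim (fun _ => (1 : R)) (fun _ => (0 : R))) := by
    rw [← diagonal_one, ← diagonal_zero, fromBlocks_diagonal]
  rw [h1, rank_diagonal]
  rw [Fintype.card_subtype]
  have h2 : (Finset.univ.filter (fun i : Fin r ⊕ Fin s =>
      Sum.elim (fun _ => (1 : R)) (fun _ => (0 : R)) i ≠ 0)) =
      Finset.univ.map ⟨Sum.inl, Sum.inl_injective⟩ := by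
    ext i
    rcases i with i | i <;> simp
  rw [h2, Finset.card_map, Finset.card_univ, Fintype.card_fin]

/-- The rank of a square matrix over a field is unchanged by a field extension. -/
theorem rank_map_eq (f : F →+* K) (A : Matrix n n F) : (A.map f).rank = A.rank := by
  classical
  obtain ⟨V, U, e, hV, hU, h⟩ := exists_rank_normal_form A
  have hVK : IsUnit ((f.mapMatrix : Matrix n n F →+* Matrix n n K) V) := hV.map _
  have hUK : IsUnit ((f.mapMatrix : Matrix n n F →+* Matrix n n K) U) := hU.map _
  have hmap : (f.mapMatrix V) * (A.map f) * (f.mapMatrix U) =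
      ((fromBlocks (1 : Matrix (Fin A.rank) (Fin A.rank) K) 0 0
        (0 : Matrix (Fin (Fintype.card n - A.rank)) (Fin (Fintype.card n - A.rank)) K)).submatrix
          e e) := by
    have h1 := congrArg (fun X : Matrix n n F => X.map f) h
    simp only [Matrix.map_mul] at h1
    rw [RingHom.mapMatrix_apply, RingHom.mapMatrix_apply, h1]
    ext i j
    simp only [Matrix.map_apply, Matrix.submatrix_apply]
    rcases e i with a | a <;> rcases e j with b | b
    · simp only [fromBlocks_apply₁₁, Matrix.one_apply]
      split_ifs <;> simp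
    · simp
    · simp
    · simp
  have hr1 : (f.mapMatrix V * A.map f * f.mapMatrix U).rank = (A.map f).rank := by
    rw [rank_mul_eq_left_of_isUnit_det _ _ ((Matrix.isUnit_iff_isUnit_det _).mp hUK),
      rank_mul_eq_right_of_isUnit_det _ _ ((Matrix.isUnit_iff_isUnit_det _).mp hVK)]
  rw [← hr1, hmap, rank_submatrix, rank_normal_form]

end BaseChange

section Residue

variable {M : Ideal Cfsg.AlgInt}

theorem localIdeal_isMaximal (hM : M.IsMaximal) : (localIdeal M hM).IsMaximal := by
  rw [Ideal.isMaximal_iff]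
  refine ⟨?_, ?_⟩
  · intro h
    rw [mem_localIdeal] at h
    exact not_memLocalIdeal_one h
  · intro J x _ hxI hxJ
    have hxI' : ¬ Cfsg.MemLocalIdeal M (x : ℂ) := hxI
    have hinv : Cfsg.MemLocalRing M (x : ℂ)⁻¹ := memLocalRing_inv_of_unit hM x.2 hxI'
    have hx0 : (x : ℂ) ≠ 0 := by
      intro h0
      apply hxI'
      rw [h0]
      exact memLocalIdeal_zero hM
    have h1 : (⟨(x : ℂ)⁻¹, hinv⟩ : localSubring M hM) * x = 1 := by
      apply Subtype.ext
      change (x : ℂ)⁻¹ * (x : ℂ) = 1
      exact inv_mul_cancel₀ hx0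
    rw [← h1]
    exact J.mul_mem_left _ hxJ

/-- the residue field of the local ring at `M` -/
abbrev ResField (M : Ideal Cfsg.AlgInt) (hM : M.IsMaximal) : Type :=
  localSubring M hM ⧸ localIdeal M hM

noncomputable instance resField_field (hM : M.IsMaximal) : Field (ResField M hM) :=
  @Ideal.Quotient.field _ _ (localIdeal M hM) (localIdeal_isMaximal hM)

/-- reduction of a local integer -/
noncomputable def res (hM : M.IsMaximal) (z : ℂ) (hz : Cfsg.MemLocalRing M z) : ResField M hM :=
  Ideal.Quotient.mk (localIdeal M hM) ⟨z, hz⟩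

theorem res_eq_iff (hM : M.IsMaximal) {z w : ℂ} (hz : Cfsg.MemLocalRing M z)
    (hw : Cfsg.MemLocalRing M w) : res hM z hz = res hM w hw ↔ Cfsg.MemLocalIdeal M (z - w) := by
  unfold res
  rw [Ideal.Quotient.eq, mem_localIdeal]
  rfl

theorem res_add (hM : M.IsMaximal) {z w : ℂ} (hz : Cfsg.MemLocalRing M z)
    (hw : Cfsg.MemLocalRing M w) :
    res hM (z + w) (MemLocalRing.add hM hz hw) = res hM z hz + res hM w hw := by
  unfold res
  rw [← map_add]
  rfl

theorem res_mul (hM : M.IsMaximal) {z w : ℂ} (hz : Cfsg.MemLocalRing M z)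
    (hw : Cfsg.MemLocalRing M w) :
    res hM (z * w) (MemLocalRing.mul hM hz hw) = res hM z hz * res hM w hw := by
  unfold res
  rw [← map_mul]
  rfl

theorem res_zero (hM : M.IsMaximal) : res hM 0 (memLocalRing_zero hM) = 0 := by
  unfold res
  rw [← map_zero (Ideal.Quotient.mk (localIdeal M hM))]
  rfl

theorem res_one (hM : M.IsMaximal) : res hM 1 (memLocalRing_one hM) = 1 := by
  unfold res
  rw [← map_one (Ideal.Quotient.mk (localIdeal M hM))]
  rfl

theorem res_congr (hM : M.IsMaximal) {z w : ℂ} (hz : Cfsg.MemLocalRing M z)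
    (hw : Cfsg.MemLocalRing M w) (h : z = w) : res hM z hz = res hM w hw := by
  subst h
  rfl

theorem res_sum (hM : M.IsMaximal) {ι : Type*} (s : Finset ι) (f : ι → ℂ)
    (hf : ∀ i, Cfsg.MemLocalRing M (f i)) :
    res hM (∑ i ∈ s, f i) (MemLocalRing.sum hM s f (fun i _ => hf i)) =
      ∑ i ∈ s, res hM (f i) (hf i) := by
  classical
  induction s using Finset.induction_on with
  | empty =>
    simp only [Finset.sum_empty]
    exact res_zero hM
  | insert a s ha ih =>
    have h1 := res_congr hM (MemLocalRing.sum hM (insert a s) f (fun i _ => hf i))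
      (MemLocalRing.add hM (hf a) (MemLocalRing.sum hM s f (fun i _ => hf i)))
      (Finset.sum_insert ha)
    rw [h1, res_add hM (hf a) (MemLocalRing.sum hM s f (fun i _ => hf i)), ih,
      Finset.sum_insert ha]

theorem res_natCast (hM : M.IsMaximal) (n : ℕ) (hn : Cfsg.MemLocalRing M (n : ℂ)) :
    res hM (n : ℂ) hn = (n : ResField M hM) := by
  unfold res
  rw [← map_natCast (Ideal.Quotient.mk (localIdeal M hM))]
  rfl

theorem resField_natCast_eq_zero {p : ℕ} (hMm : M.IsMaximal) (hpM : (p : Cfsg.AlgInt) ∈ M) :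
    ((p : ℕ) : ResField M hMm) = 0 := by
  have hp : Cfsg.MemLocalRing M ((p : ℕ) : ℂ) :=
    memLocalRing_of_isIntegral hMm (by
      have := isIntegral_algebraMap (R := ℤ) (A := ℂ) (x := (p : ℤ))
      simpa using this)
  rw [← res_natCast hMm p hp, ← res_zero hMm, res_eq_iff, sub_zero]
  have h1 := memLocalIdeal_of_mem hMm hpM
  have h2 : (((p : Cfsg.AlgInt) : Cfsg.AlgInt) : ℂ) = ((p : ℕ) : ℂ) := by simp
  rw [h2] at h1
  exact h1

theorem resField_charP {p : ℕ} [hp : Fact p.Prime] (hMm : M.IsMaximal)
    (hpM : (p : Cfsg.AlgInt) ∈ M) : CharP (ResField M hMm) p := by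
  have h0 := resField_natCast_eq_zero hMm hpM
  have h1 : ringChar (ResField M hMm) ∣ p := (ringChar.spec (ResField M hMm) p).mp h0
  rcases (Nat.dvd_prime hp.out).mp h1 with h | h
  · exfalso
    exact CharP.ringChar_ne_one h
  · have := ringChar.charP (ResField M hMm)
    rwa [h] at this

end Residue

end Cfsg.Agent.Helper6.Rob
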