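import Mathlib
import Cfsg.Prelude.Def_Characters
import Cfsg.Prelude.Def_Blocks
import Cfsg.Agent.Helper6.RobA
import Cfsg.Agent.Helper6.InducedPart

/-!
# Robinson's rank formula (S4443), part B: the rank criterion
-/

set_option autoImplicit false
set_option linter.style.haveILetI false
set_option linter.unusedSimpArgs false

namespace Cfsg.Agent.Helper6.Rob

open Cfsg.Agent.Helper6 Matrix

variable {M : Ideal Cfsg.AlgInt}

/-- A matrix of natural numbers which, modulo the local ideal, factors as `Y' * V` with `Y'` left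
invertible and `V` right invertible (all over the local ring) has rank over `ZMod p` equal to the
inner dimension. -/
theorem rank_eq_card_of_congruences {p : ℕ} [hp : Fact p.Prime] (hM : Cfsg.IsPModular p M)
    {ι β : Type*} [Fintype ι] [DecidableEq ι] [Fintype β] [DecidableEq β]
    (T : ι → ι → ℕ) (Y' : ι → β → ℂ) (V : β → ι → ℂ) (X : β → ι → ℂ) (Z : ι → β → ℂ)
    (hY' : ∀ i b, Cfsg.MemLocalRing M (Y' i b)) (hV : ∀ b i, Cfsg.MemLocalRing M (V b i))
    (hX : ∀ b i, Cfsg.MemLocalRing M (X b i)) (hZ : ∀ i b, Cfsg.MemLocalRing M (Z i b))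
    (h1 : ∀ i j, Cfsg.MemLocalIdeal M ((T i j : ℂ) - ∑ b, Y' i b * V b j))
    (h2 : ∀ b b', Cfsg.MemLocalIdeal M (∑ i, X b i * Y' i b' - if b = b' then 1 else 0))
    (h3 : ∀ b b', Cfsg.MemLocalIdeal M (∑ j, V b j * Z j b' - if b = b' then 1 else 0)) :
    (Matrix.of fun i j : ι => ((T i j : ℕ) : ZMod p)).rank = Fintype.card β := by
  classical
  have hMm := hM.2.1
  haveI := resField_charP (p := p) hMm hM.2.2
  set k := ResField M hMm with hk
  set f : ZMod p →+* k := ZMod.castHom (dvd_refl p) k with hf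
  set Ω : Matrix ι ι (ZMod p) := Matrix.of fun i j : ι => ((T i j : ℕ) : ZMod p) with hΩ
  set Yk : Matrix ι β k := fun i b => res hMm (Y' i b) (hY' i b) with hYk
  set Vk : Matrix β ι k := fun b i => res hMm (V b i) (hV b i) with hVk
  set Xk : Matrix β ι k := fun b i => res hMm (X b i) (hX b i) with hXk
  set Zk : Matrix ι β k := fun i b => res hMm (Z i b) (hZ i b) with hZk
  have hnat : ∀ n : ℕ, Cfsg.MemLocalRing M (n : ℂ) := fun n => memLocalRing_natCast hMm n
  have hΩmap : Ω.map f = Yk * Vk := by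
    ext i j
    rw [Matrix.map_apply, hΩ, Matrix.of_apply, map_natCast, Matrix.mul_apply]
    rw [← res_natCast hMm (T i j) (hnat _)]
    have hsum : Cfsg.MemLocalRing M (∑ b, Y' i b * V b j) :=
      MemLocalRing.sum hMm _ _ (fun b _ => MemLocalRing.mul hMm (hY' i b) (hV b j))
    rw [(res_eq_iff hMm (hnat _) hsum).mpr (h1 i j)]
    rw [res_sum hMm Finset.univ (fun b => Y' i b * V b j)
      (fun b => MemLocalRing.mul hMm (hY' i b) (hV b j))]
    apply Finset.sum_congr rfl
    intro b _
    rw [res_mul hMm (hY' i b) (hV b j)]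
  have hdelta : ∀ b b' : β, Cfsg.MemLocalRing M (if b = b' then (1 : ℂ) else 0) := by
    intro b b'
    split_ifs
    · exact memLocalRing_one hMm
    · exact memLocalRing_zero hMm
  have hres_delta : ∀ b b' : β, res hMm (if b = b' then (1 : ℂ) else 0) (hdelta b b') =
      (1 : Matrix β β k) b b' := by
    intro b b'
    by_cases hbb : b = b'
    · have h1 := res_congr hMm (hdelta b b') (memLocalRing_one hMm) (if_pos hbb)
      have h2 : (1 : Matrix β β k) b b' = 1 := by rw [hbb]; exact Matrix.one_apply_eq b'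
      rw [h1, h2]
      exact res_one hMm
    · have h1 := res_congr hMm (hdelta b b') (memLocalRing_zero hMm) (if_neg hbb)
      have h2 : (1 : Matrix β β k) b b' = 0 := Matrix.one_apply_ne hbb
      rw [h1, h2]
      exact res_zero hMm
  have hXY : Xk * Yk = 1 := by
    ext b b'
    rw [Matrix.mul_apply, ← hres_delta b b']
    have hsum : Cfsg.MemLocalRing M (∑ i, X b i * Y' i b') :=
      MemLocalRing.sum hMm _ _ (fun i _ => MemLocalRing.mul hMm (hX b i) (hY' i b'))
    rw [← (res_eq_iff hMm hsum (hdelta b b')).mpr (h2 b b')]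
    rw [res_sum hMm Finset.univ (fun i => X b i * Y' i b')
      (fun i => MemLocalRing.mul hMm (hX b i) (hY' i b'))]
    apply Finset.sum_congr rfl
    intro i _
    rw [res_mul hMm (hX b i) (hY' i b')]
  have hVZ : Vk * Zk = 1 := by
    ext b b'
    rw [Matrix.mul_apply, ← hres_delta b b']
    have hsum : Cfsg.MemLocalRing M (∑ j, V b j * Z j b') :=
      MemLocalRing.sum hMm _ _ (fun j _ => MemLocalRing.mul hMm (hV b j) (hZ j b'))
    rw [← (res_eq_iff hMm hsum (hdelta b b')).mpr (h3 b b')]
    rw [res_sum hMm Finset.univ (fun j => V b j * Z j b')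
      (fun j => MemLocalRing.mul hMm (hV b j) (hZ j b'))]
    apply Finset.sum_congr rfl
    intro j _
    rw [res_mul hMm (hV b j) (hZ j b')]
  have hle : (Yk * Vk).rank ≤ Fintype.card β :=
    (Matrix.rank_mul_le_left Yk Vk).trans (Matrix.rank_le_card_width Yk)
  have hge : Fintype.card β ≤ (Yk * Vk).rank := by
    have h4 : Xk * (Yk * Vk) * Zk = 1 := by
      rw [← Matrix.mul_assoc, hXY, Matrix.one_mul, hVZ]
    calc Fintype.card β = (1 : Matrix β β k).rank := (Matrix.rank_one).symm
      _ = (Xk * (Yk * Vk) * Zk).rank := by rw [h4]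
      _ ≤ (Xk * (Yk * Vk)).rank := Matrix.rank_mul_le_left _ _
      _ ≤ (Yk * Vk).rank := Matrix.rank_mul_le_right _ _
  rw [← rank_map_eq f Ω, hΩmap]
  exact le_antisymm hle hge

end Cfsg.Agent.Helper6.Rob
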