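import Mathlib
import Cfsg.Prelude.Def_Characters
import Cfsg.Prelude.Def_Blocks
import Cfsg.Agent.Helper6.RobC
import Cfsg.Agent.Helper6.WeakOrth
import Cfsg.Agent.Helper6.BlockAction
import Cfsg.Agent.Helper6.BrauerPair
import Cfsg.Agent.Helper6.Induced
import Cfsg.Agent.Helper6.PowCongr
import Cfsg.Agent.Helper6.Osima3
import Cfsg.Agent.Helper6.HeightZeroTrunc

/-!
# Robinson's rank formula (S4443), part D: the block decomposition of the counting formula
-/

set_option autoImplicit false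
set_option linter.style.haveILetI false
set_option linter.unusedSimpArgs false

namespace Cfsg.Agent.Helper6.Rob

open Cfsg.Agent.Helper6
open scoped ComplexConjugate

universe u

variable {G : Type u} [Group G] {M : Ideal Cfsg.AlgInt}

/-- the block sum of `conj (χ a)` against the sum of `conj χ` over a `p`-subgroup -/
theorem sum_block_conj_mul_sum_pgroup [Fintype G] [Fintype (Cfsg.IrrCharacter G)]
    (hM : M.IsMaximal) (p : ℕ) [hp : Fact p.Prime] (hpM : (p : Cfsg.AlgInt) ∈ M)
    (B : Set (Cfsg.IrrCharacter G)) (hB : Cfsg.IsPBlock M B) (a : G) (ha : ¬ p ∣ orderOf a)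
    (S : Subgroup G) [Fintype S] (hS : IsPGroup p S) [DecidablePred (· ∈ B)] :
    ∑ χ : Cfsg.IrrCharacter G, (if χ ∈ B then
      conj ((χ : G → ℂ) a) * ∑ s : S, conj ((χ : G → ℂ) (s : G)) else 0) =
      (Nat.card G : ℂ) * Cfsg.blockCoeff B a := by
  have hG0 : (Nat.card G : ℂ) ≠ 0 := by
    have : 0 < Nat.card G := Nat.card_pos
    exact_mod_cast this.ne'
  have h1 : ∀ χ : Cfsg.IrrCharacter G, (if χ ∈ B then
      conj ((χ : G → ℂ) a) * ∑ s : S, conj ((χ : G → ℂ) (s : G)) else 0) =
      ∑ s : S, (if χ ∈ B then conj ((χ : G → ℂ) a) * conj ((χ : G → ℂ) (s : G)) else 0) := by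
    intro χ
    split_ifs
    · rw [Finset.mul_sum]
    · rw [Finset.sum_const_zero]
  simp_rw [h1]
  rw [Finset.sum_comm]
  rw [Finset.sum_eq_single (1 : S)]
  · unfold Cfsg.blockCoeff
    rw [finsum_mem_eq_sum_ite, ← mul_assoc, mul_inv_cancel₀ hG0, one_mul]
    apply Finset.sum_congr rfl
    intro χ _
    split_ifs with hχ
    · obtain ⟨d, -, hd1⟩ := IsIrrCharacter.apply_one_pos χ.2
      rw [Subgroup.coe_one, hd1, Complex.conj_natCast, mul_comm]
    · rfl
  · intro s _ hs1
    have hsing : p ∣ orderOf ((s : G)⁻¹) := by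
      rw [orderOf_inv]
      obtain ⟨k, hk⟩ := (IsPGroup.iff_orderOf.mp hS) s
      rw [← Subgroup.orderOf_coe] at hk
      rw [hk]
      rcases Nat.eq_zero_or_pos k with h0 | hpos
      · exfalso
        rw [h0, pow_zero, orderOf_eq_one_iff] at hk
        apply hs1
        exact Subtype.ext hk
      · exact dvd_pow_self p hpos.ne'
    have hw := weak_block_orthogonality hM p hpM B hB a (s : G)⁻¹ ha hsing
    rw [finsum_mem_eq_sum_ite] at hw
    have hw' := congrArg conj hw
    rw [map_sum, map_zero] at hw'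
    refine Eq.trans ?_ hw'
    apply Finset.sum_congr rfl
    intro χ _
    by_cases hχ : χ ∈ B
    · rw [if_pos hχ, if_pos hχ, map_mul, Complex.conj_conj,
        IsCharacter.inv_eq_conj (IsIrrCharacter.isCharacter χ.2) (s : G)]
    · rw [if_neg hχ, if_neg hχ, map_zero]
  · intro h
    exact absurd (Finset.mem_univ _) h

/-- a sum over the irreducible characters, block by block -/
theorem sum_irr_eq_sum_blocks [Fintype (Cfsg.IrrCharacter G)] (hM : M.IsMaximal)
    (F : Cfsg.IrrCharacter G → ℂ) [∀ B : Set (Cfsg.IrrCharacter G), DecidablePred (· ∈ B)] :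
    ∑ χ : Cfsg.IrrCharacter G, F χ =
      ∑ B ∈ blockFinset M G, ∑ χ : Cfsg.IrrCharacter G, (if χ ∈ B then F χ else 0) := by
  classical
  rw [Finset.sum_comm]
  apply Finset.sum_congr rfl
  intro χ _
  rw [Finset.sum_eq_single (Cfsg.blockOf M (χ : G → ℂ))]
  · rw [if_pos (mem_blockOf_self hM χ)]
  · intro f hf hne
    rw [if_neg]
    intro hθ
    apply hne
    exact eq_blockOf_of_mem hM f ((mem_blockFinset f).mp hf) χ hθ
  · intro h
    exact absurd ((mem_blockFinset _).mpr ⟨χ, rfl⟩) h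

/-- the multiplicity of the trivial character in the restriction to a subgroup -/
theorem exists_nat_sum_conj [Fintype G] (S : Subgroup G) [Fintype S] (χ : Cfsg.IrrCharacter G) :
    ∃ n : ℕ, ∑ s : S, conj ((χ : G → ℂ) (s : G)) = (Nat.card S : ℂ) * n := by
  obtain ⟨n, hn⟩ := classInner_char_char_nat (G := S) (isCharacter_one (G := S))
    (IsCharacter.restrict S (IsIrrCharacter.isCharacter χ.2))
  refine ⟨n, ?_⟩
  have hS0 : (Nat.card S : ℂ) ≠ 0 := by
    have : 0 < Nat.card S := Nat.card_pos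
    exact_mod_cast this.ne'
  rw [← hn]
  unfold Cfsg.classInner
  rw [← mul_assoc, mul_inv_cancel₀ hS0, one_mul]
  apply Finset.sum_congr rfl
  intro s _
  rw [one_mul]

/-- **the counting congruence**: modulo the local ideal the character sum of the counting
formula can be evaluated block by block. -/
theorem counting_congruence [Fintype G] [Fintype (Cfsg.IrrCharacter G)]
    (hM : M.IsMaximal) (p : ℕ) [hp : Fact p.Prime] (hpM : (p : Cfsg.AlgInt) ∈ M)
    (rep : Set (Cfsg.IrrCharacter G) → Cfsg.IrrCharacter G)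
    (hrep : ∀ B, Cfsg.IsPBlock M B → rep B ∈ B)
    (a b : G) (ha : ¬ p ∣ orderOf a) (S : Subgroup G) [Fintype S] (hS : IsPGroup p S) :
    Cfsg.MemLocalIdeal M
      ((Nat.card S : ℂ)⁻¹ * (∑ χ : Cfsg.IrrCharacter G, Cfsg.centralChar (χ : G → ℂ) b *
          conj ((χ : G → ℂ) a) * ∑ s : S, conj ((χ : G → ℂ) (s : G))) -
        (Nat.card G : ℂ) / (Nat.card S : ℂ) * ∑ B ∈ blockFinset M G,
          Cfsg.blockCoeff B a * Cfsg.centralChar (rep B : G → ℂ) b) := by
  classical
  have hS0 : (Nat.card S : ℂ) ≠ 0 := by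
    have : 0 < Nat.card S := Nat.card_pos
    exact_mod_cast this.ne'
  choose n hn using exists_nat_sum_conj S
  rw [sum_irr_eq_sum_blocks hM, Finset.mul_sum, Finset.mul_sum, ← Finset.sum_sub_distrib]
  apply MemLocalIdeal.sum hM
  intro B hB
  have hBb : Cfsg.IsPBlock M B := (mem_blockFinset B).mp hB
  have h1 := sum_block_conj_mul_sum_pgroup hM p hpM B hBb a ha S hS
  have h2 : (Nat.card G : ℂ) / (Nat.card S : ℂ) *
      (Cfsg.blockCoeff B a * Cfsg.centralChar (rep B : G → ℂ) b) =
      (Nat.card S : ℂ)⁻¹ * ∑ χ : Cfsg.IrrCharacter G, (if χ ∈ B then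
        Cfsg.centralChar (rep B : G → ℂ) b *
          conj ((χ : G → ℂ) a) * ∑ s : S, conj ((χ : G → ℂ) (s : G)) else 0) := by
    have h3 : ∀ χ : Cfsg.IrrCharacter G, (if χ ∈ B then
        Cfsg.centralChar (rep B : G → ℂ) b *
          conj ((χ : G → ℂ) a) * ∑ s : S, conj ((χ : G → ℂ) (s : G)) else 0) =
        Cfsg.centralChar (rep B : G → ℂ) b * (if χ ∈ B then
          conj ((χ : G → ℂ) a) * ∑ s : S, conj ((χ : G → ℂ) (s : G)) else 0) := by
      intro χ
      split_ifs
      · rw [mul_assoc]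
      · rw [mul_zero]
    simp_rw [h3]
    rw [← Finset.mul_sum, h1]
    field_simp
  rw [h2, ← mul_sub, ← Finset.sum_sub_distrib, Finset.mul_sum]
  apply MemLocalIdeal.sum hM
  intro χ _
  split_ifs with hχ
  · rw [hn χ]
    have h4 : (Nat.card S : ℂ)⁻¹ * (Cfsg.centralChar (χ : G → ℂ) b * conj ((χ : G → ℂ) a) *
        ((Nat.card S : ℂ) * (n χ : ℂ)) - Cfsg.centralChar (rep B : G → ℂ) b *
        conj ((χ : G → ℂ) a) * ((Nat.card S : ℂ) * (n χ : ℂ))) =
        (conj ((χ : G → ℂ) a) * (n χ : ℂ)) * (Cfsg.centralChar (χ : G → ℂ) b -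
          Cfsg.centralChar (rep B : G → ℂ) b) := by
      field_simp
    rw [h4]
    apply MemLocalIdeal.mul_left hM
    · apply MemLocalRing.mul hM
      · apply memLocalRing_of_isIntegral hM
        have hint : IsIntegral ℤ ((χ : G → ℂ) a) :=
          IsCharacter.isIntegral_value (IsIrrCharacter.isCharacter χ.2) a
        exact hint.map (starRingEnd ℂ).toIntAlgHom
      · exact memLocalRing_natCast hM _
    · exact sameBlock_of_mem_block hM B hBb hχ (hrep B hBb) b
  · rw [sub_zero, mul_zero]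
    exact memLocalIdeal_zero hM

end Cfsg.Agent.Helper6.Rob
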