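import Mathlib
import Cfsg.Prelude.Def_Characters
import Cfsg.Prelude.Def_Blocks
import Cfsg.Agent.Helper6.RobD
import Cfsg.Agent.Helper6.NormalComplementBlock
import Cfsg.Agent.Helper6.DefectClassValues

/-!
# Robinson's rank formula (S4443), part E: divisibility and the congruence for the counts
-/

set_option autoImplicit false
set_option linter.style.haveILetI false
set_option linter.unusedSimpArgs false

namespace Cfsg.Agent.Helper6.Rob

open Cfsg.Agent.Helper6
open scoped ComplexConjugate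

universe u

variable {G : Type u} [Group G] {M : Ideal Cfsg.AlgInt}

/-- the `p'`-part of a positive natural number is prime to `p` -/
theorem not_dvd_div_pow_factorization (p : ℕ) [hp : Fact p.Prime] (n : ℕ) (hn : n ≠ 0) :
    ¬ p ∣ n / p ^ n.factorization p :=
  Nat.not_dvd_ordCompl hp.out hn

/-- **divisibility and congruence for the counts** -/
theorem count_div_congruence [Fintype G] [Fintype (Cfsg.IrrCharacter G)]
    {p : ℕ} [hp : Fact p.Prime] (hM : Cfsg.IsPModular p M)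
    (rep : Set (Cfsg.IrrCharacter G) → Cfsg.IrrCharacter G)
    (hrep : ∀ B, Cfsg.IsPBlock M B → rep B ∈ B)
    (a b : G) (ha : ¬ p ∣ orderOf a) (S : Sylow p G) (d : ℕ)
    (hd : (Nat.card (Subgroup.centralizer ({a} : Set G))).factorization p = d) :
    p ^ ((Nat.card G).factorization p - d) ∣
      Nat.card {yz : G × G // yz.1 ∈ (ConjClasses.mk a).carrier ∧
        yz.2 ∈ (ConjClasses.mk b).carrier ∧ yz.2 * yz.1⁻¹ ∈ (S : Subgroup G)} ∧
    Cfsg.MemLocalIdeal M
      (((Nat.card {yz : G × G // yz.1 ∈ (ConjClasses.mk a).carrier ∧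
        yz.2 ∈ (ConjClasses.mk b).carrier ∧ yz.2 * yz.1⁻¹ ∈ (S : Subgroup G)} /
          p ^ ((Nat.card G).factorization p - d) : ℕ) : ℂ) -
        ∑ B ∈ blockFinset M G,
          (((Nat.card G / p ^ (Nat.card G).factorization p : ℕ) : ℂ) /
            ((Nat.card (Subgroup.centralizer ({a} : Set G)) / p ^ d : ℕ) : ℂ) *
              Cfsg.blockCoeff B a) * Cfsg.centralChar (rep B : G → ℂ) b) := by
  classical
  have hMm := hM.2.1
  have hpM := hM.2.2
  haveI : Fintype (S : Subgroup G) := Fintype.ofFinite _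
  set A := (Nat.card G).factorization p with hA
  set ω := Nat.card {yz : G × G // yz.1 ∈ (ConjClasses.mk a).carrier ∧
        yz.2 ∈ (ConjClasses.mk b).carrier ∧ yz.2 * yz.1⁻¹ ∈ (S : Subgroup G)} with hω
  set C := Subgroup.centralizer ({a} : Set G) with hC
  set m := Nat.card G / p ^ A with hm
  set c' := Nat.card C / p ^ d with hc'
  have hG0 : Nat.card G ≠ 0 := Nat.card_pos.ne'
  have hC0 : Nat.card C ≠ 0 := Nat.card_pos.ne'
  have hp0 : (p : ℂ) ≠ 0 := by exact_mod_cast hp.out.ne_zero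
  have hmG : p ^ A * m = Nat.card G := Nat.ordProj_mul_ordCompl_eq_self (Nat.card G) p
  have hcC : p ^ d * c' = Nat.card C := by
    rw [hc', ← hd]
    exact Nat.ordProj_mul_ordCompl_eq_self (Nat.card C) p
  have hm_nd : ¬ p ∣ m := not_dvd_div_pow_factorization p _ hG0
  have hc_nd : ¬ p ∣ c' := by
    rw [hc', ← hd]
    exact not_dvd_div_pow_factorization p _ hC0
  have hc0 : (c' : ℂ) ≠ 0 := by
    have : c' ≠ 0 := fun h => hc_nd (h ▸ dvd_zero p)
    exact_mod_cast this
  have hdA : d ≤ A := by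
    rw [← hd, hA]
    have hdvd : Nat.card C ∣ Nat.card G := Subgroup.card_subgroup_dvd_card C
    exact (Nat.factorization_le_iff_dvd hC0 hG0).mpr hdvd p
  have hScard : Nat.card (S : Subgroup G) = p ^ A := S.card_eq_multiplicity
  -- the two ingredients
  have hform := card_pairs_mul_card_centralizer (S : Subgroup G) a b
  have hcong := counting_congruence hMm p hpM rep hrep a b ha (S : Subgroup G) S.isPGroup'
  rw [← hform, hScard] at hcong
  set Sg := ∑ B ∈ blockFinset M G,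
      Cfsg.blockCoeff B a * Cfsg.centralChar (rep B : G → ℂ) b with hSg
  have hSgloc : Cfsg.MemLocalRing M Sg := by
    apply MemLocalRing.sum hMm
    intro B hB
    apply MemLocalRing.mul hMm
    · exact osima hMm B ((mem_blockFinset B).mp hB) a
    · exact memLocalRing_of_isIntegral hMm (isIntegral_centralChar _ b)
  have hmc : Cfsg.MemLocalRing M ((m : ℂ) / (c' : ℂ)) :=
    memLocalRing_natCast_div hMm p hp.out hpM m c' hc_nd
  have hinvc : Cfsg.MemLocalRing M ((1 : ℂ) / (c' : ℂ)) := by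
    have := memLocalRing_natCast_div hMm p hp.out hpM 1 c' hc_nd
    rwa [Nat.cast_one] at this
  -- rewrite the congruence
  have hpow : (p : ℂ) ^ A = (p : ℂ) ^ (A - d) * (p : ℂ) ^ d := by
    rw [← pow_add, Nat.sub_add_cancel hdA]
  have hpAd0 : (p : ℂ) ^ (A - d) ≠ 0 := pow_ne_zero _ hp0
  have hpd0 : (p : ℂ) ^ d ≠ 0 := pow_ne_zero _ hp0
  have hkey : ((1 : ℂ) / (c' : ℂ)) * (((p ^ A : ℕ) : ℂ)⁻¹ * ((ω : ℂ) * (Nat.card C : ℂ)) -
      (Nat.card G : ℂ) / ((p ^ A : ℕ) : ℂ) * Sg) =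
      (ω : ℂ) / (p : ℂ) ^ (A - d) - (m : ℂ) / (c' : ℂ) * Sg := by
    rw [← hmG, ← hcC]
    push_cast
    rw [hpow]
    field_simp
  have hcong2 : Cfsg.MemLocalIdeal M
      ((ω : ℂ) / (p : ℂ) ^ (A - d) - (m : ℂ) / (c' : ℂ) * Sg) := by
    rw [← hkey]
    exact MemLocalIdeal.mul_left hMm hinvc hcong
  -- divisibility
  have hloc : Cfsg.MemLocalRing M ((ω : ℂ) / (p : ℂ) ^ (A - d)) := by
    have h1 : (ω : ℂ) / (p : ℂ) ^ (A - d) =
        ((ω : ℂ) / (p : ℂ) ^ (A - d) - (m : ℂ) / (c' : ℂ) * Sg) + (m : ℂ) / (c' : ℂ) * Sg := by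
      ring
    rw [h1]
    have h2 : Cfsg.MemLocalRing M
        ((ω : ℂ) / (p : ℂ) ^ (A - d) - (m : ℂ) / (c' : ℂ) * Sg) := by
      obtain ⟨x, y, -, hy, hxy⟩ := hcong2
      exact ⟨x, y, hy, hxy⟩
    exact MemLocalRing.add hMm h2 (MemLocalRing.mul hMm hmc hSgloc)
  have hdvd : p ^ (A - d) ∣ ω := by
    apply pow_dvd_of_memLocalRing p hMm hpM ω 1 (A - d) (Nat.Prime.not_dvd_one hp.out)
    rw [mul_one]
    push_cast
    exact hloc
  refine ⟨hdvd, ?_⟩
  have hcast : ((ω / p ^ (A - d) : ℕ) : ℂ) = (ω : ℂ) / (p : ℂ) ^ (A - d) := by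
    rw [Nat.cast_div hdvd (by exact_mod_cast hpAd0)]
    push_cast
    rfl
  rw [hcast]
  have hsum : ∑ B ∈ blockFinset M G, ((m : ℂ) / (c' : ℂ) * Cfsg.blockCoeff B a) *
      Cfsg.centralChar (rep B : G → ℂ) b = (m : ℂ) / (c' : ℂ) * Sg := by
    rw [hSg, Finset.mul_sum]
    apply Finset.sum_congr rfl
    intro B _
    ring
  rw [hsum]
  exact hcong2

end Cfsg.Agent.Helper6.Rob
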