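import Mathlib
import Cfsg.Prelude.Def_Characters
import Cfsg.Prelude.Def_Blocks
import Cfsg.Agent.Helper6.LocalSubring
import Cfsg.Agent.Helper6.MinMax1
import Cfsg.Agent.Helper6.HeightZeroTrunc

/-!
# Determinant expansion of a product of rectangular matrices, and local-ring bookkeeping
-/

set_option autoImplicit false
set_option linter.style.haveILetI false

namespace Cfsg.Agent.Helper6.SepCls

open Matrix

universe u

/-- the determinant of a product of an `r × ι` and an `ι × r` matrix, expanded by multilinearity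
in the columns -/
theorem det_mul_expand {r : ℕ} {ι : Type*} [Fintype ι] [DecidableEq ι]
    (Ω : Matrix (Fin r) ι ℂ) (C : Matrix ι (Fin r) ℂ) :
    (Ω * C).det = ∑ f : Fin r → ι, (∏ j, C (f j) j) * (Matrix.of fun i j => Ω i (f j)).det := by
  have h1 : (Ω * C).det = Matrix.detRowAlternating
      (fun j : Fin r => ∑ χ : ι, C χ j • (fun i : Fin r => Ω i χ)) := by
    rw [← Matrix.det_transpose]
    change (Ω * C)ᵀ.det = Matrix.det (fun j : Fin r => ∑ χ : ι, C χ j • (fun i : Fin r => Ω i χ))
    congr 1
    ext j i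
    rw [Matrix.transpose_apply, Matrix.mul_apply, Finset.sum_apply]
    apply Finset.sum_congr rfl
    intro χ _
    rw [Pi.smul_apply, smul_eq_mul, mul_comm]
  rw [h1]
  have h2 := (Matrix.detRowAlternating (n := Fin r) (R := ℂ)).toMultilinearMap.map_sum
    (fun (j : Fin r) (χ : ι) => C χ j • (fun i : Fin r => Ω i χ))
  change Matrix.detRowAlternating
      (fun j : Fin r => ∑ χ : ι, C χ j • (fun i : Fin r => Ω i χ)) = _ at h2
  rw [h2]
  apply Finset.sum_congr rfl
  intro f _
  have h3 := (Matrix.detRowAlternating (n := Fin r) (R := ℂ)).toMultilinearMap.map_smul_univ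
    (fun j : Fin r => C (f j) j) (fun j : Fin r => (fun i : Fin r => Ω i (f j)))
  refine h3.trans ?_
  rw [smul_eq_mul]
  congr 1
  change Matrix.det (fun j : Fin r => (fun i : Fin r => Ω i (f j))) = _
  rw [← Matrix.det_transpose]
  rfl

variable {M : Ideal Cfsg.AlgInt}

/-- the determinant of a matrix over the local ring lies in the local ring -/
theorem det_memLocalRing (hM : M.IsMaximal) {n : Type*} [Fintype n] [DecidableEq n]
    (A : Matrix n n ℂ) (hA : ∀ i j, Cfsg.MemLocalRing M (A i j)) :
    Cfsg.MemLocalRing M A.det := by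
  set R := localSubring M hM with hR
  let A' : Matrix n n R := fun i j => ⟨A i j, hA i j⟩
  have hA' : A = A'.map R.subtype := by
    ext i j
    rfl
  have h1 : A.det = R.subtype A'.det := by
    rw [hA']
    exact (RingHom.map_det R.subtype A').symm
  rw [h1]
  exact (A'.det).2

theorem prod_memLocalRing (hM : M.IsMaximal) {ι : Type*} (s : Finset ι) (c : ι → ℂ)
    (hc : ∀ i ∈ s, Cfsg.MemLocalRing M (c i)) : Cfsg.MemLocalRing M (∏ i ∈ s, c i) := by
  classical
  induction s using Finset.induction_on with
  | empty => rw [Finset.prod_empty]; exact memLocalRing_one hM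
  | insert a s ha ih =>
    rw [Finset.prod_insert ha]
    exact MemLocalRing.mul hM (hc a (Finset.mem_insert_self a s))
      (ih (fun i hi => hc i (Finset.mem_insert_of_mem hi)))

/-- a product one of whose factors lies in the local ideal lies in the local ideal -/
theorem prod_memLocalIdeal (hM : M.IsMaximal) {ι : Type*} [DecidableEq ι] (s : Finset ι)
    (c : ι → ℂ) (hc : ∀ i ∈ s, Cfsg.MemLocalRing M (c i)) (i₀ : ι) (hi₀ : i₀ ∈ s)
    (h : Cfsg.MemLocalIdeal M (c i₀)) : Cfsg.MemLocalIdeal M (∏ i ∈ s, c i) := by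
  rw [← Finset.mul_prod_erase s c hi₀, mul_comm]
  exact MemLocalIdeal.mul_left hM
    (prod_memLocalRing hM _ c (fun i hi => hc i (Finset.mem_of_mem_erase hi))) h

end Cfsg.Agent.Helper6.SepCls
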