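import Mathlib
import Cfsg.Prelude.Def_Characters
import Cfsg.Prelude.Def_Blocks
import Cfsg.Agent.Helper6.StructConst
import Cfsg.Agent.Helper6.Expansion
import Cfsg.Agent.Helper6.Induced
import Cfsg.Agent.Helper6.Degrees

/-!
# A counting identity for classes whose quotients avoid the nontrivial `p`-elements
-/

set_option autoImplicit false
set_option linter.style.haveILetI false

namespace Cfsg.Agent.Helper6.SepCls

open scoped ComplexConjugate

universe u

variable {G : Type u} [Group G] [Fintype G]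

/-- an induced function vanishes off the conjugates of the subgroup -/
theorem indFun_eq_zero_of_not_conj (S : Subgroup G) (θ : S → ℂ) (t : G)
    (h : ∀ y : G, y⁻¹ * t * y ∉ S) : Cfsg.indFun S θ t = 0 := by
  rw [indFun_apply]
  have : ∀ y : G, Cfsg.extendByZero S θ (y⁻¹ * t * y) = 0 := fun y =>
    extendByZero_not_mem S θ (h y)
  simp only [this, Finset.sum_const_zero, mul_zero]

open Classical in
/-- the structure constant at the identity -/
theorem card_classPairs_one (a b : G) :
    (classPairs a b 1).card = if IsConj a b⁻¹ then (classFinset b).card else 0 := by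
  classical
  split_ifs with hab
  · symm
    apply Finset.card_bij (fun v _ => (v⁻¹, v))
    · intro v hv
      rw [mem_classFinset] at hv
      rw [mem_classPairs]
      refine ⟨?_, hv, inv_mul_cancel v⟩
      obtain ⟨c, hc⟩ := isConj_iff.mp hv
      exact hab.trans (isConj_iff.mpr ⟨c, by rw [← hc]; group⟩)
    · intro v _ w _ hvw
      exact (Prod.ext_iff.mp hvw).2
    · intro q hq
      rw [mem_classPairs] at hq
      refine ⟨q.2, (mem_classFinset _ _).mpr hq.2.1, ?_⟩
      apply Prod.ext
      · exact (eq_inv_of_mul_eq_one_left hq.2.2).symm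
      · rfl
  · rw [Finset.card_eq_zero, Finset.eq_empty_iff_forall_notMem]
    intro q hq
    rw [mem_classPairs] at hq
    apply hab
    have h1 : q.1 = q.2⁻¹ := eq_inv_of_mul_eq_one_left hq.2.2
    obtain ⟨c, hc⟩ := isConj_iff.mp hq.2.1
    refine hq.1.trans (isConj_iff.mpr ⟨c⁻¹, ?_⟩)
    rw [h1, ← hc]
    group

/-- **the counting identity** -/
theorem counting_identity (p : ℕ) [hp : Fact p.Prime] (S : Sylow p G) {r : ℕ} (x : Fin r → G)
    (hx : ∀ i j : Fin r, IsConj (x i) (x j) → i = j)
    (hsep : ∀ i j : Fin r, ∀ g h : G, IsConj (x i) g → IsConj (x j) h → ∀ k : ℕ, 0 < k →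
      orderOf (g * h⁻¹) ≠ p ^ k) [Fintype (Cfsg.IrrCharacter G)] (i j : Fin r) :
    ∑ χ : Cfsg.IrrCharacter G, Cfsg.centralChar (χ : G → ℂ) (x i) *
        (Cfsg.classInner (Cfsg.indFun (S : Subgroup G) (fun _ => (1 : ℂ))) (χ : G → ℂ) *
          (χ : G → ℂ) (x j)⁻¹) =
      if i = j then ((S : Subgroup G).index : ℂ) else 0 := by
  classical
  set π : G → ℂ := Cfsg.indFun (S : Subgroup G) (fun _ => (1 : ℂ)) with hπ
  have hπcf : Cfsg.IsClassFunction G π := indFun_isClassFunction _ _
  set N : ℕ := (Subgroup.centralizer ({(x j)⁻¹} : Set G)).index with hN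
  have hN0 : (N : ℂ) ≠ 0 := by
    have : N ≠ 0 := Subgroup.index_ne_zero_of_finite
    exact_mod_cast this
  -- the product formula, cleared of denominators
  have key : ∀ χ : Cfsg.IrrCharacter G, Cfsg.centralChar (χ : G → ℂ) (x i) *
      ((N : ℂ) * (χ : G → ℂ) (x j)⁻¹) =
      ∑ t : G, ((classPairs (x i) (x j)⁻¹ t).card : ℂ) * (χ : G → ℂ) t := by
    intro χ
    have hχ1 : (χ : G → ℂ) 1 ≠ 0 := IsIrrCharacter.apply_one_ne_zero χ.2
    have h1 := centralChar_mul_centralChar χ (x i) (x j)⁻¹
    rw [← Finset.sum_div] at h1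
    have h2 : Cfsg.centralChar (χ : G → ℂ) (x j)⁻¹ =
        (N : ℂ) * (χ : G → ℂ) (x j)⁻¹ / (χ : G → ℂ) 1 := rfl
    rw [h2] at h1
    field_simp at h1
    rw [← h1]
    ring
  -- sum against the multiplicities
  have hexp := classFunction_expansion π hπcf
  have hsum : (N : ℂ) * ∑ χ : Cfsg.IrrCharacter G, Cfsg.centralChar (χ : G → ℂ) (x i) *
      (Cfsg.classInner π (χ : G → ℂ) * (χ : G → ℂ) (x j)⁻¹) =
      ∑ t : G, ((classPairs (x i) (x j)⁻¹ t).card : ℂ) * π t := by
    have h3 : ∀ t : G, π t = ∑ χ : Cfsg.IrrCharacter G,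
        Cfsg.classInner π (χ : G → ℂ) * (χ : G → ℂ) t := by
      intro t
      conv_lhs => rw [hexp]
      rw [Finset.sum_apply]
      rfl
    simp_rw [h3, Finset.mul_sum]
    rw [Finset.sum_comm]
    apply Finset.sum_congr rfl
    intro χ _
    calc (N : ℂ) * (Cfsg.centralChar (χ : G → ℂ) (x i) *
          (Cfsg.classInner π (χ : G → ℂ) * (χ : G → ℂ) (x j)⁻¹))
        = Cfsg.classInner π (χ : G → ℂ) * (Cfsg.centralChar (χ : G → ℂ) (x i) *
          ((N : ℂ) * (χ : G → ℂ) (x j)⁻¹)) := by ring
      _ = Cfsg.classInner π (χ : G → ℂ) *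
          ∑ t : G, ((classPairs (x i) (x j)⁻¹ t).card : ℂ) * (χ : G → ℂ) t := by rw [key χ]
      _ = _ := by
        rw [Finset.mul_sum]
        apply Finset.sum_congr rfl
        intro t _
        ring
  -- only the identity contributes
  have hzero : ∀ t : G, t ≠ 1 → ((classPairs (x i) (x j)⁻¹ t).card : ℂ) * π t = 0 := by
    intro t ht
    by_cases hcard : (classPairs (x i) (x j)⁻¹ t).card = 0
    · rw [hcard, Nat.cast_zero, zero_mul]
    · obtain ⟨q, hq⟩ := Finset.card_pos.mp (Nat.pos_of_ne_zero hcard)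
      rw [mem_classPairs] at hq
      have hπt : π t = 0 := by
        apply indFun_eq_zero_of_not_conj
        intro y hy
        obtain ⟨k, hk⟩ := (IsPGroup.iff_orderOf.mp S.isPGroup') ⟨y⁻¹ * t * y, hy⟩
        rw [← Subgroup.orderOf_coe] at hk
        have hk' : orderOf t = p ^ k := by
          have hsc : SemiconjBy y⁻¹ t (y⁻¹ * t * y) := by
            unfold SemiconjBy
            group
          rw [← hk, Subgroup.coe_mk]
          exact hsc.orderOf_eq
        rcases Nat.eq_zero_or_pos k with h0 | hpos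
        · rw [h0, pow_zero, orderOf_eq_one_iff] at hk'
          exact ht hk'
        · have hconj : IsConj (x j) q.2⁻¹ := by
            obtain ⟨c, hc⟩ := isConj_iff.mp hq.2.1
            exact isConj_iff.mpr ⟨c, by rw [← hc]; group⟩
          have := hsep i j q.1 q.2⁻¹ hq.1 hconj k hpos
          rw [inv_inv, hq.2.2] at this
          exact this hk'
      rw [hπt, mul_zero]
  rw [Finset.sum_eq_single 1 (fun t _ ht => hzero t ht) (fun h => absurd (Finset.mem_univ _) h)]
    at hsum
  rw [card_classPairs_one, inv_inv, hπ, indFun_apply_one, mul_one, card_classFinset, ← hN] at hsum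
  apply mul_left_cancel₀ hN0
  rw [hsum]
  by_cases hij : i = j
  · subst hij
    rw [if_pos (IsConj.refl _), if_pos rfl]
  · rw [if_neg (fun h => hij (hx i j h)), if_neg hij]
    simp

end Cfsg.Agent.Helper6.SepCls
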