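import Mathlib
import Cfsg.Prelude.Def_Characters
import Cfsg.Prelude.Def_Blocks
import Cfsg.Agent.Helper6.SepClsA
import Cfsg.Agent.Helper6.InducedPart
import Cfsg.Agent.Helper6.Osima3
import Cfsg.Agent.Helper6.BlockPart

/-!
# Auxiliary lemmas: values in the local ideal, Sylow conjugacy inside a subgroup, determinants
with a column in the local ideal
-/

set_option autoImplicit false
set_option linter.style.haveILetI false

namespace Cfsg.Agent.Helper6.SepCls

open Matrix

universe u

variable {G : Type u} [Group G] {M : Ideal Cfsg.AlgInt}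

theorem centralizer_singleton_inv (g : G) :
    Subgroup.centralizer ({g⁻¹} : Set G) = Subgroup.centralizer ({g} : Set G) := by
  ext y
  rw [Subgroup.mem_centralizer_singleton_iff, Subgroup.mem_centralizer_singleton_iff]
  constructor
  · intro h
    have h1 : g * (y * g⁻¹) * g = g * (g⁻¹ * y) * g := by rw [h]
    have h2 : g * (y * g⁻¹) * g = g * y := by group
    have h3 : g * (g⁻¹ * y) * g = y * g := by group
    rw [h2, h3] at h1
    exact h1.symm
  · intro h
    have h1 : g⁻¹ * (y * g) * g⁻¹ = g⁻¹ * (g * y) * g⁻¹ := by rw [h]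
    have h2 : g⁻¹ * (y * g) * g⁻¹ = g⁻¹ * y := by group
    have h3 : g⁻¹ * (g * y) * g⁻¹ = y * g⁻¹ := by group
    rw [h2, h3] at h1
    exact h1.symm

/-- an irreducible character whose degree has larger `p`-part than the class size vanishes
modulo the local ideal -/
theorem apply_memLocalIdeal_of_lt [Finite G] {p : ℕ} [hp : Fact p.Prime]
    (hM : Cfsg.IsPModular p M) (χ : Cfsg.IrrCharacter G) (g : G)
    (h : ((Subgroup.centralizer ({g} : Set G)).index).factorization p <
      (Cfsg.charDegree (χ : G → ℂ)).factorization p) :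
    Cfsg.MemLocalIdeal M ((χ : G → ℂ) g) := by
  have hint := isIntegral_centralChar χ g
  set N := (Subgroup.centralizer ({g} : Set G)).index with hN
  set d := Cfsg.charDegree (χ : G → ℂ) with hd
  have hN0 : N ≠ 0 := Subgroup.index_ne_zero_of_finite
  have hd0 : d ≠ 0 := charDegree_ne_zero_of_irr χ.2
  have hNc : (N : ℂ) ≠ 0 := by exact_mod_cast hN0
  have hdc : (d : ℂ) ≠ 0 := by exact_mod_cast hd0
  have hdeg : (d : ℂ) = (χ : G → ℂ) 1 :=
    charDegree_cast_of_isCharacter (IsIrrCharacter.isCharacter χ.2)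
  have heq : (χ : G → ℂ) g = Cfsg.centralChar (χ : G → ℂ) g * ((d : ℂ) / (N : ℂ)) := by
    unfold Cfsg.centralChar
    rw [← hN, ← hdeg]
    field_simp
  rw [heq]
  exact MemLocalIdeal.mul_left hM.2.1 (memLocalRing_of_isIntegral hM.2.1 hint)
    ((memLocalIdeal_natCast_div_iff hM d N hd0 hN0).mpr h)

/-- a `p`-subgroup of `C` that is at least as large as a Sylow `p`-subgroup of `C` is conjugate
to it -/
theorem exists_conj_eq_of_card_le [Finite G] {p : ℕ} [hp : Fact p.Prime] (C Q D : Subgroup G)
    (hQC : Q ≤ C) (Si : Sylow p C) (hSi : (Si : Subgroup C).map C.subtype = D)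
    (hQ : IsPGroup p Q) (hcard : Nat.card D ≤ Nat.card Q) :
    ∃ c : G, Q.map (MulAut.conj c).toMonoidHom = D := by
  have hQ' : IsPGroup p (Q.subgroupOf C) := hQ.comap_subtype
  obtain ⟨P, hP⟩ := hQ'.exists_le_sylow
  obtain ⟨c, hc⟩ := MulAction.exists_smul_eq C P Si
  refine ⟨(c : G), ?_⟩
  have hle : Q.map (MulAut.conj (c : G)).toMonoidHom ≤ D := by
    rintro _ ⟨q, hq, rfl⟩
    rw [← hSi]
    have hqP : (⟨q, hQC hq⟩ : C) ∈ (P : Subgroup C) := hP (Subgroup.mem_subgroupOf.mpr hq)
    have hmem : c * ⟨q, hQC hq⟩ * c⁻¹ ∈ (Si : Subgroup C) := by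
      rw [← hc, Sylow.coe_subgroup_smul, Subgroup.mem_pointwise_smul_iff_inv_smul_mem]
      simp only [MulAut.smul_def, MulAut.conj_inv_apply]
      have e : c⁻¹ * (c * ⟨q, hQC hq⟩ * c⁻¹) * c = ⟨q, hQC hq⟩ := by group
      rw [e]
      exact hqP
    exact ⟨_, hmem, rfl⟩
  apply Subgroup.eq_of_le_of_card_ge hle
  rw [Subgroup.card_map_of_injective (MulAut.conj (c : G)).injective]
  exact hcard

/-- a matrix over the local ring with a column in the local ideal has determinant in the local
ideal -/
theorem det_memLocalIdeal_of_column (hM : M.IsMaximal) {n : Type*} [Fintype n] [DecidableEq n]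
    (A : Matrix n n ℂ) (hA : ∀ i j, Cfsg.MemLocalRing M (A i j)) (k : n)
    (hk : ∀ i, Cfsg.MemLocalIdeal M (A i k)) : Cfsg.MemLocalIdeal M A.det := by
  set A' : Matrix n n ℂ := Matrix.of fun i j => if j = k then 0 else A i j with hA'
  have hdet0 : A'.det = 0 := by
    apply Matrix.det_eq_zero_of_column_eq_zero k
    intro i
    rw [hA', Matrix.of_apply, if_pos rfl]
  have h := det_congr_mod hM A A' hA ?_ ?_
  · rwa [hdet0, sub_zero] at h
  · intro i j
    rw [hA', Matrix.of_apply]
    split_ifs with hj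
    · rw [hj, sub_zero]
      exact hk i
    · rw [sub_self]
      exact memLocalIdeal_zero hM
  · intro i j
    rw [hA', Matrix.of_apply]
    split_ifs
    · exact memLocalRing_zero hM
    · exact hA i j

/-- a matrix over the local ring with two columns congruent modulo the local ideal has
determinant in the local ideal -/
theorem det_memLocalIdeal_of_columns_congr (hM : M.IsMaximal) {n : Type*} [Fintype n]
    [DecidableEq n] (A : Matrix n n ℂ) (hA : ∀ i j, Cfsg.MemLocalRing M (A i j)) (k l : n)
    (hkl : k ≠ l) (h : ∀ i, Cfsg.MemLocalIdeal M (A i l - A i k)) :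
    Cfsg.MemLocalIdeal M A.det := by
  set A' : Matrix n n ℂ := Matrix.of fun i j => if j = l then A i k else A i j with hA'
  have hdet0 : A'.det = 0 := by
    apply Matrix.det_zero_of_column_eq hkl
    intro i
    rw [hA', Matrix.of_apply, Matrix.of_apply, if_neg hkl, if_pos rfl]
  have h2 := det_congr_mod hM A A' hA ?_ ?_
  · rwa [hdet0, sub_zero] at h2
  · intro i j
    rw [hA', Matrix.of_apply]
    split_ifs with hj
    · rw [hj]
      exact h i
    · rw [sub_self]
      exact memLocalIdeal_zero hM
  · intro i j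
    rw [hA', Matrix.of_apply]
    split_ifs
    · exact hA i k
    · exact hA i j

end Cfsg.Agent.Helper6.SepCls
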