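import Mathlib
import Cfsg.Prelude.Def_Characters
import Cfsg.Prelude.Def_Blocks
import Cfsg.Agent.Helper6.SepClsA
import Cfsg.Agent.Helper6.SepClsB
import Cfsg.Agent.Helper6.SepClsC
import Cfsg.Agent.Helper6.MinMax1
import Cfsg.Agent.Helper6.MinMaxOrder
import Cfsg.Agent.Helper6.DefectOrder
import Cfsg.Agent.Helper6.QuotDefA
import Cfsg.Agent.Helper6.BlockFusionRec1
import Cfsg.Agent.Helper6.DefectOneTwoA
import Cfsg.Agent.Helper6.DefectClass

/-!
# Blocks with a prescribed defect group from separated classes: the first half (choice of blocks)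
-/

set_option autoImplicit false
set_option linter.style.haveILetI false
set_option maxHeartbeats 1000000

namespace Cfsg.Agent.Helper6.SepCls

open Matrix
open scoped ComplexConjugate

universe u

variable {G : Type u} [Group G] [Finite G] {M : Ideal Cfsg.AlgInt}

/-- the selection of characters: a family `f` with nonvanishing determinant of central
characters and nonvanishing values -/
theorem exists_selection (p : ℕ) [hp : Fact p.Prime] (hM : Cfsg.IsPModular p M) {r : ℕ}
    (x : Fin r → G) (hx : ∀ i j : Fin r, IsConj (x i) (x j) → i = j)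
    (hsep : ∀ i j : Fin r, ∀ g h : G, IsConj (x i) g → IsConj (x j) h → ∀ k : ℕ, 0 < k →
      orderOf (g * h⁻¹) ≠ p ^ k) :
    ∃ f : Fin r → Cfsg.IrrCharacter G,
      ¬ Cfsg.MemLocalIdeal M (Matrix.of fun i j : Fin r =>
        Cfsg.centralChar (f j : G → ℂ) (x i)).det ∧
      ∀ j : Fin r, ¬ Cfsg.MemLocalIdeal M ((f j : G → ℂ) (x j)⁻¹) := by
  classical
  haveI := Fintype.ofFinite G
  haveI : Finite (Cfsg.IrrCharacter G) := irr_finite
  haveI : Fintype (Cfsg.IrrCharacter G) := Fintype.ofFinite _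
  have hMm := hM.2.1
  obtain ⟨S⟩ : Nonempty (Sylow p G) := inferInstance
  set π : G → ℂ := Cfsg.indFun (S : Subgroup G) (fun _ => (1 : ℂ)) with hπ
  have hπc : Cfsg.IsCharacter G π := isCharacter_indFun _ _ isCharacter_one
  have hn : ∀ χ : Cfsg.IrrCharacter G, ∃ n : ℕ, Cfsg.classInner π (χ : G → ℂ) = n := fun χ =>
    classInner_char_char_nat hπc (IsIrrCharacter.isCharacter χ.2)
  choose n hn using hn
  set Ω : Matrix (Fin r) (Cfsg.IrrCharacter G) ℂ :=
    Matrix.of fun i χ => Cfsg.centralChar (χ : G → ℂ) (x i) with hΩ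
  set C : Matrix (Cfsg.IrrCharacter G) (Fin r) ℂ :=
    Matrix.of fun χ j => (n χ : ℂ) * (χ : G → ℂ) (x j)⁻¹ with hC
  have hΩC : Ω * C = ((S : Subgroup G).index : ℂ) • (1 : Matrix (Fin r) (Fin r) ℂ) := by
    ext i j
    rw [Matrix.mul_apply, Matrix.smul_apply, Matrix.one_apply, smul_eq_mul, mul_ite, mul_one,
      mul_zero]
    have h1 := counting_identity p S x hx hsep i j
    simp only [hΩ, hC, Matrix.of_apply, ← hn]
    exact h1
  have hdet : (Ω * C).det = (((S : Subgroup G).index ^ r : ℕ) : ℂ) := by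
    rw [hΩC, Matrix.det_smul, Matrix.det_one, mul_one, Fintype.card_fin]
    push_cast
    rfl
  have hunit : ¬ Cfsg.MemLocalIdeal M (((S : Subgroup G).index ^ r : ℕ) : ℂ) := by
    intro h
    have h1 := dvd_of_memLocalIdeal_natCast hM _ h
    have h2 := hp.out.dvd_of_dvd_pow h1
    exact S.not_dvd_index h2
  have hΩloc : ∀ i χ, Cfsg.MemLocalRing M (Ω i χ) := fun i χ =>
    memLocalRing_of_isIntegral hMm (isIntegral_centralChar χ (x i))
  have hCloc : ∀ χ j, Cfsg.MemLocalRing M (C χ j) := by
    intro χ j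
    rw [hC, Matrix.of_apply]
    exact MemLocalRing.mul hMm (memLocalRing_natCast hMm _)
      (memLocalRing_of_isIntegral hMm
        (IsCharacter.isIntegral_value (IsIrrCharacter.isCharacter χ.2) _))
  rw [det_mul_expand] at hdet
  have hex : ∃ f : Fin r → Cfsg.IrrCharacter G, ¬ Cfsg.MemLocalIdeal M
      ((∏ j, C (f j) j) * (Matrix.of fun i j => Ω i (f j)).det) := by
    by_contra hcon
    push Not at hcon
    apply hunit
    rw [← hdet]
    exact MemLocalIdeal.sum hMm _ _ (fun f _ => hcon f)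
  obtain ⟨f, hf⟩ := hex
  have hdetloc : Cfsg.MemLocalRing M (Matrix.of fun i j => Ω i (f j)).det :=
    det_memLocalRing hMm _ (fun i j => hΩloc i (f j))
  have hprodloc : Cfsg.MemLocalRing M (∏ j, C (f j) j) :=
    prod_memLocalRing hMm _ _ (fun j _ => hCloc (f j) j)
  refine ⟨f, ?_, ?_⟩
  · intro h
    exact hf (MemLocalIdeal.mul_left hMm hprodloc h)
  · intro j h
    apply hf
    have h1 : Cfsg.MemLocalIdeal M (C (f j) j) := by
      rw [hC, Matrix.of_apply]
      exact MemLocalIdeal.mul_left hMm (memLocalRing_natCast hMm _) h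
    have h2 := prod_memLocalIdeal hMm Finset.univ (fun j => C (f j) j)
      (fun j _ => hCloc (f j) j) j (Finset.mem_univ j) h1
    rw [mul_comm]
    exact MemLocalIdeal.mul_left hMm hdetloc h2

end Cfsg.Agent.Helper6.SepCls
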