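import Mathlib
import Cfsg.Prelude.Def_Characters
import Cfsg.Prelude.Def_Blocks
import Cfsg.Agent.Helper6.SepClsD

/-!
# Blocks with a prescribed defect group from separated classes: defect groups
-/

set_option autoImplicit false
set_option linter.style.haveILetI false
set_option maxHeartbeats 1000000

namespace Cfsg.Agent.Helper6.SepCls

open Matrix
open scoped ComplexConjugate

universe u

variable {G : Type u} [Group G] [Finite G] {M : Ideal Cfsg.AlgInt}

/-- the `p`-part of a class size -/
theorem factorization_index_centralizer (p : ℕ) [hp : Fact p.Prime] (g : G) :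
    ((Subgroup.centralizer ({g} : Set G)).index).factorization p +
      (Nat.card (Subgroup.centralizer ({g} : Set G))).factorization p =
      (Nat.card G).factorization p := by
  set C := Subgroup.centralizer ({g} : Set G) with hC
  have hC0 : Nat.card C ≠ 0 := Nat.card_pos.ne'
  have hidx0 : C.index ≠ 0 := Subgroup.index_ne_zero_of_finite
  have hmul : Nat.card C * C.index = Nat.card G := Subgroup.card_mul_index C
  rw [← hmul, Nat.factorization_mul hC0 hidx0, add_comm]
  rfl

/-- the order of `D` in terms of the centralizer -/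
theorem card_eq_of_sylow_map (p : ℕ) [hp : Fact p.Prime] (D : Subgroup G) (g : G)
    (h : ∃ S : Sylow p ↥(Subgroup.centralizer ({g} : Set G)),
      (S : Subgroup ↥(Subgroup.centralizer ({g} : Set G))).map
        (Subgroup.centralizer ({g} : Set G)).subtype = D) :
    Nat.card D = p ^ (Nat.card (Subgroup.centralizer ({g} : Set G))).factorization p := by
  obtain ⟨S, rfl⟩ := h
  rw [Subgroup.card_map_of_injective (Subgroup.subtype_injective _), Sylow.card_eq_multiplicity]

/-- the defect group of the block of a selected character -/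
theorem isDefectGroup_of_selection (p : ℕ) [hp : Fact p.Prime] (hM : Cfsg.IsPModular p M)
    (D : Subgroup G) (xi xk : G)
    (hDi : ∃ S : Sylow p ↥(Subgroup.centralizer ({xi} : Set G)),
      (S : Subgroup ↥(Subgroup.centralizer ({xi} : Set G))).map
        (Subgroup.centralizer ({xi} : Set G)).subtype = D)
    (hDk : ∃ S : Sylow p ↥(Subgroup.centralizer ({xk} : Set G)),
      (S : Subgroup ↥(Subgroup.centralizer ({xk} : Set G))).map
        (Subgroup.centralizer ({xk} : Set G)).subtype = D)
    (χ : Cfsg.IrrCharacter G)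
    (hi : ¬ Cfsg.MemLocalIdeal M (Cfsg.centralChar (χ : G → ℂ) xi))
    (hk : ¬ Cfsg.MemLocalIdeal M ((χ : G → ℂ) xk⁻¹)) :
    Cfsg.IsDefectGroup p M (Cfsg.blockOf M (χ : G → ℂ)) D := by
  classical
  have hMm := hM.2.1
  have hpM := hM.2.2
  set B := Cfsg.blockOf M (χ : G → ℂ) with hB
  have hBb : Cfsg.IsPBlock M B := ⟨χ, rfl⟩
  have hχB : χ ∈ B := mem_blockOf_self hMm χ
  set a := (Nat.card G).factorization p with ha
  set d := Cfsg.blockDefect p B with hd
  have hcardDi := card_eq_of_sylow_map p D xi hDi
  have hcardDk := card_eq_of_sylow_map p D xk hDk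
  set δ := (Nat.card (Subgroup.centralizer ({xi} : Set G))).factorization p with hδ
  have hδk : (Nat.card (Subgroup.centralizer ({xk} : Set G))).factorization p = δ := by
    have := hcardDk.symm.trans hcardDi
    exact Nat.pow_right_injective hp.out.two_le this
  -- d ≤ δ
  have h1 : d ≤ δ := blockDefect_le_of_centralChar hMm p hpM B hBb χ hχB xi hi
  -- δ ≤ d
  have h2 : δ ≤ d := by
    have h3 : ¬ ((Subgroup.centralizer ({xk⁻¹} : Set G)).index).factorization p <
        (Cfsg.charDegree (χ : G → ℂ)).factorization p := fun hlt =>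
      hk (apply_memLocalIdeal_of_lt hM χ xk⁻¹ hlt)
    rw [centralizer_singleton_inv] at h3
    have h4 := factorization_index_centralizer p xk
    rw [hδk, ← ha] at h4
    have h5 := factorization_charDegree_eq p B χ hχB
    rw [← ha, ← hd] at h5
    have h6 : d ≤ a := blockDefect_le_factorization p B
    omega
  have hdδ : d = δ := le_antisymm h1 h2
  -- a defect group, conjugated into the centralizer of `xi`
  obtain ⟨D₀, hD₀⟩ := exists_isDefectGroup hMm p B hBb
  have hc₀ := card_defectGroup hMm p hpM B hBb D₀ hD₀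
  obtain ⟨g₀, hg₀, S₀, hD₀eq⟩ := id hD₀
  obtain ⟨e, he⟩ := exists_conj_defectGroup_le_centralizer hM B hBb g₀ hg₀ S₀ χ hχB xi hi
  set Q := D₀.map (MulAut.conj e).toMonoidHom with hQ
  have hQC : Q ≤ Subgroup.centralizer ({xi} : Set G) := by
    rintro _ ⟨y, hy, rfl⟩
    rw [hD₀eq] at hy
    obtain ⟨u, hu, rfl⟩ := hy
    exact he u hu
  have hQdef : Cfsg.IsDefectGroup p M B Q := isDefectGroup_conj B D₀ hD₀ e
  have hQcard : Nat.card Q = p ^ d := card_defectGroup hMm p hpM B hBb Q hQdef
  have hQp : IsPGroup p Q := IsPGroup.of_card hQcard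
  obtain ⟨Si, hSi⟩ := hDi
  have hcard : Nat.card D ≤ Nat.card Q := by
    rw [hcardDi, hQcard, hdδ]
  obtain ⟨c, hc⟩ := exists_conj_eq_of_card_le _ Q D hQC Si hSi hQp hcard
  rw [← hc]
  exact isDefectGroup_conj B Q hQdef c

end Cfsg.Agent.Helper6.SepCls
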