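import Mathlib
import Cfsg.Prelude.Def_Characters
import Cfsg.Prelude.Def_Blocks
import Cfsg.Agent.Helper6.SepClsE
import Cfsg.Agent.Helper6.BrauerPerm
import Cfsg.Agent.Helper6.BlockCount

/-!
# Robinson's rank formula (S4443), part F: defect groups from nonvanishing, and the class sums
-/

set_option autoImplicit false
set_option linter.style.haveILetI false
set_option linter.unusedSimpArgs false

namespace Cfsg.Agent.Helper6.Rob

open Cfsg.Agent.Helper6 Cfsg.Agent.Helper6.SepCls
open scoped ComplexConjugate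

universe u

variable {G : Type u} [Group G] {M : Ideal Cfsg.AlgInt}

/-- **Fact A**: a block whose idempotent coefficient is a unit at one class with "defect group"
`D` and whose central character is a unit at another such class has defect group `D`. -/
theorem isDefectGroup_of_blockCoeff_of_centralChar [Finite G] (p : ℕ) [hp : Fact p.Prime]
    (hM : Cfsg.IsPModular p M) (D : Subgroup G) (a b : G)
    (hDa : ∃ S : Sylow p ↥(Subgroup.centralizer ({a} : Set G)),
      (S : Subgroup ↥(Subgroup.centralizer ({a} : Set G))).map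
        (Subgroup.centralizer ({a} : Set G)).subtype = D)
    (hDb : ∃ S : Sylow p ↥(Subgroup.centralizer ({b} : Set G)),
      (S : Subgroup ↥(Subgroup.centralizer ({b} : Set G))).map
        (Subgroup.centralizer ({b} : Set G)).subtype = D)
    (B : Set (Cfsg.IrrCharacter G)) (hB : Cfsg.IsPBlock M B)
    (χ : Cfsg.IrrCharacter G) (hχ : χ ∈ B)
    (ha : ¬ Cfsg.MemLocalIdeal M (Cfsg.blockCoeff B a))
    (hb : ¬ Cfsg.MemLocalIdeal M (Cfsg.centralChar (χ : G → ℂ) b)) :
    Cfsg.IsDefectGroup p M B D := by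
  classical
  have hMm := hM.2.1
  have hpM := hM.2.2
  set d := Cfsg.blockDefect p B with hd
  have hcardDa := card_eq_of_sylow_map p D a hDa
  have hcardDb := card_eq_of_sylow_map p D b hDb
  set δ := (Nat.card (Subgroup.centralizer ({b} : Set G))).factorization p with hδ
  have hδa : (Nat.card (Subgroup.centralizer ({a} : Set G))).factorization p = δ := by
    have := hcardDa.symm.trans hcardDb
    exact Nat.pow_right_injective hp.out.two_le this
  have h1 : d ≤ δ := blockDefect_le_of_centralChar hMm p hpM B hB χ hχ b hb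
  have h2 : δ ≤ d := by
    rw [← hδa]
    exact factorization_centralizer_le_of_blockCoeff hMm p hpM B hB a ha
  have hdδ : d = δ := le_antisymm h1 h2
  obtain ⟨D₀, hD₀⟩ := exists_isDefectGroup hMm p B hB
  obtain ⟨g₀, hg₀, S₀, hD₀eq⟩ := id hD₀
  obtain ⟨e, he⟩ := exists_conj_defectGroup_le_centralizer hM B hB g₀ hg₀ S₀ χ hχ b hb
  set Q := D₀.map (MulAut.conj e).toMonoidHom with hQ
  have hQC : Q ≤ Subgroup.centralizer ({b} : Set G) := by
    rintro _ ⟨y, hy, rfl⟩
    rw [hD₀eq] at hy
    obtain ⟨u, hu, rfl⟩ := hy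
    exact he u hu
  have hQdef : Cfsg.IsDefectGroup p M B Q := isDefectGroup_conj B D₀ hD₀ e
  have hQcard : Nat.card Q = p ^ d := card_defectGroup hMm p hpM B hB Q hQdef
  have hQp : IsPGroup p Q := IsPGroup.of_card hQcard
  obtain ⟨Si, hSi⟩ := hDb
  have hcard : Nat.card D ≤ Nat.card Q := by
    rw [hcardDb, hQcard, hdδ]
  obtain ⟨c, hc⟩ := exists_conj_eq_of_card_le _ Q D hQC Si hSi hQp hcard
  rw [← hc]
  exact isDefectGroup_conj B Q hQdef c

/-- a `p`-subgroup of the right order inside a centralizer is the image of a Sylow subgroup -/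
theorem exists_sylow_map_eq [Finite G] (p : ℕ) [hp : Fact p.Prime] (D C : Subgroup G)
    (hDC : D ≤ C) (hD : IsPGroup p D)
    (hcard : Nat.card D = p ^ (Nat.card C).factorization p) :
    ∃ Q : Sylow p C, (Q : Subgroup C).map C.subtype = D := by
  have hDp : IsPGroup p (D.subgroupOf C) := by
    exact IsPGroup.of_injective hD (Subgroup.subgroupOfEquivOfLe hDC).toMonoidHom
      (Subgroup.subgroupOfEquivOfLe hDC).injective
  obtain ⟨Q, hQ⟩ := hDp.exists_le_sylow
  refine ⟨Q, ?_⟩
  have hcardsub : Nat.card (D.subgroupOf C) = Nat.card D :=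
    Nat.card_congr (Subgroup.subgroupOfEquivOfLe hDC).toEquiv
  have hQcard : Nat.card (Q : Subgroup C) = p ^ (Nat.card C).factorization p :=
    Q.card_eq_multiplicity
  have heq : D.subgroupOf C = (Q : Subgroup C) := by
    apply Subgroup.eq_of_le_of_card_ge hQ
    rw [hQcard, hcardsub, hcard]
  rw [← heq, Subgroup.map_subgroupOf_eq_of_le hDC]

/-- **Fact B**: for two blocks with the normal defect group `D`, a class at which the product of
the idempotent coefficient of one and the central character of the other is a unit consists of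
`p`-regular elements with `D` a Sylow subgroup of the centralizer. -/
theorem exists_sylow_of_not_memLocalIdeal_mul [Finite G] (p : ℕ) [hp : Fact p.Prime]
    (hM : Cfsg.IsPModular p M) (D : Subgroup G) [hDn : D.Normal]
    (B B' : Set (Cfsg.IrrCharacter G)) (hB : Cfsg.IsPBlock M B) (hB' : Cfsg.IsPBlock M B')
    (hBD : Cfsg.IsDefectGroup p M B D) (hBD' : Cfsg.IsDefectGroup p M B' D)
    (χ : Cfsg.IrrCharacter G) (hχ : χ ∈ B) (g : G)
    (h : ¬ Cfsg.MemLocalIdeal M (Cfsg.blockCoeff B' g * Cfsg.centralChar (χ : G → ℂ) g)) :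
    ¬ p ∣ orderOf g ∧ ∃ Q : Sylow p ↥(Subgroup.centralizer ({g} : Set G)),
      (Q : Subgroup ↥(Subgroup.centralizer ({g} : Set G))).map
        (Subgroup.centralizer ({g} : Set G)).subtype = D := by
  classical
  have hMm := hM.2.1
  have hpM := hM.2.2
  have hbcloc : Cfsg.MemLocalRing M (Cfsg.blockCoeff B' g) := osima hMm B' hB' g
  have hccloc : Cfsg.MemLocalRing M (Cfsg.centralChar (χ : G → ℂ) g) :=
    memLocalRing_of_isIntegral hMm (isIntegral_centralChar χ g)
  have hbc : ¬ Cfsg.MemLocalIdeal M (Cfsg.blockCoeff B' g) := by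
    intro hmem
    apply h
    rw [mul_comm]
    exact MemLocalIdeal.mul_left hMm hccloc hmem
  have hcc : ¬ Cfsg.MemLocalIdeal M (Cfsg.centralChar (χ : G → ℂ) g) := by
    intro hmem
    apply h
    exact MemLocalIdeal.mul_left hMm hbcloc hmem
  have hreg : ¬ p ∣ orderOf g := by
    intro hsing
    apply hbc
    rw [blockCoeff_eq_zero_of_singular hMm p hpM B' hB' g hsing]
    exact memLocalIdeal_zero hMm
  refine ⟨hreg, ?_⟩
  set δ := (Nat.card (Subgroup.centralizer ({g} : Set G))).factorization p with hδ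
  have h1 : δ ≤ Cfsg.blockDefect p B' :=
    factorization_centralizer_le_of_blockCoeff hMm p hpM B' hB' g hbc
  have h2 : Cfsg.blockDefect p B ≤ δ :=
    blockDefect_le_of_centralChar hMm p hpM B hB χ hχ g hcc
  have hc1 := card_defectGroup hMm p hpM B hB D hBD
  have hc2 := card_defectGroup hMm p hpM B' hB' D hBD'
  have h3 : Cfsg.blockDefect p B = Cfsg.blockDefect p B' :=
    Nat.pow_right_injective hp.out.two_le (hc1.symm.trans hc2)
  have hδeq : Cfsg.blockDefect p B = δ := le_antisymm h2 (h3 ▸ h1)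
  -- `D` centralizes `g`
  obtain ⟨g₀, hg₀, S₀, hDeq⟩ := id hBD
  obtain ⟨e, he⟩ := exists_conj_defectGroup_le_centralizer hM B hB g₀ hg₀ S₀ χ hχ g hcc
  have hDC : D ≤ Subgroup.centralizer ({g} : Set G) := by
    intro x hx
    have hx' : e⁻¹ * x * e⁻¹⁻¹ ∈ D := hDn.conj_mem x hx e⁻¹
    rw [hDeq] at hx'
    obtain ⟨u, hu, hux⟩ := hx'
    have := he u hu
    have hu' : ((Subgroup.centralizer ({g₀} : Set G)).subtype u : G) = (u : G) := rfl
    rw [hu'] at hux
    rw [hux] at this
    have hxe : e * (e⁻¹ * x * e⁻¹⁻¹) * e⁻¹ = x := by group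
    rwa [hxe] at this
  have hDp : IsPGroup p D := IsPGroup.of_card hc1
  apply exists_sylow_map_eq p D _ hDC hDp
  rw [hc1, hδeq]

/-- the sum over the classes of the product of an idempotent coefficient and a central
character -/
theorem sum_classes_blockCoeff_mul_centralChar [Fintype G] [Fintype (ConjClasses G)]
    (B' : Set (Cfsg.IrrCharacter G)) (χ : Cfsg.IrrCharacter G) [Decidable (χ ∈ B')] :
    ∑ C : ConjClasses G, Cfsg.blockCoeff B' (Quotient.out C) *
      Cfsg.centralChar (χ : G → ℂ) (Quotient.out C) = if χ ∈ B' then 1 else 0 := by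
  classical
  set F' : G → ℂ := fun g => Cfsg.blockCoeff B' g * Cfsg.centralChar (χ : G → ℂ) g with hF'
  have hF'cf : ∀ (g x : G), F' (x * g * x⁻¹) = F' g := by
    intro g x
    rw [hF']
    simp only
    rw [centralChar_conj, blockCoeff_isClassFunction _ g x]
  have hout : ∀ (g : G), F' (Quotient.out (ConjClasses.mk g)) = F' g := by
    intro g
    have h1 : ConjClasses.mk (Quotient.out (ConjClasses.mk g)) = ConjClasses.mk g :=
      Quotient.out_eq _
    rw [ConjClasses.mk_eq_mk_iff_isConj, isConj_iff] at h1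
    obtain ⟨c, hc⟩ := h1
    have h2 := hF'cf (Quotient.out (ConjClasses.mk g)) c
    rw [hc] at h2
    exact h2.symm
  have hsum := sum_div_card_class (G := G) (fun C : ConjClasses G => F' (Quotient.out C))
  simp only [hout] at hsum
  change ∑ C : ConjClasses G, F' (Quotient.out C) = _
  rw [← hsum]
  have hG0 : (Nat.card G : ℂ) ≠ 0 := by
    have : 0 < Nat.card G := Nat.card_pos
    exact_mod_cast this.ne'
  have hχ1 : (χ : G → ℂ) 1 ≠ 0 := IsIrrCharacter.apply_one_ne_zero χ.2
  have h1 : ∀ g : G, F' g *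
      ((Nat.card (Subgroup.centralizer ({g} : Set G)) : ℂ) / (Nat.card G : ℂ)) =
      Cfsg.blockCoeff B' g * (χ : G → ℂ) g / (χ : G → ℂ) 1 := by
    intro g
    rw [hF']
    simp only
    unfold Cfsg.centralChar
    have hidx : ((Subgroup.centralizer ({g} : Set G)).index : ℂ) *
        (Nat.card (Subgroup.centralizer ({g} : Set G)) : ℂ) = (Nat.card G : ℂ) := by
      rw [← Nat.cast_mul, Subgroup.index_mul_card]
    have hC0 : (Nat.card (Subgroup.centralizer ({g} : Set G)) : ℂ) ≠ 0 := by
      have : 0 < Nat.card (Subgroup.centralizer ({g} : Set G)) := Nat.card_pos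
      exact_mod_cast this.ne'
    have hi0 : ((Subgroup.centralizer ({g} : Set G)).index : ℂ) ≠ 0 := by
      have : (Subgroup.centralizer ({g} : Set G)).index ≠ 0 :=
        Subgroup.index_ne_zero_of_finite
      exact_mod_cast this
    rw [← hidx]
    field_simp
  simp_rw [h1]
  rw [← Finset.sum_div, sum_blockCoeff_mul]
  split_ifs
  · rw [div_self hχ1]
  · rw [zero_div]

end Cfsg.Agent.Helper6.Rob
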