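import Mathlib
import Cfsg.Prelude.Def_Characters
import Cfsg.Prelude.Def_Blocks
import Cfsg.Agent.Helper6.RobB
import Cfsg.Agent.Helper6.RobE
import Cfsg.Agent.Helper6.RobF

/-!
# Robinson's rank formula (S4443), part G: the assembly
-/

set_option autoImplicit false
set_option linter.style.haveILetI false
set_option linter.unusedSimpArgs false
set_option maxHeartbeats 1000000

namespace Cfsg.Agent.Helper6.Rob

open Cfsg.Agent.Helper6 Cfsg.Agent.Helper6.SepCls
open scoped ComplexConjugate

universe u v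

variable {G : Type u} [Group G] {M : Ideal Cfsg.AlgInt}

/-- **Robinson's rank formula** for the number of blocks with a given normal defect group -/
theorem card_blocks_normal_defect_eq_rank [Finite G] (p : ℕ) [hp : Fact p.Prime]
    (hM : Cfsg.IsPModular p M) (D : Subgroup G) [hDn : D.Normal] (S : Sylow p G)
    {ι : Type v} [Fintype ι] [DecidableEq ι] (K : ι → ConjClasses G)
    (hKinj : Function.Injective K)
    (hK : ∀ C : ConjClasses G, (∃ i, K i = C) ↔ ∃ x ∈ C.carrier, ¬ p ∣ orderOf x ∧
      ∃ Q : Sylow p (Subgroup.centralizer ({x} : Set G)),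
        (Q : Subgroup (Subgroup.centralizer ({x} : Set G))).map
          (Subgroup.centralizer ({x} : Set G)).subtype = D) :
    Nat.card {B : Set (Cfsg.IrrCharacter G) // Cfsg.IsPBlock M B ∧ Cfsg.IsDefectGroup p M B D} =
      (Matrix.of fun i j : ι => ((Nat.card {yz : G × G // yz.1 ∈ (K i).carrier ∧
        yz.2 ∈ (K j).carrier ∧ yz.2 * yz.1⁻¹ ∈ (S : Subgroup G)} /
          p ^ ((Nat.card G).factorization p - (Nat.card D).factorization p) : ℕ) :
            ZMod p)).rank := by
  classical
  haveI := Fintype.ofFinite G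
  haveI : Finite (Cfsg.IrrCharacter G) := irr_finite
  haveI : Fintype (Cfsg.IrrCharacter G) := Fintype.ofFinite _
  haveI : Fintype (ConjClasses G) := Fintype.ofFinite _
  have hMm := hM.2.1
  have hpM := hM.2.2
  -- class representatives
  have hx : ∀ i, ∃ x ∈ (K i).carrier, ¬ p ∣ orderOf x ∧
      ∃ Q : Sylow p (Subgroup.centralizer ({x} : Set G)),
        (Q : Subgroup (Subgroup.centralizer ({x} : Set G))).map
          (Subgroup.centralizer ({x} : Set G)).subtype = D := fun i => (hK (K i)).mp ⟨i, rfl⟩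
  choose x hxK hxreg hxD using hx
  have hKx : ∀ i, K i = ConjClasses.mk (x i) := fun i =>
    (ConjClasses.mem_carrier_iff_mk_eq.mp (hxK i)).symm
  -- block representatives
  have hrep' : ∀ B : Set (Cfsg.IrrCharacter G), ∃ χ : Cfsg.IrrCharacter G,
      Cfsg.IsPBlock M B → χ ∈ B := by
    intro B
    by_cases hB : Cfsg.IsPBlock M B
    · obtain ⟨χ₀, rfl⟩ := hB
      exact ⟨χ₀, fun _ => mem_blockOf_self hMm χ₀⟩
    · exact ⟨trivIrr G, fun h => absurd h hB⟩
  choose rep hrep using hrep'
  set β := {B : Set (Cfsg.IrrCharacter G) // Cfsg.IsPBlock M B ∧ Cfsg.IsDefectGroup p M B D}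
    with hβ
  haveI : Fintype β := Fintype.ofFinite _
  set d := (Nat.card D).factorization p with hd
  set A := (Nat.card G).factorization p with hA
  have hdx : ∀ i, (Nat.card (Subgroup.centralizer ({x i} : Set G))).factorization p = d := by
    intro i
    have h1 := card_eq_of_sylow_map p D (x i) (hxD i)
    rw [hd, h1, Nat.Prime.factorization_pow hp.out, Finsupp.single_eq_same]
  set m : ℕ := Nat.card G / p ^ A with hm
  set c' : ι → ℕ := fun i => Nat.card (Subgroup.centralizer ({x i} : Set G)) / p ^ d with hc'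
  have hG0 : Nat.card G ≠ 0 := Nat.card_pos.ne'
  have hm_nd : ¬ p ∣ m := not_dvd_div_pow_factorization p _ hG0
  have hc_nd : ∀ i, ¬ p ∣ c' i := by
    intro i
    rw [hc']
    simp only
    rw [← hdx i]
    exact not_dvd_div_pow_factorization p _ Nat.card_pos.ne'
  have hm0 : (m : ℂ) ≠ 0 := by
    have : m ≠ 0 := fun h => hm_nd (h ▸ dvd_zero p)
    exact_mod_cast this
  have hc0 : ∀ i, (c' i : ℂ) ≠ 0 := by
    intro i
    have : c' i ≠ 0 := fun h => hc_nd i (h ▸ dvd_zero p)
    exact_mod_cast this
  set u : ι → ℂ := fun i => (m : ℂ) / (c' i : ℂ) with hu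
  have hu0 : ∀ i, u i ≠ 0 := fun i => div_ne_zero hm0 (hc0 i)
  have huloc : ∀ i, Cfsg.MemLocalRing M (u i) := fun i =>
    memLocalRing_natCast_div hMm p hp.out hpM m (c' i) (hc_nd i)
  have huinv : ∀ i, Cfsg.MemLocalRing M ((u i)⁻¹) := by
    intro i
    have := memLocalRing_natCast_div hMm p hp.out hpM (c' i) m hm_nd
    rw [hu]
    simp only
    rwa [inv_div]
  have hbcloc : ∀ (b : β) (g : G), Cfsg.MemLocalRing M (Cfsg.blockCoeff b.1 g) :=
    fun b g => osima hMm b.1 b.2.1 g
  have hccloc : ∀ (χ : Cfsg.IrrCharacter G) (g : G),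
      Cfsg.MemLocalRing M (Cfsg.centralChar (χ : G → ℂ) g) :=
    fun χ g => memLocalRing_of_isIntegral hMm (isIntegral_centralChar χ g)
  -- the orthogonality relations
  have horth : ∀ b b' : β, Cfsg.MemLocalIdeal M
      (∑ i, Cfsg.blockCoeff b'.1 (x i) * Cfsg.centralChar (rep b.1 : G → ℂ) (x i) -
        if b = b' then 1 else 0) := by
    intro b b'
    set F' : G → ℂ := fun g => Cfsg.blockCoeff b'.1 g *
      Cfsg.centralChar (rep b.1 : G → ℂ) g with hF'
    have hF'cf : ∀ (g y : G), F' (y * g * y⁻¹) = F' g := by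
      intro g y
      rw [hF']
      simp only
      rw [centralChar_conj, blockCoeff_isClassFunction _ g y]
    have hsum := sum_classes_blockCoeff_mul_centralChar b'.1 (rep b.1)
    have hiff : (rep b.1 ∈ b'.1) ↔ b = b' := by
      constructor
      · intro hmem
        apply Subtype.ext
        exact block_eq_of_mem_of_mem hMm b.2.1 b'.2.1 (rep b.1) (hrep b.1 b.2.1) hmem
      · intro h
        rw [← h]
        exact hrep b.1 b.2.1
    have hsum' : ∑ C : ConjClasses G, F' (Quotient.out C) = if b = b' then 1 else 0 := by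
      rw [hsum]
      by_cases hbb : b = b'
      · rw [if_pos hbb, if_pos (hiff.mpr hbb)]
      · rw [if_neg hbb, if_neg (fun h => hbb (hiff.mp h))]
    rw [← hsum']
    have hsplit : ∑ C : ConjClasses G, F' (Quotient.out C) =
        ∑ C ∈ Finset.univ.image K, F' (Quotient.out C) +
          ∑ C ∈ Finset.univ.filter (fun C : ConjClasses G => C ∉ Finset.univ.image K),
            F' (Quotient.out C) := by
      rw [← Finset.sum_filter_add_sum_filter_not Finset.univ
        (fun C : ConjClasses G => C ∈ Finset.univ.image K)]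
      congr 1
      apply Finset.sum_congr _ (fun _ _ => rfl)
      ext C
      simp
    have himage : ∑ C ∈ Finset.univ.image K, F' (Quotient.out C) = ∑ i, F' (x i) := by
      rw [Finset.sum_image (fun i _ j _ hij => hKinj hij)]
      apply Finset.sum_congr rfl
      intro i _
      have h1 : ConjClasses.mk (Quotient.out (K i)) = ConjClasses.mk (x i) := by
        rw [← hKx i]
        exact Quotient.out_eq _
      rw [ConjClasses.mk_eq_mk_iff_isConj, isConj_iff] at h1
      obtain ⟨c, hc⟩ := h1
      have h2 := hF'cf (Quotient.out (K i)) c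
      rw [hc] at h2
      exact h2.symm
    rw [hsplit, himage]
    have hrw : ∑ i, Cfsg.blockCoeff b'.1 (x i) * Cfsg.centralChar (rep b.1 : G → ℂ) (x i) =
        ∑ i, F' (x i) := rfl
    rw [hrw, sub_add_cancel_left]
    apply MemLocalIdeal.neg
    apply MemLocalIdeal.sum hMm
    intro C hC
    rw [Finset.mem_filter] at hC
    by_contra hnot
    apply hC.2
    obtain ⟨hreg, hQ⟩ := exists_sylow_of_not_memLocalIdeal_mul p hM D b.1 b'.1 b.2.1 b'.2.1
      b.2.2 b'.2.2 (rep b.1) (hrep b.1 b.2.1) (Quotient.out C) hnot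
    obtain ⟨i, hi⟩ := (hK C).mpr ⟨Quotient.out C,
      ConjClasses.mem_carrier_iff_mk_eq.mpr (Quotient.out_eq C), hreg, hQ⟩
    rw [Finset.mem_image]
    exact ⟨i, Finset.mem_univ _, hi⟩
  -- the counts
  set T : ι → ι → ℕ := fun i j => Nat.card {yz : G × G // yz.1 ∈ (K i).carrier ∧
        yz.2 ∈ (K j).carrier ∧ yz.2 * yz.1⁻¹ ∈ (S : Subgroup G)} / p ^ (A - d) with hT
  have hcount : ∀ i j, Cfsg.MemLocalIdeal M ((T i j : ℂ) -
      ∑ b : β, (u i * Cfsg.blockCoeff b.1 (x i)) *
        Cfsg.centralChar (rep b.1 : G → ℂ) (x j)) := by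
    intro i j
    have h1 := (count_div_congruence hM rep hrep (x i) (x j) (hxreg i) S d (hdx i)).2
    rw [← hKx i, ← hKx j] at h1
    set F : Set (Cfsg.IrrCharacter G) → ℂ := fun B => (u i * Cfsg.blockCoeff B (x i)) *
        Cfsg.centralChar (rep B : G → ℂ) (x j) with hF
    have hsplit : ∑ B ∈ blockFinset M G, F B =
        ∑ b : β, F b.1 + ∑ B ∈ (blockFinset M G).filter
          (fun B => ¬ Cfsg.IsDefectGroup p M B D), F B := by
      rw [← Finset.sum_filter_add_sum_filter_not (blockFinset M G)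
        (fun B => Cfsg.IsDefectGroup p M B D)]
      congr 1
      rw [← Finset.sum_subtype ((blockFinset M G).filter (fun B => Cfsg.IsDefectGroup p M B D))
        (p := fun B => Cfsg.IsPBlock M B ∧ Cfsg.IsDefectGroup p M B D)
        (by intro B; rw [Finset.mem_filter, mem_blockFinset]) F]
    have hrest : Cfsg.MemLocalIdeal M (∑ B ∈ (blockFinset M G).filter
          (fun B => ¬ Cfsg.IsDefectGroup p M B D), F B) := by
      apply MemLocalIdeal.sum hMm
      intro B hB
      rw [Finset.mem_filter, mem_blockFinset] at hB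
      have hbcB : Cfsg.MemLocalRing M (Cfsg.blockCoeff B (x i)) := osima hMm B hB.1 (x i)
      rw [hF]
      simp only
      by_cases h2 : Cfsg.MemLocalIdeal M (Cfsg.blockCoeff B (x i))
      · rw [mul_comm (u i), mul_assoc, mul_comm]
        exact MemLocalIdeal.mul_left hMm
          (MemLocalRing.mul hMm (huloc i) (hccloc (rep B) (x j))) h2
      · by_cases h3 : Cfsg.MemLocalIdeal M (Cfsg.centralChar (rep B : G → ℂ) (x j))
        · exact MemLocalIdeal.mul_left hMm (MemLocalRing.mul hMm (huloc i) hbcB) h3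
        · exact absurd (isDefectGroup_of_blockCoeff_of_centralChar p hM D (x i) (x j) (hxD i)
            (hxD j) B hB.1 (rep B) (hrep B hB.1) h2 h3) hB.2
    have h4 : (T i j : ℂ) - ∑ b : β, F b.1 = ((T i j : ℂ) - ∑ B ∈ blockFinset M G, F B) +
        ∑ B ∈ (blockFinset M G).filter (fun B => ¬ Cfsg.IsDefectGroup p M B D), F B := by
      rw [hsplit]
      ring
    change Cfsg.MemLocalIdeal M ((T i j : ℂ) - ∑ b : β, F b.1)
    rw [h4]
    exact MemLocalIdeal.add hMm h1 hrest
  -- apply the rank criterion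
  rw [Nat.card_eq_fintype_card]
  symm
  apply rank_eq_card_of_congruences hM T
    (fun i (b : β) => u i * Cfsg.blockCoeff b.1 (x i))
    (fun (b : β) j => Cfsg.centralChar (rep b.1 : G → ℂ) (x j))
    (fun (b : β) i => Cfsg.centralChar (rep b.1 : G → ℂ) (x i) * (u i)⁻¹)
    (fun i (b : β) => Cfsg.blockCoeff b.1 (x i))
  · intro i b
    exact MemLocalRing.mul hMm (huloc i) (hbcloc b (x i))
  · intro b i
    exact hccloc _ _
  · intro b i
    exact MemLocalRing.mul hMm (hccloc _ _) (huinv i)
  · intro i b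
    exact hbcloc b (x i)
  · intro i j
    exact hcount i j
  · intro b b'
    have h1 : ∑ i, Cfsg.centralChar (rep b.1 : G → ℂ) (x i) * (u i)⁻¹ *
        (u i * Cfsg.blockCoeff b'.1 (x i)) =
        ∑ i, Cfsg.blockCoeff b'.1 (x i) * Cfsg.centralChar (rep b.1 : G → ℂ) (x i) := by
      apply Finset.sum_congr rfl
      intro i _
      have := hu0 i
      field_simp
    rw [h1]
    exact horth b b'
  · intro b b'
    have h1 : ∑ j, Cfsg.centralChar (rep b.1 : G → ℂ) (x j) * Cfsg.blockCoeff b'.1 (x j) =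
        ∑ i, Cfsg.blockCoeff b'.1 (x i) * Cfsg.centralChar (rep b.1 : G → ℂ) (x i) := by
      apply Finset.sum_congr rfl
      intro i _
      ring
    rw [h1]
    exact horth b b'

end Cfsg.Agent.Helper6.Rob
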