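import Mathlib
import Cfsg.Prelude.Def_Characters
import Cfsg.Agent.Helper6.RootUA
import Cfsg.Agent.Helper6.Clifford
import Cfsg.Agent.Helper6.CliffordCorr
import Cfsg.Agent.Helper6.CliffordOrbit
import Cfsg.Agent.Helper6.ClassInner
import Cfsg.Agent.Helper6.Degrees
import Cfsg.Agent.Helper6.IrrDegree
import Cfsg.Agent.Helper6.DefectZeroBlock
import Cfsg.Agent.Helper6.SRealE
import Cfsg.Agent.Helper6.Expansion
import Cfsg.Agent.Helper6.IrrBasis
import Cfsg.Agent.Helper6.LinearExt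

/-!
# Characters with root-of-unity values on `p`-singular elements: Clifford analysis over `O_p`
-/

set_option autoImplicit false
set_option linter.style.haveILetI false

namespace Cfsg.Agent.Helper6.RootU

open Cfsg.Agent.Helper6.BLd

open scoped ComplexConjugate

universe u

variable {G : Type u} [Group G]

/-- The norm of the restriction of an irreducible character to a normal subgroup. -/
theorem restrict_norm [Fintype G] (N : Subgroup G) [Fintype N] [hN : N.Normal] (χ : G → ℂ)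
    (hχ : Cfsg.IsIrrCharacter G χ) (θ : N → ℂ) (hθ : Cfsg.IsIrrCharacter N θ) (e : ℕ)
    (he : Cfsg.classInner (fun n : N => χ n) θ = e) (he0 : e ≠ 0) :
    Cfsg.classInner (fun n : N => χ n) (fun n : N => χ n) =
      (e : ℂ) ^ 2 * ((conjStab N θ).index : ℂ) := by
  classical
  have hne : Cfsg.classInner (fun n : N => χ n) θ ≠ 0 := by
    rw [he]
    exact_mod_cast he0
  have hcl := clifford N χ hχ θ hθ hne
  set O : Finset (N → ℂ) := (Finset.univ : Finset G).image (fun g : G => conjFun N θ g) with hO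
  have hS : {ψ : N → ℂ | ∃ g : G, ψ = conjFun N θ g} = ↑O := by
    ext ψ
    simp only [Set.mem_ofPred_eq, hO, Finset.coe_image, Finset.coe_univ, Set.image_univ,
      Set.mem_range]
    constructor
    · rintro ⟨g, rfl⟩
      exact ⟨g, rfl⟩
    · rintro ⟨g, rfl⟩
      exact ⟨g, rfl⟩
  rw [hS, finsum_mem_coe_finset, he] at hcl
  have hirrO : ∀ ψ ∈ O, Cfsg.IsIrrCharacter N ψ := by
    intro ψ hψ
    obtain ⟨g, -, rfl⟩ := Finset.mem_image.mp hψ
    exact conjFun_isIrr N hθ g
  have hinner : ∀ ψ ∈ O, Cfsg.classInner (∑ ψ' ∈ O, ψ') ψ = 1 := by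
    intro ψ hψ
    rw [classInner_sum_left, Finset.sum_eq_single ψ]
    · exact classInner_irr_self (hirrO ψ hψ)
    · intro ψ' hψ' hne'
      exact classInner_irr_ne (hirrO ψ' hψ') (hirrO ψ hψ) hne'
    · intro h
      exact absurd hψ h
  conv_lhs => rw [hcl]
  rw [classInner_smul_left, classInner_smul_right, classInner_sum_right,
    Finset.sum_congr rfl hinner, Finset.sum_const, Complex.conj_natCast, card_conj_orbit]
  simp only [nsmul_eq_mul, mul_one]
  ring

/-- The arithmetic core of the Clifford analysis. -/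
theorem clifford_arith {p q e t d k : ℕ} (hp : p.Prime) (hq : q = p ^ k) (hk : k ≠ 0)
    (hd : d ∣ q) (he : 1 ≤ e) (ht : 1 ≤ t) (hd1 : 1 ≤ d) (hnl : e * t * d ≠ 1)
    (h : q * (e ^ 2 * t) = (e * t * d) ^ 2 + (q - 1)) :
    d = 1 ∧ e = 1 ∧ t = q - 1 := by
  have hpq : p ∣ q := by rw [hq]; exact dvd_pow_self p hk
  have hq2 : 2 ≤ q := le_trans hp.two_le (Nat.le_of_dvd (by rw [hq]; exact pow_pos hp.pos k) hpq)
  have hd' : d = 1 := by
    by_contra hne
    obtain ⟨j, -, hj⟩ := (Nat.dvd_prime_pow hp).mp (hq ▸ hd)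
    have hj0 : j ≠ 0 := by
      rintro rfl
      exact hne (by rw [hj, pow_zero])
    have hpd : p ∣ d := by rw [hj]; exact dvd_pow_self p hj0
    have h1 : p ∣ (e * t * d) ^ 2 := Dvd.dvd.pow (Dvd.dvd.mul_left hpd _) (by norm_num)
    have h2 : p ∣ q * (e ^ 2 * t) := Dvd.dvd.mul_right hpq _
    have h3 : p ∣ q - 1 := by
      rw [h] at h2
      exact (Nat.dvd_add_right h1).mp h2
    have h4 : p ∣ 1 := by
      have := Nat.dvd_sub hpq h3
      rwa [Nat.sub_sub_self (by omega)] at this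
    exact hp.one_lt.ne' (Nat.dvd_one.mp h4)
  subst hd'
  rw [mul_one] at h hnl
  -- integer arithmetic
  have hZ : (q : ℤ) * ((e : ℤ) ^ 2 * t) = ((e : ℤ) * t) ^ 2 + ((q : ℤ) - 1) := by
    have := congrArg (fun n : ℕ => (n : ℤ)) h
    push_cast [Nat.cast_sub (by omega : 1 ≤ q)] at this
    linarith
  have hqt : (t : ℤ) < q := by
    by_contra hcon
    rw [not_lt] at hcon
    have he2 : (0 : ℤ) < (e : ℤ) ^ 2 * t := by positivity
    nlinarith
  obtain ⟨s, hs⟩ : ∃ s : ℕ, q = t + s ∧ 1 ≤ s := ⟨q - t, by omega, by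
    have : t < q := by exact_mod_cast hqt
    omega⟩
  obtain ⟨hs1, hs2⟩ := hs
  have hZ2 : (t : ℤ) + s - 1 = (e : ℤ) ^ 2 * t * s := by
    rw [hs1] at hZ
    push_cast at hZ
    nlinarith
  have he1 : e = 1 := by
    by_contra hne
    have he2 : (2 : ℤ) ≤ e := by
      have : 2 ≤ e := by omega
      exact_mod_cast this
    have ht' : (1 : ℤ) ≤ t := by exact_mod_cast ht
    have hs' : (1 : ℤ) ≤ s := by exact_mod_cast hs2
    have h4 : (4 : ℤ) ≤ (e : ℤ) ^ 2 := by nlinarith
    have hts : (t : ℤ) + s ≤ 2 * (t * s) := by nlinarith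
    nlinarith
  subst he1
  simp only [Nat.cast_one, one_pow, one_mul] at hZ2 hnl
  have hprod : ((t : ℤ) - 1) * ((s : ℤ) - 1) = 0 := by linarith
  rcases mul_eq_zero.mp hprod with h1 | h1
  · exact absurd (by exact_mod_cast (by linarith : (t : ℤ) = 1)) hnl
  · have : s = 1 := by exact_mod_cast (by linarith : (s : ℤ) = 1)
    refine ⟨rfl, rfl, ?_⟩
    omega

/-- The standing hypotheses: a faithful non-linear irreducible character with norm one on the
`p`-singular elements, and a non-trivial normal `p`-subgroup. -/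
structure Hyp (p : ℕ) (χ : G → ℂ) (P : Subgroup G) : Prop where
  irr : Cfsg.IsIrrCharacter G χ
  faith : ∀ g : G, χ g = χ 1 → g = 1
  nl : χ 1 ≠ 1
  norm : ∀ g : G, p ∣ orderOf g → χ g * conj (χ g) = 1
  pgroup : IsPGroup p P
  ne_bot : P ≠ ⊥

namespace Hyp

variable {p : ℕ} [hp : Fact p.Prime] {χ : G → ℂ} {P : Subgroup G} [hN : P.Normal]

omit hN in
include hp in
theorem card_eq (h : Hyp p χ P) [Finite G] : ∃ k : ℕ, k ≠ 0 ∧ Nat.card P = p ^ k := by
  obtain ⟨k, hk⟩ := IsPGroup.iff_card.mp h.pgroup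
  refine ⟨k, ?_, hk⟩
  rintro rfl
  rw [pow_zero] at hk
  exact h.ne_bot ((Subgroup.eq_bot_iff_card P).mpr hk)

/-- The Clifford analysis: the constituents of `χ` on `P` are linear, occur once, and there are
`|P| - 1` of them. -/
theorem main_A [Fintype G] [Fintype P] (h : Hyp p χ P) :
    ∃ θ : P → ℂ, Cfsg.IsIrrCharacter P θ ∧ θ 1 = 1 ∧
      Cfsg.classInner (fun x : P => χ x) θ = 1 ∧
      (conjStab P θ).index = Nat.card P - 1 ∧ χ 1 = (Nat.card P : ℂ) - 1 := by
  classical
  obtain ⟨k, hk0, hk⟩ := h.card_eq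
  have hχc : Cfsg.IsCharacter G χ := IsIrrCharacter.isCharacter h.irr
  have hres : Cfsg.IsCharacter P (fun x : P => χ x) := IsCharacter.restrict P hχc
  have hres0 : (fun x : P => χ x) ≠ 0 := by
    intro h0
    have := congrFun h0 1
    simp only [Subgroup.coe_one, Pi.zero_apply] at this
    exact IsIrrCharacter.apply_one_ne_zero h.irr this
  obtain ⟨θ, hθ, hθne⟩ := exists_irr_constituent hres hres0
  obtain ⟨e, he⟩ := classInner_char_char_nat hres (IsIrrCharacter.isCharacter hθ)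
  have he0 : e ≠ 0 := by
    rintro rfl
    exact hθne (by rw [he]; simp)
  obtain ⟨d, hd0, hd⟩ := IsIrrCharacter.apply_one_pos hθ
  have hddvd : d ∣ Nat.card P := by
    have := charDegree_dvd_card hθ
    rwa [SReal.charDegree_eq_of_apply_one θ d hd] at this
  have hdeg := clifford_degree P χ h.irr θ hθ hθne (conjStab P θ) (fun g => mem_conjStab P θ g)
  rw [he, hd] at hdeg
  set t := (conjStab P θ).index with ht
  have ht1 : 1 ≤ t := Nat.one_le_iff_ne_zero.mpr Subgroup.index_ne_zero_of_finite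
  have hnorm := restrict_norm P χ h.irr θ hθ e he he0
  have hsum := sum_mul_conj_pgroup p χ h.norm P h.pgroup
  have hsum2 : ∑ a : P, χ a * conj (χ a) =
      (Nat.card P : ℂ) * Cfsg.classInner (fun n : P => χ n) (fun n : P => χ n) := by
    rw [Cfsg.classInner]
    have hP0 : (Nat.card P : ℂ) ≠ 0 := by exact_mod_cast (Nat.card_pos (α := P)).ne'
    field_simp
  rw [hsum2, hnorm, hdeg] at hsum
  have hnat : Nat.card P * (e ^ 2 * t) = (e * t * d) ^ 2 + (Nat.card P - 1) := by
    have hc : ((Nat.card P * (e ^ 2 * t) : ℕ) : ℂ) =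
        (((e * t * d) ^ 2 + (Nat.card P - 1) : ℕ) : ℂ) := by
      push_cast [Nat.cast_sub (Nat.card_pos (α := P))]
      rw [hsum]
      simp only [map_mul, Complex.conj_natCast]
      ring
    exact_mod_cast hc
  have hnl : e * t * d ≠ 1 := by
    intro h1
    apply h.nl
    rw [hdeg]
    exact_mod_cast h1
  obtain ⟨rfl, rfl, ht'⟩ := clifford_arith hp.out hk hk0 hddvd (Nat.one_le_iff_ne_zero.mpr he0)
    ht1 hd0 hnl hnat
  refine ⟨θ, hθ, by rw [hd]; simp, by rw [he]; simp, ht', ?_⟩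
  rw [hdeg, ht']
  push_cast [Nat.cast_sub (Nat.card_pos (α := P))]
  ring

/-- Every irreducible constituent of `χ` on `P` is linear and occurs exactly once. -/
theorem constituent [Fintype G] [Fintype P] (h : Hyp p χ P) (ψ : P → ℂ)
    (hψ : Cfsg.IsIrrCharacter P ψ) (hne : Cfsg.classInner (fun x : P => χ x) ψ ≠ 0) :
    ψ 1 = 1 ∧ Cfsg.classInner (fun x : P => χ x) ψ = 1 := by
  obtain ⟨θ, hθ, hθ1, hθe, -, -⟩ := h.main_A
  have hθne : Cfsg.classInner (fun x : P => χ x) θ ≠ 0 := by rw [hθe]; exact one_ne_zero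
  obtain ⟨g, rfl⟩ := conj_of_constituents P χ h.irr θ hθ hθne ψ hψ hne
  constructor
  · change θ ⟨g * ((1 : P) : G) * g⁻¹, _⟩ = 1
    have : (⟨g * ((1 : P) : G) * g⁻¹, hN.conj_mem _ (1 : P).2 g⟩ : P) = 1 := by
      apply Subtype.ext
      simp
    rw [this, hθ1]
  · have hcf := IsCharacter.isClassFunction (IsIrrCharacter.isCharacter h.irr)
    rw [← conjFun_restrict P χ hcf g, classInner_conjFun, hθe]

/-- `P` is abelian. -/
theorem comm [Fintype G] [Fintype P] (h : Hyp p χ P) : ∀ x ∈ P, ∀ y ∈ P, x * y = y * x := by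
  classical
  haveI : Finite (Cfsg.IrrCharacter P) := irr_finite
  haveI : Fintype (Cfsg.IrrCharacter P) := Fintype.ofFinite _
  intro x hx y hy
  have hχc : Cfsg.IsCharacter G χ := IsIrrCharacter.isCharacter h.irr
  have hres : Cfsg.IsCharacter P (fun x : P => χ x) := IsCharacter.restrict P hχc
  have hexp := classFunction_expansion (fun x : P => χ x) (IsCharacter.isClassFunction hres)
  set c : P := ⟨x, hx⟩ * ⟨y, hy⟩ * (⟨x, hx⟩)⁻¹ * (⟨y, hy⟩)⁻¹ with hc
  have hval : ∀ ψ : Cfsg.IrrCharacter P,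
      Cfsg.classInner (fun x : P => χ x) (ψ : P → ℂ) * (ψ : P → ℂ) c =
        Cfsg.classInner (fun x : P => χ x) (ψ : P → ℂ) * (ψ : P → ℂ) 1 := by
    intro ψ
    by_cases hne : Cfsg.classInner (fun x : P => χ x) (ψ : P → ℂ) = 0
    · rw [hne, zero_mul, zero_mul]
    · obtain ⟨h1, -⟩ := h.constituent ψ ψ.2 hne
      obtain ⟨lam, hlam⟩ := exists_hom_of_irr_degree_one ψ.2 h1
      rw [hlam]
      simp only [hc, map_mul, map_inv, map_one]
      congr 2
      rw [mul_comm (lam ⟨x, hx⟩) (lam ⟨y, hy⟩)]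
      simp
  have h1 : χ c = χ 1 := by
    have e1 := congrFun hexp c
    have e2 := congrFun hexp 1
    simp only [Finset.sum_apply, Pi.smul_apply, smul_eq_mul, Subgroup.coe_one] at e1 e2
    rw [e1, e2]
    exact Finset.sum_congr rfl (fun ψ _ => hval ψ)
  have h2 := h.faith _ h1
  have h3 : (x * y * x⁻¹ * y⁻¹ : G) = 1 := by
    have := h2
    simpa [hc] using this
  calc x * y = (x * y * x⁻¹ * y⁻¹) * (y * x) := by group
    _ = y * x := by rw [h3, one_mul]

/-- Linear characters of `P` occur at most once in `χ`. -/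
theorem mult_free [Fintype G] [Fintype P] (h : Hyp p χ P) (lam : P →* ℂˣ) :
    ∃ n : ℕ, n ≤ 1 ∧
      Cfsg.classInner (fun x : P => χ x) (fun x => ((lam x : ℂˣ) : ℂ)) = n := by
  by_cases hne : Cfsg.classInner (fun x : P => χ x) (fun x => ((lam x : ℂˣ) : ℂ)) = 0
  · exact ⟨0, by norm_num, by rw [hne]; simp⟩
  · obtain ⟨-, h1⟩ := h.constituent _ (isIrrCharacter_of_hom lam) hne
    exact ⟨1, le_refl _, by rw [h1]; simp⟩

/-- The principal character of `P` does not occur in `χ`. -/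
theorem mult_one_hom [Fintype G] [Fintype P] (h : Hyp p χ P) :
    Cfsg.classInner (fun x : P => χ x) (fun x => (((1 : P →* ℂˣ) x : ℂˣ) : ℂ)) = 0 := by
  by_contra hne
  obtain ⟨θ, hθ, hθ1, hθe, hidx, hdeg⟩ := h.main_A
  have hθne : Cfsg.classInner (fun x : P => χ x) θ ≠ 0 := by rw [hθe]; exact one_ne_zero
  obtain ⟨g, hg⟩ := conj_of_constituents P χ h.irr θ hθ hθne _ (isIrrCharacter_of_hom 1) hne
  have hθc : θ = fun _ => 1 := by
    have h2 := congrArg (fun ψ => conjFun P ψ g⁻¹) hg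
    simp only [conjFun_mul, mul_inv_cancel, conjFun_one] at h2
    rw [← h2]
    ext x
    simp [conjFun]
  have hstab : conjStab P θ = ⊤ := by
    rw [eq_top_iff]
    intro g _
    rw [mem_conjStab, hθc]
    rfl
  rw [hstab, Subgroup.index_top] at hidx
  apply h.nl
  rw [hdeg]
  have : Nat.card P = 2 := by
    have := Nat.card_pos (α := P)
    omega
  rw [this]
  norm_num

/-- Every non-principal linear character of `P` occurs exactly once in `χ`. -/
theorem mult_eq_one [Fintype G] [Fintype P] (h : Hyp p χ P) (lam : P →* ℂˣ) (hlam : lam ≠ 1) :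
    Cfsg.classInner (fun x : P => χ x) (fun x => ((lam x : ℂˣ) : ℂ)) = 1 := by
  classical
  haveI : Finite (↥P →* ℂˣ) := finite_hom_units
  haveI : Fintype (↥P →* ℂˣ) := Fintype.ofFinite _
  have habP : ∀ a b : P, a * b = b * a := fun a b => Subtype.ext (h.comm a a.2 b b.2)
  have hχc : Cfsg.IsCharacter G χ := IsIrrCharacter.isCharacter h.irr
  obtain ⟨μ, hμ⟩ := exists_mult P χ hχc
  obtain ⟨θ, hθ, hθ1, hθe, hidx, hdeg⟩ := h.main_A
  have hle : ∀ l : ↥P →* ℂˣ, μ l ≤ 1 := by
    intro l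
    obtain ⟨n, hn1, hn⟩ := h.mult_free l
    rw [hμ l] at hn
    have : μ l = n := by exact_mod_cast hn
    omega
  have h0 : μ 1 = 0 := by
    have := h.mult_one_hom
    rw [hμ 1] at this
    exact_mod_cast this
  have hsum := sum_classInner_hom habP (fun x : P => χ x)
  simp only [Subgroup.coe_one] at hsum
  rw [Finset.sum_congr rfl (fun l _ => hμ l), hdeg] at hsum
  have hsumN : ∑ l : ↥P →* ℂˣ, μ l = Nat.card P - 1 := by
    have : ((∑ l : ↥P →* ℂˣ, μ l : ℕ) : ℂ) = ((Nat.card P - 1 : ℕ) : ℂ) := by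
      push_cast [Nat.cast_sub (Nat.card_pos (α := P))]
      exact hsum
    exact_mod_cast this
  have hcard : Fintype.card (↥P →* ℂˣ) = Nat.card P := by
    rw [← Nat.card_eq_fintype_card, card_hom_units]
    have hcomm : commutator ↥P = ⊥ := by
      rw [commutator_eq_bot_iff_center_eq_top, eq_top_iff]
      intro a _
      rw [Subgroup.mem_center_iff]
      intro b
      exact habP b a
    rw [hcomm, Subgroup.index_bot]
  -- count
  have hsplit : ∑ l : ↥P →* ℂˣ, μ l = ∑ l ∈ (Finset.univ.erase (1 : ↥P →* ℂˣ)), μ l := by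
    rw [← Finset.add_sum_erase _ _ (Finset.mem_univ (1 : ↥P →* ℂˣ)), h0, zero_add]
  have hcardE : (Finset.univ.erase (1 : ↥P →* ℂˣ)).card = Nat.card P - 1 := by
    rw [Finset.card_erase_of_mem (Finset.mem_univ _), Finset.card_univ, hcard]
  have hall : ∀ l ∈ (Finset.univ.erase (1 : ↥P →* ℂˣ)), μ l = 1 := by
    by_contra hcon
    push Not at hcon
    obtain ⟨l₀, hl₀, hne⟩ := hcon
    have hl₀0 : μ l₀ = 0 := by
      have := hle l₀
      omega
    have hlt : ∑ l ∈ (Finset.univ.erase (1 : ↥P →* ℂˣ)), μ l <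
        ∑ l ∈ (Finset.univ.erase (1 : ↥P →* ℂˣ)), 1 := by
      apply Finset.sum_lt_sum
      · intro l _
        exact hle l
      · exact ⟨l₀, hl₀, by rw [hl₀0]; norm_num⟩
    rw [Finset.sum_const, smul_eq_mul, mul_one, hcardE, ← hsplit, hsumN] at hlt
    exact lt_irrefl _ hlt
  rw [hμ lam, hall lam (Finset.mem_erase.mpr ⟨hlam, Finset.mem_univ _⟩)]
  simp

/-- `G` permutes the non-principal linear characters of `P` transitively. -/
theorem transitive [Fintype G] [Fintype P] (h : Hyp p χ P) (lam mu : P → ℂ)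
    (hlam : Cfsg.IsCharacter P lam) (hlam1 : lam 1 = 1) (hlamne : lam ≠ fun _ => (1 : ℂ))
    (hmu : Cfsg.IsCharacter P mu) (hmu1 : mu 1 = 1) (hmune : mu ≠ fun _ => (1 : ℂ)) :
    ∃ g : G, mu = conjFun P lam g := by
  obtain ⟨l, rfl⟩ := exists_hom_of_char_degree_one hlam hlam1
  obtain ⟨m, rfl⟩ := exists_hom_of_char_degree_one hmu hmu1
  have hl1 : l ≠ 1 := by
    rintro rfl
    apply hlamne
    ext x
    simp
  have hm1 : m ≠ 1 := by
    rintro rfl
    apply hmune
    ext x
    simp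
  have e1 := h.mult_eq_one l hl1
  have e2 := h.mult_eq_one m hm1
  exact conj_of_constituents P χ h.irr _ (isIrrCharacter_of_hom l) (by rw [e1]; exact one_ne_zero)
    _ (isIrrCharacter_of_hom m) (by rw [e2]; exact one_ne_zero)

end Hyp



end Cfsg.Agent.Helper6.RootU
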