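import Mathlib
import Cfsg.Prelude.Def_Characters
import Cfsg.Agent.Helper6.RootUB
import Cfsg.Agent.Helper6.CentralDefectA
import Cfsg.Agent.Helper6.TILeoC
import Cfsg.Agent.Helper6.DefectOrder
import Cfsg.Agent.Helper6.PPartBasic
import Cfsg.Agent.Helper6.IrrDegree

/-!
# Characters with root-of-unity values on `p`-singular elements: the centralizer of `O_p`
-/

set_option autoImplicit false
set_option linter.style.haveILetI false

namespace Cfsg.Agent.Helper6.RootU

open Cfsg.Agent.Helper6.BLd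

open scoped ComplexConjugate

universe u

variable {G : Type u} [Group G]

/-- A subgroup generated by an abelian subgroup and an element centralizing it is abelian. -/
theorem comm_sup_zpowers (P : Subgroup G) (hP : ∀ x ∈ P, ∀ y ∈ P, x * y = y * x) (y : G)
    (hy : y ∈ Subgroup.centralizer (P : Set G)) :
    ∀ a ∈ P ⊔ Subgroup.zpowers y, ∀ b ∈ P ⊔ Subgroup.zpowers y, a * b = b * a := by
  set A := P ⊔ Subgroup.zpowers y with hA
  -- every element of `A` commutes with `P` and with `y`
  have h1 : A ≤ Subgroup.centralizer ((P : Set G) ∪ {y}) := by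
    rw [hA, sup_le_iff]
    constructor
    · intro x hx
      rw [Subgroup.mem_centralizer_iff]
      rintro g (hg | hg)
      · exact hP g hg x hx
      · rw [Set.mem_singleton_iff] at hg
        subst hg
        exact (Subgroup.mem_centralizer_iff.mp hy x hx).symm
    · rw [Subgroup.zpowers_le]
      rw [Subgroup.mem_centralizer_iff]
      rintro g (hg | hg)
      · exact Subgroup.mem_centralizer_iff.mp hy g hg
      · rw [Set.mem_singleton_iff] at hg
        subst hg
        rfl
  have h2 : A ≤ Subgroup.centralizer (A : Set G) := by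
    intro a ha
    have ha' := h1 ha
    rw [Subgroup.mem_centralizer_iff]
    intro b hb
    -- `b ∈ A = closure (P ∪ {y})`
    have hb' : b ∈ Subgroup.closure ((P : Set G) ∪ {y}) := by
      have : A ≤ Subgroup.closure ((P : Set G) ∪ {y}) := by
        rw [hA, sup_le_iff]
        constructor
        · intro x hx
          exact Subgroup.subset_closure (Or.inl hx)
        · rw [Subgroup.zpowers_le]
          exact Subgroup.subset_closure (Or.inr rfl)
      exact this hb
    have hcomm : Subgroup.closure ((P : Set G) ∪ {y}) ≤ Subgroup.centralizer ({a} : Set G) := by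
      rw [Subgroup.closure_le]
      intro g hg
      rw [SetLike.mem_coe, Subgroup.mem_centralizer_iff]
      intro c hc
      rw [Set.mem_singleton_iff] at hc
      subst hc
      exact (Subgroup.mem_centralizer_iff.mp ha' g hg).symm
    have := Subgroup.mem_centralizer_iff.mp (hcomm hb') a rfl
    exact this.symm
  intro a ha b hb
  exact (Subgroup.mem_centralizer_iff.mp (h2 hb) a ha)

/-- In a group, a non-trivial element of `p`-power order has a power of order `p`. -/
theorem exists_order_p {Γ : Type*} [Group Γ] {p : ℕ} [hp : Fact p.Prime] (l : Γ) (hl : l ≠ 1)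
    (k : ℕ) (hlk : l ^ (p ^ k) = 1) : ∃ m : Γ, m ^ p = 1 ∧ m ≠ 1 := by
  obtain ⟨j, -, hj⟩ := (Nat.dvd_prime_pow hp.out).mp (orderOf_dvd_of_pow_eq_one hlk)
  have hj0 : j ≠ 0 := by
    rintro rfl
    rw [pow_zero, orderOf_eq_one_iff] at hj
    exact hl hj
  refine ⟨l ^ (p ^ (j - 1)), ?_, ?_⟩
  · rw [← pow_mul, ← pow_succ, Nat.sub_add_cancel (Nat.one_le_iff_ne_zero.mpr hj0), ← hj,
      pow_orderOf_eq_one]
  · apply pow_ne_one_of_lt_orderOf
    · exact (pow_pos hp.out.pos _).ne'
    · rw [hj]
      exact Nat.pow_lt_pow_right hp.out.one_lt (by omega)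

namespace Hyp

variable {p : ℕ} [hp : Fact p.Prime] {χ : G → ℂ} {P : Subgroup G} [hN : P.Normal]

omit hN in
/-- Non-identity elements of `P` are `p`-singular. -/
theorem dvd_orderOf (h : Hyp p χ P) {x : G} (hx : x ∈ P) (hx1 : x ≠ 1) :
    (∃ k : ℕ, orderOf x = p ^ k) ∧ p ∣ orderOf x := by
  obtain ⟨k, hk⟩ := h.pgroup ⟨x, hx⟩
  have hk' : x ^ p ^ k = 1 := by
    have := congrArg (Subtype.val) hk
    simpa using this
  obtain ⟨j, -, hj⟩ := (Nat.dvd_prime_pow hp.out).mp (orderOf_dvd_of_pow_eq_one hk')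
  refine ⟨⟨j, hj⟩, ?_⟩
  have hj0 : j ≠ 0 := by
    rintro rfl
    rw [pow_zero, orderOf_eq_one_iff] at hj
    exact hx1 hj
  rw [hj]
  exact dvd_pow_self p hj0

/-- The degree of `χ` as a natural number. -/
theorem degree [Fintype G] [Fintype P] (h : Hyp p χ P) :
    χ 1 = ((Nat.card P - 1 : ℕ) : ℂ) ∧ 2 ≤ Nat.card P - 1 := by
  obtain ⟨θ, -, -, -, -, hdeg⟩ := h.main_A
  have h1 : χ 1 = ((Nat.card P - 1 : ℕ) : ℂ) := by
    rw [hdeg]
    push_cast [Nat.cast_sub (Nat.card_pos (α := P))]
    ring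
  refine ⟨h1, ?_⟩
  by_contra hlt
  have h2 : Nat.card P - 1 = 0 ∨ Nat.card P - 1 = 1 := by omega
  rcases h2 with h2 | h2
  · rw [h2] at h1
    exact IsIrrCharacter.apply_one_ne_zero h.irr (by rw [h1]; simp)
  · rw [h2] at h1
    exact h.nl (by rw [h1]; simp)

/-- `P` meets the centre trivially. -/
theorem inf_center [Fintype G] [Fintype P] (h : Hyp p χ P) : P ⊓ Subgroup.center G = ⊥ := by
  rw [eq_bot_iff]
  intro x hx
  rw [Subgroup.mem_bot]
  by_contra hx1
  obtain ⟨hxP, hxZ⟩ := Subgroup.mem_inf.mp hx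
  have h1 := h.norm x (h.dvd_orderOf hxP hx1).2
  obtain ⟨ω, hω, hmul⟩ := irr_center_mul (⟨χ, h.irr⟩ : Cfsg.IrrCharacter G) x hxZ
  have h2 := hmul 1
  simp only [mul_one] at h2
  rw [h2] at h1
  obtain ⟨hd, hd2⟩ := h.degree
  rw [hd] at h1
  have h3 : ω * conj ω = 1 := by
    rw [Complex.mul_conj, Complex.normSq_eq_norm_sq, hω]
    norm_num
  have h4 : ((Nat.card P - 1 : ℕ) : ℂ) * ((Nat.card P - 1 : ℕ) : ℂ) = 1 := by
    have : ω * ((Nat.card P - 1 : ℕ) : ℂ) * conj (ω * ((Nat.card P - 1 : ℕ) : ℂ)) =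
        (ω * conj ω) * (((Nat.card P - 1 : ℕ) : ℂ) * ((Nat.card P - 1 : ℕ) : ℂ)) := by
      rw [map_mul, Complex.conj_natCast]
      ring
    rw [this, h3, one_mul] at h1
    exact h1
  have h5 : (Nat.card P - 1) * (Nat.card P - 1) = 1 := by exact_mod_cast h4
  nlinarith

/-- A `p`-element centralizing `P` lies in `P`. -/
theorem pelement_mem [Fintype G] [Fintype P] (h : Hyp p χ P) (y : G)
    (hy : y ∈ Subgroup.centralizer (P : Set G)) (hyp : ∃ k : ℕ, orderOf y = p ^ k) : y ∈ P := by
  classical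
  set A := P ⊔ Subgroup.zpowers y with hA
  haveI : Fintype A := Fintype.ofFinite _
  have hab := comm_sup_zpowers P h.comm y hy
  have hχc : Cfsg.IsCharacter G χ := IsIrrCharacter.isCharacter h.irr
  have hmf := sum_mul_conj_abelian χ hχc P A le_sup_left hab h.mult_free
  have hYp : IsPGroup p (Subgroup.zpowers y) := by
    obtain ⟨k, hk⟩ := hyp
    apply IsPGroup.of_card (n := k)
    rw [Nat.card_zpowers, hk]
  have hAp : IsPGroup p A := IsPGroup.to_sup_of_normal_left h.pgroup hYp
  have hsum := sum_mul_conj_pgroup p χ h.norm A hAp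
  obtain ⟨hd, hd2⟩ := h.degree
  rw [hmf, hd, Complex.conj_natCast] at hsum
  have hPA : Nat.card P ≤ Nat.card A := Nat.card_le_card_of_injective
    (Subgroup.inclusion (le_sup_left : P ≤ A)) (Subgroup.inclusion_injective _)
  have hnat : Nat.card A * (Nat.card P - 1) =
      (Nat.card P - 1) * (Nat.card P - 1) + (Nat.card A - 1) := by
    have : ((Nat.card A * (Nat.card P - 1) : ℕ) : ℂ) =
        (((Nat.card P - 1) * (Nat.card P - 1) + (Nat.card A - 1) : ℕ) : ℂ) := by
      push_cast [Nat.cast_sub (Nat.card_pos (α := A))]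
      rw [hsum]
    exact_mod_cast this
  have hcard : Nat.card A = Nat.card P := by
    have hA1 : 1 ≤ Nat.card A := Nat.card_pos
    obtain ⟨a, ha⟩ : ∃ a, Nat.card A = a + 1 := ⟨Nat.card A - 1, by omega⟩
    obtain ⟨q, hq⟩ : ∃ q, Nat.card P = q + 3 := ⟨Nat.card P - 3, by omega⟩
    rw [ha, hq] at hnat
    simp only [Nat.add_sub_cancel] at hnat
    have : (a + 1) * (q + 3 - 1) = (q + 3 - 1) * (q + 3 - 1) + a := hnat
    have h2 : q + 3 - 1 = q + 2 := by omega
    rw [h2] at this
    have h3 : a * (q + 1) = (q + 2) * (q + 1) := by nlinarith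
    have h4 : a = q + 2 := Nat.eq_of_mul_eq_mul_right (by omega) h3
    omega
  have hle : P ≤ A := le_sup_left
  have hPA' : P = A := by
    apply SetLike.coe_injective
    apply Set.eq_of_subset_of_ncard_le hle
    · have e1 : (A : Set G).ncard = Nat.card A := (Nat.card_coe_set_eq _).symm
      have e2 : (P : Set G).ncard = Nat.card P := (Nat.card_coe_set_eq _).symm
      rw [e1, e2, hcard]
  rw [hPA']
  exact (le_sup_right : Subgroup.zpowers y ≤ A) (Subgroup.mem_zpowers y)

/-- A `p`-regular element centralizing `P` is central. -/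
theorem regular_central [Fintype G] [Fintype P] (h : Hyp p χ P) (y : G)
    (hy : y ∈ Subgroup.centralizer (P : Set G)) (hreg : ¬ p ∣ orderOf y) :
    y ∈ Subgroup.center G := by
  classical
  set Y := Subgroup.zpowers y with hY
  set A := P ⊔ Y with hA
  haveI : Fintype A := Fintype.ofFinite _
  have hab : ∀ a ∈ A, ∀ b ∈ A, a * b = b * a := comm_sup_zpowers P h.comm y hy
  have hχc : Cfsg.IsCharacter G χ := IsIrrCharacter.isCharacter h.irr
  have hmf := sum_mul_conj_abelian χ hχc P A le_sup_left hab h.mult_free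
  obtain ⟨hd, hd2⟩ := h.degree
  have hPA : P ≤ A := le_sup_left
  have hYA : Y ≤ A := le_sup_right
  -- `P ⊓ Y = ⊥`
  have hPY : ∀ g, g ∈ P → g ∈ Y → g = 1 := by
    intro g hgP hgY
    by_contra hg1
    have h1 := (h.dvd_orderOf hgP hg1).2
    exact hreg (h1.trans (orderOf_dvd_of_mem_zpowers hgY))
  -- card bound
  have hcard : Nat.card P * Nat.card Y ≤ Nat.card A := by
    rw [← Nat.card_prod]
    apply Nat.card_le_card_of_injective
      (fun xz : P × Y => (⟨(xz.1 : G) * (xz.2 : G), mul_mem (hPA xz.1.2) (hYA xz.2.2)⟩ : A))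
    rintro ⟨x, z⟩ ⟨x', z'⟩ hxz
    have hxz' : (x : G) * (z : G) = (x' : G) * (z' : G) := congrArg Subtype.val hxz
    have h1 : (x' : G)⁻¹ * (x : G) = (z' : G) * (z : G)⁻¹ := by
      have : (x : G) = (x' : G) * (z' : G) * (z : G)⁻¹ := by rw [← hxz']; group
      rw [this]; group
    have h2 : (x' : G)⁻¹ * (x : G) = 1 := by
      apply hPY
      · exact mul_mem (inv_mem x'.2) x.2
      · rw [h1]
        exact mul_mem z'.2 (inv_mem z.2)
    have hxx : x = x' := by
      apply Subtype.ext
      have : (x : G) = (x' : G) * ((x' : G)⁻¹ * (x : G)) := by group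
      rw [this, h2, mul_one]
    have hzz : z = z' := by
      apply Subtype.ext
      rw [hxx] at hxz'
      exact mul_left_cancel hxz'
    rw [hxx, hzz]
  -- singular elements
  have hsing : ∀ a : A, (a : G) ∉ Y → χ a * conj (χ a) = 1 := by
    intro a ha
    have haA : (a : G) ∈ ((P ⊔ Y : Subgroup G) : Set G) := a.2
    rw [Subgroup.normal_mul] at haA
    obtain ⟨x, hx, z, hz, hxz⟩ := Set.mem_mul.mp haA
    have hx1 : x ≠ 1 := by
      rintro rfl
      rw [one_mul] at hxz
      exact ha (hxz ▸ hz)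
    apply h.norm
    rw [← hxz]
    have hzreg : ¬ p ∣ orderOf z :=
      fun hz' => hreg (hz'.trans (orderOf_dvd_of_mem_zpowers hz))
    have hcomm : z * x = x * z := hab z (hYA hz) x (hPA hx)
    have := dvd_orderOf_mul_of_pgroup p z x hzreg (h.dvd_orderOf hx hx1).1 hx1 hcomm
    rwa [hcomm] at this
  by_contra hyZ
  have hlt : ‖χ y‖ < ‖χ 1‖ := by
    rcases (IsCharacter.norm_le_norm_one hχc y).lt_or_eq with h1 | h1
    · exact h1
    · exfalso
      apply hyZ
      rw [Subgroup.mem_center_iff]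
      intro k
      have h2 := h.faith _ (char_commutator_of_norm_eq hχc y h1 k)
      calc k * y = (y * k * y⁻¹ * k⁻¹)⁻¹ * (y * k) := by group
        _ = y * k := by rw [h2, inv_one, one_mul]
  -- real sums
  set q1 : ℕ := Nat.card P - 1 with hq1
  have hn1 : ‖χ 1‖ = (q1 : ℝ) := by rw [hd, Complex.norm_natCast]
  have hF : ∀ g : G, χ g * conj (χ g) = ((‖χ g‖ ^ 2 : ℝ) : ℂ) := by
    intro g
    rw [Complex.mul_conj, Complex.normSq_eq_norm_sq]
  have hmfR : ∑ a : A, ‖χ a‖ ^ 2 = (Nat.card A : ℝ) * q1 := by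
    have : ((∑ a : A, ‖χ a‖ ^ 2 : ℝ) : ℂ) = (((Nat.card A : ℝ) * q1 : ℝ) : ℂ) := by
      push_cast
      rw [← hd, ← hmf]
      apply Finset.sum_congr rfl
      intro a _
      rw [hF]
      push_cast
      rfl
    exact_mod_cast this
  have hsplit := Finset.sum_filter_add_sum_filter_not (Finset.univ : Finset A)
    (fun a : A => (a : G) ∈ Y) (fun a => ‖χ a‖ ^ 2)
  have hS2 : ∑ a ∈ Finset.univ.filter (fun a : A => ¬ (a : G) ∈ Y), ‖χ a‖ ^ 2 =
      ((Finset.univ.filter (fun a : A => ¬ (a : G) ∈ Y)).card : ℝ) := by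
    rw [Finset.card_eq_sum_ones]
    push_cast
    apply Finset.sum_congr rfl
    intro a ha
    have h1 := hsing a (Finset.mem_filter.mp ha).2
    rw [hF] at h1
    exact_mod_cast h1
  have hS1card : (Finset.univ.filter (fun a : A => (a : G) ∈ Y)).card = Nat.card Y := by
    rw [← Fintype.card_subtype, ← Nat.card_eq_fintype_card]
    exact Nat.card_congr (Subgroup.subgroupOfEquivOfLe hYA).toEquiv
  have hS2card : (Finset.univ.filter (fun a : A => ¬ (a : G) ∈ Y)).card =
      Nat.card A - Nat.card Y := by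
    have := Finset.card_filter_add_card_filter_not (s := (Finset.univ : Finset A))
      (fun a : A => (a : G) ∈ Y)
    rw [hS1card, Finset.card_univ, ← Nat.card_eq_fintype_card] at this
    omega
  have hYle : Nat.card Y ≤ Nat.card A := Nat.card_le_card_of_injective
    (Subgroup.inclusion hYA) (Subgroup.inclusion_injective _)
  have hS1 : ∑ a ∈ Finset.univ.filter (fun a : A => (a : G) ∈ Y), ‖χ a‖ ^ 2 <
      (Nat.card Y : ℝ) * (q1 : ℝ) ^ 2 := by
    rw [← hS1card, ← nsmul_eq_mul, ← Finset.sum_const]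
    apply Finset.sum_lt_sum
    · intro a _
      have := IsCharacter.norm_le_norm_one hχc (a : G)
      rw [hn1] at this
      exact pow_le_pow_left₀ (norm_nonneg _) this 2
    · refine ⟨⟨y, hYA (Subgroup.mem_zpowers y)⟩, ?_, ?_⟩
      · exact Finset.mem_filter.mpr ⟨Finset.mem_univ _, Subgroup.mem_zpowers y⟩
      · rw [hn1] at hlt
        exact pow_lt_pow_left₀ hlt (norm_nonneg _) (by norm_num)
  rw [hS2, hS2card, hmfR] at hsplit
  have hcardR : ((q1 : ℝ) + 1) * (Nat.card Y : ℝ) ≤ (Nat.card A : ℝ) := by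
    have : (q1 + 1) * Nat.card Y ≤ Nat.card A := by
      have : q1 + 1 = Nat.card P := by
        have := Nat.card_pos (α := P)
        omega
      rw [this]
      exact hcard
    exact_mod_cast this
  have hq1R : (2 : ℝ) ≤ (q1 : ℝ) := by exact_mod_cast hd2
  rw [Nat.cast_sub hYle] at hsplit
  have hm0 : (0 : ℝ) ≤ (Nat.card Y : ℝ) := Nat.cast_nonneg _
  nlinarith [mul_le_mul_of_nonneg_right hcardR (by linarith : (0 : ℝ) ≤ (q1 : ℝ) - 1)]

/-- The centralizer of `P` is `P × Z(G)`. -/
theorem centralizer_eq [Fintype G] [Fintype P] (h : Hyp p χ P) :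
    Subgroup.centralizer (P : Set G) = P ⊔ Subgroup.center G := by
  apply le_antisymm
  · intro y hy
    obtain ⟨z', w', hzw, -, ⟨k, hk⟩, hw⟩ :=
      exists_isPPart p (⟨y, hy⟩ : Subgroup.centralizer (P : Set G))
    have hzP : (z' : G) ∈ P := by
      apply h.pelement_mem _ z'.2
      exact ⟨k, by rw [Subgroup.orderOf_coe]; exact hk⟩
    have hwZ : (w' : G) ∈ Subgroup.center G := by
      apply h.regular_central _ w'.2
      rw [Subgroup.orderOf_coe]
      exact hw
    have hy' : y = (z' : G) * (w' : G) := by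
      have := congrArg Subtype.val hzw
      simpa using this.symm
    rw [hy']
    exact mul_mem ((le_sup_left : P ≤ P ⊔ Subgroup.center G) hzP)
      ((le_sup_right : Subgroup.center G ≤ P ⊔ Subgroup.center G) hwZ)
  · rw [sup_le_iff]
    constructor
    · intro x hx
      rw [Subgroup.mem_centralizer_iff]
      intro g hg
      exact h.comm g hg x hx
    · exact Subgroup.center_le_centralizer _

/-- `P` has exponent `p`. -/
theorem exp_p [Fintype G] [Fintype P] (h : Hyp p χ P) : ∀ x ∈ P, x ^ p = 1 := by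
  classical
  haveI : Finite (↥P →* ℂˣ) := finite_hom_units
  haveI : Fintype (↥P →* ℂˣ) := Fintype.ofFinite _
  have habP : ∀ a b : P, a * b = b * a := fun a b => Subtype.ext (h.comm a a.2 b b.2)
  have hχc : Cfsg.IsCharacter G χ := IsIrrCharacter.isCharacter h.irr
  obtain ⟨hd, hd2⟩ := h.degree
  obtain ⟨k, hk0, hk⟩ := h.card_eq
  -- number of homs
  have hcard : Fintype.card (↥P →* ℂˣ) = Nat.card P := by
    rw [← Nat.card_eq_fintype_card, card_hom_units]
    have hcomm : commutator ↥P = ⊥ := by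
      rw [commutator_eq_bot_iff_center_eq_top, eq_top_iff]
      intro a _
      rw [Subgroup.mem_center_iff]
      intro b
      exact habP b a
    rw [hcomm, Subgroup.index_bot]
  -- a non-trivial hom
  obtain ⟨l, hl⟩ : ∃ l : ↥P →* ℂˣ, l ≠ 1 := by
    have : 1 < Fintype.card (↥P →* ℂˣ) := by
      rw [hcard]
      omega
    obtain ⟨a, b, hab⟩ := Fintype.one_lt_card_iff.mp this
    by_cases ha : a = 1
    · exact ⟨b, fun hb => hab (by rw [ha, hb])⟩
    · exact ⟨a, ha⟩
  obtain ⟨lam₀, hlam₀p, hlam₀ne⟩ : ∃ lam₀ : ↥P →* ℂˣ, lam₀ ^ p = 1 ∧ lam₀ ≠ 1 := by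
    apply exists_order_p (p := p) l hl k
    ext x
    simp only [MonoidHom.pow_apply, MonoidHom.one_apply]
    rw [← map_pow, ← hk, pow_card_eq_one', map_one]
  -- every hom kills `p`-th powers
  have hkill : ∀ (m : ↥P →* ℂˣ) (x : P), m (x ^ p) = 1 := by
    intro m x
    by_cases hm : m = 1
    · rw [hm, MonoidHom.one_apply]
    · have hne1 : (fun x : P => ((lam₀ x : ℂˣ) : ℂ)) ≠ fun _ => (1 : ℂ) := by
        intro hcon
        apply hlam₀ne
        ext x
        have := congrFun hcon x
        simpa using this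
      have hne2 : (fun x : P => ((m x : ℂˣ) : ℂ)) ≠ fun _ => (1 : ℂ) := by
        intro hcon
        apply hm
        ext x
        have := congrFun hcon x
        simpa using this
      obtain ⟨g, hg⟩ := h.transitive _ _
        (IsIrrCharacter.isCharacter (isIrrCharacter_of_hom lam₀)) (by simp) hne1
        (IsIrrCharacter.isCharacter (isIrrCharacter_of_hom m)) (by simp) hne2
      have h1 := congrFun hg (x ^ p)
      simp only [conjFun] at h1
      have h2 : (⟨g * ((x ^ p : P) : G) * g⁻¹, hN.conj_mem _ (x ^ p : P).2 g⟩ : P) =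
          (⟨g * (x : G) * g⁻¹, hN.conj_mem _ x.2 g⟩ : P) ^ p := by
        apply Subtype.ext
        simp only [Subgroup.coe_pow]
        rw [conj_pow]
      have h3 : lam₀ ((⟨g * (x : G) * g⁻¹, hN.conj_mem _ x.2 g⟩ : P) ^ p) = 1 := by
        rw [map_pow]
        have := congrArg (fun f : ↥P →* ℂˣ => f (⟨g * (x : G) * g⁻¹, hN.conj_mem _ x.2 g⟩ : P))
          hlam₀p
        simpa [MonoidHom.pow_apply] using this
      rw [h2, h3] at h1
      exact Units.ext (by simpa using h1)
  intro x hx
  have hfi := fourier_inversion habP (fun x : P => χ x) (⟨x, hx⟩ ^ p)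
  have hfi1 := fourier_inversion habP (fun x : P => χ x) 1
  have heq : χ ((⟨x, hx⟩ ^ p : P) : G) = χ ((1 : P) : G) := by
    rw [hfi, hfi1]
    apply Finset.sum_congr rfl
    intro m _
    rw [hkill m, map_one]
  have := h.faith _ (by simpa using heq)
  simpa using this

end Hyp





end Cfsg.Agent.Helper6.RootU
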