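import Mathlib
import Cfsg.Prelude.Def_Characters
import Cfsg.Agent.Helper6.RootUC
import Cfsg.Agent.Helper6.LinearCount

/-!
# Characters with root-of-unity values on `p`-singular elements: `O_p` is a Sylow subgroup,
or `p = 2` and `|O_p| = 4`
-/

set_option autoImplicit false
set_option linter.style.haveILetI false

namespace Cfsg.Agent.Helper6.RootU

open Cfsg.Agent.Helper6.BLd

open scoped ComplexConjugate
open scoped commutatorElement

universe u

section IndexTwo

variable {S : Type u} [Group S]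

open Classical in
/-- The sign character of a subgroup of index two. -/
noncomputable def signHom (P' : Subgroup S) (hidx : P'.index = 2) : S →* ℂˣ :=
  MonoidHom.mk' (fun y => if y ∈ P' then 1 else -1) (by
    intro a b
    have := Subgroup.mul_mem_iff_of_index_two hidx (a := a) (b := b)
    by_cases ha : a ∈ P' <;> by_cases hb : b ∈ P' <;> simp [ha, hb, this])

open Classical in
theorem signHom_apply (P' : Subgroup S) (hidx : P'.index = 2) (y : S) :
    ((signHom P' hidx y : ℂˣ) : ℂ) = if y ∈ P' then 1 else -1 := by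
  unfold signHom
  simp only [MonoidHom.mk'_apply]
  split_ifs <;> simp

/-- Parseval's identity for class functions, real form. -/
theorem parseval_re [Fintype S] [Fintype (Cfsg.IrrCharacter S)] (φ : S → ℂ)
    (hφ : Cfsg.IsClassFunction S φ) :
    (Cfsg.classInner φ φ).re =
      ∑ χ : Cfsg.IrrCharacter S, Complex.normSq (Cfsg.classInner φ (χ : S → ℂ)) := by
  have h1 : Cfsg.classInner φ φ = ∑ χ : Cfsg.IrrCharacter S,
      Cfsg.classInner φ (χ : S → ℂ) * conj (Cfsg.classInner φ (χ : S → ℂ)) := by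
    have hexp := classFunction_expansion φ hφ
    calc Cfsg.classInner φ φ
        = Cfsg.classInner (∑ χ : Cfsg.IrrCharacter S,
            Cfsg.classInner φ (χ : S → ℂ) • (χ : S → ℂ)) φ := by rw [← hexp]
      _ = _ := by
        rw [classInner_sum_left]
        apply Finset.sum_congr rfl
        intro χ _
        rw [classInner_smul_left, classInner_conj_symm φ (χ : S → ℂ)]
  rw [h1, Complex.re_sum]
  apply Finset.sum_congr rfl
  intro χ _
  rw [Complex.mul_conj, Complex.ofReal_re]

open Classical in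
/-- A character of a group with an abelian-like subgroup `P'` of index two which has norm one off
`P'` and contains every non-principal linear character of `P'` exactly once: the commutator
quotient has order at most `4`. -/
theorem index_two_bound [Fintype S] (P' : Subgroup S) (hidx : P'.index = 2) (ψ : S → ℂ)
    (hψ : Cfsg.IsCharacter S ψ) (ha : ∀ y : S, y ∉ P' → ψ y * conj (ψ y) = 1)
    (hb : ∀ lam : P' →* ℂˣ, lam ≠ 1 →
      Cfsg.classInner (fun x : P' => ψ x) (fun x => ((lam x : ℂˣ) : ℂ)) = 1) :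
    (commutator S).index ≤ 4 := by
  haveI : Finite (Cfsg.IrrCharacter S) := irr_finite
  haveI : Fintype (Cfsg.IrrCharacter S) := Fintype.ofFinite _
  haveI : Finite (S →* ℂˣ) := finite_hom_units
  haveI : Fintype (S →* ℂˣ) := Fintype.ofFinite _
  haveI hPn : P'.Normal := Subgroup.normal_of_index_eq_two hidx
  set σ := signHom P' hidx with hσ
  have hcardS : Nat.card S = 2 * Nat.card P' := by
    rw [← hidx, Subgroup.index_mul_card]
  have hS0 : (Nat.card S : ℂ) ≠ 0 := by exact_mod_cast (Nat.card_pos (α := S)).ne'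
  have hP0 : (Nat.card P' : ℂ) ≠ 0 := by exact_mod_cast (Nat.card_pos (α := P')).ne'
  have hcardC : (Nat.card S : ℂ) = 2 * (Nat.card P' : ℂ) := by exact_mod_cast hcardS
  -- the function vanishing on `P'`
  set δ : S → ℂ := fun y => if y ∈ P' then 0 else ψ y with hδ
  have hψcf := IsCharacter.isClassFunction hψ
  have hδcf : Cfsg.IsClassFunction S δ := by
    intro g k
    simp only [hδ]
    have : k * g * k⁻¹ ∈ P' ↔ g ∈ P' := by
      constructor
      · intro h
        have := hPn.conj_mem _ h k⁻¹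
        simpa [mul_assoc] using this
      · intro h
        exact hPn.conj_mem _ h k
    by_cases hg : g ∈ P'
    · rw [if_pos hg, if_pos (this.mpr hg)]
    · rw [if_neg hg, if_neg (fun h => hg (this.mp h)), hψcf]
  -- sums over `P'`
  have hsumP : ∀ f : S → ℂ, ∑ x : P', f x = ∑ y : S, if y ∈ P' then f y else 0 := by
    intro f
    rw [← Finset.sum_filter]
    exact (Finset.sum_subtype (Finset.univ.filter (fun y : S => y ∈ P'))
      (fun y => by simp) f).symm
  -- the two identities
  have hsum_id : ∀ ν : S →* ℂˣ,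
      Cfsg.classInner ψ (fun y => ((ν y : ℂˣ) : ℂ)) +
        Cfsg.classInner ψ (fun y => (((σ * ν) y : ℂˣ) : ℂ)) =
      Cfsg.classInner (fun x : P' => ψ x) (fun x : P' => ((ν x : ℂˣ) : ℂ)) := by
    intro ν
    simp only [Cfsg.classInner]
    rw [hsumP (fun y => ψ y * conj ((ν y : ℂˣ) : ℂ)), ← mul_add, ← Finset.sum_add_distrib, hcardC]
    have : ∀ y : S, ψ y * conj ((ν y : ℂˣ) : ℂ) + ψ y * conj (((σ * ν) y : ℂˣ) : ℂ) =
        2 * (if y ∈ P' then ψ y * conj ((ν y : ℂˣ) : ℂ) else 0) := by
      intro y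
      rw [MonoidHom.mul_apply, Units.val_mul, map_mul, signHom_apply]
      split_ifs <;> simp <;> ring
    rw [Finset.sum_congr rfl (fun y _ => this y), ← Finset.mul_sum]
    field_simp
  have hdiff_id : ∀ ν : S →* ℂˣ,
      Cfsg.classInner ψ (fun y => ((ν y : ℂˣ) : ℂ)) -
        Cfsg.classInner ψ (fun y => (((σ * ν) y : ℂˣ) : ℂ)) =
      2 * Cfsg.classInner δ (fun y => ((ν y : ℂˣ) : ℂ)) := by
    intro ν
    simp only [Cfsg.classInner]
    rw [← mul_sub, ← Finset.sum_sub_distrib]
    have : ∀ y : S, ψ y * conj ((ν y : ℂˣ) : ℂ) - ψ y * conj (((σ * ν) y : ℂˣ) : ℂ) =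
        2 * (δ y * conj ((ν y : ℂˣ) : ℂ)) := by
      intro y
      rw [MonoidHom.mul_apply, Units.val_mul, map_mul, signHom_apply]
      simp only [hδ]
      split_ifs <;> simp <;> ring
    rw [Finset.sum_congr rfl (fun y _ => this y), ← Finset.mul_sum]
    ring
  -- the norm of `δ`
  have hδnorm : Cfsg.classInner δ δ = 1 / 2 := by
    simp only [Cfsg.classInner]
    have h1 : ∀ y : S, δ y * conj (δ y) = 1 - (if y ∈ P' then 1 else 0) := by
      intro y
      simp only [hδ]
      split_ifs with hy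
      · simp
      · rw [ha y hy]; simp
    rw [Finset.sum_congr rfl (fun y _ => h1 y), Finset.sum_sub_distrib, ← hsumP (fun _ => 1)]
    simp only [Finset.sum_const, Finset.card_univ, nsmul_eq_mul, mul_one]
    rw [← Nat.card_eq_fintype_card, ← Nat.card_eq_fintype_card, hcardC]
    field_simp
    ring
  -- the coefficients
  have hcoef : ∀ ν : S →* ℂˣ, (ν.comp P'.subtype) ≠ 1 →
      Complex.normSq (Cfsg.classInner δ (fun y => ((ν y : ℂˣ) : ℂ))) = 1 / 4 := by
    intro ν hν
    obtain ⟨A, hA⟩ := classInner_char_char_nat hψ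
      (IsIrrCharacter.isCharacter (isIrrCharacter_of_hom ν))
    obtain ⟨B, hB⟩ := classInner_char_char_nat hψ
      (IsIrrCharacter.isCharacter (isIrrCharacter_of_hom (σ * ν)))
    have h1 := hsum_id ν
    have h2 := hdiff_id ν
    have h3 := hb (ν.comp P'.subtype) hν
    simp only [MonoidHom.comp_apply, Subgroup.coe_subtype] at h3
    rw [hA, hB, h3] at h1
    rw [hA, hB] at h2
    have hAB : A + B = 1 := by exact_mod_cast h1
    have hval : Cfsg.classInner δ (fun y => ((ν y : ℂˣ) : ℂ)) = ((A : ℂ) - B) / 2 := by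
      rw [h2]; ring
    rw [hval]
    have : (A = 1 ∧ B = 0) ∨ (A = 0 ∧ B = 1) := by omega
    rcases this with ⟨rfl, rfl⟩ | ⟨rfl, rfl⟩
    · norm_num [Complex.normSq_apply]
    · simp only [Nat.cast_zero, Nat.cast_one, zero_sub]
      rw [neg_div, Complex.normSq_neg]
      norm_num [Complex.normSq_apply]
  -- Parseval
  have hpars := parseval_re δ hδcf
  rw [hδnorm] at hpars
  have hre : ((1 : ℂ) / 2).re = 1 / 2 := by norm_num
  rw [hre] at hpars
  -- the family of homs non-trivial on `P'`
  set F : Finset (S →* ℂˣ) := Finset.univ.filter (fun ν => ν.comp P'.subtype ≠ 1) with hF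
  let ι : (S →* ℂˣ) → Cfsg.IrrCharacter S :=
    fun ν => ⟨fun y => ((ν y : ℂˣ) : ℂ), isIrrCharacter_of_hom ν⟩
  have hι : Function.Injective ι := by
    intro a b hab
    ext y
    have := congrFun (congrArg Subtype.val hab) y
    exact this
  have hlow : ((F.card : ℝ)) / 4 ≤ 1 / 2 := by
    rw [hpars]
    calc ((F.card : ℝ)) / 4 = ∑ ν ∈ F, Complex.normSq (Cfsg.classInner δ ((ι ν : S → ℂ))) := by
          rw [Finset.sum_congr rfl (fun ν hν => hcoef ν (Finset.mem_filter.mp hν).2),
            Finset.sum_const, nsmul_eq_mul]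
          ring
      _ = ∑ φ ∈ F.image ι, Complex.normSq (Cfsg.classInner δ (φ : S → ℂ)) := by
          rw [Finset.sum_image (fun a _ b _ hab => hι hab)]
      _ ≤ ∑ φ : Cfsg.IrrCharacter S, Complex.normSq (Cfsg.classInner δ (φ : S → ℂ)) := by
          apply Finset.sum_le_univ_sum_of_nonneg
          intro φ
          exact Complex.normSq_nonneg _
  have hFle : F.card ≤ 2 := by
    have : (F.card : ℝ) ≤ 2 := by linarith
    exact_mod_cast this
  -- the complement
  have hcompl : (Finset.univ.filter (fun ν : S →* ℂˣ => ¬ ν.comp P'.subtype ≠ 1)).card ≤ 2 := by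
    have h1 := card_hom_trivial_on_le_index P'
    rw [hidx, Nat.card_eq_fintype_card, Fintype.card_subtype] at h1
    refine le_trans (le_of_eq ?_) h1
    congr 1
    ext ν
    simp only [ne_eq, not_not, Finset.mem_filter, Finset.mem_univ, true_and]
    constructor
    · intro h i hi
      have := congrArg (fun f : P' →* ℂˣ => f ⟨i, hi⟩) h
      simpa using this
    · intro h
      ext x
      simp [h x x.2]
  have htot := Finset.card_filter_add_card_filter_not (s := (Finset.univ : Finset (S →* ℂˣ)))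
    (fun ν => ν.comp P'.subtype ≠ 1)
  rw [Finset.card_univ, ← Nat.card_eq_fintype_card, card_hom_units] at htot
  have hF' : (Finset.univ.filter (fun ν : S →* ℂˣ => ν.comp P'.subtype ≠ 1)).card = F.card := by
    rw [hF]
  omega

/-- In a finite group with an elementary abelian `2`-subgroup of index two, the square of the order
of the commutator subgroup is at most the order of that subgroup. -/
theorem comm_sq_le [Finite S] (P' : Subgroup S) (hidx : P'.index = 2)
    (hc : ∀ x ∈ P', ∀ y ∈ P', x * y = y * x) (h2 : ∀ x ∈ P', x * x = 1) :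
    Nat.card (commutator S) ^ 2 ≤ Nat.card P' := by
  haveI hPn : P'.Normal := Subgroup.normal_of_index_eq_two hidx
  -- an element outside `P'`
  obtain ⟨g, hg⟩ : ∃ g : S, g ∉ P' := by
    by_contra hcon
    push Not at hcon
    have : P' = ⊤ := eq_top_iff.mpr (fun x _ => hcon x)
    rw [this, Subgroup.index_top] at hidx
    norm_num at hidx
  have hgg : g * g ∈ P' := by
    rw [Subgroup.mul_mem_iff_of_index_two hidx]
  have hginv : g⁻¹ ∉ P' := fun h => hg (by simpa using inv_mem h)
  have hcoset : ∀ a : S, a ∉ P' → g⁻¹ * a ∈ P' := by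
    intro a ha
    rw [Subgroup.mul_mem_iff_of_index_two hidx]
    exact ⟨fun h => absurd h hginv, fun h => absurd h ha⟩
  have hconj : ∀ x ∈ P', g * x * g⁻¹ ∈ P' := fun x hx => hPn.conj_mem x hx g
  have hinvself : ∀ x ∈ P', x⁻¹ = x := by
    intro x hx
    exact inv_eq_of_mul_eq_one_left (h2 x hx)
  -- the commutator map
  let κ : P' →* S :=
    { toFun := fun x => (x : S) * (g * (x : S)⁻¹ * g⁻¹)
      map_one' := by simp
      map_mul' := by
        intro x y
        have hu : g * (x : S)⁻¹ * g⁻¹ ∈ P' := hconj _ (inv_mem x.2)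
        have hv : g * (y : S)⁻¹ * g⁻¹ ∈ P' := hconj _ (inv_mem y.2)
        have e : g * ((x : S) * (y : S))⁻¹ * g⁻¹ =
            (g * (y : S)⁻¹ * g⁻¹) * (g * (x : S)⁻¹ * g⁻¹) := by group
        simp only [Subgroup.coe_mul]
        rw [e]
        have e2 : (g * (x : S)⁻¹ * g⁻¹) * ((y : S) * (g * (y : S)⁻¹ * g⁻¹)) =
            ((y : S) * (g * (y : S)⁻¹ * g⁻¹)) * (g * (x : S)⁻¹ * g⁻¹) :=
          hc _ hu _ (mul_mem y.2 hv)
        calc (x : S) * (y : S) * ((g * (y : S)⁻¹ * g⁻¹) * (g * (x : S)⁻¹ * g⁻¹))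
            = (x : S) * (((y : S) * (g * (y : S)⁻¹ * g⁻¹)) * (g * (x : S)⁻¹ * g⁻¹)) := by group
          _ = (x : S) * ((g * (x : S)⁻¹ * g⁻¹) * ((y : S) * (g * (y : S)⁻¹ * g⁻¹))) := by rw [e2]
          _ = _ := by group }
  have hκ : ∀ x : P', κ x = (x : S) * (g * (x : S)⁻¹ * g⁻¹) := fun _ => rfl
  have hκmem : ∀ x : P', κ x ∈ P' := fun x => mul_mem x.2 (hconj _ (inv_mem x.2))
  -- `κ ∘ κ = 1`
  have hκκ : ∀ x : P', κ ⟨κ x, hκmem x⟩ = 1 := by
    intro x
    rw [hκ]
    simp only
    rw [hκ]
    have hx' : (x : S)⁻¹ = x := hinvself x x.2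
    rw [hx']
    set u := g * (x : S) * g⁻¹ with hu
    have huP : u ∈ P' := hconj _ x.2
    have huu : u * u = 1 := h2 u huP
    have hgx : g * g * (x : S) = (x : S) * (g * g) := hc _ hgg _ x.2
    have e1 : g * ((x : S) * u)⁻¹ * g⁻¹ = (g * g * (x : S) * (g * g)⁻¹)⁻¹ * u⁻¹ := by
      rw [hu]; simp only [mul_inv_rev, inv_inv, mul_assoc, inv_mul_cancel_left]
    rw [e1, hgx]
    have e2 : (x : S) * (g * g) * (g * g)⁻¹ = x := by group
    rw [e2, hx', hinvself u huP]
    calc (x : S) * u * ((x : S) * u) = (x : S) * (u * (x : S)) * u := by group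
      _ = (x : S) * ((x : S) * u) * u := by rw [hc u huP x x.2]
      _ = ((x : S) * (x : S)) * (u * u) := by group
      _ = 1 := by rw [h2 x x.2, huu, one_mul]
  -- range inside kernel
  have hcard1 : Nat.card κ.range ≤ Nat.card κ.ker := by
    apply Nat.card_le_card_of_injective
      (fun y : κ.range => (⟨⟨(y : S), by
        obtain ⟨x, hx⟩ := y.2
        rw [← hx]
        exact hκmem x⟩, by
        obtain ⟨x, hx⟩ := y.2
        rw [MonoidHom.mem_ker]
        have := hκκ x
        simp only [hx] at this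
        exact this⟩ : κ.ker))
    intro a b hab
    apply Subtype.ext
    have := congrArg (fun z : κ.ker => ((z : P') : S)) hab
    exact this
  have hcard2 : Nat.card κ.range * Nat.card κ.ker = Nat.card P' := by
    rw [← Subgroup.index_ker, Subgroup.index_mul_card]
  -- the commutator subgroup is inside the range
  have hcomm : commutator S ≤ κ.range := by
    rw [commutator_def, Subgroup.commutator_le]
    -- the four cases
    have hPP : ∀ x ∈ P', ∀ y ∈ P', ⁅x, y⁆ ∈ κ.range := by
      intro x hx y hy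
      have : ⁅x, y⁆ = 1 := by
        rw [commutatorElement_def, hc x hx y hy]
        group
      rw [this]
      exact one_mem _
    have hPg : ∀ x ∈ P', ∀ y ∈ P', ⁅x, g * y⁆ ∈ κ.range := by
      intro x hx y hy
      refine ⟨⟨x, hx⟩, ?_⟩
      rw [hκ, commutatorElement_def]
      simp only
      have e : y * x⁻¹ * y⁻¹ = x⁻¹ := by
        rw [hc y hy x⁻¹ (inv_mem hx)]
        group
      calc x * (g * x⁻¹ * g⁻¹) = x * (g * (y * x⁻¹ * y⁻¹) * g⁻¹) := by rw [e]
        _ = x * (g * y) * x⁻¹ * (g * y)⁻¹ := by group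
    have hgP : ∀ x ∈ P', ∀ y ∈ P', ⁅g * x, y⁆ ∈ κ.range := by
      intro x hx y hy
      rw [← commutatorElement_inv]
      exact inv_mem (hPg y hy x hx)
    have hgg' : ∀ x ∈ P', ∀ y ∈ P', ⁅g * x, g * y⁆ ∈ κ.range := by
      intro x hx y hy
      set w := x * y⁻¹ with hw
      have hwP : w ∈ P' := mul_mem hx (inv_mem hy)
      refine ⟨⟨g * w * g⁻¹, hconj w hwP⟩, ?_⟩
      rw [hκ, commutatorElement_def]
      simp only
      have hv : g * (y * x⁻¹) * g⁻¹ ∈ P' := hconj _ (mul_mem hy (inv_mem hx))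
      have e1 : x * (g * (y * x⁻¹) * g⁻¹) * y⁻¹ = (x * y⁻¹) * (g * (y * x⁻¹) * g⁻¹) := by
        calc x * (g * (y * x⁻¹) * g⁻¹) * y⁻¹ = x * ((g * (y * x⁻¹) * g⁻¹) * y⁻¹) := by group
          _ = x * (y⁻¹ * (g * (y * x⁻¹) * g⁻¹)) := by rw [hc _ hv _ (inv_mem hy)]
          _ = _ := by group
      calc g * w * g⁻¹ * (g * (g * w * g⁻¹)⁻¹ * g⁻¹)
          = g * ((x * y⁻¹) * (g * (y * x⁻¹) * g⁻¹)) * g⁻¹ := by rw [hw]; group
        _ = g * (x * (g * (y * x⁻¹) * g⁻¹) * y⁻¹) * g⁻¹ := by rw [e1]
        _ = g * x * (g * y) * (g * x)⁻¹ * (g * y)⁻¹ := by group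
    intro a _ b _
    by_cases ha : a ∈ P' <;> by_cases hb : b ∈ P'
    · exact hPP a ha b hb
    · have := hPg a ha _ (hcoset b hb)
      rwa [mul_inv_cancel_left] at this
    · have := hgP _ (hcoset a ha) b hb
      rwa [mul_inv_cancel_left] at this
    · have := hgg' _ (hcoset a ha) _ (hcoset b hb)
      rwa [mul_inv_cancel_left, mul_inv_cancel_left] at this
  have hcard3 : Nat.card (commutator S) ≤ Nat.card κ.range :=
    Nat.card_le_card_of_injective (Subgroup.inclusion hcomm) (Subgroup.inclusion_injective _)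
  calc Nat.card (commutator S) ^ 2 ≤ Nat.card κ.range ^ 2 := Nat.pow_le_pow_left hcard3 2
    _ = Nat.card κ.range * Nat.card κ.range := sq _
    _ ≤ Nat.card κ.range * Nat.card κ.ker := Nat.mul_le_mul_left _ hcard1
    _ = Nat.card P' := hcard2

end IndexTwo

variable {G : Type u} [Group G]

/-- Transport of the inner product along a group isomorphism. -/
theorem classInner_equiv {A B : Type*} [Group A] [Group B] [Fintype A] [Fintype B] (e : A ≃* B)
    (f₁ f₂ : B → ℂ) :
    Cfsg.classInner (fun a : A => f₁ (e a)) (fun a : A => f₂ (e a)) = Cfsg.classInner f₁ f₂ := by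
  simp only [Cfsg.classInner]
  rw [Nat.card_congr e.toEquiv]
  congr 1
  exact Fintype.sum_equiv e.toEquiv _ _ (fun a => rfl)

namespace Hyp

variable {p : ℕ} [hp : Fact p.Prime] {χ : G → ℂ} {P : Subgroup G} [hN : P.Normal]

/-- If `P` is properly contained in a `p`-subgroup `S`, then `p = 2` and `|S : P| = 2`. -/
theorem two_of_lt [Fintype G] [Fintype P] (h : Hyp p χ P) (S : Subgroup G) (hS : IsPGroup p S)
    (hPS : P < S) : p = 2 ∧ Nat.card S = 2 * Nat.card P := by
  classical
  haveI : Fintype S := Fintype.ofFinite _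
  have hχc : Cfsg.IsCharacter G χ := IsIrrCharacter.isCharacter h.irr
  have hres : Cfsg.IsCharacter S (fun x : S => χ x) := IsCharacter.restrict S hχc
  obtain ⟨n, hn⟩ := classInner_char_char_nat hres hres
  have hsum := sum_mul_conj_pgroup p χ h.norm S hS
  have hsum2 : ∑ a : S, χ a * conj (χ a) =
      (Nat.card S : ℂ) * Cfsg.classInner (fun x : S => χ x) (fun x : S => χ x) := by
    rw [Cfsg.classInner]
    have hS0 : (Nat.card S : ℂ) ≠ 0 := by exact_mod_cast (Nat.card_pos (α := S)).ne'
    field_simp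
  obtain ⟨hd, hd2⟩ := h.degree
  rw [hsum2, hn, hd, Complex.conj_natCast] at hsum
  set q := Nat.card P with hq
  have hnat : Nat.card S * n = (q - 1) * (q - 1) + (Nat.card S - 1) := by
    have : ((Nat.card S * n : ℕ) : ℂ) = (((q - 1) * (q - 1) + (Nat.card S - 1) : ℕ) : ℂ) := by
      push_cast [Nat.cast_sub (Nat.card_pos (α := S))]
      rw [hsum]
    exact_mod_cast this
  obtain ⟨a, ha0, ha⟩ := h.card_eq
  obtain ⟨b, hb⟩ := IsPGroup.iff_card.mp hS
  have hlt : q < Nat.card S := by
    have hle : q ≤ Nat.card S := Nat.card_le_card_of_injective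
      (Subgroup.inclusion hPS.le) (Subgroup.inclusion_injective _)
    rcases hle.lt_or_eq with h1 | h1
    · exact h1
    · exfalso
      apply hPS.ne
      apply SetLike.coe_injective
      apply Set.eq_of_subset_of_ncard_le hPS.le
      have e1 : (S : Set G).ncard = Nat.card S := (Nat.card_coe_set_eq _).symm
      have e2 : (P : Set G).ncard = Nat.card P := (Nat.card_coe_set_eq _).symm
      rw [e1, e2, ← h1]
  have hab : a < b := by
    rw [hq, ha, hb] at hlt
    exact (Nat.pow_lt_pow_iff_right hp.out.one_lt).mp hlt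
  obtain ⟨c, hc1, hbc⟩ : ∃ c, 1 ≤ c ∧ b = a + c := ⟨b - a, by omega, by omega⟩
  have hScard : Nat.card S = q * p ^ c := by rw [hb, hbc, pow_add, ← ha]
  -- `|S|` divides `q (q - 2)`
  have hq3 : 3 ≤ q := by omega
  have hdvd : Nat.card S ∣ q * (q - 2) := by
    have h1 : Nat.card S ∣ Nat.card S * n := Dvd.intro _ rfl
    rw [hnat] at h1
    have h2 : (q - 1) * (q - 1) + (Nat.card S - 1) = q * (q - 2) + Nat.card S := by
      obtain ⟨r, hr⟩ : ∃ r, q = r + 3 := ⟨q - 3, by omega⟩
      have hS1 : 1 ≤ Nat.card S := Nat.card_pos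
      obtain ⟨s, hs⟩ : ∃ s, Nat.card S = s + 1 := ⟨Nat.card S - 1, by omega⟩
      rw [hr, hs]
      simp only [Nat.add_sub_cancel]
      have e1 : r + 3 - 1 = r + 2 := by omega
      have e2 : r + 3 - 2 = r + 1 := by omega
      rw [e1, e2]
      ring
    rw [h2] at h1
    exact (Nat.dvd_add_left (dvd_refl _)).mp h1
  have hdvd2 : p ^ c ∣ q - 2 := by
    rw [hScard] at hdvd
    exact Nat.dvd_of_mul_dvd_mul_left (by omega) hdvd
  have hpq : p ∣ q := by rw [hq, ha]; exact dvd_pow_self p ha0
  have hpq2 : p ∣ q - 2 := (dvd_pow_self p (by omega : c ≠ 0)).trans hdvd2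
  have hp2 : p ∣ 2 := by
    have := Nat.dvd_sub hpq hpq2
    rwa [Nat.sub_sub_self (by omega)] at this
  have hp2' : p = 2 := (Nat.prime_dvd_prime_iff_eq hp.out Nat.prime_two).mp hp2
  refine ⟨hp2', ?_⟩
  subst hp2'
  have hc : c = 1 := by
    by_contra hne
    have hc2 : 2 ≤ c := by omega
    have h4 : 4 ∣ q - 2 := (pow_dvd_pow 2 hc2).trans hdvd2
    have ha2 : 2 ≤ a := by
      by_contra hlt2
      have : a = 1 := by omega
      rw [this] at ha
      omega
    have h4q : 4 ∣ q := by
      rw [hq, ha]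
      exact pow_dvd_pow 2 ha2
    omega
  rw [hScard, hc]
  ring

/-- If `P` is properly contained in a `p`-subgroup, then `|P| = 4`. -/
theorem card_eq_four_of_lt [Fintype G] [Fintype P] (h : Hyp p χ P) (S : Subgroup G)
    (hS : IsPGroup p S) (hPS : P < S) : Nat.card P = 4 := by
  classical
  obtain ⟨hp2, hcard⟩ := h.two_of_lt S hS hPS
  haveI : Fintype S := Fintype.ofFinite _
  set P' : Subgroup S := P.subgroupOf S with hP'
  let e : P' ≃* P := Subgroup.subgroupOfEquivOfLe hPS.le
  have hcardP' : Nat.card P' = Nat.card P := Nat.card_congr e.toEquiv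
  have hidx : P'.index = 2 := by
    have h1 := Subgroup.index_mul_card P'
    rw [hcardP', hcard] at h1
    exact Nat.eq_of_mul_eq_mul_right Nat.card_pos h1
  have hχc : Cfsg.IsCharacter G χ := IsIrrCharacter.isCharacter h.irr
  have hres : Cfsg.IsCharacter S (fun x : S => χ x) := IsCharacter.restrict S hχc
  have ha : ∀ y : S, y ∉ P' → (fun x : S => χ x) y * conj ((fun x : S => χ x) y) = 1 := by
    intro y hy
    apply h.norm
    have hy1 : y ≠ 1 := by
      rintro rfl
      exact hy (one_mem _)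
    obtain ⟨k, hk⟩ := hS y
    have hk' : (y : G) ^ p ^ k = 1 := by
      have := congrArg (Subtype.val) hk
      simpa using this
    obtain ⟨j, -, hj⟩ := (Nat.dvd_prime_pow hp.out).mp (orderOf_dvd_of_pow_eq_one hk')
    have hj0 : j ≠ 0 := by
      rintro rfl
      rw [pow_zero, orderOf_eq_one_iff] at hj
      exact hy1 (Subtype.ext hj)
    rw [hj]
    exact dvd_pow_self p hj0
  have hb : ∀ lam : P' →* ℂˣ, lam ≠ 1 →
      Cfsg.classInner (fun x : P' => (fun x : S => χ x) x) (fun x => ((lam x : ℂˣ) : ℂ)) = 1 := by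
    intro lam hlam
    set lam' : P →* ℂˣ := lam.comp e.symm.toMonoidHom with hlam'
    have hlam'ne : lam' ≠ 1 := by
      intro hcon
      apply hlam
      ext x
      have := congrArg (fun f : P →* ℂˣ => f (e x)) hcon
      simp only [hlam', MonoidHom.comp_apply, MulEquiv.coe_toMonoidHom, MulEquiv.symm_apply_apply,
        MonoidHom.one_apply] at this
      rw [this]
      rfl
    have h1 := h.mult_eq_one lam' hlam'ne
    rw [← classInner_equiv e] at h1
    rw [← h1]
    congr 1
  have hbound := index_two_bound P' hidx (fun x : S => χ x) hres ha hb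
  have hc : ∀ x ∈ P', ∀ y ∈ P', x * y = y * x := by
    intro x hx y hy
    apply Subtype.ext
    exact h.comm x hx y hy
  have h2 : ∀ x ∈ P', x * x = 1 := by
    intro x hx
    apply Subtype.ext
    have := h.exp_p x hx
    rw [hp2] at this
    simpa [sq] using this
  have hsq := comm_sq_le P' hidx hc h2
  rw [hcardP'] at hsq
  have hmul := Subgroup.index_mul_card (commutator ↥S)
  rw [hcard] at hmul
  obtain ⟨hd, hd2⟩ := h.degree
  set q := Nat.card P with hq
  set c := Nat.card (commutator ↥S) with hc'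
  set i := (commutator ↥S).index with hi
  have hq2c : q ≤ 2 * c := by nlinarith
  have hq4 : q ≤ 4 := by nlinarith
  obtain ⟨a, ha0, hqa⟩ := h.card_eq
  rw [← hq, hp2] at hqa
  have ha2 : a ≤ 2 := by
    by_contra hlt
    have : 2 ^ 3 ≤ 2 ^ a := Nat.pow_le_pow_right (by norm_num) (by omega)
    omega
  interval_cases a
  · omega
  · omega
  · omega

end Hyp

end Cfsg.Agent.Helper6.RootU
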