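import Mathlib
import Cfsg.Agent.Helper6.RootUE
import Cfsg.Agent.Helper6.RootUC

/-!
# Splitting off the centre: a complement isomorphic to the symmetric group of degree four
-/

set_option autoImplicit false
set_option linter.style.haveILetI false

namespace Cfsg.Agent.Helper6.RootU

universe u

section Main

variable {G : Type u} [Group G]

/-- The conjugation action of `G` on the non-identity elements of a normal subgroup. -/
@[instance_reducible]
def nonOneAct (P : Subgroup G) [P.Normal] : MulAction G {x : P // x ≠ 1} where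
  smul g x := ⟨MulAut.conjNormal g x.1, fun h => x.2
    ((MulAut.conjNormal g).injective (h.trans (map_one (MulAut.conjNormal g)).symm))⟩
  one_smul x := by
    apply Subtype.ext
    change MulAut.conjNormal (1 : G) x.1 = x.1
    rw [map_one]
    rfl
  mul_smul g h x := by
    apply Subtype.ext
    change MulAut.conjNormal (g * h) x.1 = MulAut.conjNormal g (MulAut.conjNormal h x.1)
    rw [map_mul]
    rfl

theorem nonOneAct_smul_coe (P : Subgroup G) [P.Normal] (g : G) (x : {x : P // x ≠ 1}) :
    (((nonOneAct P).smul g x : {x : P // x ≠ 1}) : G) = g * (x : G) * g⁻¹ := rfl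

theorem nonOneAct_ker (P : Subgroup G) [P.Normal] :
    (@MulAction.toPermHom G {x : P // x ≠ 1} _ (nonOneAct P)).ker =
      Subgroup.centralizer (P : Set G) := by
  letI := nonOneAct P
  ext g
  rw [MonoidHom.mem_ker, Subgroup.mem_centralizer_iff]
  constructor
  · intro h y hy
    by_cases hy1 : y = 1
    · rw [hy1, one_mul, mul_one]
    · have hne : (⟨y, hy⟩ : P) ≠ 1 := fun h' => hy1 (congrArg Subtype.val h')
      have h1 := congrArg (fun σ : Equiv.Perm {x : P // x ≠ 1} => σ ⟨⟨y, hy⟩, hne⟩) h
      have h2 : g • (⟨⟨y, hy⟩, hne⟩ : {x : P // x ≠ 1}) = ⟨⟨y, hy⟩, hne⟩ := h1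
      have h3 := congrArg (fun z : {x : P // x ≠ 1} => ((z : P) : G)) h2
      have h4 : g * y * g⁻¹ = y := h3
      rw [← h4]
      simp only [inv_mul_cancel_right]
      rw [h4]
  · intro h
    ext x
    change (((g • x : {x : P // x ≠ 1}) : P) : G) = ((x : P) : G)
    have h1 : (((g • x : {x : P // x ≠ 1}) : P) : G) = g * (x : G) * g⁻¹ := rfl
    rw [h1, ← h _ x.1.2, mul_inv_cancel_right]

/-- If `O_2(G) = P` meets the centre trivially, the centre has odd order. -/
theorem odd_center [Finite G] (P : Subgroup G)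
    (hmax : ∀ N : Subgroup G, N.Normal → IsPGroup 2 N → N ≤ P)
    (hPZ : P ⊓ Subgroup.center G = ⊥) : Odd (Nat.card (Subgroup.center G)) := by
  haveI : Fact (Nat.Prime 2) := ⟨Nat.prime_two⟩
  by_contra hodd
  rw [Nat.not_odd_iff_even, even_iff_two_dvd] at hodd
  obtain ⟨z, hz⟩ := exists_prime_orderOf_dvd_card' 2 hodd
  have hzo : orderOf (z : G) = 2 := by
    rw [Subgroup.orderOf_coe]
    exact hz
  have hN : (Subgroup.zpowers (z : G)).Normal := by
    constructor
    intro n hn g
    have hnZ : n ∈ Subgroup.center G := (Subgroup.zpowers_le.mpr z.2) hn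
    have : g * n * g⁻¹ = n := by
      rw [Subgroup.mem_center_iff] at hnZ
      rw [hnZ g, mul_inv_cancel_right]
    rw [this]
    exact hn
  have hp : IsPGroup 2 (Subgroup.zpowers (z : G)) :=
    IsPGroup.of_card (n := 1) (by rw [Nat.card_zpowers, hzo, pow_one])
  have h1 : (z : G) ∈ P := hmax _ hN hp (Subgroup.mem_zpowers _)
  have h2 : (z : G) ∈ P ⊓ Subgroup.center G := ⟨h1, z.2⟩
  rw [hPZ, Subgroup.mem_bot] at h2
  rw [h2, orderOf_one] at hzo
  omega

theorem index_centralizer_eq_six [Finite G] (P : Subgroup G) [P.Normal] (hP4 : Nat.card P = 4)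
    (h3 : 3 ∣ (Subgroup.centralizer (P : Set G)).index)
    (h2 : ∃ s : G, (∃ k : ℕ, orderOf s = 2 ^ k) ∧ s ∉ Subgroup.centralizer (P : Set G)) :
    (Subgroup.centralizer (P : Set G)).index = 6 := by
  letI := nonOneAct P
  set φ := MulAction.toPermHom G {x : P // x ≠ 1} with hφ
  have hker : φ.ker = Subgroup.centralizer (P : Set G) := nonOneAct_ker P
  have hcardΩ : Nat.card {x : P // x ≠ 1} = 3 := by
    classical
    have := Nat.card_congr (Equiv.optionSubtypeNe (1 : P))
    rw [Finite.card_option, hP4] at this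
    omega
  have hperm : Nat.card (Equiv.Perm {x : P // x ≠ 1}) = 6 := by
    rw [Nat.card_perm, hcardΩ]
    rfl
  have hdvd : (Subgroup.centralizer (P : Set G)).index ∣ 6 := by
    rw [← hker, Subgroup.index_ker, ← hperm]
    exact Subgroup.card_subgroup_dvd_card _
  have h2' : 2 ∣ (Subgroup.centralizer (P : Set G)).index := by
    obtain ⟨s, ⟨k, hk⟩, hs⟩ := h2
    rw [← hker, Subgroup.index_ker]
    have hne : φ s ≠ 1 := by
      intro h
      apply hs
      rw [← hker]
      exact h
    have ho : orderOf (φ s) ∣ 2 ^ k := hk ▸ orderOf_map_dvd φ s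
    obtain ⟨j, -, hj⟩ := (Nat.dvd_prime_pow Nat.prime_two).mp ho
    have hj0 : j ≠ 0 := by
      rintro rfl
      rw [pow_zero, orderOf_eq_one_iff] at hj
      exact hne hj
    have h2o : 2 ∣ orderOf (φ s) := by
      rw [hj]
      exact dvd_pow_self 2 hj0
    have hmem : φ s ∈ φ.range := ⟨s, rfl⟩
    have : orderOf (⟨φ s, hmem⟩ : φ.range) ∣ Nat.card φ.range := orderOf_dvd_natCard _
    rw [Subgroup.orderOf_mk] at this
    exact h2o.trans this
  have h6 : 6 ∣ (Subgroup.centralizer (P : Set G)).index :=
    Nat.Coprime.mul_dvd_of_dvd_of_dvd (by norm_num : Nat.Coprime 2 3) h2' h3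
  exact Nat.dvd_antisymm hdvd h6

theorem exists_three_element [Finite G] (P : Subgroup G) [P.Normal] (hP4 : Nat.card P = 4)
    (hC : Subgroup.centralizer (P : Set G) = P ⊔ Subgroup.center G)
    (h3 : 3 ∣ (Subgroup.centralizer (P : Set G)).index) :
    ∃ g : G, g ∉ Subgroup.centralizer (P : Set G) ∧ g ^ 3 ∈ Subgroup.center G := by
  haveI : Fact (Nat.Prime 3) := ⟨Nat.prime_three⟩
  letI := nonOneAct P
  set φ := MulAction.toPermHom G {x : P // x ≠ 1} with hφ
  have hker : φ.ker = Subgroup.centralizer (P : Set G) := nonOneAct_ker P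
  have h3' : 3 ∣ Nat.card φ.range := by
    rw [← Subgroup.index_ker, hker]
    exact h3
  obtain ⟨σ, hσ⟩ := exists_prime_orderOf_dvd_card' 3 h3'
  obtain ⟨g₀, hg₀⟩ := σ.2
  have hord : orderOf (φ g₀) = 3 := by
    rw [hg₀, Subgroup.orderOf_coe]
    exact hσ
  have h1 : (φ g₀) ^ 3 = 1 := by
    rw [← hord]
    exact pow_orderOf_eq_one _
  refine ⟨g₀ ^ 4, ?_, ?_⟩
  · rw [← hker, MonoidHom.mem_ker, map_pow]
    have h2 : (φ g₀) ^ 4 = φ g₀ := by
      rw [pow_succ, h1, one_mul]
    rw [h2]
    intro h
    rw [h, orderOf_one] at hord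
    omega
  · have h4 : g₀ ^ 3 ∈ Subgroup.centralizer (P : Set G) := by
      rw [← hker, MonoidHom.mem_ker, map_pow]
      exact h1
    rw [hC] at h4
    obtain ⟨v, hv, z, hz, hvz⟩ := Subgroup.mem_sup_of_normal_right.mp h4
    have h5 : (g₀ ^ 4) ^ 3 = (g₀ ^ 3) ^ 4 := by
      rw [← pow_mul, ← pow_mul]
    rw [h5, ← hvz]
    have hcomm : Commute v z := Subgroup.mem_center_iff.mp hz v
    rw [hcomm.mul_pow]
    have hv4 : v ^ 4 = 1 := by
      have := pow_card_eq_one' (G := P) (x := ⟨v, hv⟩)
      rw [hP4] at this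
      exact congrArg Subtype.val this
    rw [hv4, one_mul]
    exact Subgroup.pow_mem _ hz 4

theorem card_center_sup_zpowers [Finite G] (g : G) (hg : g ∉ Subgroup.center G)
    (hg3 : g ^ 3 ∈ Subgroup.center G) :
    Nat.card ↥(Subgroup.center G ⊔ Subgroup.zpowers g) = 3 * Nat.card (Subgroup.center G) := by
  haveI : Fact (Nat.Prime 3) := ⟨Nat.prime_three⟩
  rw [sup_comm, card_sup_eq_mul_relIndex, mul_comm]
  congr 1
  have h1 := Subgroup.relIndex_ker (Subgroup.zpowers g) (QuotientGroup.mk' (Subgroup.center G))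
  rw [QuotientGroup.ker_mk'] at h1
  rw [h1, MonoidHom.map_zpowers, Nat.card_zpowers]
  apply orderOf_eq_prime
  · rw [← map_pow]
    exact (QuotientGroup.eq_one_iff _).mpr hg3
  · intro h
    exact hg ((QuotientGroup.eq_one_iff _).mp h)

/-- If `P = O_2(G)` has order `4`, is self-centralising modulo the centre and meets the centre
trivially, and `G / C_G(P)` has order divisible by `6`, then the centre has odd order and has a
complement isomorphic to the symmetric group of degree four. -/
theorem s4_complement [Finite G] (P : Subgroup G) [hPn : P.Normal] (hP4 : Nat.card P = 4)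
    (hmax : ∀ N : Subgroup G, N.Normal → IsPGroup 2 N → N ≤ P)
    (hC : Subgroup.centralizer (P : Set G) = P ⊔ Subgroup.center G)
    (hPZ : P ⊓ Subgroup.center G = ⊥)
    (h3 : 3 ∣ (Subgroup.centralizer (P : Set G)).index)
    (h2 : ∃ s : G, (∃ k : ℕ, orderOf s = 2 ^ k) ∧ s ∉ Subgroup.centralizer (P : Set G)) :
    Odd (Nat.card (Subgroup.center G)) ∧ ∃ H : Subgroup G,
      Nonempty (H ≃* Equiv.Perm (Fin 4)) ∧ H ⊓ Subgroup.center G = ⊥ ∧
      H ⊔ Subgroup.center G = ⊤ := by
  have hodd : Odd (Nat.card (Subgroup.center G)) := odd_center P hmax hPZ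
  refine ⟨hodd, ?_⟩
  have hzpos : 0 < Nat.card (Subgroup.center G) := Nat.card_pos
  have hidx : (Subgroup.centralizer (P : Set G)).index = 6 :=
    index_centralizer_eq_six P hP4 h3 h2
  have hcardC : Nat.card (Subgroup.centralizer (P : Set G)) =
      4 * Nat.card (Subgroup.center G) := by
    rw [hC, card_sup_of_inf_bot _ _ hPZ, hP4]
  have hcardG : Nat.card G = 24 * Nat.card (Subgroup.center G) := by
    rw [← Subgroup.card_mul_index (Subgroup.centralizer (P : Set G)), hidx, hcardC]
    ring
  obtain ⟨g, hgC, hg3⟩ := exists_three_element P hP4 hC h3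
  have hgZ : g ∉ Subgroup.center G := fun h => hgC (Subgroup.center_le_centralizer _ h)
  have hcardA : Nat.card ↥(Subgroup.center G ⊔ Subgroup.zpowers g) =
      3 * Nat.card (Subgroup.center G) := card_center_sup_zpowers g hgZ hg3
  have hAcomm : ∀ a ∈ Subgroup.center G ⊔ Subgroup.zpowers g,
      ∀ b ∈ Subgroup.center G ⊔ Subgroup.zpowers g, a * b = b * a := by
    apply comm_sup_zpowers
    · intro x hx y _
      exact (Subgroup.mem_center_iff.mp hx y).symm
    · rw [Subgroup.mem_centralizer_iff]
      intro y hy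
      exact (Subgroup.mem_center_iff.mp hy g).symm
  set A := Subgroup.center G ⊔ Subgroup.zpowers g with hA
  have hAidx : A.index = 8 := by
    have h := Subgroup.card_mul_index A
    rw [hcardA, hcardG] at h
    have h' : Nat.card (Subgroup.center G) * (3 * A.index) =
        Nat.card (Subgroup.center G) * 24 := by
      linarith
    have := Nat.eq_of_mul_eq_mul_left hzpos h'
    omega
  have hcop2 : Nat.Coprime 2 (Nat.card (Subgroup.center G)) := Nat.coprime_two_left.mpr hodd
  have hcop : A.index.Coprime (Nat.card (Subgroup.center G)) := by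
    rw [hAidx]
    exact Nat.Coprime.pow_left 3 hcop2
  obtain ⟨K, hKn, hKZ, hZK, hKA, hKmem⟩ := exists_transfer_kernel A hAcomm hcop
  obtain ⟨d, hd⟩ := hZK
  have hd3 : d ∣ 3 := by
    rw [hd, hcardA, mul_comm 3] at hKA
    exact Nat.dvd_of_mul_dvd_mul_left hzpos hKA
  have hcardK : Nat.card K * d = 24 := by
    have h := Subgroup.card_mul_index K
    rw [hd, hcardG] at h
    have h' : Nat.card (Subgroup.center G) * (Nat.card K * d) =
        Nat.card (Subgroup.center G) * 24 := by
      linarith
    exact Nat.eq_of_mul_eq_mul_left hzpos h'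
  have hd1 : d = 1 := by
    rcases (Nat.dvd_prime Nat.prime_three).mp hd3 with h | h
    · exact h
    · exfalso
      have hK8 : Nat.card K = 8 := by
        rw [h] at hcardK
        omega
      haveI : Fact (Nat.Prime 2) := ⟨Nat.prime_two⟩
      have hKp : IsPGroup 2 K := IsPGroup.of_card (n := 3) (by rw [hK8]; norm_num)
      have := Subgroup.card_dvd_of_le (hmax K hKn hKp)
      rw [hK8, hP4] at this
      omega
  have hK24 : Nat.card K = 24 := by
    rw [hd1] at hcardK
    omega
  refine ⟨K, ?_, hKZ, ?_⟩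
  · have hPK : P ≤ K := by
      intro x hx
      apply hKmem
      have h1 : orderOf x ∣ 4 := by
        have : orderOf (⟨x, hx⟩ : P) ∣ Nat.card P := orderOf_dvd_natCard _
        rwa [Subgroup.orderOf_mk, hP4] at this
      have h2 : Nat.Coprime 4 (Nat.card A) := by
        rw [hcardA]
        apply Nat.Coprime.mul_right (by norm_num)
        exact Nat.Coprime.pow_left 2 hcop2
      exact Nat.Coprime.coprime_dvd_left h1 h2
    haveI : (P.subgroupOf K).Normal := inferInstance
    apply perm_four_of_card hK24 (P.subgroupOf K)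
    · rw [Nat.card_congr (Subgroup.subgroupOfEquivOfLe hPK).toEquiv, hP4]
    · intro h hh
      rw [Subgroup.mem_subgroupOf]
      have h1 : (h : G) ∈ Subgroup.centralizer (P : Set G) := by
        rw [Subgroup.mem_centralizer_iff]
        intro y hy
        have hy' : (⟨y, hPK hy⟩ : K) ∈ ((P.subgroupOf K : Subgroup K) : Set K) := by
          rw [SetLike.mem_coe, Subgroup.mem_subgroupOf]
          exact hy
        have := Subgroup.mem_centralizer_iff.mp hh ⟨y, hPK hy⟩ hy'
        exact congrArg Subtype.val this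
      rw [hC] at h1
      obtain ⟨v, hv, z, hz, hvz⟩ := Subgroup.mem_sup_of_normal_right.mp h1
      have hzK : z ∈ K := by
        have : z = v⁻¹ * h := by
          rw [← hvz]
          group
        rw [this]
        exact K.mul_mem (K.inv_mem (hPK hv)) h.2
      have hz1 : z = 1 := by
        have : z ∈ K ⊓ Subgroup.center G := ⟨hzK, hz⟩
        rwa [hKZ, Subgroup.mem_bot] at this
      rw [← hvz, hz1, mul_one]
      exact hv
  · apply Subgroup.IsComplement'.sup_eq_top
    apply Subgroup.isComplement'_of_card_mul_and_disjoint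
    · rw [hK24, hcardG]
    · exact disjoint_iff.mpr hKZ

end Main

end Cfsg.Agent.Helper6.RootU
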