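import Mathlib
import Cfsg.Prelude.Def_Characters
import Cfsg.Prelude.Def_Solvable
import Cfsg.Prelude.Def_Transfer
import Cfsg.Agent.Helper4.PCore
import Cfsg.Agent.Helper6.RootUD
import Cfsg.Agent.Helper6.RootUF

/-!
# Faithful characters with root-of-unity values on `p`-singular elements and `O_p(G) ≠ 1`
-/

set_option autoImplicit false
set_option linter.style.haveILetI false

namespace Cfsg.Agent.Helper6.RootU

open Cfsg.Agent.Helper6.BLd

open scoped ComplexConjugate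

universe u

theorem root_main {G : Type u} [Group G] [Finite G] (p : ℕ) [hp : Fact p.Prime] (χ : G → ℂ)
    (hχ : Cfsg.IsIrrCharacter G χ) (hfaith : ∀ g : G, χ g = χ 1 → g = 1) (hnl : χ 1 ≠ 1)
    (hroot : ∀ g : G, p ∣ orderOf g → ∃ n : ℕ, 0 < n ∧ (χ g) ^ n = 1)
    (hP : Cfsg.pCore p G ≠ ⊥) :
    ((Nat.card ↥(Cfsg.pCore p G)).factorization p = (Nat.card G).factorization p ∧
      Cfsg.IsElementaryAbelian p (Cfsg.pCore p G) ∧
      Subgroup.centralizer ((Cfsg.pCore p G : Subgroup G) : Set G) =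
        Cfsg.pCore p G ⊔ Subgroup.center G ∧
      Cfsg.pCore p G ⊓ Subgroup.center G = ⊥ ∧
      (∀ lam mu : ↥(Cfsg.pCore p G) → ℂ, Cfsg.IsCharacter ↥(Cfsg.pCore p G) lam → lam 1 = 1 →
        lam ≠ (fun _ => (1 : ℂ)) → Cfsg.IsCharacter ↥(Cfsg.pCore p G) mu → mu 1 = 1 →
        mu ≠ (fun _ => (1 : ℂ)) →
        ∃ g : G, ∀ (x : G) (hx : x ∈ Cfsg.pCore p G) (hgx : g * x * g⁻¹ ∈ Cfsg.pCore p G),
          mu ⟨x, hx⟩ = lam ⟨g * x * g⁻¹, hgx⟩) ∧
      χ 1 = (Nat.card ↥(Cfsg.pCore p G) : ℂ) - 1) ∨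
    (p = 2 ∧ Odd (Nat.card ↥(Subgroup.center G)) ∧ ∃ H : Subgroup G,
      Nonempty (↥H ≃* Equiv.Perm (Fin 4)) ∧ H ⊓ Subgroup.center G = ⊥ ∧
      H ⊔ Subgroup.center G = ⊤) := by
  classical
  haveI : Fintype G := Fintype.ofFinite G
  haveI hPn : (Cfsg.pCore p G).Normal := Cfsg.Agent.Helper4.pCore_normal
  haveI : Fintype ↥(Cfsg.pCore p G) := Fintype.ofFinite _
  have hyp : Hyp p χ (Cfsg.pCore p G) :=
    { irr := hχ
      faith := hfaith
      nl := hnl
      norm := fun g hg => by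
        obtain ⟨n, hn, h⟩ := hroot g hg
        exact mul_conj_eq_one_of_pow hn h
      pgroup := Cfsg.Agent.Helper4.pCore_isPGroup
      ne_bot := hP }
  obtain ⟨θ, hθ, hθ1, hinner, hidx, hdeg⟩ := hyp.main_A
  obtain ⟨S⟩ := (inferInstance : Nonempty (Sylow p G))
  have hle : Cfsg.pCore p G ≤ (S : Subgroup G) := Cfsg.Agent.Helper4.pCore_le_sylow S
  by_cases hPS : Cfsg.pCore p G = (S : Subgroup G)
  · left
    refine ⟨?_, ⟨⟨⟨fun a b => Subtype.ext (hyp.comm a a.2 b b.2)⟩⟩, hyp.exp_p⟩,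
      hyp.centralizer_eq, hyp.inf_center, ?_, hdeg⟩
    · have h1 : Nat.card ↥(Cfsg.pCore p G) = p ^ (Nat.card G).factorization p :=
        (congrArg (fun K : Subgroup G => Nat.card K) hPS).trans S.card_eq_multiplicity
      rw [h1, Nat.Prime.factorization_pow hp.out, Finsupp.single_eq_same]
    · intro lam mu hlam hlam1 hlamne hmu hmu1 hmune
      obtain ⟨g, hg⟩ := hyp.transitive lam mu hlam hlam1 hlamne hmu hmu1 hmune
      refine ⟨g, ?_⟩
      intro x hx hgx
      rw [hg]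
      rfl
  · right
    have hlt : Cfsg.pCore p G < (S : Subgroup G) := lt_of_le_of_ne hle hPS
    obtain ⟨hp2, -⟩ := hyp.two_of_lt S S.isPGroup' hlt
    have hP4 : Nat.card ↥(Cfsg.pCore p G) = 4 := hyp.card_eq_four_of_lt S S.isPGroup' hlt
    subst hp2
    refine ⟨rfl, ?_⟩
    apply s4_complement (Cfsg.pCore 2 G) hP4
    · intro N hN hNp
      exact Cfsg.Agent.Helper4.le_pCore N hN hNp
    · exact hyp.centralizer_eq
    · exact hyp.inf_center
    · have h1 : Subgroup.centralizer ((Cfsg.pCore 2 G : Subgroup G) : Set G) ≤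
          conjStab (Cfsg.pCore 2 G) θ := by
        intro g hg
        change conjFun (Cfsg.pCore 2 G) θ g = θ
        funext h
        change θ ⟨g * h * g⁻¹, _⟩ = θ h
        apply congrArg θ
        apply Subtype.ext
        change g * (h : G) * g⁻¹ = h
        rw [← Subgroup.mem_centralizer_iff.mp hg h h.2, mul_inv_cancel_right]
      have h2 := Subgroup.index_dvd_of_le h1
      rw [hidx, hP4] at h2
      exact h2
    · obtain ⟨s, hsS, hsP⟩ := SetLike.exists_of_lt hlt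
      obtain ⟨k, hk⟩ := S.isPGroup' ⟨s, hsS⟩
      have hk' : s ^ 2 ^ k = 1 := congrArg Subtype.val hk
      obtain ⟨j, -, hj⟩ := (Nat.dvd_prime_pow Nat.prime_two).mp (orderOf_dvd_of_pow_eq_one hk')
      refine ⟨s, ⟨j, hj⟩, ?_⟩
      intro hc
      exact hsP (hyp.pelement_mem s hc ⟨j, hj⟩)

end Cfsg.Agent.Helper6.RootU
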