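import Mathlib
import Cfsg.Agent.Helper6.SEmbE

/-!
# The isomorphism with the model `D₃ × D₃`
-/

set_option autoImplicit false
set_option linter.style.haveILetI false

namespace Cfsg.Agent.Helper6.SEmb

open DihedralGroup

variable {H : Type*} [Group H]

theorem exists_model_abstract [Finite H] (T : Subgroup H) [hTn : T.Normal] (hT9 : Nat.card T = 9)
    (hcomm : ∀ x ∈ T, ∀ y ∈ T, x * y = y * x) (hexp : ∀ t ∈ T, t ^ 3 = 1)
    (hCT : ∀ h : H, (∀ t ∈ T, h * t = t * h) → h ∈ T) (hK : IsKleinFour (H ⧸ T)) :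
    ∃ e : H ≃* M36, ∀ n : H, n ∈ T ↔ (isRot (e n).1 && isRot (e n).2) = true := by
  classical
  have hH36 : Nat.card H = 36 := by
    rw [Subgroup.card_eq_card_quotient_mul_card_subgroup T, hT9, IsKleinFour.card_four]
  obtain ⟨P, hP4'⟩ := Sylow.exists_subgroup_card_pow_prime 2 (n := 2) (G := H) (by
    rw [hH36]; decide)
  have hP4 : Nat.card P = 4 := by rw [hP4']; rfl
  obtain ⟨hbot, hsq, hPc⟩ := klein_facts T hT9 hK P hP4
  obtain ⟨a, b, u, v, haT, hbT, ha1, hb1, huP, hvP, hu1, hv1, huv, hua, hub, hva, hvb⟩ :=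
    exists_abuv T hT9 hcomm hexp hCT P hP4 hbot hsq hPc
  have hPT : ∀ z : H, z ∈ P → z ∈ T → z = 1 := by
    intro z hz1 hz2
    have : z ∈ P ⊓ T := ⟨hz1, hz2⟩
    rw [hbot] at this
    exact Subgroup.mem_bot.mp this
  have ha3 : a ^ 3 = 1 := hexp a haT
  have hb3 : b ^ 3 = 1 := hexp b hbT
  have huT : u ∉ T := fun h => hu1 (hPT u huP h)
  have hvT : v ∉ T := fun h => hv1 (hPT v hvP h)
  have hinvv : v⁻¹ = v := inv_eq_of_mul_eq_one_left (hsq v hvP)
  have huvT : u * v ∉ T := by
    intro h
    have h1 := hPT _ (P.mul_mem huP hvP) h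
    apply huv
    have : u = v⁻¹ := eq_inv_of_mul_eq_one_left h1
    rw [this, hinvv]
  -- commutation
  have cab : Commute a b := hcomm a haT b hbT
  have cav : Commute a v := by
    show a * v = v * a
    calc a * v = (v * a * v⁻¹) * v := by rw [hva]
      _ = v * a := by group
  have cub : Commute u b := by
    show u * b = b * u
    calc u * b = (u * b * u⁻¹) * u := by group
      _ = b * u := by rw [hub]
  have cuv : Commute u v := hPc u huP v hvP
  have cAB : ∀ i j : ZMod 3, Commute (pw3 a i) (pw3 b j) := fun i j => Commute.pow_pow cab _ _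
  have cAv : ∀ i : ZMod 3, Commute (pw3 a i) v := fun i => Commute.pow_left cav _
  have cuB : ∀ j : ZMod 3, Commute u (pw3 b j) := fun j => Commute.pow_right cub _
  set f₁ : D3 →* H := dihHom a u ha3 (hsq u huP) hua with hf₁
  set f₂ : D3 →* H := dihHom b v hb3 (hsq v hvP) hvb with hf₂
  have hcm : ∀ x y : D3, Commute (f₁ x) (f₂ y) := by
    intro x y
    rcases x with i | i <;> rcases y with j | j
    · exact cAB i j
    · show Commute (pw3 a i) (v * pw3 b j)
      exact Commute.mul_right (cAv i) (cAB i j)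
    · show Commute (u * pw3 a i) (pw3 b j)
      exact Commute.mul_left (cuB j) (cAB i j)
    · show Commute (u * pw3 a i) (v * pw3 b j)
      exact Commute.mul_left (Commute.mul_right cuv (cuB j))
        (Commute.mul_right (cAv i) (cAB i j))
  set g : M36 →* H := MonoidHom.noncommCoprod f₁ f₂ hcm with hg
  have hgap : ∀ x y : D3, g (x, y) = f₁ x * f₂ y := fun x y => MonoidHom.noncommCoprod_apply _ _ _ _
  have hA : ∀ i : ZMod 3, pw3 a i ∈ T := fun i => pw3_mem a T haT i
  have hB : ∀ j : ZMod 3, pw3 b j ∈ T := fun j => pw3_mem b T hbT j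
  -- membership in `T`
  have hmemT : ∀ m : M36, g m ∈ T ↔ (isRot m.1 && isRot m.2) = true := by
    rintro ⟨x, y⟩
    rw [hgap]
    rcases x with i | i <;> rcases y with j | j
    · show pw3 a i * pw3 b j ∈ T ↔ _
      simp only [isRot, Bool.and_self, iff_true]
      exact T.mul_mem (hA i) (hB j)
    · show pw3 a i * (v * pw3 b j) ∈ T ↔ _
      simp only [isRot, Bool.and_false, Bool.false_eq_true, iff_false]
      intro h
      apply hvT
      have : v = (pw3 a i)⁻¹ * (pw3 a i * (v * pw3 b j)) * (pw3 b j)⁻¹ := by group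
      rw [this]
      exact T.mul_mem (T.mul_mem (T.inv_mem (hA i)) h) (T.inv_mem (hB j))
    · show u * pw3 a i * pw3 b j ∈ T ↔ _
      simp only [isRot, Bool.false_and, Bool.false_eq_true, iff_false]
      intro h
      apply huT
      have : u = (u * pw3 a i * pw3 b j) * (pw3 b j)⁻¹ * (pw3 a i)⁻¹ := by group
      rw [this]
      exact T.mul_mem (T.mul_mem h (T.inv_mem (hB j))) (T.inv_mem (hA i))
    · show u * pw3 a i * (v * pw3 b j) ∈ T ↔ _
      simp only [isRot, Bool.and_self, Bool.false_eq_true, iff_false]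
      intro h
      apply huvT
      have e1 : u * pw3 a i * (v * pw3 b j) = u * v * (pw3 a i * pw3 b j) := by
        calc u * pw3 a i * (v * pw3 b j) = u * (pw3 a i * v) * pw3 b j := by group
          _ = u * (v * pw3 a i) * pw3 b j := by rw [(cAv i).eq]
          _ = _ := by group
      rw [e1] at h
      have : u * v = (u * v * (pw3 a i * pw3 b j)) * (pw3 a i * pw3 b j)⁻¹ := by group
      rw [this]
      exact T.mul_mem h (T.inv_mem (T.mul_mem (hA i) (hB j)))
  have hinj : Function.Injective g := by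
    rw [injective_iff_map_eq_one]
    rintro ⟨x, y⟩ hxy
    have hT1 : g (x, y) ∈ T := by rw [hxy]; exact T.one_mem
    have hrot := (hmemT (x, y)).mp hT1
    rw [hgap] at hxy
    rcases x with i | i <;> rcases y with j | j
    · have h1 : pw3 a i * pw3 b j = 1 := hxy
      obtain ⟨hi, hj⟩ := pw3_indep a b u ha3 hb3 ha1 hb1 hua hub i j h1
      rw [hi, hj]
      rfl
    · simp [isRot] at hrot
    · simp [isRot] at hrot
    · simp [isRot] at hrot
  have hbij : Function.Bijective g := by
    haveI : Fintype H := Fintype.ofFinite H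
    rw [Fintype.bijective_iff_injective_and_card]
    refine ⟨hinj, ?_⟩
    rw [← Nat.card_eq_fintype_card, ← Nat.card_eq_fintype_card, hH36, Nat.card_prod,
      DihedralGroup.nat_card]
  refine ⟨(MulEquiv.ofBijective g hbij).symm, ?_⟩
  intro n
  have h1 : g ((MulEquiv.ofBijective g hbij).symm n) = n :=
    (MulEquiv.ofBijective g hbij).apply_symm_apply n
  rw [← hmemT, h1]

end Cfsg.Agent.Helper6.SEmb
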