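import Mathlib
import Cfsg.Prelude.Def_Characters
import Cfsg.Agent.Helper6.SEmbC

/-!
# The abstract `S₃ × S₃` situation

`Setup G`: a subgroup `N` of `G` with an isomorphism `e : N ≃* D₃ × D₃`, such that the preimage of
`rot × rot` is a Sylow 3-subgroup of `G`, and such that the set `A` of 3-singular elements of `N`
satisfies: `t ∈ A`, `z⁻¹ t z ∈ A` imply `z ∈ N`.

For an integer valued function `d` on the model vanishing off the 3-singular elements,
`S.Theta d` is the function on `G` induced from `d ∘ e`.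
-/

set_option autoImplicit false
set_option linter.style.haveILetI false

namespace Cfsg.Agent.Helper6.SEmb

open Cfsg.Agent.Helper6
open DihedralGroup
open scoped ComplexConjugate

universe u

/-- 3-singular elements of the model -/
def sing (m : M36) : Bool := isThree m.1 || isThree m.2

theorem sing_inv (m : M36) : sing m⁻¹ = sing m := by
  revert m; decide

theorem sing_conj (m c : M36) : sing (c * m * c⁻¹) = sing m := by
  revert m c; decide

theorem card_M36 : Nat.card M36 = 36 := by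
  rw [Nat.card_prod, DihedralGroup.nat_card]

variable {G : Type u} [Group G]

/-- The abstract situation. -/
structure Setup (G : Type u) [Group G] where
  /-- the subgroup -/
  N : Subgroup G
  /-- the identification with the model -/
  e : ↥N ≃* M36
  /-- the Sylow 3-subgroup -/
  T : Sylow 3 G
  hT : ∀ g : G, g ∈ (T : Subgroup G) ↔
    ∃ n : N, (n : G) = g ∧ (isRot (e n).1 && isRot (e n).2) = true
  hTI : ∀ t t' : N, sing (e t) = true → sing (e t') = true → ∀ z : G,
    (t' : G) = z⁻¹ * (t : G) * z → z ∈ N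

namespace Setup

variable (S : Setup G)

/-- the embedding of the model -/
def ι : M36 →* G := S.N.subtype.comp S.e.symm.toMonoidHom

theorem ι_mem (m : M36) : S.ι m ∈ S.N := (S.e.symm m).2

theorem ι_e (n : S.N) : S.ι (S.e n) = (n : G) := by
  show ((S.e.symm (S.e n) : S.N) : G) = n
  rw [MulEquiv.symm_apply_apply]

theorem e_ι (m : M36) (h : S.ι m ∈ S.N) : S.e ⟨S.ι m, h⟩ = m := by
  have : (⟨S.ι m, h⟩ : S.N) = S.e.symm m := Subtype.ext rfl
  rw [this, MulEquiv.apply_symm_apply]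

theorem ι_injective : Function.Injective S.ι := by
  intro a b hab
  have : S.e.symm a = S.e.symm b := Subtype.ext hab
  exact S.e.symm.injective this

theorem exists_of_mem {g : G} (hg : g ∈ S.N) : ∃ m : M36, S.ι m = g :=
  ⟨S.e ⟨g, hg⟩, S.ι_e ⟨g, hg⟩⟩

theorem ι_eq_one_iff (m : M36) : S.ι m = 1 ↔ m = 1 := by
  constructor
  · intro h
    apply S.ι_injective
    rw [h, map_one]
  · rintro rfl
    exact map_one _

theorem hTI' (m m' : M36) (hm : sing m = true) (hm' : sing m' = true) (z : G)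
    (h : S.ι m' = z⁻¹ * S.ι m * z) : z ∈ S.N := by
  apply S.hTI ⟨S.ι m, S.ι_mem m⟩ ⟨S.ι m', S.ι_mem m'⟩ _ _ z h
  · rw [S.e_ι]; exact hm
  · rw [S.e_ι]; exact hm'

theorem ι_mem_T_iff (m : M36) :
    S.ι m ∈ (S.T : Subgroup G) ↔ (isRot m.1 && isRot m.2) = true := by
  rw [S.hT]
  constructor
  · rintro ⟨n, hn, h⟩
    have : S.e n = m := by
      apply S.ι_injective
      rw [S.ι_e, hn]
    rw [this] at h
    exact h
  · intro h
    refine ⟨⟨S.ι m, S.ι_mem m⟩, rfl, ?_⟩
    rw [S.e_ι]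
    exact h

/-- the support set -/
def A : Set G := {g | ∃ m : M36, sing m = true ∧ S.ι m = g}

theorem ι_mem_A_iff (m : M36) : S.ι m ∈ S.A ↔ sing m = true := by
  constructor
  · rintro ⟨m', hm', h⟩
    rw [← S.ι_injective h]
    exact hm'
  · intro h
    exact ⟨m, h, rfl⟩

theorem hTI_A : ∀ t ∈ S.A, ∀ z : G, z⁻¹ * t * z ∈ S.A → z ∈ S.N := by
  rintro t ⟨m, hm, rfl⟩ z ⟨m', hm', h⟩
  exact S.hTI' m m' hm hm' z h

theorem card_N : Nat.card S.N = 36 := by
  rw [Nat.card_congr S.e.toEquiv, card_M36]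

/-- the function on `N` given by a function on the model -/
def phi (d : M36 → ℤ) : S.N → ℂ := fun n => (d (S.e n) : ℂ)

/-- the induced function -/
noncomputable def Theta [Fintype G] (d : M36 → ℤ) : G → ℂ := Cfsg.indFun S.N (S.phi d)

theorem phi_vanish (d : M36 → ℤ) (hd : ∀ m, sing m = false → d m = 0) (x : S.N)
    (hx : (x : G) ∉ S.A) : S.phi d x = 0 := by
  unfold phi
  rw [hd, Int.cast_zero]
  by_contra h
  rw [Bool.not_eq_false] at h
  apply hx
  rw [← S.ι_e x, S.ι_mem_A_iff]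
  exact h

theorem phi_classFunction (d : M36 → ℤ) (hcf : ∀ m c, d (c * m * c⁻¹) = d m) :
    Cfsg.IsClassFunction S.N (S.phi d) := by
  intro g h
  unfold phi
  rw [map_mul, map_mul, map_inv, hcf]

theorem isGenChar_Theta [Fintype G] (d : M36 → ℤ)
    (hd : Cfsg.IsGeneralizedCharacter M36 (fun m => (d m : ℂ))) :
    Cfsg.IsGeneralizedCharacter G (S.Theta d) :=
  IsGeneralizedCharacter.indFun S.N (IsGeneralizedCharacter.comp_hom' S.e.toMonoidHom hd)

theorem sum_phi [Fintype S.N] (F : M36 → ℂ) : ∑ n : S.N, F (S.e n) = ∑ m : M36, F m :=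
  Equiv.sum_comp S.e.toEquiv F

theorem classInner_Theta [Fintype G] (d d' : M36 → ℤ) (hd : ∀ m, sing m = false → d m = 0)
    (hd' : ∀ m, sing m = false → d' m = 0) (hcf : ∀ m c, d' (c * m * c⁻¹) = d' m) :
    Cfsg.classInner (S.Theta d) (S.Theta d') =
      (36 : ℂ)⁻¹ * ((∑ m : M36, d m * d' m : ℤ) : ℂ) := by
  classical
  haveI : Fintype S.N := Fintype.ofFinite S.N
  unfold Theta
  rw [classInner_indFun_indFun_of_TI S.N S.A (S.phi d) (S.phi d') (S.phi_classFunction d' hcf)
    (S.phi_vanish d hd) (S.phi_vanish d' hd') S.hTI_A]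
  unfold Cfsg.classInner
  rw [S.card_N]
  have h2 : ∑ n : S.N, S.phi d n * conj (S.phi d' n) =
      ∑ m : M36, (d m : ℂ) * conj ((d' m : ℤ) : ℂ) :=
    S.sum_phi (fun m => ((d m : ℂ)) * conj ((d' m : ℤ) : ℂ))
  rw [h2]
  push_cast
  congr 1
  apply Finset.sum_congr rfl
  intro m _
  rw [map_intCast]

theorem classInner_Theta_one [Fintype G] (d : M36 → ℤ) :
    Cfsg.classInner (S.Theta d) (fun _ => (1 : ℂ)) =
      (36 : ℂ)⁻¹ * ((∑ m : M36, d m : ℤ) : ℂ) := by
  classical
  haveI : Fintype S.N := Fintype.ofFinite S.N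
  unfold Theta
  rw [frobenius_reciprocity S.N (S.phi d) _ (fun _ _ => rfl)]
  unfold Cfsg.classInner
  rw [S.card_N]
  have h2 : ∑ n : S.N, S.phi d n * conj ((fun _ : G => (1 : ℂ)) (n : G)) = ∑ m : M36, (d m : ℂ) := by
    simp only [map_one, mul_one]
    exact S.sum_phi (fun m => ((d m : ℂ)))
  rw [h2]
  push_cast
  rfl

theorem Theta_apply_ι [Fintype G] (d : M36 → ℤ) (hd : ∀ m, sing m = false → d m = 0)
    (hcf : ∀ m c, d (c * m * c⁻¹) = d m) (m : M36) (hm : sing m = true) :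
    S.Theta d (S.ι m) = (d m : ℂ) := by
  unfold Theta
  have h := indFun_apply_of_TI S.N S.A (S.phi d) (S.phi_classFunction d hcf) (S.phi_vanish d hd)
    S.hTI_A ⟨S.ι m, S.ι_mem m⟩ ((S.ι_mem_A_iff m).mpr hm)
  rw [h]
  unfold phi
  rw [S.e_ι]

theorem Theta_eq_zero [Fintype G] (d : M36 → ℤ) (hd : ∀ m, sing m = false → d m = 0) (g : G)
    (hg : ∀ z : G, z⁻¹ * g * z ∉ S.A) : S.Theta d g = 0 :=
  indFun_eq_zero_of_not_conj S.N S.A (S.phi d) (S.phi_vanish d hd) g hg

/-- Two elements of square one whose product is in `A` lie in `N`. -/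
theorem mem_of_mul_mem_A (x y : G) (hx : x * x = 1) (hy : y * y = 1) (hxy : x * y ∈ S.A) :
    x ∈ S.N ∧ y ∈ S.N := by
  obtain ⟨m, hm, hm2⟩ := hxy
  have hxinv : x⁻¹ = x := inv_eq_of_mul_eq_one_left hx
  have hyinv : y⁻¹ = y := inv_eq_of_mul_eq_one_left hy
  have hxN : x ∈ S.N := by
    apply S.hTI' m m⁻¹ hm (by rw [sing_inv]; exact hm) x
    rw [map_inv, hm2]
    have h3 : (x * y)⁻¹ = y * x := by rw [mul_inv_rev, hxinv, hyinv]
    rw [h3]
    group
  refine ⟨hxN, ?_⟩
  have : y = x⁻¹ * (x * y) := by group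
  rw [this]
  apply S.N.mul_mem (S.N.inv_mem hxN)
  rw [← hm2]
  exact S.ι_mem m

/-- Elements of square one are not conjugate into `A`. -/
theorem not_mem_A_of_sq (g : G) (hg : g * g = 1) (z : G) : z⁻¹ * g * z ∉ S.A := by
  rintro ⟨m, hm, hm2⟩
  have h1 : S.ι (m * m) = 1 := by
    rw [map_mul, hm2]
    calc z⁻¹ * g * z * (z⁻¹ * g * z) = z⁻¹ * (g * g) * z := by group
      _ = 1 := by rw [hg]; group
  rw [S.ι_eq_one_iff] at h1
  have key : ∀ m : M36, sing m = true → m * m ≠ 1 := by decide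
  exact key m hm h1

/-- Double class sums of `Theta d` over classes of elements of square one, computed in the model. -/
theorem sum_class_Theta [Fintype G] (d : M36 → ℤ) (hd : ∀ m, sing m = false → d m = 0)
    (g h : G) (hg : g * g = 1) (hh : h * h = 1) (U V : Finset M36)
    (hU : ∀ m, m ∈ U ↔ IsConj g (S.ι m)) (hV : ∀ m, m ∈ V ↔ IsConj h (S.ι m)) :
    ∑ x ∈ classFinset g, ∑ y ∈ classFinset h, S.Theta d (x * y) =
      (Nat.card G : ℂ) / 36 * ((∑ m₁ ∈ U, ∑ m₂ ∈ V, d (m₁ * m₂) : ℤ) : ℂ) := by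
  classical
  unfold Theta
  rw [sum_class_mul_indFun, S.card_N]
  have hsq : ∀ a b : G, a * a = 1 → IsConj a b → b * b = 1 := by
    intro a b ha hab
    obtain ⟨c, hc⟩ := isConj_iff.mp hab
    rw [← hc]
    calc c * a * c⁻¹ * (c * a * c⁻¹) = c * (a * a) * c⁻¹ := by group
      _ = 1 := by rw [ha]; group
  have hkey : ∑ x ∈ classFinset g, ∑ y ∈ classFinset h, Cfsg.extendByZero S.N (S.phi d) (x * y) =
      ((∑ m₁ ∈ U, ∑ m₂ ∈ V, d (m₁ * m₂) : ℤ) : ℂ) := by
    push_cast
    rw [← Finset.sum_product', ← Finset.sum_product']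
    symm
    apply Finset.sum_of_injOn (fun q : M36 × M36 => (S.ι q.1, S.ι q.2))
    · intro a _ b _ hab
      simp only [Prod.mk.injEq] at hab
      exact Prod.ext (S.ι_injective hab.1) (S.ι_injective hab.2)
    · intro q hq
      rw [Finset.coe_product, Set.mem_prod] at hq
      rw [Finset.coe_product, Set.mem_prod]
      exact ⟨(mem_classFinset _ _).mpr ((hU _).mp hq.1), (mem_classFinset _ _).mpr ((hV _).mp hq.2)⟩
    · intro p hp hnot
      rw [Finset.mem_product, mem_classFinset, mem_classFinset] at hp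
      by_contra hne
      apply hnot
      have hxx := hsq g p.1 hg hp.1
      have hyy := hsq h p.2 hh hp.2
      have hmem : p.1 * p.2 ∈ S.N := by
        by_contra hn
        exact hne (extendByZero_not_mem S.N _ hn)
      rw [extendByZero_mem S.N _ hmem] at hne
      have hA : p.1 * p.2 ∈ S.A := by
        by_contra hA
        exact hne (S.phi_vanish d hd ⟨p.1 * p.2, hmem⟩ hA)
      obtain ⟨h1, h2⟩ := S.mem_of_mul_mem_A p.1 p.2 hxx hyy hA
      obtain ⟨m₁, hm₁⟩ := S.exists_of_mem h1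
      obtain ⟨m₂, hm₂⟩ := S.exists_of_mem h2
      refine ⟨(m₁, m₂), ?_, ?_⟩
      · rw [Finset.coe_product, Set.mem_prod]
        refine ⟨?_, ?_⟩
        · rw [Finset.mem_coe, hU, hm₁]; exact hp.1
        · rw [Finset.mem_coe, hV, hm₂]; exact hp.2
      · exact Prod.ext hm₁ hm₂
    · intro q _
      show ((d (q.1 * q.2) : ℤ) : ℂ) = Cfsg.extendByZero S.N (S.phi d) (S.ι q.1 * S.ι q.2)
      rw [← map_mul, extendByZero_mem S.N _ (S.ι_mem _)]
      unfold phi
      rw [S.e_ι]
  rw [hkey]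
  ring

end Setup

end Cfsg.Agent.Helper6.SEmb
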