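import Mathlib
import Cfsg.Prelude.Def_Characters
import Cfsg.Agent.Helper6.SEmbG

/-!
# The abstract `S₃ × S₃` situation: fusion

* `Setup.le_T_of_isPGroup`: a 3-subgroup containing a nonidentity element of `T` lies in `T`.
* `Setup.conj_in_N`: `N` controls fusion of elements centralizing nonidentity elements of `T`.
* the three types of involutions of `N`.
-/

set_option autoImplicit false
set_option linter.style.haveILetI false

namespace Cfsg.Agent.Helper6.SEmb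

open Cfsg.Agent.Helper6
open DihedralGroup

universe u

/-- `rot × rot` -/
def rr (m : M36) : Bool := isRot m.1 && isRot m.2

/-- involutions of type `(refl, 1)` -/
def isI1 (m : M36) : Bool := isRefl m.1 && decide (m.2 = 1)

/-- involutions of type `(1, refl)` -/
def isI2 (m : M36) : Bool := decide (m.1 = 1) && isRefl m.2

/-- involutions of type `(refl, refl)` -/
def isI12 (m : M36) : Bool := isRefl m.1 && isRefl m.2

/-- the model elements -/
def mU : M36 := (sr 0, 1)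
/-- the model elements -/
def mV : M36 := (1, sr 0)
/-- the model elements -/
def mUV : M36 := (sr 0, sr 0)
/-- the model elements -/
def mTa : M36 := (r 1, 1)
/-- the model elements -/
def mTb : M36 := (1, r 1)

theorem rr_conj : ∀ m c : M36, rr m = true → rr (c * m * c⁻¹) = true := by decide

theorem sing_of_rr : ∀ m : M36, rr m = true → m ≠ 1 → sing m = true := by decide

theorem pow_three_of_rr : ∀ m : M36, rr m = true → m ^ 3 = 1 := by decide

theorem invol_cases : ∀ m : M36, m * m = 1 → m ≠ 1 →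
    isI1 m = true ∨ isI2 m = true ∨ isI12 m = true := by decide

theorem I1_conj : ∀ m : M36, isI1 m = true → ∃ c : M36, c * mU * c⁻¹ = m := by decide

theorem I2_conj : ∀ m : M36, isI2 m = true → ∃ c : M36, c * mV * c⁻¹ = m := by decide

theorem I12_conj : ∀ m : M36, isI12 m = true → ∃ c : M36, c * mUV * c⁻¹ = m := by decide

theorem I1_comm : ∀ m : M36, isI1 m = true → mTb * m = m * mTb := by decide

theorem I2_comm : ∀ m : M36, isI2 m = true → mTa * m = m * mTa := by decide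

theorem refl_conj_ne_one : ∀ a c : D3, isRefl a = true → c * a * c⁻¹ ≠ 1 := by decide

theorem I1_sq : ∀ m : M36, isI1 m = true → m * m = 1 := by decide
theorem I2_sq : ∀ m : M36, isI2 m = true → m * m = 1 := by decide
theorem I12_sq : ∀ m : M36, isI12 m = true → m * m = 1 := by decide
theorem I1_ne : ∀ m : M36, isI1 m = true → m ≠ 1 := by decide
theorem I2_ne : ∀ m : M36, isI2 m = true → m ≠ 1 := by decide
theorem I12_ne : ∀ m : M36, isI12 m = true → m ≠ 1 := by decide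

variable {G : Type u} [Group G]

theorem conj_mem_of_smul [Finite G] {p : ℕ} [Fact p.Prime] (P Q : Sylow p G) (g : G)
    (hg : g • P = Q) {x : G} (hx : x ∈ (Q : Subgroup G)) : g⁻¹ * x * g ∈ (P : Subgroup G) := by
  rw [← hg, Sylow.coe_subgroup_smul, Subgroup.mem_pointwise_smul_iff_inv_smul_mem] at hx
  have : (MulAut.conj g)⁻¹ • x = g⁻¹ * x * g := by
    rw [MulAut.smul_def, MulAut.conj_inv_apply]
  rw [this] at hx
  exact hx

theorem isPGroup_zpowers_of_pow (c : G) (hc : c ^ 3 = 1) : IsPGroup 3 (Subgroup.zpowers c) := by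
  rintro ⟨z, hz⟩
  obtain ⟨k, rfl⟩ := Subgroup.mem_zpowers_iff.mp hz
  refine ⟨1, ?_⟩
  apply Subtype.ext
  show (c ^ k) ^ 3 ^ 1 = 1
  rw [pow_one, ← zpow_natCast, ← zpow_mul, mul_comm, zpow_mul, zpow_natCast, hc, one_zpow]

namespace Setup

variable (S : Setup G)

theorem exists_of_mem_T {t : G} (ht : t ∈ (S.T : Subgroup G)) :
    ∃ m : M36, rr m = true ∧ S.ι m = t := by
  obtain ⟨n, hn, h⟩ := (S.hT t).mp ht
  exact ⟨S.e n, h, by rw [S.ι_e, hn]⟩

theorem T_le_N : (S.T : Subgroup G) ≤ S.N := by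
  intro t ht
  obtain ⟨m, -, rfl⟩ := S.exists_of_mem_T ht
  exact S.ι_mem m

theorem mem_A_of_mem_T {t : G} (ht : t ∈ (S.T : Subgroup G)) (h1 : t ≠ 1) : t ∈ S.A := by
  obtain ⟨m, hm, rfl⟩ := S.exists_of_mem_T ht
  refine ⟨m, sing_of_rr m hm ?_, rfl⟩
  rintro rfl
  exact h1 (map_one _)

theorem pow_three_of_mem_T {t : G} (ht : t ∈ (S.T : Subgroup G)) : t ^ 3 = 1 := by
  obtain ⟨m, hm, rfl⟩ := S.exists_of_mem_T ht
  rw [← map_pow, pow_three_of_rr m hm, map_one]

theorem conj_mem_T (n : G) (hn : n ∈ S.N) (t : G) (ht : t ∈ (S.T : Subgroup G)) :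
    n * t * n⁻¹ ∈ (S.T : Subgroup G) := by
  obtain ⟨m, hm, rfl⟩ := S.exists_of_mem_T ht
  obtain ⟨c, rfl⟩ := S.exists_of_mem hn
  rw [← map_inv, ← map_mul, ← map_mul, S.ι_mem_T_iff]
  exact rr_conj m c hm

/-- centralizers of nonidentity elements of `T` lie in `N` -/
theorem mem_N_of_comm {t z : G} (ht : t ∈ (S.T : Subgroup G)) (h1 : t ≠ 1) (hz : z * t = t * z) :
    z ∈ S.N := by
  apply S.hTI_A t (S.mem_A_of_mem_T ht h1) z
  have : z⁻¹ * t * z = t := by rw [mul_assoc, ← hz]; group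
  rw [this]
  exact S.mem_A_of_mem_T ht h1

/-- if `t` and `w t w⁻¹` are nonidentity elements of `T` then `w ∈ N` -/
theorem mem_N_of_conj_mem_T {t w : G} (ht : t ∈ (S.T : Subgroup G)) (h1 : t ≠ 1)
    (hw : w * t * w⁻¹ ∈ (S.T : Subgroup G)) : w ∈ S.N := by
  have hne : w * t * w⁻¹ ≠ 1 := by
    intro h
    apply h1
    have : t = w⁻¹ * (w * t * w⁻¹) * w := by group
    rw [this, h]
    group
  have h2 := S.hTI_A t (S.mem_A_of_mem_T ht h1) w⁻¹ (by
    rw [inv_inv]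
    exact S.mem_A_of_mem_T hw hne)
  have := S.N.inv_mem h2
  rwa [inv_inv] at this

/-- A 3-subgroup containing a nonidentity element of `T` lies in `T`. -/
theorem le_T_of_isPGroup [Finite G] (P : Subgroup G) (hP : IsPGroup 3 P) (t : G) (htP : t ∈ P)
    (htT : t ∈ (S.T : Subgroup G)) (ht1 : t ≠ 1) : P ≤ (S.T : Subgroup G) := by
  haveI : Fact (Nat.Prime 3) := ⟨Nat.prime_three⟩
  obtain ⟨Q, hQ⟩ := hP.exists_le_sylow
  obtain ⟨g, hg⟩ := MulAction.exists_smul_eq G S.T Q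
  have h1 : g⁻¹ * t * g ∈ (S.T : Subgroup G) := conj_mem_of_smul S.T Q g hg (hQ htP)
  have hgN : g⁻¹ ∈ S.N := by
    apply S.mem_N_of_conj_mem_T htT ht1
    rw [inv_inv]
    exact h1
  have hgN' : g ∈ S.N := by
    have := S.N.inv_mem hgN
    rwa [inv_inv] at this
  intro x hx
  have h2 : g⁻¹ * x * g ∈ (S.T : Subgroup G) := conj_mem_of_smul S.T Q g hg (hQ hx)
  have h3 := S.conj_mem_T g hgN' _ h2
  have : g * (g⁻¹ * x * g) * g⁻¹ = x := by group
  rwa [this] at h3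

/-- `N` controls fusion of elements centralizing nonidentity elements of `T`. -/
theorem conj_in_N [Finite G] (x y tx ty g : G) (htx : tx ∈ (S.T : Subgroup G)) (htx1 : tx ≠ 1)
    (hcx : tx * x = x * tx) (hty : ty ∈ (S.T : Subgroup G)) (hty1 : ty ≠ 1)
    (hcy : ty * y = y * ty) (hg : y = g * x * g⁻¹) : ∃ n ∈ S.N, y = n * x * n⁻¹ := by
  haveI : Fact (Nat.Prime 3) := ⟨Nat.prime_three⟩
  set C : Subgroup G := Subgroup.centralizer ({y} : Set G) with hC
  have hmemC : ∀ z : G, z ∈ C ↔ y * z = z * y := by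
    intro z
    rw [hC, Subgroup.mem_centralizer_singleton_iff]
    exact eq_comm
  have htyC : ty ∈ C := by rw [hmemC]; exact hcy.symm
  have ht'C : g * tx * g⁻¹ ∈ C := by
    rw [hmemC, hg]
    calc g * x * g⁻¹ * (g * tx * g⁻¹) = g * (x * tx) * g⁻¹ := by group
      _ = g * (tx * x) * g⁻¹ := by rw [hcx]
      _ = g * tx * g⁻¹ * (g * x * g⁻¹) := by group
  have hty3 : (⟨ty, htyC⟩ : C) ^ 3 = 1 := by
    apply Subtype.ext
    show ty ^ 3 = 1
    exact S.pow_three_of_mem_T hty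
  have ht'3 : (⟨g * tx * g⁻¹, ht'C⟩ : C) ^ 3 = 1 := by
    apply Subtype.ext
    show (g * tx * g⁻¹) ^ 3 = 1
    rw [conj_pow, S.pow_three_of_mem_T htx]
    group
  obtain ⟨P1, hP1⟩ := (isPGroup_zpowers_of_pow _ hty3).exists_le_sylow
  obtain ⟨P2, hP2⟩ := (isPGroup_zpowers_of_pow _ ht'3).exists_le_sylow
  obtain ⟨c, hc⟩ := MulAction.exists_smul_eq C P1 P2
  have h1 : c⁻¹ * ⟨g * tx * g⁻¹, ht'C⟩ * c ∈ (P1 : Subgroup C) :=
    conj_mem_of_smul P1 P2 c hc (hP2 (Subgroup.mem_zpowers _))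
  have hS : IsPGroup 3 ((P1 : Subgroup C).map C.subtype) := P1.2.map _
  have hle := S.le_T_of_isPGroup _ hS ty
    (Subgroup.mem_map.mpr ⟨⟨ty, htyC⟩, hP1 (Subgroup.mem_zpowers _), rfl⟩) hty hty1
  have h2 : (c : G)⁻¹ * (g * tx * g⁻¹) * (c : G) ∈ (S.T : Subgroup G) := by
    apply hle
    exact Subgroup.mem_map.mpr ⟨_, h1, rfl⟩
  have hw : ((c : G)⁻¹ * g) * tx * ((c : G)⁻¹ * g)⁻¹ ∈ (S.T : Subgroup G) := by
    have : ((c : G)⁻¹ * g) * tx * ((c : G)⁻¹ * g)⁻¹ = (c : G)⁻¹ * (g * tx * g⁻¹) * (c : G) := by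
      group
    rw [this]
    exact h2
  refine ⟨(c : G)⁻¹ * g, S.mem_N_of_conj_mem_T htx htx1 hw, ?_⟩
  have hcy' : y * (c : G) = (c : G) * y := (hmemC _).mp c.2
  calc y = (c : G)⁻¹ * ((c : G) * y) := by group
    _ = (c : G)⁻¹ * (y * (c : G)) := by rw [hcy']
    _ = (c : G)⁻¹ * (g * x * g⁻¹ * (c : G)) := by rw [← hg]
    _ = (c : G)⁻¹ * g * x * ((c : G)⁻¹ * g)⁻¹ := by group

theorem isConj_ι_of_conj (m m' c : M36) (h : c * m * c⁻¹ = m') : IsConj (S.ι m) (S.ι m') := by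
  rw [isConj_iff]
  refine ⟨S.ι c, ?_⟩
  rw [← map_inv, ← map_mul, ← map_mul, h]

theorem isConj_I1 (m : M36) (hm : isI1 m = true) : IsConj (S.ι mU) (S.ι m) := by
  obtain ⟨c, hc⟩ := I1_conj m hm
  exact S.isConj_ι_of_conj _ _ c hc

theorem isConj_I2 (m : M36) (hm : isI2 m = true) : IsConj (S.ι mV) (S.ι m) := by
  obtain ⟨c, hc⟩ := I2_conj m hm
  exact S.isConj_ι_of_conj _ _ c hc

theorem isConj_I12 (m : M36) (hm : isI12 m = true) : IsConj (S.ι mUV) (S.ι m) := by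
  obtain ⟨c, hc⟩ := I12_conj m hm
  exact S.isConj_ι_of_conj _ _ c hc

theorem mTa_mem_T : S.ι mTa ∈ (S.T : Subgroup G) := by
  rw [S.ι_mem_T_iff]; decide

theorem mTb_mem_T : S.ι mTb ∈ (S.T : Subgroup G) := by
  rw [S.ι_mem_T_iff]; decide

theorem mTa_ne : S.ι mTa ≠ 1 := by
  rw [Ne, S.ι_eq_one_iff]; decide

theorem mTb_ne : S.ι mTb ≠ 1 := by
  rw [Ne, S.ι_eq_one_iff]; decide

/-- involutions of type `I1` and `I2` are not fused -/
theorem not_isConj_I1_I2 [Finite G] (m m' : M36) (hm : isI1 m = true) (hm' : isI2 m' = true) :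
    ¬ IsConj (S.ι m) (S.ι m') := by
  intro hconj
  obtain ⟨g, hg⟩ := isConj_iff.mp hconj
  have hcx : S.ι mTb * S.ι m = S.ι m * S.ι mTb := by
    rw [← map_mul, ← map_mul, I1_comm m hm]
  have hcy : S.ι mTa * S.ι m' = S.ι m' * S.ι mTa := by
    rw [← map_mul, ← map_mul, I2_comm m' hm']
  obtain ⟨n, hn, hn2⟩ := S.conj_in_N (S.ι m) (S.ι m') (S.ι mTb) (S.ι mTa) g S.mTb_mem_T S.mTb_ne hcx
    S.mTa_mem_T S.mTa_ne hcy hg.symm
  obtain ⟨c, rfl⟩ := S.exists_of_mem hn
  rw [← map_inv, ← map_mul, ← map_mul] at hn2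
  have h3 := S.ι_injective hn2
  have h4 : m'.1 = c.1 * m.1 * c.1⁻¹ := by rw [h3]; rfl
  have h5 : m'.1 = 1 := by
    unfold isI2 at hm'
    rw [Bool.and_eq_true] at hm'
    exact of_decide_eq_true hm'.1
  have h6 : isRefl m.1 = true := by
    unfold isI1 at hm
    rw [Bool.and_eq_true] at hm
    exact hm.1
  rw [h5] at h4
  exact refl_conj_ne_one m.1 c.1 h6 h4.symm

/-- An element of `N` conjugate to an involution of `N` is of one of the three types. -/
theorem type_of_isConj (m₀ m : M36) (h0 : m₀ * m₀ = 1) (h1 : m₀ ≠ 1)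
    (h : IsConj (S.ι m₀) (S.ι m)) : isI1 m = true ∨ isI2 m = true ∨ isI12 m = true := by
  obtain ⟨c, hc⟩ := isConj_iff.mp h
  apply invol_cases
  · apply S.ι_injective
    rw [map_mul, map_one, ← hc]
    calc c * S.ι m₀ * c⁻¹ * (c * S.ι m₀ * c⁻¹) = c * (S.ι m₀ * S.ι m₀) * c⁻¹ := by group
      _ = 1 := by rw [← map_mul, h0, map_one]; group
  · rintro rfl
    apply h1
    apply S.ι_injective
    rw [map_one] at hc ⊢
    have : S.ι m₀ = c⁻¹ * (c * S.ι m₀ * c⁻¹) * c := by group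
    rw [this, hc]
    group

end Setup

end Cfsg.Agent.Helper6.SEmb
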