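import Mathlib
import Cfsg.Prelude.Def_Characters
import Cfsg.Agent.Helper6.SEmbH
import Cfsg.Agent.S0058

/-!
# The abstract `S₃ × S₃` situation: the kernel of `Θ₁` and the unfused case

* `Setup.exists_kernel`: if involutions of type `I2` are not fused to involutions of type `I12`, then
  `Θ₁ = -1 + X - X'` and `ker X ∩ ker X'` contains `ι (1 × D₃)` and no `ι m` with `m.1` of order 3.
* `Setup.swap`: the same situation with the two factors exchanged.
* `Setup.eq_top_of_two_kernels`: two such normal subgroups force `N = G`.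
-/

set_option autoImplicit false
set_option linter.style.haveILetI false

namespace Cfsg.Agent.Helper6.SEmb

open Cfsg.Agent.Helper6
open DihedralGroup

universe u

theorem d1_van : ∀ m : M36, sing m = false → d1 m = 0 := by decide
theorem d2_van : ∀ m : M36, sing m = false → d2 m = 0 := by decide
theorem d3_van : ∀ m : M36, sing m = false → d3 m = 0 := by decide
theorem d1_cf : ∀ m c : M36, d1 (c * m * c⁻¹) = d1 m := by decide
theorem d2_cf : ∀ m c : M36, d2 (c * m * c⁻¹) = d2 m := by decide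
theorem d3_cf : ∀ m c : M36, d3 (c * m * c⁻¹) = d3 m := by decide

theorem sum_d1_sq : ∑ m : M36, d1 m * d1 m = 108 := by decide
theorem sum_d1 : ∑ m : M36, d1 m = -36 := by decide

/-- the finset of involutions of type `I2` -/
def finI2 : Finset M36 := Finset.univ.filter (fun m => isI2 m = true)

theorem sum_I2_I2_d1 : ∑ m₁ ∈ finI2, ∑ m₂ ∈ finI2, d1 (m₁ * m₂) = 0 := by decide

theorem fst_one_cases : ∀ m : M36, m.1 = 1 → isI2 m = true ∨ isI2 (mV * m) = true := by decide

theorem mV_mul_mV : mV * mV = 1 := by decide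

theorem d1_of_three : ∀ m : M36, isThree m.1 = true → d1 m = -3 := by decide

theorem sing_of_three_fst : ∀ m : M36, isThree m.1 = true → sing m = true := by decide

theorem isI2_mV : isI2 mV = true := by decide

variable {G : Type u} [Group G]

namespace Setup

variable (S : Setup G)

theorem Theta_one [Fintype G] (d : M36 → ℤ) (hd : ∀ m, sing m = false → d m = 0) :
    S.Theta d 1 = 0 := by
  apply S.Theta_eq_zero d hd
  intro z
  exact S.not_mem_A_of_sq 1 (one_mul 1) z

theorem Theta_of_sq [Fintype G] (d : M36 → ℤ) (hd : ∀ m, sing m = false → d m = 0) (g : G)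
    (hg : g * g = 1) : S.Theta d g = 0 := by
  apply S.Theta_eq_zero d hd
  intro z
  exact S.not_mem_A_of_sq g hg z

theorem Theta1_norm [Fintype G] : Cfsg.classInner (S.Theta d1) (S.Theta d1) = 3 := by
  rw [S.classInner_Theta d1 d1 d1_van d1_van d1_cf, sum_d1_sq]
  norm_num

theorem Theta1_inner_one [Fintype G] :
    Cfsg.classInner (S.Theta d1) (fun _ => (1 : ℂ)) = -1 := by
  rw [S.classInner_Theta_one d1, sum_d1]
  norm_num

/-- The class of an `I2` involution meets `N` in the `I2` involutions, if there is no fusion with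
`I12`. -/
theorem mem_finI2_iff [Finite G]
    (hP : ∀ m m' : M36, isI2 m = true → isI12 m' = true → ¬ IsConj (S.ι m) (S.ι m'))
    (m₀ : M36) (h0 : isI2 m₀ = true) (m : M36) :
    m ∈ finI2 ↔ IsConj (S.ι m₀) (S.ι m) := by
  unfold finI2
  rw [Finset.mem_filter]
  constructor
  · rintro ⟨-, hm⟩
    exact (S.isConj_I2 m₀ h0).symm.trans (S.isConj_I2 m hm)
  · intro h
    refine ⟨Finset.mem_univ _, ?_⟩
    rcases S.type_of_isConj m₀ m (I2_sq m₀ h0) (I2_ne m₀ h0) h with h1 | h1 | h1
    · exact absurd h.symm (S.not_isConj_I1_I2 m m₀ h1 h0)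
    · exact h1
    · exact absurd h (hP m₀ m h0 h1)

/-- The kernel lemma in the abstract situation. -/
theorem exists_kernel [Fintype G]
    (hP : ∀ m m' : M36, isI2 m = true → isI12 m' = true → ¬ IsConj (S.ι m) (S.ι m')) :
    ∃ X X' : Cfsg.IrrCharacter G, X ≠ X' ∧ X ≠ oneIrr ∧ X' ≠ oneIrr ∧
      (∀ g, S.Theta d1 g = -1 + (X : G → ℂ) g - (X' : G → ℂ) g) ∧
      (∀ m : M36, m.1 = 1 → S.ι m ∈ kerSub X ⊓ kerSub X') ∧
      (∀ m : M36, isThree m.1 = true → S.ι m ∉ kerSub X ⊓ kerSub X') := by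
  have hgen := S.isGenChar_Theta d1 isGenChar_d1
  have hΘ1 := S.Theta_one d1 d1_van
  obtain ⟨X, X', hne, hX1, hX'1, hdec⟩ :=
    exists_decomp_norm_three hgen S.Theta1_norm S.Theta1_inner_one hΘ1
  have hI2 : ∀ m : M36, isI2 m = true → S.ι m ∈ kerSub X ⊓ kerSub X' := by
    intro m hm
    have hsq : S.ι m * S.ι m = 1 := by rw [← map_mul, I2_sq m hm, map_one]
    have hg0 := S.Theta_of_sq d1 d1_van _ hsq
    have hsum := S.sum_class_Theta d1 d1_van (S.ι m) (S.ι m) hsq hsq finI2 finI2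
      (S.mem_finI2_iff hP m hm) (S.mem_finI2_iff hP m hm)
    rw [sum_I2_I2_d1, Int.cast_zero, mul_zero] at hsum
    have := kernel_lemma X X' hdec hΘ1 _ _ hg0 hg0 hsum
    rw [Subgroup.mem_inf, mem_kerSub, mem_kerSub]
    rcases this with h | h <;> exact h
  refine ⟨X, X', hne, hX1, hX'1, hdec, ?_, ?_⟩
  · intro m hm
    rcases fst_one_cases m hm with h | h
    · exact hI2 m h
    · have : m = mV * (mV * m) := by rw [← mul_assoc, mV_mul_mV, one_mul]
      rw [this, map_mul]
      exact Subgroup.mul_mem _ (hI2 mV isI2_mV) (hI2 _ h)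
  · intro m hm hmem
    rw [Subgroup.mem_inf, mem_kerSub, mem_kerSub] at hmem
    have h1 := S.Theta_apply_ι d1 d1_van d1_cf m (sing_of_three_fst m hm)
    rw [hdec, hmem.1, hmem.2, ← hdec, hΘ1, d1_of_three m hm] at h1
    norm_num at h1

/-- exchanging the two factors -/
def swap : Setup G where
  N := S.N
  e := S.e.trans MulEquiv.prodComm
  T := S.T
  hT := by
    intro g
    rw [S.hT]
    constructor
    · rintro ⟨n, hn, h⟩
      refine ⟨n, hn, ?_⟩
      rw [Bool.and_comm]
      exact h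
    · rintro ⟨n, hn, h⟩
      refine ⟨n, hn, ?_⟩
      rw [Bool.and_comm]
      exact h
  hTI := by
    intro t t' ht ht' z hz
    apply S.hTI t t' _ _ z hz
    · unfold sing at ht ⊢
      rw [Bool.or_comm]
      exact ht
    · unfold sing at ht' ⊢
      rw [Bool.or_comm]
      exact ht'

theorem swap_ι (m : M36) : S.swap.ι m = S.ι (m.2, m.1) := rfl

theorem swap_N : S.swap.N = S.N := rfl

theorem card_T : Nat.card (S.T : Subgroup G) = 9 := by
  have e : (S.T : Subgroup G) ≃ {m : M36 // rr m = true} :=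
    { toFun := fun t => ⟨S.e ⟨t, S.T_le_N t.2⟩, by
        obtain ⟨m, hm, hm2⟩ := S.exists_of_mem_T t.2
        have : S.e ⟨t, S.T_le_N t.2⟩ = m := by
          apply S.ι_injective
          rw [S.ι_e, hm2]
        rw [this]
        exact hm⟩
      invFun := fun m => ⟨S.ι m, (S.ι_mem_T_iff m).mpr m.2⟩
      left_inv := fun t => Subtype.ext (S.ι_e _)
      right_inv := fun m => Subtype.ext (S.e_ι _ _) }
  rw [Nat.card_congr e, Nat.card_eq_fintype_card]
  decide

theorem T_comm (a b : G) (ha : a ∈ (S.T : Subgroup G)) (hb : b ∈ (S.T : Subgroup G)) :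
    a * b = b * a := by
  obtain ⟨m, hm, rfl⟩ := S.exists_of_mem_T ha
  obtain ⟨m', hm', rfl⟩ := S.exists_of_mem_T hb
  rw [← map_mul, ← map_mul]
  congr 1
  have key : ∀ m m' : M36, rr m = true → rr m' = true → m * m' = m' * m := by decide
  exact key m m' hm hm'

theorem rr_of_comm : ∀ m : M36, m * mTa = mTa * m → m * mTb = mTb * m → rr m = true := by decide

theorem rr_of_pow_three : ∀ m : M36, m ^ 3 = 1 → rr m = true := by decide

theorem three_of_rr : ∀ m : M36, rr m = true → m ≠ 1 →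
    isThree m.1 = true ∨ isThree m.2 = true := by decide

/-- Two normal subgroups as produced by `exists_kernel` for both factors force `N = G`. -/
theorem eq_top_of_two_kernels [Finite G] (K₁ K₃ : Subgroup G) [hK₁ : K₁.Normal] [hK₃ : K₃.Normal]
    (h1 : ∀ m : M36, m.1 = 1 → S.ι m ∈ K₁) (h1' : ∀ m : M36, isThree m.1 = true → S.ι m ∉ K₁)
    (h3 : ∀ m : M36, m.2 = 1 → S.ι m ∈ K₃) (h3' : ∀ m : M36, isThree m.2 = true → S.ι m ∉ K₃) :
    S.N = ⊤ := by
  haveI : Fact (Nat.Prime 3) := ⟨Nat.prime_three⟩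
  set L : Subgroup G := K₁ ⊓ K₃ with hL
  haveI hLn : L.Normal := Subgroup.normal_inf_normal K₁ K₃
  -- `L ∩ T = 1`
  have hLT : ∀ t ∈ (S.T : Subgroup G), t ∈ L → t = 1 := by
    intro t ht htL
    obtain ⟨m, hm, rfl⟩ := S.exists_of_mem_T ht
    by_contra hne
    have hm1 : m ≠ 1 := by
      rintro rfl
      exact hne (map_one _)
    rcases three_of_rr m hm hm1 with h | h
    · exact h1' m h htL.1
    · exact h3' m h htL.2
  -- `L ∩ N = 1`
  have hcommT : ∀ n ∈ L, n ∈ S.N → ∀ t ∈ (S.T : Subgroup G), n * t = t * n := by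
    intro n hnL hnN t ht
    have h2 : n * t * n⁻¹ * t⁻¹ ∈ L := by
      have : n * t * n⁻¹ * t⁻¹ = n * (t * n⁻¹ * t⁻¹) := by group
      rw [this]
      exact L.mul_mem hnL (hLn.conj_mem _ (L.inv_mem hnL) t)
    have h3 : n * t * n⁻¹ * t⁻¹ ∈ (S.T : Subgroup G) :=
      Subgroup.mul_mem _ (S.conj_mem_T n hnN t ht) (Subgroup.inv_mem _ ht)
    have h4 := hLT _ h3 h2
    calc n * t = (n * t * n⁻¹ * t⁻¹) * (t * n) := by group
      _ = t * n := by rw [h4, one_mul]
  have hLN : ∀ n ∈ L, n ∈ S.N → n = 1 := by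
    intro n hnL hnN
    have ha := hcommT n hnL hnN _ S.mTa_mem_T
    have hb := hcommT n hnL hnN _ S.mTb_mem_T
    obtain ⟨m, rfl⟩ := S.exists_of_mem hnN
    rw [← map_mul, ← map_mul] at ha hb
    have hrr := rr_of_comm m (S.ι_injective ha) (S.ι_injective hb)
    exact hLT _ ((S.ι_mem_T_iff m).mpr hrr) hnL
  -- `3 ∤ |L|`
  have h3L : ¬ 3 ∣ Nat.card L := by
    intro hdvd
    obtain ⟨x, hx⟩ := exists_prime_orderOf_dvd_card' 3 hdvd
    have hx3 : (x : G) ^ 3 = 1 := by
      have := pow_orderOf_eq_one x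
      rw [hx] at this
      have := congrArg Subtype.val this
      simpa using this
    have hx1 : (x : G) ≠ 1 := by
      intro h
      have : x = 1 := Subtype.ext h
      rw [this, orderOf_one] at hx
      norm_num at hx
    obtain ⟨Q, hQ⟩ := (isPGroup_zpowers_of_pow (x : G) hx3).exists_le_sylow
    obtain ⟨g, hg⟩ := MulAction.exists_smul_eq G S.T Q
    have h1 : g⁻¹ * (x : G) * g ∈ (S.T : Subgroup G) :=
      conj_mem_of_smul S.T Q g hg (hQ (Subgroup.mem_zpowers _))
    have h2 : g⁻¹ * (x : G) * g ∈ L := by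
      have := hLn.conj_mem _ x.2 g⁻¹
      rwa [inv_inv] at this
    have h4 := hLT _ h1 h2
    apply hx1
    calc (x : G) = g * (g⁻¹ * (x : G) * g) * g⁻¹ := by group
      _ = 1 := by rw [h4]; group
  have hcop : (Nat.card (S.T : Subgroup G)).Coprime (Nat.card L) := by
    rw [S.card_T]
    have : Nat.Coprime 3 (Nat.card L) := (Nat.Prime.coprime_iff_not_dvd Nat.prime_three).mpr h3L
    exact Nat.Coprime.pow_left 2 this
  haveI hTc : IsMulCommutative (S.T : Subgroup G) :=
    ⟨⟨fun a b => Subtype.ext (S.T_comm a b a.2 b.2)⟩⟩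
  have hncyc : ¬ IsCyclic (S.T : Subgroup G) := by
    intro hcyc
    obtain ⟨g, hg⟩ := IsCyclic.exists_ofOrder_eq_natCard (α := (S.T : Subgroup G))
    rw [S.card_T] at hg
    have h3 : g ^ 3 = 1 := Subtype.ext (by simpa using S.pow_three_of_mem_T g.2)
    have := orderOf_dvd_of_pow_eq_one h3
    rw [hg] at this
    norm_num at this
  have hgen := Cfsg.Agent.S0058.result (S.T : Subgroup G) L hncyc
    (by rw [Subgroup.normalizer_eq_top]; exact le_top) hcop
  have hLbot : L = ⊥ := by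
    rw [← hgen, eq_bot_iff]
    apply iSup₂_le
    rintro a ⟨haT, ha1⟩ x hx
    rw [Subgroup.mem_inf, Subgroup.mem_centralizer_singleton_iff] at hx
    rw [Subgroup.mem_bot]
    exact hLN x hx.1 (S.mem_N_of_comm haT ha1 hx.2)
  -- `K₁ ≤ N`
  have hK₁N : K₁ ≤ S.N := by
    intro k hk
    have hta : S.ι mTa ∈ K₃ := h3 mTa rfl
    have h2 : k * S.ι mTa * k⁻¹ * (S.ι mTa)⁻¹ ∈ L := by
      constructor
      · have : k * S.ι mTa * k⁻¹ * (S.ι mTa)⁻¹ = k * (S.ι mTa * k⁻¹ * (S.ι mTa)⁻¹) := by group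
        rw [this]
        exact K₁.mul_mem hk (hK₁.conj_mem _ (K₁.inv_mem hk) _)
      · exact K₃.mul_mem (hK₃.conj_mem _ hta k) (K₃.inv_mem hta)
    rw [hLbot, Subgroup.mem_bot] at h2
    apply S.mem_N_of_comm S.mTa_mem_T S.mTa_ne
    calc k * S.ι mTa = (k * S.ι mTa * k⁻¹ * (S.ι mTa)⁻¹) * (S.ι mTa * k) := by group
      _ = S.ι mTa * k := by rw [h2, one_mul]
  -- conclusion
  rw [eq_top_iff]
  intro g _
  have htb : S.ι mTb ∈ K₁ := h1 mTb rfl
  have h2 : g * S.ι mTb * g⁻¹ ∈ S.N := hK₁N (hK₁.conj_mem _ htb g)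
  obtain ⟨m, hm⟩ := S.exists_of_mem h2
  have hm3 : m ^ 3 = 1 := by
    apply S.ι_injective
    rw [map_pow, hm, map_one, conj_pow, S.pow_three_of_mem_T S.mTb_mem_T]
    group
  apply S.mem_N_of_conj_mem_T S.mTb_mem_T S.mTb_ne (w := g)
  rw [← hm, S.ι_mem_T_iff]
  exact rr_of_pow_three m hm3

end Setup

end Cfsg.Agent.Helper6.SEmb
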