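import Mathlib
import Cfsg.Prelude.Def_Characters
import Cfsg.Agent.Helper6.SEmbI

/-!
# The abstract `S₃ × S₃` situation: the fused case, group theoretic part

* `Setup.sup_eq_top_of_normal`: Frattini argument, `G = N K` for a normal subgroup `K` meeting `T`.
* `Setup.index_le_six`, `degrees_of_index_le_six`: the degrees of `X`, `X'`.
* `Setup.exists_sign`: the linear character `X'` is the sign character of the first factor.
-/

set_option autoImplicit false
set_option linter.style.haveILetI false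

namespace Cfsg.Agent.Helper6.SEmb

open Cfsg.Agent.Helper6
open DihedralGroup

universe u

theorem card_D3 : Nat.card D3 = 6 := by
  rw [DihedralGroup.nat_card]

theorem model_decomp : ∀ m : M36, ∃ i : Fin 3,
    m = (if isRefl m.1 = true then mU else 1) * mTa ^ (i : ℕ) * ((1 : D3), m.2) := by decide

theorem s1_eq : ∀ m : M36, s1 m = if isRefl m.1 = true then -1 else 1 := by decide

theorem mTa_pow : mTa ^ 3 = 1 := by decide

theorem mU_sq : mU * mU = 1 := by decide

theorem mU_conj_mTa : mU * mTa * mU⁻¹ = mTa⁻¹ := by decide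

variable {G : Type u} [Group G]

/-- The degrees of `X`, `X'` when `ker X ∩ ker X'` has index at most six. -/
theorem degrees_of_index_le_six [Fintype G] (X X' : Cfsg.IrrCharacter G) (hne : X ≠ X')
    (hX1 : X ≠ oneIrr) (hX'1 : X' ≠ oneIrr) (h1 : (X : G → ℂ) 1 = (X' : G → ℂ) 1 + 1)
    (hidx : (kerSub X ⊓ kerSub X').index ≤ 6) :
    (X' : G → ℂ) 1 = 1 ∧ (X : G → ℂ) 1 = 2 := by
  classical
  haveI : Finite (Cfsg.IrrCharacter G) := irr_finite
  haveI : Fintype (Cfsg.IrrCharacter G) := Fintype.ofFinite _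
  haveI := kerSub_normal X
  haveI := kerSub_normal X'
  set K : Subgroup G := kerSub X ⊓ kerSub X' with hK
  haveI : K.Normal := Subgroup.normal_inf_normal _ _
  have hsum := sum_sq_degrees_of_le_ker K
  have hmem1 : oneIrr ∈ Finset.univ.filter (fun χ : Cfsg.IrrCharacter G => ∀ n ∈ K,
      (χ : G → ℂ) n = (χ : G → ℂ) 1) := by
    rw [Finset.mem_filter]
    exact ⟨Finset.mem_univ _, fun n _ => rfl⟩
  have hmemX : X ∈ Finset.univ.filter (fun χ : Cfsg.IrrCharacter G => ∀ n ∈ K,
      (χ : G → ℂ) n = (χ : G → ℂ) 1) := by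
    rw [Finset.mem_filter]
    refine ⟨Finset.mem_univ _, fun n hn => ?_⟩
    exact (mem_kerSub X n).mp hn.1
  have hmemX' : X' ∈ Finset.univ.filter (fun χ : Cfsg.IrrCharacter G => ∀ n ∈ K,
      (χ : G → ℂ) n = (χ : G → ℂ) 1) := by
    rw [Finset.mem_filter]
    refine ⟨Finset.mem_univ _, fun n hn => ?_⟩
    exact (mem_kerSub X' n).mp hn.2
  have hsub : ({oneIrr, X, X'} : Finset (Cfsg.IrrCharacter G)) ⊆
      Finset.univ.filter (fun χ : Cfsg.IrrCharacter G => ∀ n ∈ K,
        (χ : G → ℂ) n = (χ : G → ℂ) 1) := by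
    intro χ hχ
    rw [Finset.mem_insert, Finset.mem_insert, Finset.mem_singleton] at hχ
    rcases hχ with rfl | rfl | rfl
    · exact hmem1
    · exact hmemX
    · exact hmemX'
  have hle := Finset.sum_le_sum_of_subset (f := fun χ : Cfsg.IrrCharacter G =>
    Cfsg.charDegree (χ : G → ℂ) ^ 2) hsub
  rw [hsum, Finset.sum_insert, Finset.sum_insert, Finset.sum_singleton] at hle
  · obtain ⟨-, -, -, hpos, hdeg, -⟩ := exists_kernel_data X.2
    obtain ⟨-, -, -, hpos', hdeg', -⟩ := exists_kernel_data X'.2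
    obtain ⟨-, -, -, hpos1, hdeg1, -⟩ := exists_kernel_data (oneIrr : Cfsg.IrrCharacter G).2
    have h11 : Cfsg.charDegree ((oneIrr : Cfsg.IrrCharacter G) : G → ℂ) = 1 := by
      have : ((oneIrr : Cfsg.IrrCharacter G) : G → ℂ) 1 = 1 := rfl
      rw [this] at hdeg1
      exact_mod_cast hdeg1.symm
    have hrel : Cfsg.charDegree (X : G → ℂ) = Cfsg.charDegree (X' : G → ℂ) + 1 := by
      rw [hdeg, hdeg'] at h1
      exact_mod_cast h1
    rw [h11, hrel] at hle
    have hd : Cfsg.charDegree (X' : G → ℂ) = 1 := by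
      set d := Cfsg.charDegree (X' : G → ℂ)
      have : 1 ^ 2 + ((d + 1) ^ 2 + d ^ 2) ≤ 6 := hle.trans hidx
      nlinarith
    constructor
    · rw [hdeg', hd]; norm_num
    · rw [hdeg, hrel, hd]; norm_num
  · rw [Finset.mem_singleton]
    exact hne
  · rw [Finset.mem_insert, Finset.mem_singleton]
    push Not
    exact ⟨hX1.symm, hX'1.symm⟩

namespace Setup

variable (S : Setup G)

/-- Frattini argument. -/
theorem sup_eq_top_of_normal [Finite G] (K : Subgroup G) [hK : K.Normal] (t : G)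
    (htT : t ∈ (S.T : Subgroup G)) (ht1 : t ≠ 1) (htK : t ∈ K) : S.N ⊔ K = ⊤ := by
  haveI : Fact (Nat.Prime 3) := ⟨Nat.prime_three⟩
  have h3 : (⟨t, htK⟩ : K) ^ 3 = 1 := Subtype.ext (S.pow_three_of_mem_T htT)
  obtain ⟨P, hP⟩ := (isPGroup_zpowers_of_pow _ h3).exists_le_sylow
  have hfr := Sylow.normalizer_sup_eq_top P
  have hS : IsPGroup 3 ((P : Subgroup K).map K.subtype) := P.2.map _
  have htS : t ∈ (P : Subgroup K).map K.subtype :=
    Subgroup.mem_map.mpr ⟨⟨t, htK⟩, hP (Subgroup.mem_zpowers _), rfl⟩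
  have hle := S.le_T_of_isPGroup _ hS t htS htT ht1
  have hnorm : Subgroup.normalizer (((P : Subgroup K).map K.subtype : Subgroup G) : Set G) ≤
      S.N := by
    intro z hz
    rw [Subgroup.mem_normalizer_iff] at hz
    have := (hz t).mp htS
    exact S.mem_N_of_conj_mem_T htT ht1 (hle this)
  rw [eq_top_iff, ← hfr]
  exact sup_le_sup_right hnorm K

/-- The index of a normal subgroup containing `ι (1 × D₃)` and supplementing `N`. -/
theorem index_le_six [Finite G] (K : Subgroup G) [hK : K.Normal] (hsup : S.N ⊔ K = ⊤)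
    (h1 : ∀ m : M36, m.1 = 1 → S.ι m ∈ K) : K.index ≤ 6 := by
  have hidx : K.index = (K.subgroupOf S.N).index := by
    rw [← Subgroup.relIndex_top_right, ← hsup, Subgroup.relIndex_sup_right]
    rfl
  have hmul := Subgroup.index_mul_card (K.subgroupOf S.N)
  rw [S.card_N] at hmul
  have hcard : 6 ≤ Nat.card (K.subgroupOf S.N) := by
    rw [← card_D3]
    apply Nat.card_le_card_of_injective
      (fun x : D3 => (⟨⟨S.ι (1, x), S.ι_mem _⟩, by
        rw [Subgroup.mem_subgroupOf]
        exact h1 (1, x) rfl⟩ : K.subgroupOf S.N))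
    intro x y hxy
    have h2 := congrArg (fun z : K.subgroupOf S.N => ((z : S.N) : G)) hxy
    have h3 := S.ι_injective h2
    exact (Prod.mk.injEq _ _ _ _ ▸ h3).2
  rw [hidx]
  nlinarith

/-- The linear character `X'` is the sign character of the first factor. -/
theorem exists_sign [Finite G] (X' : Cfsg.IrrCharacter G) (hX'1 : X' ≠ oneIrr)
    (hdeg : (X' : G → ℂ) 1 = 1) (K : Subgroup G) (hK : K ≤ kerSub X') (hsup : S.N ⊔ K = ⊤)
    (h1 : ∀ m : M36, m.1 = 1 → S.ι m ∈ K) :
    ∃ lam : G →* ℂˣ, (X' : G → ℂ) = (fun g => ((lam g : ℂˣ) : ℂ)) ∧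
      (∀ m : M36, ((lam (S.ι m) : ℂˣ) : ℂ) = (s1 m : ℂ)) ∧
      ∀ g : G, ((lam g : ℂˣ) : ℂ) * ((lam g : ℂˣ) : ℂ) = 1 := by
  obtain ⟨lam, hlam⟩ := exists_hom_of_irr_degree_one X'.2 hdeg
  have hlamK : ∀ k ∈ K, lam k = 1 := by
    intro k hk
    have h2 := (mem_kerSub X' k).mp (hK hk)
    rw [hdeg, hlam] at h2
    exact Units.ext h2
  set a := lam (S.ι mTa) with ha
  set b := lam (S.ι mU) with hb
  have ha3 : a ^ 3 = 1 := by
    rw [ha, ← map_pow, ← map_pow, mTa_pow, map_one, map_one]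
  have hb2 : b * b = 1 := by
    rw [hb, ← map_mul, ← map_mul, mU_sq, map_one, map_one]
  have ha2 : a = a⁻¹ := by
    have h2 : lam (S.ι (mU * mTa * mU⁻¹)) = lam (S.ι mTa⁻¹) := by rw [mU_conj_mTa]
    rw [map_mul, map_mul, map_mul, map_mul, map_inv, map_inv, map_inv, map_inv] at h2
    rw [← ha, ← hb] at h2
    rw [← h2]
    rw [mul_comm b a, mul_assoc, mul_inv_cancel, mul_one]
  have ha1 : a = 1 := by
    have h2 : a * a = 1 := by
      nth_rewrite 2 [ha2]
      exact mul_inv_cancel a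
    calc a = a ^ 3 * (a * a)⁻¹ := by group
      _ = 1 := by rw [ha3, h2]; simp
  have hform : ∀ m : M36, lam (S.ι m) = if isRefl m.1 = true then b else 1 := by
    intro m
    obtain ⟨i, hi⟩ := model_decomp m
    have h2 : lam (S.ι ((1 : D3), m.2)) = 1 := hlamK _ (h1 _ rfl)
    conv_lhs => rw [hi]
    rw [map_mul, map_mul, map_mul, map_mul, h2, map_pow, map_pow, ← ha, ha1, one_pow, mul_one,
      mul_one]
    split_ifs
    · rfl
    · rw [map_one, map_one]
  have hbne : b ≠ 1 := by
    intro hb1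
    apply hX'1
    have hker : (⊤ : Subgroup G) ≤ MonoidHom.ker lam := by
      rw [← hsup]
      apply sup_le
      · intro n hn
        obtain ⟨m, rfl⟩ := S.exists_of_mem hn
        rw [MonoidHom.mem_ker, hform m, hb1]
        simp
      · intro k hk
        exact hlamK k hk
    apply Subtype.ext
    rw [hlam]
    funext g
    have : lam g = 1 := hker (Subgroup.mem_top g)
    rw [this]
    rfl
  have hbval : ((b : ℂˣ) : ℂ) = -1 := by
    have h2 : ((b : ℂˣ) : ℂ) * ((b : ℂˣ) : ℂ) = 1 := by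
      rw [← Units.val_mul, hb2, Units.val_one]
    have h3 : (((b : ℂˣ) : ℂ) - 1) * (((b : ℂˣ) : ℂ) + 1) = 0 := by linear_combination h2
    rcases mul_eq_zero.mp h3 with h | h
    · exfalso
      apply hbne
      apply Units.ext
      rw [Units.val_one]
      linear_combination h
    · linear_combination h
  have hval : ∀ m : M36, ((lam (S.ι m) : ℂˣ) : ℂ) = (s1 m : ℂ) := by
    intro m
    rw [hform m, s1_eq m]
    split_ifs
    · rw [hbval]; norm_num
    · simp
  refine ⟨lam, hlam, hval, ?_⟩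
  have hker : (⊤ : Subgroup G) ≤ MonoidHom.ker (lam * lam) := by
    rw [← hsup]
    apply sup_le
    · intro n hn
      obtain ⟨m, rfl⟩ := S.exists_of_mem hn
      rw [MonoidHom.mem_ker, MonoidHom.mul_apply]
      apply Units.ext
      rw [Units.val_mul, hval m, Units.val_one, s1_eq m]
      split_ifs <;> norm_num
    · intro k hk
      rw [MonoidHom.mem_ker, MonoidHom.mul_apply, hlamK k hk, one_mul]
  intro g
  have h2 : (lam * lam) g = 1 := hker (Subgroup.mem_top g)
  rw [MonoidHom.mul_apply] at h2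
  rw [← Units.val_mul, h2, Units.val_one]

end Setup

end Cfsg.Agent.Helper6.SEmb
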