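import Mathlib
import Cfsg.Prelude.Def_Characters
import Cfsg.Agent.Helper6.SEmbJ
import Cfsg.Agent.Helper6.AbelianInertia
import Cfsg.Agent.Helper6.Artin
import Cfsg.Agent.Helper6.InvolutionInvert
import Cfsg.Agent.Helper6.Sib67A
import Cfsg.Agent.Helper6.CharBasic
import Cfsg.Agent.Helper6.IrrCrit

/-!
# General lemmas for the fused case

* integer vectors of square norm three invariant under an involution of the index set;
* twisting irreducible characters by a linear character of order two;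
* sums against the coefficients of `-1 + X - X'`;
* the final arithmetic.
-/

set_option autoImplicit false
set_option linter.style.haveILetI false

namespace Cfsg.Agent.Helper6.SEmb

open Cfsg.Agent.Helper6
open scoped ComplexConjugate

universe u

section comb

variable {ι : Type*} [Fintype ι] [DecidableEq ι]

theorem sq_add_sq_le_of_sum (c : ι → ℤ) (hc3 : ∑ i, c i ^ 2 = 3) (a b : ι) (hab : a ≠ b) :
    c a ^ 2 + c b ^ 2 ≤ 3 := by
  have hp : ∑ i ∈ ({a, b} : Finset ι), c i ^ 2 = c a ^ 2 + c b ^ 2 := Finset.sum_pair hab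
  rw [← hc3, ← hp]
  apply Finset.sum_le_sum_of_subset_of_nonneg (Finset.subset_univ _)
  intro i _ _
  exact sq_nonneg _

/-- A `σ`-invariant integer vector of square norm three, paired with a `σ`-invariant function
vanishing on the fixed points of `σ`. -/
theorem sum_of_sigma_invariant (σ : ι → ι) (hσ : ∀ i, σ (σ i) = i)
    (c : ι → ℤ) (hc3 : ∑ i, c i ^ 2 = 3) (hcσ : ∀ i, c (σ i) = c i) (f : ι → ℂ)
    (hfσ : ∀ i, f (σ i) = f i) (hfix : ∀ i, σ i = i → f i = 0) (z : ι) (hz : σ z ≠ z)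
    (hcz : c z ≠ 0) :
    ∑ i, (c i : ℂ) * f i = 2 * (c z : ℂ) * f z ∧ c z ^ 2 = 1 := by
  set rest := (Finset.univ.erase z).erase (σ z) with hrest
  have hσz : σ z ∈ Finset.univ.erase z := Finset.mem_erase.mpr ⟨hz, Finset.mem_univ _⟩
  have hsplit : ∀ F : ι → ℂ, ∑ i, F i = F z + (F (σ z) + ∑ i ∈ rest, F i) := by
    intro F
    rw [← Finset.add_sum_erase Finset.univ F (Finset.mem_univ z),
      ← Finset.add_sum_erase (Finset.univ.erase z) F hσz]
  have hsplitZ : ∑ i, c i ^ 2 = c z ^ 2 + (c (σ z) ^ 2 + ∑ i ∈ rest, c i ^ 2) := by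
    rw [← Finset.add_sum_erase Finset.univ (fun i => c i ^ 2) (Finset.mem_univ z),
      ← Finset.add_sum_erase (Finset.univ.erase z) (fun i => c i ^ 2) hσz]
  rw [hc3, hcσ] at hsplitZ
  have hrest_nonneg : 0 ≤ ∑ i ∈ rest, c i ^ 2 := Finset.sum_nonneg (fun i _ => sq_nonneg _)
  have hpos : 0 < c z ^ 2 := by positivity
  have hcz2 : c z ^ 2 = 1 := by
    generalize c z ^ 2 = q at *
    omega
  have hrest1 : ∑ i ∈ rest, c i ^ 2 = 1 := by
    rw [hcz2] at hsplitZ
    omega
  have hmem : ∀ i, i ∈ rest ↔ i ≠ z ∧ i ≠ σ z := by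
    intro i
    rw [hrest, Finset.mem_erase, Finset.mem_erase]
    constructor
    · rintro ⟨h1, h2, -⟩
      exact ⟨h2, h1⟩
    · rintro ⟨h1, h2⟩
      exact ⟨h2, h1, Finset.mem_univ _⟩
  have hzero : ∀ i ∈ rest, (c i : ℂ) * f i = 0 := by
    intro i hi
    by_cases hci : c i = 0
    · rw [hci]; simp
    by_cases hfi : σ i = i
    · rw [hfix i hfi, mul_zero]
    exfalso
    have hi' := (hmem i).mp hi
    have hσi : σ i ∈ rest := by
      rw [hmem]
      constructor
      · intro h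
        apply hi'.2
        rw [← h, hσ]
      · intro h
        apply hi'.1
        have := congrArg σ h
        rw [hσ, hσ] at this
        exact this
    have hpair : c i ^ 2 + c (σ i) ^ 2 ≤ ∑ j ∈ rest, c j ^ 2 := by
      have hp : ∑ j ∈ ({i, σ i} : Finset ι), c j ^ 2 = c i ^ 2 + c (σ i) ^ 2 :=
        Finset.sum_pair (Ne.symm hfi)
      rw [← hp]
      apply Finset.sum_le_sum_of_subset_of_nonneg
      · intro j hj
        rw [Finset.mem_insert, Finset.mem_singleton] at hj
        rcases hj with rfl | rfl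
        · exact hi
        · exact hσi
      · intro j _ _
        exact sq_nonneg _
    rw [hcσ, hrest1] at hpair
    have hpos' : 0 < c i ^ 2 := by positivity
    generalize c i ^ 2 = q at *
    omega
  refine ⟨?_, hcz2⟩
  rw [hsplit, Finset.sum_eq_zero hzero, add_zero, hcσ, hfσ]
  ring

/-- The endgame for the coefficient vector of `Θ₂`. -/
theorem endgame (σ : ι → ι) (hσ : ∀ i, σ (σ i) = i)
    (c : ι → ℤ) (hc3 : ∑ i, c i ^ 2 = 3) (hcσ : ∀ i, c (σ i) = c i) (f : ι → ℂ)
    (hfσ : ∀ i, f (σ i) = f i) (hfix : ∀ i, σ i = i → f i = 0) (Z Z' : ι) (hZZ' : Z ≠ Z')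
    (hZ : σ Z ≠ Z) (hZ' : σ Z' ≠ Z') (hcZ : c Z - c Z' = 1)
    (hR2 : ∑ i, (c i : ℂ) * f i = -1 / 2) :
    f Z = -1 / 4 ∨ f Z' = 1 / 4 := by
  have hle := sq_add_sq_le_of_sum c hc3 Z Z' hZZ'
  have hcases : (c Z = 1 ∧ c Z' = 0) ∨ (c Z = 0 ∧ c Z' = -1) := by
    have h1 : c Z = c Z' + 1 := by omega
    rw [h1] at hle
    have h2 : c Z' = 0 ∨ c Z' = -1 := by
      have h3 : -2 < c Z' := by nlinarith
      have h4 : c Z' < 1 := by nlinarith
      omega
    rcases h2 with h | h
    · left; exact ⟨by rw [h1, h]; norm_num, h⟩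
    · right; exact ⟨by rw [h1, h]; norm_num, h⟩
  rcases hcases with ⟨h1, -⟩ | ⟨-, h2⟩
  · left
    obtain ⟨hs, -⟩ := sum_of_sigma_invariant σ hσ c hc3 hcσ f hfσ hfix Z hZ (by rw [h1]; norm_num)
    rw [hR2, h1] at hs
    push_cast at hs
    linear_combination (-1 / 2 : ℂ) * hs
  · right
    obtain ⟨hs, -⟩ := sum_of_sigma_invariant σ hσ c hc3 hcσ f hfσ hfix Z' hZ' (by rw [h2]; norm_num)
    rw [hR2, h2] at hs
    push_cast at hs
    linear_combination (1 / 2 : ℂ) * hs

end comb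

/-- the final arithmetic -/
theorem final_arith (w : ℂ) (hw : IsIntegral ℤ w) (h : 8 * (1 + w) * (1 + w) = 1 + 4 * (w * w)) :
    False := by
  have h2 : (2 * w + 1) * (2 * w + 7) = 0 := by linear_combination h
  have key : ∀ q : ℚ, w = q → (∀ c : ℤ, (c : ℚ) ≠ q) → False := by
    intro q hq hne
    obtain ⟨c, hc⟩ := exists_int_of_isIntegral_eq_rat hw q hq
    apply hne c
    have : ((c : ℚ) : ℂ) = ((q : ℚ) : ℂ) := by
      rw [← hq, hc]
      simp
    exact_mod_cast this
  rcases mul_eq_zero.mp h2 with h3 | h3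
  · apply key (-1 / 2) (by push_cast; linear_combination (1 / 2 : ℂ) * h3)
    intro c hc
    have : (2 * c : ℚ) = -1 := by rw [hc]; norm_num
    have h4 : (2 * c : ℤ) = -1 := by exact_mod_cast this
    omega
  · apply key (-7 / 2) (by push_cast; linear_combination (1 / 2 : ℂ) * h3)
    intro c hc
    have : (2 * c : ℚ) = -7 := by rw [hc]; norm_num
    have h4 : (2 * c : ℤ) = -7 := by exact_mod_cast this
    omega

/-- a square of a real number divided by a positive natural number is not `-1/4` -/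
theorem real_sq_div_ne (z : ℂ) (hz : conj z = z) (k : ℕ) (h : z * z / (k : ℂ) = -1 / 4) :
    False := by
  obtain ⟨r, rfl⟩ := Complex.conj_eq_iff_real.mp hz
  have h1 : ((r * r / (k : ℝ) : ℝ) : ℂ) = ((-1 / 4 : ℝ) : ℂ) := by
    push_cast
    exact h
  have h2 := Complex.ofReal_injective h1
  have h3 : 0 ≤ r * r / (k : ℝ) := div_nonneg (mul_self_nonneg r) (Nat.cast_nonneg k)
  rw [h2] at h3
  norm_num at h3

variable {G : Type u} [Group G]

/-- twisting by a linear character -/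
noncomputable def twist [Fintype G] (lam : G →* ℂˣ) (χ : Cfsg.IrrCharacter G) :
    Cfsg.IrrCharacter G :=
  ⟨(χ : G → ℂ) * fun g => ((lam g : ℂˣ) : ℂ), IsIrrCharacter.mul_hom lam χ.2⟩

theorem twist_apply [Fintype G] (lam : G →* ℂˣ) (χ : Cfsg.IrrCharacter G) (g : G) :
    (twist lam χ : G → ℂ) g = (χ : G → ℂ) g * ((lam g : ℂˣ) : ℂ) := rfl

theorem twist_twist [Fintype G] (lam : G →* ℂˣ)
    (hlam : ∀ g : G, ((lam g : ℂˣ) : ℂ) * ((lam g : ℂˣ) : ℂ) = 1) (χ : Cfsg.IrrCharacter G) :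
    twist lam (twist lam χ) = χ := by
  apply Subtype.ext
  funext g
  rw [twist_apply, twist_apply, mul_assoc, hlam, mul_one]

theorem conj_lam (lam : G →* ℂˣ)
    (hlam : ∀ g : G, ((lam g : ℂˣ) : ℂ) * ((lam g : ℂˣ) : ℂ) = 1) (g : G) :
    conj ((lam g : ℂˣ) : ℂ) = ((lam g : ℂˣ) : ℂ) := by
  have h3 : (((lam g : ℂˣ) : ℂ) - 1) * (((lam g : ℂˣ) : ℂ) + 1) = 0 := by
    linear_combination hlam g
  rcases mul_eq_zero.mp h3 with h | h
  · have : ((lam g : ℂˣ) : ℂ) = 1 := by linear_combination h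
    rw [this, map_one]
  · have : ((lam g : ℂˣ) : ℂ) = -1 := by linear_combination h
    rw [this, map_neg, map_one]

theorem classInner_mul_lam [Fintype G] (lam : G →* ℂˣ)
    (hlam : ∀ g : G, ((lam g : ℂˣ) : ℂ) * ((lam g : ℂˣ) : ℂ) = 1) (Θ : G → ℂ)
    (χ : Cfsg.IrrCharacter G) :
    Cfsg.classInner ((fun g => ((lam g : ℂˣ) : ℂ)) * Θ) (χ : G → ℂ) =
      Cfsg.classInner Θ (twist lam χ : G → ℂ) := by
  unfold Cfsg.classInner
  congr 1
  apply Finset.sum_congr rfl
  intro g _
  show ((lam g : ℂˣ) : ℂ) * Θ g * conj ((χ : G → ℂ) g) =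
    Θ g * conj ((χ : G → ℂ) g * ((lam g : ℂˣ) : ℂ))
  rw [map_mul, conj_lam lam hlam g]
  ring

theorem lam_isClassFunction (lam : G →* ℂˣ) :
    Cfsg.IsClassFunction G (fun g => ((lam g : ℂˣ) : ℂ)) := by
  intro g h
  show ((lam (h * g * h⁻¹) : ℂˣ) : ℂ) = ((lam g : ℂˣ) : ℂ)
  rw [map_mul, map_mul, map_inv, mul_comm (lam h), mul_assoc, mul_inv_cancel, mul_one]

/-- Sums against the coefficients of `-1 + X - X'`. -/
theorem sum_decomp [Fintype G] [Fintype (Cfsg.IrrCharacter G)] {Θ : G → ℂ}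
    (X X' : Cfsg.IrrCharacter G)
    (hdec : ∀ g, Θ g = -1 + (X : G → ℂ) g - (X' : G → ℂ) g) (F : Cfsg.IrrCharacter G → ℂ) :
    ∑ χ : Cfsg.IrrCharacter G, Cfsg.classInner Θ (χ : G → ℂ) * F χ =
      -F oneIrr + F X - F X' := by
  classical
  simp_rw [classInner_decomp X X' hdec]
  simp_rw [sub_mul, add_mul, neg_mul, ite_mul, one_mul, zero_mul]
  rw [Finset.sum_sub_distrib, Finset.sum_add_distrib, Finset.sum_neg_distrib,
    Finset.sum_ite_eq Finset.univ oneIrr, Finset.sum_ite_eq Finset.univ X,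
    Finset.sum_ite_eq Finset.univ X']
  simp

/-- Inner products with `-A + B - C`. -/
theorem classInner_right_three [Fintype G] (Φ Ψ : G → ℂ) (A B C : G → ℂ)
    (hΨ : ∀ g, Ψ g = -A g + B g - C g) :
    Cfsg.classInner Φ Ψ = -Cfsg.classInner Φ A + Cfsg.classInner Φ B - Cfsg.classInner Φ C := by
  have h : Ψ = -A + B - C := by
    funext g
    rw [hΨ g]
    rfl
  rw [h, classInner_sub_right, classInner_add_right, classInner_neg_right]

theorem irr_real_of_sq [Finite G] (χ : Cfsg.IrrCharacter G) (u : G) (hu : u * u = 1) :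
    conj ((χ : G → ℂ) u) = (χ : G → ℂ) u := by
  have h1 : u⁻¹ = u := inv_eq_of_mul_eq_one_left hu
  have h2 := IsCharacter.inv_eq_conj (IsIrrCharacter.isCharacter χ.2) u
  rw [h1] at h2
  exact h2.symm

/-- `Z`, `Z'` are not fixed by the twist if `Θ = -1 + Z - Z'` is orthogonal to its twist and to the
twist of the trivial character. -/
theorem twist_ne_of_orth [Fintype G] (lam : G →* ℂˣ)
    (hlam : ∀ g : G, ((lam g : ℂˣ) : ℂ) * ((lam g : ℂˣ) : ℂ) = 1) {Θ : G → ℂ}
    (Z Z' : Cfsg.IrrCharacter G) (hZZ' : Z ≠ Z') (hZ1 : Z ≠ oneIrr) (hZ'1 : Z' ≠ oneIrr)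
    (hdec : ∀ g, Θ g = -1 + (Z : G → ℂ) g - (Z' : G → ℂ) g)
    (h0 : Cfsg.classInner Θ (twist lam oneIrr : G → ℂ) = 0)
    (horth : Cfsg.classInner Θ ((fun g => ((lam g : ℂˣ) : ℂ)) * Θ) = 0) :
    twist lam Z ≠ Z ∧ twist lam Z' ≠ Z' := by
  classical
  have hexp : ∀ g, ((fun g => ((lam g : ℂˣ) : ℂ)) * Θ) g =
      -(twist lam oneIrr : G → ℂ) g + (twist lam Z : G → ℂ) g - (twist lam Z' : G → ℂ) g := by
    intro g
    rw [Pi.mul_apply, hdec g, twist_apply, twist_apply, twist_apply]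
    show _ = -(1 * ((lam g : ℂˣ) : ℂ)) + _ - _
    ring
  have h1 := classInner_right_three Θ _ _ _ _ hexp
  rw [horth, h0, classInner_decomp Z Z' hdec, classInner_decomp Z Z' hdec] at h1
  have hinj : ∀ a b : Cfsg.IrrCharacter G, twist lam a = twist lam b → a = b := by
    intro a b hab
    have := congrArg (twist lam) hab
    rwa [twist_twist lam hlam, twist_twist lam hlam] at this
  constructor
  · intro hfix
    have e2 : Z = twist lam Z := hfix.symm
    have e1 : ¬ (oneIrr = twist lam Z) := by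
      intro h
      exact hZ1 (e2.trans h.symm)
    have e3 : ¬ (Z' = twist lam Z) := by
      intro h
      exact hZZ' (e2.trans h.symm)
    rw [if_neg e1, if_pos e2, if_neg e3] at h1
    by_cases q2 : Z = twist lam Z'
    · exact hZZ' (hinj _ _ (e2.symm.trans q2))
    · rw [if_neg q2] at h1
      by_cases q1 : oneIrr = twist lam Z' <;> by_cases q3 : Z' = twist lam Z'
      · rw [if_pos q1, if_pos q3] at h1; norm_num at h1
      · rw [if_pos q1, if_neg q3] at h1; norm_num at h1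
      · rw [if_neg q1, if_pos q3] at h1; norm_num at h1
      · rw [if_neg q1, if_neg q3] at h1; norm_num at h1
  · intro hfix
    have e3 : Z' = twist lam Z' := hfix.symm
    have e1 : ¬ (oneIrr = twist lam Z') := by
      intro h
      exact hZ'1 (e3.trans h.symm)
    have e2 : ¬ (Z = twist lam Z') := by
      intro h
      exact hZZ' (h.trans e3.symm)
    rw [if_neg e1, if_neg e2, if_pos e3] at h1
    by_cases p3 : Z' = twist lam Z
    · exact hZZ' (hinj _ _ (p3.symm.trans e3))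
    · rw [if_neg p3] at h1
      by_cases p1 : oneIrr = twist lam Z
      · -- then `Z = twist 1`, contradiction with `h0`
        have hZeq : Z = twist lam oneIrr := by
          rw [p1, twist_twist lam hlam]
        rw [← hZeq, classInner_decomp Z Z' hdec, if_neg (Ne.symm hZ1), if_pos rfl, if_neg hZZ'.symm]
          at h0
        norm_num at h0
      · rw [if_neg p1] at h1
        by_cases p2 : Z = twist lam Z
        · rw [if_pos p2] at h1; norm_num at h1
        · rw [if_neg p2] at h1; norm_num at h1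

end Cfsg.Agent.Helper6.SEmb
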