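import Mathlib
import Cfsg.Prelude.Def_Characters
import Cfsg.Agent.Helper6.SEmbK

/-!
# The abstract `S₃ × S₃` situation: the fused case is impossible
-/

set_option autoImplicit false
set_option linter.style.haveILetI false

namespace Cfsg.Agent.Helper6.SEmb

open Cfsg.Agent.Helper6
open DihedralGroup
open scoped ComplexConjugate

universe u

/-- `s ⊗ (χ - 1 - s)` -/
def d4 (m : M36) : ℤ := s1 m * d3 m

/-- involutions of type `I1` or `I12` -/
def finUB : Finset M36 := Finset.univ.filter (fun m => (isI1 m || isI12 m) = true)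

theorem sumUB_d1 : ∑ m₁ ∈ finUB, ∑ m₂ ∈ finUB, d1 (m₁ * m₂) = -288 := by decide
theorem sumUB_d2 : ∑ m₁ ∈ finUB, ∑ m₂ ∈ finUB, d2 (m₁ * m₂) = -72 := by decide
theorem sumUB_d3 : ∑ m₁ ∈ finUB, ∑ m₂ ∈ finUB, d3 (m₁ * m₂) = -162 := by decide
theorem sum_d2_sq : ∑ m : M36, d2 m * d2 m = 108 := by decide
theorem sum_d2 : ∑ m : M36, d2 m = 0 := by decide
theorem sum_d2_d3 : ∑ m : M36, d2 m * d3 m = 36 := by decide
theorem sum_d3_sq : ∑ m : M36, d3 m * d3 m = 108 := by decide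
theorem sum_d3 : ∑ m : M36, d3 m = -36 := by decide
theorem sum_d3_d4 : ∑ m : M36, d3 m * d4 m = 0 := by decide
theorem sum_d4 : ∑ m : M36, d4 m = 0 := by decide
theorem d4_van : ∀ m : M36, sing m = false → d4 m = 0 := by decide
theorem d4_cf : ∀ m c : M36, d4 (c * m * c⁻¹) = d4 m := by decide
theorem s1_mul_d2 : ∀ m : M36, s1 m * d2 m = d2 m := by decide
theorem s1_mU : s1 mU = -1 := by decide
theorem isI1_mU : isI1 mU = true := by decide
theorem mU_ne : mU ≠ 1 := by decide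

variable {G : Type u} [Group G]

namespace Setup

variable (S : Setup G)

theorem twist_Theta [Fintype G] (lam : G →* ℂˣ)
    (hval : ∀ m : M36, ((lam (S.ι m) : ℂˣ) : ℂ) = (s1 m : ℂ)) (d : M36 → ℤ) :
    (fun g => ((lam g : ℂˣ) : ℂ)) * S.Theta d = S.Theta (fun m => s1 m * d m) := by
  unfold Theta
  rw [mul_indFun S.N (S.phi d) _ (lam_isClassFunction lam)]
  congr 1
  funext h
  show ((lam (h : G) : ℂˣ) : ℂ) * ((d (S.e h) : ℤ) : ℂ) = ((s1 (S.e h) * d (S.e h) : ℤ) : ℂ)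
  rw [← S.ι_e h, hval]
  push_cast
  rfl

theorem Theta2_norm [Fintype G] : Cfsg.classInner (S.Theta d2) (S.Theta d2) = 3 := by
  rw [S.classInner_Theta d2 d2 d2_van d2_van d2_cf, sum_d2_sq]
  norm_num

theorem Theta2_inner_one [Fintype G] :
    Cfsg.classInner (S.Theta d2) (fun _ => (1 : ℂ)) = 0 := by
  rw [S.classInner_Theta_one d2, sum_d2]
  norm_num

theorem Theta2_Theta3 [Fintype G] : Cfsg.classInner (S.Theta d2) (S.Theta d3) = 1 := by
  rw [S.classInner_Theta d2 d3 d2_van d3_van d3_cf, sum_d2_d3]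
  norm_num

theorem Theta3_norm [Fintype G] : Cfsg.classInner (S.Theta d3) (S.Theta d3) = 3 := by
  rw [S.classInner_Theta d3 d3 d3_van d3_van d3_cf, sum_d3_sq]
  norm_num

theorem Theta3_inner_one [Fintype G] :
    Cfsg.classInner (S.Theta d3) (fun _ => (1 : ℂ)) = -1 := by
  rw [S.classInner_Theta_one d3, sum_d3]
  norm_num

theorem Theta3_Theta4 [Fintype G] : Cfsg.classInner (S.Theta d3) (S.Theta d4) = 0 := by
  rw [S.classInner_Theta d3 d4 d3_van d4_van d4_cf, sum_d3_d4]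
  norm_num

theorem Theta4_inner_one [Fintype G] :
    Cfsg.classInner (S.Theta d4) (fun _ => (1 : ℂ)) = 0 := by
  rw [S.classInner_Theta_one d4, sum_d4]
  norm_num

/-- The class of `ι mU` meets `N` in the involutions of type `I1` and `I12`, in the fused case. -/
theorem mem_finUB_iff [Finite G] (a b : M36) (ha : isI1 a = true) (hb : isI12 b = true)
    (hab : IsConj (S.ι a) (S.ι b)) (m : M36) :
    m ∈ finUB ↔ IsConj (S.ι mU) (S.ι m) := by
  unfold finUB
  rw [Finset.mem_filter, Bool.or_eq_true]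
  constructor
  · rintro ⟨-, hm | hm⟩
    · exact S.isConj_I1 m hm
    · exact (S.isConj_I1 a ha).trans (hab.trans ((S.isConj_I12 b hb).symm.trans
        (S.isConj_I12 m hm)))
  · intro h
    refine ⟨Finset.mem_univ _, ?_⟩
    rcases S.type_of_isConj mU m mU_sq mU_ne h with h1 | h1 | h1
    · exact Or.inl h1
    · exact absurd h (S.not_isConj_I1_I2 mU m isI1_mU h1)
    · exact Or.inr h1

/-- The double class sum relation. -/
theorem class_relation [Fintype G] [Fintype (Cfsg.IrrCharacter G)] (d : M36 → ℤ)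
    (hd : ∀ m, sing m = false → d m = 0) (u : G) (hu : u * u = 1) (U : Finset M36)
    (hU : ∀ m, m ∈ U ↔ IsConj u (S.ι m)) :
    ((classFinset u).card : ℂ) * ((classFinset u).card : ℂ) *
      ∑ χ : Cfsg.IrrCharacter G, Cfsg.classInner (S.Theta d) (χ : G → ℂ) *
        ((χ : G → ℂ) u * (χ : G → ℂ) u / (χ : G → ℂ) 1) =
    (Nat.card G : ℂ) / 36 * ((∑ m₁ ∈ U, ∑ m₂ ∈ U, d (m₁ * m₂) : ℤ) : ℂ) := by
  rw [← sum_class_mul_eq, S.sum_class_Theta d hd u u hu hu U U hU hU]

/-- The data in the fused case. -/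
theorem fused_data [Fintype G] [Fintype (Cfsg.IrrCharacter G)]
    (hQ : ∃ a b : M36, isI1 a = true ∧ isI12 b = true ∧ IsConj (S.ι a) (S.ι b)) :
    ∃ lam : G →* ℂˣ, (∀ m : M36, ((lam (S.ι m) : ℂˣ) : ℂ) = (s1 m : ℂ)) ∧
      (∀ g : G, ((lam g : ℂˣ) : ℂ) * ((lam g : ℂˣ) : ℂ) = 1) ∧
      (∀ m, m ∈ finUB ↔ IsConj (S.ι mU) (S.ι m)) ∧
      ((classFinset (S.ι mU)).card : ℂ) * ((classFinset (S.ι mU)).card : ℂ) =
        4 * (Nat.card G : ℂ) := by
  obtain ⟨a, b, ha, hb, hab⟩ := hQ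
  have hP : ∀ m m' : M36, isI2 m = true → isI12 m' = true → ¬ IsConj (S.ι m) (S.ι m') := by
    intro m m' hm hm' hc
    have h1 : IsConj (S.ι a) (S.ι m) :=
      hab.trans ((S.isConj_I12 b hb).symm.trans ((S.isConj_I12 m' hm').trans hc.symm))
    exact S.not_isConj_I1_I2 a m ha hm h1
  obtain ⟨X, X', hne, hX1, hX'1, hdec, hker, -⟩ := S.exists_kernel hP
  haveI := kerSub_normal X
  haveI := kerSub_normal X'
  haveI hKn : (kerSub X ⊓ kerSub X').Normal := Subgroup.normal_inf_normal _ _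
  have hsup := S.sup_eq_top_of_normal (kerSub X ⊓ kerSub X') (S.ι mTb) S.mTb_mem_T S.mTb_ne
    (hker mTb rfl)
  have hidx := S.index_le_six (kerSub X ⊓ kerSub X') hsup hker
  have hΘ1 := S.Theta_one d1 d1_van
  have hrel : (X : G → ℂ) 1 = (X' : G → ℂ) 1 + 1 := by
    have := hdec 1
    rw [hΘ1] at this
    linear_combination -this
  obtain ⟨hX'deg, hXdeg⟩ := degrees_of_index_le_six X X' hne hX1 hX'1 hrel hidx
  obtain ⟨lam, hlam, hval, hlam2⟩ :=
    S.exists_sign X' hX'1 hX'deg (kerSub X ⊓ kerSub X') inf_le_right hsup hker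
  have hU := S.mem_finUB_iff a b ha hb hab
  refine ⟨lam, hval, hlam2, hU, ?_⟩
  have hu2 : S.ι mU * S.ι mU = 1 := by rw [← map_mul, mU_sq, map_one]
  have hX'u : (X' : G → ℂ) (S.ι mU) = -1 := by
    rw [hlam]
    show ((lam (S.ι mU) : ℂˣ) : ℂ) = -1
    rw [hval mU, s1_mU]
    norm_num
  have hXu : (X : G → ℂ) (S.ι mU) = 0 := by
    have := hdec (S.ι mU)
    rw [S.Theta_of_sq d1 d1_van _ hu2, hX'u] at this
    linear_combination -this
  have R1 := S.class_relation d1 d1_van (S.ι mU) hu2 finUB hU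
  rw [sum_decomp X X' hdec, sumUB_d1, hXu, hX'u, hX'deg] at R1
  have h11 : ((oneIrr : Cfsg.IrrCharacter G) : G → ℂ) (S.ι mU) *
      ((oneIrr : Cfsg.IrrCharacter G) : G → ℂ) (S.ι mU) /
      ((oneIrr : Cfsg.IrrCharacter G) : G → ℂ) 1 = 1 := by
    show (1 : ℂ) * 1 / 1 = 1
    norm_num
  rw [h11] at R1
  push_cast at R1
  linear_combination (-1 / 2 : ℂ) * R1

/-- The fused case is impossible. -/
theorem false_of_fused [Fintype G]
    (hQ : ∃ a b : M36, isI1 a = true ∧ isI12 b = true ∧ IsConj (S.ι a) (S.ι b)) : False := by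
  classical
  haveI : Finite (Cfsg.IrrCharacter G) := irr_finite
  haveI : Fintype (Cfsg.IrrCharacter G) := Fintype.ofFinite _
  obtain ⟨lam, hval, hlam2, hU, hc2⟩ := S.fused_data hQ
  set u : G := S.ι mU with hu
  have hu2 : u * u = 1 := by rw [hu, ← map_mul, mU_sq, map_one]
  have hlamu : ((lam u : ℂˣ) : ℂ) = -1 := by
    rw [hu, hval mU, s1_mU]
    norm_num
  have hn0 : (Nat.card G : ℂ) ≠ 0 := by
    have : 0 < Nat.card G := Nat.card_pos
    exact_mod_cast this.ne'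
  set f : Cfsg.IrrCharacter G → ℂ :=
    fun χ => (χ : G → ℂ) u * (χ : G → ℂ) u / (χ : G → ℂ) 1 with hf
  -- `Θ₃`
  obtain ⟨Z, Z', hZne, hZ1, hZ'1, hdec3⟩ := exists_decomp_norm_three
    (S.isGenChar_Theta d3 isGenChar_d3) S.Theta3_norm S.Theta3_inner_one (S.Theta_one d3 d3_van)
  have R3 := S.class_relation d3 d3_van u hu2 finUB hU
  rw [sum_decomp Z Z' hdec3 f, sumUB_d3, hc2] at R3
  have h11 : f oneIrr = 1 := by
    show (1 : ℂ) * 1 / 1 = 1
    norm_num
  rw [h11] at R3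
  have R3' : f Z - f Z' = -1 / 8 := by
    push_cast at R3
    have h2 : (Nat.card G : ℂ) * (4 * (-1 + f Z - f Z') + 9 / 2) = 0 := by
      linear_combination R3
    rcases mul_eq_zero.mp h2 with h | h
    · exact absurd h hn0
    · linear_combination (1 / 4 : ℂ) * h
  -- `Θ₂`
  have hgen2 := S.isGenChar_Theta d2 isGenChar_d2
  have R2 := S.class_relation d2 d2_van u hu2 finUB hU
  rw [sumUB_d2, hc2] at R2
  have R2' : ∑ χ : Cfsg.IrrCharacter G, Cfsg.classInner (S.Theta d2) (χ : G → ℂ) * f χ =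
      -1 / 2 := by
    push_cast at R2
    have h2 : (Nat.card G : ℂ) * (4 * (∑ χ : Cfsg.IrrCharacter G,
        Cfsg.classInner (S.Theta d2) (χ : G → ℂ) * f χ) + 2) = 0 := by
      linear_combination R2
    rcases mul_eq_zero.mp h2 with h | h
    · exact absurd h hn0
    · linear_combination (1 / 4 : ℂ) * h
  have hc : ∀ χ : Cfsg.IrrCharacter G, ∃ c : ℤ,
      Cfsg.classInner (S.Theta d2) (χ : G → ℂ) = c := fun χ =>
    IsGeneralizedCharacter.classInner_irr_int hgen2 χ.2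
  choose c hc using hc
  have hc' : ∀ χ : Cfsg.IrrCharacter G, Cfsg.classInner (χ : G → ℂ) (S.Theta d2) = c χ := by
    intro χ
    rw [classInner_conj_symm, hc, map_intCast]
  have hcf2 := IsGeneralizedCharacter.isClassFunction hgen2
  have hsumC : ((∑ χ : Cfsg.IrrCharacter G, c χ ^ 2 : ℤ) : ℂ) = 3 := by
    rw [← S.Theta2_norm, classInner_self_expansion (S.Theta d2) hcf2 (S.Theta d2)]
    push_cast
    apply Finset.sum_congr rfl
    intro χ _
    rw [hc, hc', sq]
  have hc3 : ∑ χ : Cfsg.IrrCharacter G, c χ ^ 2 = 3 := by exact_mod_cast hsumC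
  -- invariance under the twist
  have htw2 : (fun g => ((lam g : ℂˣ) : ℂ)) * S.Theta d2 = S.Theta d2 := by
    rw [S.twist_Theta lam hval d2]
    congr 1
    funext m
    exact s1_mul_d2 m
  have hcσ : ∀ χ : Cfsg.IrrCharacter G, c (twist lam χ) = c χ := by
    intro χ
    have h1 := classInner_mul_lam lam hlam2 (S.Theta d2) χ
    rw [htw2, hc, hc] at h1
    exact_mod_cast h1.symm
  have hfσ : ∀ χ : Cfsg.IrrCharacter G, f (twist lam χ) = f χ := by
    intro χ
    show (twist lam χ : G → ℂ) u * (twist lam χ : G → ℂ) u / (twist lam χ : G → ℂ) 1 =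
      (χ : G → ℂ) u * (χ : G → ℂ) u / (χ : G → ℂ) 1
    rw [twist_apply, twist_apply, map_one, Units.val_one, mul_one, hlamu]
    ring
  have hfix : ∀ χ : Cfsg.IrrCharacter G, twist lam χ = χ → f χ = 0 := by
    intro χ hχ
    have h1 : (twist lam χ : G → ℂ) u = (χ : G → ℂ) u := by rw [hχ]
    rw [twist_apply, hlamu] at h1
    have h2 : (χ : G → ℂ) u = 0 := by linear_combination (-1 / 2 : ℂ) * h1
    show (χ : G → ℂ) u * (χ : G → ℂ) u / (χ : G → ℂ) 1 = 0
    rw [h2]
    simp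
  -- `Z`, `Z'` are not fixed
  have htw3 : (fun g => ((lam g : ℂˣ) : ℂ)) * S.Theta d3 = S.Theta d4 := S.twist_Theta lam hval d3
  have h0 : Cfsg.classInner (S.Theta d3) (twist lam oneIrr : G → ℂ) = 0 := by
    rw [← classInner_mul_lam lam hlam2, htw3]
    exact S.Theta4_inner_one
  have horth : Cfsg.classInner (S.Theta d3) ((fun g => ((lam g : ℂˣ) : ℂ)) * S.Theta d3) = 0 := by
    rw [htw3]
    exact S.Theta3_Theta4
  obtain ⟨hZfix, hZ'fix⟩ := twist_ne_of_orth lam hlam2 Z Z' hZne hZ1 hZ'1 hdec3 h0 horth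
  -- `c Z - c Z' = 1`
  have hcZ : c Z - c Z' = 1 := by
    have h1 := classInner_right_three (S.Theta d2) (S.Theta d3)
      ((oneIrr : Cfsg.IrrCharacter G) : G → ℂ) (Z : G → ℂ) (Z' : G → ℂ) (by
        intro g
        rw [hdec3 g]
        rfl)
    have h2 : Cfsg.classInner (S.Theta d2) ((oneIrr : Cfsg.IrrCharacter G) : G → ℂ) = 0 :=
      S.Theta2_inner_one
    rw [S.Theta2_Theta3, h2, hc Z, hc Z'] at h1
    have h3 : ((c Z - c Z' : ℤ) : ℂ) = 1 := by
      push_cast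
      linear_combination -h1
    exact_mod_cast h3
  have hR2 : ∑ χ : Cfsg.IrrCharacter G, (c χ : ℂ) * f χ = -1 / 2 := by
    rw [← R2']
    apply Finset.sum_congr rfl
    intro χ _
    rw [hc]
  have hend := endgame (twist lam) (twist_twist lam hlam2) c hc3 hcσ f hfσ hfix Z Z' hZne hZfix
    hZ'fix hcZ hR2
  -- degrees
  obtain ⟨k, hk, -, hkpos⟩ := IsIrrCharacter.degree_dvd_card Z.2
  obtain ⟨k', hk', -, hk'pos⟩ := IsIrrCharacter.degree_dvd_card Z'.2
  rcases hend with h | h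
  · exact real_sq_div_ne ((Z : G → ℂ) u) (irr_real_of_sq Z u hu2) k (by
      rw [← hk]
      exact h)
  · -- `Z'(1) = 4 Z'(u)²`
    have e1 := hdec3 1
    rw [S.Theta_one d3 d3_van] at e1
    have eu := hdec3 u
    rw [S.Theta_of_sq d3 d3_van u hu2] at eu
    set w := (Z' : G → ℂ) u with hw
    have hZu : (Z : G → ℂ) u = 1 + w := by linear_combination -eu
    have hZ1v : (Z : G → ℂ) 1 = 1 + (Z' : G → ℂ) 1 := by linear_combination -e1
    have hD'0 : (Z' : G → ℂ) 1 ≠ 0 := by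
      rw [hk']
      exact_mod_cast hk'pos.ne'
    have hD0 : (Z : G → ℂ) 1 ≠ 0 := by
      rw [hk]
      exact_mod_cast hkpos.ne'
    have h' : w * w / (Z' : G → ℂ) 1 = 1 / 4 := h
    have hD' : (Z' : G → ℂ) 1 = 4 * (w * w) := by
      rw [div_eq_iff hD'0] at h'
      linear_combination (-4 : ℂ) * h'
    have hfZ : f Z = 1 / 8 := by
      rw [show f Z' = 1 / 4 from h] at R3'
      linear_combination R3'
    have hfZ' : (1 + w) * (1 + w) / (1 + 4 * (w * w)) = 1 / 8 := by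
      rw [← hD', ← hZ1v, ← hZu]
      exact hfZ
    have hD0' : (1 + 4 * (w * w) : ℂ) ≠ 0 := by
      rw [← hD', ← hZ1v]
      exact hD0
    apply final_arith w (IsIrrCharacter.isIntegral_apply Z'.2 u)
    rw [div_eq_iff hD0'] at hfZ'
    linear_combination (8 : ℂ) * hfZ'

end Setup

end Cfsg.Agent.Helper6.SEmb
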