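import Mathlib
import Cfsg.Prelude.Def_Characters
import Cfsg.Prelude.Def_Transfer
import Cfsg.Agent.Helper6.SEmbL
import Cfsg.Agent.Helper6.SEmbF

/-!
# The abstract `S₃ × S₃` situation: conclusion

* `Setup.N_eq_top`: in the abstract situation, `N = G`.
* `exists_setup`: the abstract situation from the hypotheses on a Sylow 3-subgroup `T`
  (elementary abelian of order 9, self-centralizing, `N_G(T)/T` a four-group, centralizers of
  nonidentity elements of `T` inside `N_G(T)`).
-/

set_option autoImplicit false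
set_option linter.style.haveILetI false

namespace Cfsg.Agent.Helper6.SEmb

open Cfsg.Agent.Helper6
open DihedralGroup

universe u

theorem isI1_swap : ∀ m : M36, isI2 m = true → isI1 (m.2, m.1) = true := by decide
theorem isI12_swap : ∀ m : M36, isI12 m = true → isI12 (m.2, m.1) = true := by decide
theorem pow_four_of_sing : ∀ m : M36, sing m = true →
    (isRot (m ^ 4).1 && isRot (m ^ 4).2) = true ∧ m ^ 4 ≠ 1 := by decide

variable {G : Type u} [Group G]

namespace Setup

variable (S : Setup G)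

/-- In the abstract situation, `N = G`. -/
theorem N_eq_top [Finite G] : S.N = ⊤ := by
  classical
  haveI : Fintype G := Fintype.ofFinite G
  by_cases hQ : ∃ a b : M36, isI1 a = true ∧ isI12 b = true ∧ IsConj (S.ι a) (S.ι b)
  · exact (S.false_of_fused hQ).elim
  by_cases hP : ∃ a b : M36, isI2 a = true ∧ isI12 b = true ∧ IsConj (S.ι a) (S.ι b)
  · exfalso
    apply S.swap.false_of_fused
    obtain ⟨a, b, ha, hb, hab⟩ := hP
    exact ⟨(a.2, a.1), (b.2, b.1), isI1_swap a ha, isI12_swap b hb, hab⟩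
  have hP' : ∀ m m' : M36, isI2 m = true → isI12 m' = true → ¬ IsConj (S.ι m) (S.ι m') := by
    intro m m' hm hm' h
    exact hP ⟨m, m', hm, hm', h⟩
  have hQ' : ∀ m m' : M36, isI2 m = true → isI12 m' = true →
      ¬ IsConj (S.swap.ι m) (S.swap.ι m') := by
    intro m m' hm hm' h
    exact hQ ⟨(m.2, m.1), (m'.2, m'.1), isI1_swap m hm, isI12_swap m' hm', h⟩
  obtain ⟨X, X', -, -, -, -, hk1, hk1'⟩ := S.exists_kernel hP'
  obtain ⟨Y, Y', -, -, -, -, hk3, hk3'⟩ := S.swap.exists_kernel hQ'
  haveI := kerSub_normal X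
  haveI := kerSub_normal X'
  haveI := kerSub_normal Y
  haveI := kerSub_normal Y'
  haveI : (kerSub X ⊓ kerSub X').Normal := Subgroup.normal_inf_normal _ _
  haveI : (kerSub Y ⊓ kerSub Y').Normal := Subgroup.normal_inf_normal _ _
  exact S.eq_top_of_two_kernels (kerSub X ⊓ kerSub X') (kerSub Y ⊓ kerSub Y') hk1 hk1'
    (fun m hm => hk3 (m.2, m.1) hm) (fun m hm => hk3' (m.2, m.1) hm)

end Setup

/-- The abstract situation from the hypotheses on a Sylow 3-subgroup. -/
theorem exists_setup [Finite G] (T : Sylow 3 G)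
    (hT : Cfsg.IsElementaryAbelian 3 (T : Subgroup G)) (hcard : Nat.card T = 9)
    (hC : Subgroup.centralizer ((T : Subgroup G) : Set G) = T)
    [hn : ((T : Subgroup G).subgroupOf (Subgroup.normalizer ((T : Subgroup G) : Set G))).Normal]
    (hK : IsKleinFour (↥(Subgroup.normalizer ((T : Subgroup G) : Set G)) ⧸
      (T : Subgroup G).subgroupOf (Subgroup.normalizer ((T : Subgroup G) : Set G))))
    (hloc : ∀ t ∈ (T : Subgroup G), t ≠ 1 →
      Subgroup.centralizer ({t} : Set G) ≤ Subgroup.normalizer ((T : Subgroup G) : Set G)) :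
    ∃ S : Setup G, S.N = Subgroup.normalizer ((T : Subgroup G) : Set G) := by
  haveI : Fact (Nat.Prime 3) := ⟨Nat.prime_three⟩
  set N : Subgroup G := Subgroup.normalizer ((T : Subgroup G) : Set G) with hN
  have hTN : (T : Subgroup G) ≤ N := Subgroup.le_normalizer
  set T' : Subgroup N := (T : Subgroup G).subgroupOf N with hT'
  have hmemT' : ∀ n : N, n ∈ T' ↔ (n : G) ∈ (T : Subgroup G) := fun n => Subgroup.mem_subgroupOf
  have hT9 : Nat.card T' = 9 := by
    rw [← hcard]
    exact Nat.card_congr (Subgroup.subgroupOfEquivOfLe hTN).toEquiv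
  have hcomm : ∀ x ∈ T', ∀ y ∈ T', x * y = y * x := by
    intro x hx y hy
    rw [hmemT'] at hx hy
    have := hT.1.is_comm.comm ⟨(x : G), hx⟩ ⟨(y : G), hy⟩
    have h2 : (x : G) * (y : G) = (y : G) * (x : G) := congrArg Subtype.val this
    apply Subtype.ext
    exact h2
  have hexp : ∀ t ∈ T', t ^ 3 = 1 := by
    intro t ht
    rw [hmemT'] at ht
    apply Subtype.ext
    exact hT.2 _ ht
  have hCT : ∀ h : N, (∀ t ∈ T', h * t = t * h) → h ∈ T' := by
    intro h hh
    rw [hmemT', ← hC, Subgroup.mem_centralizer_iff]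
    intro t ht
    have := hh ⟨t, hTN ht⟩ ((hmemT' _).mpr ht)
    exact (congrArg Subtype.val this).symm
  obtain ⟨e, he⟩ := exists_model_abstract T' hT9 hcomm hexp hCT hK
  refine ⟨{ N := N, e := e, T := T, hT := ?_, hTI := ?_ }, rfl⟩
  · intro g
    constructor
    · intro hg
      exact ⟨⟨g, hTN hg⟩, rfl, (he _).mp ((hmemT' _).mpr hg)⟩
    · rintro ⟨n, rfl, h⟩
      exact (hmemT' n).mp ((he n).mpr h)
  · intro t t' ht ht' z hz
    have h4 : ∀ s : N, sing (e s) = true → ((s : G) ^ 4 ∈ (T : Subgroup G) ∧ (s : G) ^ 4 ≠ 1) := by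
      intro s hs
      obtain ⟨h1, h2⟩ := pow_four_of_sing (e s) hs
      rw [← map_pow] at h1 h2
      constructor
      · have := (hmemT' (s ^ 4)).mp ((he _).mpr h1)
        simpa using this
      · intro h
        apply h2
        have : s ^ 4 = 1 := Subtype.ext (by simpa using h)
        rw [this, map_one]
    obtain ⟨hx, hx1⟩ := h4 t ht
    obtain ⟨hy, -⟩ := h4 t' ht'
    have hconj : z⁻¹ * (t : G) ^ 4 * z = (t' : G) ^ 4 := by
      rw [hz]
      have h := conj_pow (a := z⁻¹) (b := (t : G)) (i := 4)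
      rw [inv_inv] at h
      exact h.symm
    rw [← hconj] at hy
    haveI : IsMulCommutative (T : Subgroup G) := hT.1
    haveI : IsMulCommutative T := hT.1
    obtain ⟨n, hn', hn2⟩ := T.conj_eq_normalizer_conj_of_mem ((t : G) ^ 4) z hx hy
    have hnN : n ∈ N := hn'
    have hcent : z * n⁻¹ ∈ Subgroup.centralizer ({(t : G) ^ 4} : Set G) := by
      rw [Subgroup.mem_centralizer_singleton_iff]
      have h5 : (t : G) ^ 4 = n * (z⁻¹ * (t : G) ^ 4 * z) * n⁻¹ := by
        rw [hn2]
        group
      calc z * n⁻¹ * (t : G) ^ 4 = z * n⁻¹ * (n * (z⁻¹ * (t : G) ^ 4 * z) * n⁻¹) := by rw [← h5]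
        _ = (t : G) ^ 4 * (z * n⁻¹) := by group
    have h6 := hloc _ hx hx1 hcent
    have : z = z * n⁻¹ * n := by group
    rw [this]
    exact N.mul_mem h6 hnN

/-- The theorem: a self-centralizing elementary abelian Sylow 3-subgroup of order 9 with four-group
automizer and local control is normal. -/
theorem normalizer_eq_top [Finite G] (T : Sylow 3 G)
    (hT : Cfsg.IsElementaryAbelian 3 (T : Subgroup G)) (hcard : Nat.card T = 9)
    (hC : Subgroup.centralizer ((T : Subgroup G) : Set G) = T)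
    [hn : ((T : Subgroup G).subgroupOf (Subgroup.normalizer ((T : Subgroup G) : Set G))).Normal]
    (hK : IsKleinFour (↥(Subgroup.normalizer ((T : Subgroup G) : Set G)) ⧸
      (T : Subgroup G).subgroupOf (Subgroup.normalizer ((T : Subgroup G) : Set G))))
    (hloc : ∀ t ∈ (T : Subgroup G), t ≠ 1 →
      Subgroup.centralizer ({t} : Set G) ≤ Subgroup.normalizer ((T : Subgroup G) : Set G)) :
    Subgroup.normalizer ((T : Subgroup G) : Set G) = ⊤ := by
  obtain ⟨S, hS⟩ := exists_setup T hT hcard hC hK hloc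
  rw [← hS]
  exact S.N_eq_top

end Cfsg.Agent.Helper6.SEmb
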