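import Mathlib
import Cfsg.Prelude.Def_GeometricClasses
import Cfsg.Prelude.Def_Classical

/-!
# `SU_3(5)`: the 105 centres of the involutions of `3·A_7`, intrinsically (helper6)

For a vector `v = (x, y, z)` over a field (meant: the field with 25 elements) put `s₁ = Σ N(vᵢ)`, `s₂ = Σ N(vᵢ)²`
(`N(x) = x · x⁵` the norm) and `p = (xyz)²`.  The 630 vectors with
`s₁ = 1 ∧ (p, s₂) ∈ {(0,1), (0,3), (4,3), (2,2), (2,1)}` represent (six each) the 105 non-isotropic points that are
the centres of the involutions of a subgroup `3·A_7` of `SU_3(5)` containing the monomial subgroup and the real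
orthogonal group.  This file: the definition `InO`, its invariance under injective ring homomorphisms and under
monomial matrices whose non-zero entries have norm one and product `±1`.
-/

set_option autoImplicit false
set_option linter.unusedVariables false

namespace Cfsg.Agent.Helper6.SU35

variable {K : Type*} [Field K]

/-- the norm `x ↦ x · x⁵` -/
def nm (x : K) : K := x * x ^ 5

/-- `Σ N(vᵢ)` -/
def s1 (v : Fin 3 → K) : K := ∑ i, nm (v i)

/-- `Σ N(vᵢ)²` -/
def s2 (v : Fin 3 → K) : K := ∑ i, nm (v i) ^ 2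

/-- `(xyz)²` -/
def pp (v : Fin 3 → K) : K := (∏ i, v i) ^ 2

/-- the 630 vectors -/
def InO (v : Fin 3 → K) : Prop :=
  s1 v = 1 ∧ ((pp v = 0 ∧ (s2 v = 1 ∨ s2 v = 3)) ∨ (pp v = 4 ∧ s2 v = 3) ∨ (pp v = 2 ∧ (s2 v = 2 ∨ s2 v = 1)))

instance [DecidableEq K] (v : Fin 3 → K) : Decidable (InO v) := by
  unfold InO; infer_instance

theorem s1_eq_hermForm (v : Fin 3 → K) : s1 v = Cfsg.hermForm 3 K 5 v v := rfl

/-! ### ring homomorphisms -/

section hom

variable {K' : Type*} [Field K'] (φ : K →+* K')

theorem nm_map (x : K) : nm (φ x) = φ (nm x) := by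
  unfold nm; rw [map_mul, map_pow]

theorem s1_map (v : Fin 3 → K) : s1 (fun i => φ (v i)) = φ (s1 v) := by
  unfold s1; rw [map_sum]; simp only [nm_map]

theorem s2_map (v : Fin 3 → K) : s2 (fun i => φ (v i)) = φ (s2 v) := by
  unfold s2; rw [map_sum]; simp only [nm_map, map_pow]

theorem pp_map (v : Fin 3 → K) : pp (fun i => φ (v i)) = φ (pp v) := by
  unfold pp; rw [map_pow, map_prod]

theorem map_eq_two_iff (x : K) : φ x = 2 ↔ x = 2 := by
  rw [← map_ofNat φ 2]; exact φ.injective.eq_iff

theorem map_eq_three_iff (x : K) : φ x = 3 ↔ x = 3 := by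
  rw [← map_ofNat φ 3]; exact φ.injective.eq_iff

theorem map_eq_four_iff (x : K) : φ x = 4 ↔ x = 4 := by
  rw [← map_ofNat φ 4]; exact φ.injective.eq_iff

theorem inO_map (v : Fin 3 → K) : InO (fun i => φ (v i)) ↔ InO v := by
  unfold InO
  simp only [s1_map, s2_map, pp_map, map_eq_one_iff φ φ.injective, map_eq_zero_iff φ φ.injective,
    map_eq_two_iff, map_eq_three_iff, map_eq_four_iff]

end hom

/-! ### monomial matrices -/

theorem nm_mul (x y : K) : nm (x * y) = nm x * nm y := by
  unfold nm; ring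

/-- invariance under monomial transformations with entries of norm one and product `±1` -/
theorem inO_monomial (σ : Equiv.Perm (Fin 3)) (a : Fin 3 → K) (ha : ∀ i, nm (a i) = 1)
    (hp : (∏ i, a i) ^ 2 = 1) (v : Fin 3 → K) :
    InO (fun i => a i * v (σ i)) ↔ InO v := by
  have h1 : s1 (fun i => a i * v (σ i)) = s1 v := by
    unfold s1
    simp only [nm_mul, ha, one_mul]
    exact Equiv.sum_comp σ (fun i => nm (v i))
  have h2 : s2 (fun i => a i * v (σ i)) = s2 v := by
    unfold s2
    simp only [nm_mul, ha, one_mul]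
    exact Equiv.sum_comp σ (fun i => nm (v i) ^ 2)
  have h3 : pp (fun i => a i * v (σ i)) = pp v := by
    unfold pp
    rw [Finset.prod_mul_distrib, mul_pow, hp, one_mul, Equiv.prod_comp σ (fun i => v i)]
  unfold InO
  rw [h1, h2, h3]

end Cfsg.Agent.Helper6.SU35
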