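import Mathlib
import Cfsg.Agent.Helper9.U35.GF25
import Cfsg.Agent.Helper6.SU35Set

/-!
# `SU_3(5)`: the 105-point set, computations in the model field (helper6)

Over the model `F25 = F_5[s]`, `s² = 2` (helper9): the involution `t₀ = 4J - 1` (minus the reflection in `(1,1,1)`)
preserves `InO`; the involution `g₀` (minus the reflection in `(0, 1, 2s)`) does not; both are unitary of
determinant one.  Also `InO` coincides with the description `InO'` through `β = x² + y² + z²`, which is visibly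
invariant under the real orthogonal group.
-/

set_option autoImplicit false
set_option linter.unusedVariables false

namespace Cfsg.Agent.Helper6.SU35

open Cfsg.Agent.Helper9.U35

/-- explicit form of `InO` -/
def InO3 {K : Type*} [Field K] (x y z : K) : Prop :=
  nm x + nm y + nm z = 1 ∧
    (((x * y * z) ^ 2 = 0 ∧ (nm x ^ 2 + nm y ^ 2 + nm z ^ 2 = 1 ∨ nm x ^ 2 + nm y ^ 2 + nm z ^ 2 = 3)) ∨
     ((x * y * z) ^ 2 = 4 ∧ nm x ^ 2 + nm y ^ 2 + nm z ^ 2 = 3) ∨
     ((x * y * z) ^ 2 = 2 ∧ (nm x ^ 2 + nm y ^ 2 + nm z ^ 2 = 2 ∨ nm x ^ 2 + nm y ^ 2 + nm z ^ 2 = 1)))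

instance {K : Type*} [Field K] [DecidableEq K] (x y z : K) : Decidable (InO3 x y z) := by
  unfold InO3; infer_instance

theorem inO_iff {K : Type*} [Field K] (v : Fin 3 → K) : InO v ↔ InO3 (v 0) (v 1) (v 2) := by
  unfold InO InO3 s1 s2 pp
  simp only [Fin.sum_univ_three, Fin.prod_univ_three]

/-- the description through `β = x² + y² + z²`: `h(v,v) = 1` and `β³ ∈ {0, 2, 4}`, or `β³ = 1` and `v` is
proportional to a vector over the prime field -/
def InO3' {K : Type*} [Field K] (x y z : K) : Prop :=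
  nm x + nm y + nm z = 1 ∧
    ((x ^ 2 + y ^ 2 + z ^ 2) ^ 3 = 0 ∨ (x ^ 2 + y ^ 2 + z ^ 2) ^ 3 = 2 ∨ (x ^ 2 + y ^ 2 + z ^ 2) ^ 3 = 4 ∨
      ((x ^ 2 + y ^ 2 + z ^ 2) ^ 3 = 1 ∧ x * y ^ 5 = x ^ 5 * y ∧ x * z ^ 5 = x ^ 5 * z ∧ y * z ^ 5 = y ^ 5 * z))

instance {K : Type*} [Field K] [DecidableEq K] (x y z : K) : Decidable (InO3' x y z) := by
  unfold InO3'; infer_instance

set_option maxRecDepth 1000000 in
theorem t_preserves : ∀ x y z : F25, InO3 x y z →
    InO3 (4 * (x + y + z) - x) (4 * (x + y + z) - y) (4 * (x + y + z) - z) := by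
  decide +kernel

set_option maxRecDepth 1000000 in
theorem inO3_iff' : ∀ x y z : F25, InO3 x y z ↔ InO3' x y z := by
  decide +kernel

/-- the element `s` with `s² = 2` -/
def sq2 : F25 := ⟨0, 1⟩

theorem sq2_mul : sq2 * sq2 = 2 := by decide +kernel

theorem five_eq_zero : (5 : F25) = 0 := by decide +kernel

theorem pow_five_mul : ∀ x : F25, (x ^ 5) ^ 5 = x := by decide +kernel

theorem g_mem : InO3 (0 : F25) 1 0 := by decide +kernel

theorem g_breaks : ¬ InO3 (0 : F25) 3 (3 * sq2) := by decide +kernel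

end Cfsg.Agent.Helper6.SU35
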