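import Mathlib
import Cfsg.Prelude.Def_GeometricClasses
import Cfsg.Prelude.Def_Classical
import Cfsg.Prelude.Def_LieClassical
import Cfsg.Agent.Helper9.U35.GF25
import Cfsg.Agent.Helper6.SU35Set
import Cfsg.Agent.Helper6.SU35Model

/-!
# `SU_3(5)`: the 105-point set over an arbitrary field with 25 elements (helper6)

Transport of the model facts along `F25 ≃+* F`, and the abstract "orbit method": a subgroup `H` of `G` preserving a set
which is also preserved by some element of `G` outside `H` but not by all of `G` is not maximal in `G`.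
-/

set_option autoImplicit false
set_option linter.unusedVariables false

namespace Cfsg.Agent.Helper6.SU35

open Cfsg Cfsg.Geo Cfsg.Agent.Helper9.U35
open scoped MatrixGroups Matrix

/-! ### the orbit method -/

theorem not_maximal_of_set {G₀ : Type*} [Group G₀] {X : Type*} (act : G₀ → X → X)
    (hact : ∀ g h x, act (g * h) x = act g (act h x)) (hone : ∀ x, act 1 x = x)
    (S : X → Prop) (G H : Subgroup G₀)
    (hH : ∀ g ∈ H, ∀ x, S x → S (act g x))
    (ht : ∃ t ∈ G, t ∉ H ∧ ∀ x, S x ↔ S (act t x))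
    (hg : ∃ g ∈ G, ∃ x, S x ∧ ¬ S (act g x)) : ¬ IsMaximalIn G H := by
  rintro ⟨hlt, hmax⟩
  let M : Subgroup G₀ :=
    { carrier := {g | ∀ x, S x ↔ S (act g x)}
      one_mem' := fun x => by rw [hone]
      mul_mem' := fun {a c} ha hc x => by rw [hact]; exact (hc x).trans (ha _)
      inv_mem' := fun {a} ha x => by
        have h := ha (act a⁻¹ x)
        rw [← hact, mul_inv_cancel, hone] at h
        exact h.symm }
  have hHM : H ≤ M ⊓ G := by
    intro g hg'
    refine ⟨fun x => ⟨hH g hg' x, fun h => ?_⟩, hlt.le hg'⟩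
    have h' := hH g⁻¹ (H.inv_mem hg') _ h
    rwa [← hact, inv_mul_cancel, hone] at h'
  obtain ⟨t, htG, htH, htS⟩ := ht
  obtain ⟨g, hgG, x, hx, hgx⟩ := hg
  rcases hmax _ hHM inf_le_right with h | h
  · apply htH
    rw [← h]
    exact ⟨htS, htG⟩
  · have : g ∈ M ⊓ G := by rw [h]; exact hgG
    exact hgx ((this.1 x).1 hx)

/-! ### ring homomorphisms -/

section hom

variable {K K' : Type*} [Field K] [Field K'] (φ : K →+* K')

theorem inO3_map (x y z : K) : InO3 (φ x) (φ y) (φ z) ↔ InO3 x y z := by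
  have h := inO_map φ ![x, y, z]
  rw [inO_iff, inO_iff] at h
  simpa using h

theorem inO3'_map (x y z : K) : InO3' (φ x) (φ y) (φ z) ↔ InO3' x y z := by
  unfold InO3'
  simp only [nm_map, ← map_pow, ← map_add, ← map_mul, map_eq_one_iff φ φ.injective,
    map_eq_zero_iff φ φ.injective, map_eq_two_iff, map_eq_four_iff, φ.injective.eq_iff]

end hom

/-! ### a field with 25 elements -/

section F

variable {F : Type*} [Field F] [Fintype F] (hF : Fintype.card F = 5 ^ 2)

/-- the isomorphism with the model -/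
noncomputable def phiF : F25 ≃+* F :=
  FiniteField.ringEquivOfCardEq (by rw [F25.card_eq, hF]; norm_num)

include hF in
theorem five_eq_zero_F : (5 : F) = 0 := by
  have := congrArg (phiF hF) five_eq_zero
  rwa [map_ofNat, map_zero] at this

include hF in
theorem exists_sq2 : ∃ s : F, s * s = 2 :=
  ⟨phiF hF sq2, by rw [← map_mul, sq2_mul, map_ofNat]⟩

include hF in
theorem pow_five_pow_five (x : F) : (x ^ 5) ^ 5 = x := by
  obtain ⟨x₀, rfl⟩ := (phiF hF).surjective x
  rw [← map_pow, ← map_pow, pow_five_mul]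

include hF in
theorem t_preserves_F (x y z : F) (h : InO3 x y z) :
    InO3 (4 * (x + y + z) - x) (4 * (x + y + z) - y) (4 * (x + y + z) - z) := by
  obtain ⟨x₀, rfl⟩ := (phiF hF).surjective x
  obtain ⟨y₀, rfl⟩ := (phiF hF).surjective y
  obtain ⟨z₀, rfl⟩ := (phiF hF).surjective z
  have h1 := (inO3_map (phiF hF : F25 →+* F) x₀ y₀ z₀).1 h
  have h2 := (inO3_map (phiF hF : F25 →+* F) _ _ _).2 (t_preserves x₀ y₀ z₀ h1)
  simp only [map_sub, map_mul, map_add, map_ofNat] at h2
  exact h2

include hF in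
theorem inO3_iff'_F (x y z : F) : InO3 x y z ↔ InO3' x y z := by
  obtain ⟨x₀, rfl⟩ := (phiF hF).surjective x
  obtain ⟨y₀, rfl⟩ := (phiF hF).surjective y
  obtain ⟨z₀, rfl⟩ := (phiF hF).surjective z
  exact ((inO3_map (phiF hF : F25 →+* F) x₀ y₀ z₀).trans (inO3_iff' x₀ y₀ z₀)).trans
    (inO3'_map (phiF hF : F25 →+* F) x₀ y₀ z₀).symm

include hF in
theorem g_breaks_F {s : F} (hs : s * s = 2) : ¬ InO3 (0 : F) 3 (3 * s) := by
  -- `s = ± φ sq2`
  have h5 := five_eq_zero_F hF
  set s₀ : F := phiF hF sq2 with hs₀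
  have hs₀2 : s₀ * s₀ = 2 := by rw [hs₀, ← map_mul, sq2_mul, map_ofNat]
  have hpm : s = s₀ ∨ s = -s₀ := by
    have : (s - s₀) * (s + s₀) = 0 := by linear_combination hs - hs₀2
    rcases mul_eq_zero.1 this with h | h
    · left; linear_combination h
    · right; linear_combination h
  have hb : ¬ InO3 (0 : F) 3 (3 * s₀) := by
    intro h
    apply g_breaks
    have := (inO3_map (phiF hF : F25 →+* F) 0 3 (3 * sq2))
    rw [map_zero, map_ofNat, map_mul, map_ofNat] at this
    exact this.1 h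
  rcases hpm with rfl | rfl
  · exact hb
  · intro h
    apply hb
    unfold InO3 nm at h ⊢
    have e1 : (3 * -s₀) * (3 * -s₀) ^ 5 = (3 * s₀) * (3 * s₀) ^ 5 := by ring
    have e2 : ((0 : F) * 3 * (3 * -s₀)) ^ 2 = (0 * 3 * (3 * s₀)) ^ 2 := by ring
    rw [e1, e2] at h
    exact h

end F

end Cfsg.Agent.Helper6.SU35
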