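import Mathlib
import Cfsg.Prelude.Def_GeometricClasses
import Cfsg.Prelude.Def_Classical
import Cfsg.Prelude.Def_LieClassical
import Cfsg.Agent.Helper8.GUOrder
import Cfsg.Agent.Helper7.AschC2
import Cfsg.Agent.Helper9.AschPPU41B
import Cfsg.Agent.Helper9.AschPPU42B
import Cfsg.Agent.Helper9.AschPPT7B
import Cfsg.Agent.Helper6.SU35Set
import Cfsg.Agent.Helper6.SU35Model
import Cfsg.Agent.Helper6.SU35Abs

/-!
# `SU_3(5)`: the frame stabiliser `6² : S_3` is not maximal (helper6)

It lies in the stabiliser (`3·A_7`) of the 105-point set `InO` taken in the coordinates of an orthonormal basis adapted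
to the frame.
-/

set_option autoImplicit false
set_option linter.unusedVariables false
set_option linter.unusedSectionVars false

namespace Cfsg.Agent.Helper6.SU35

open Cfsg Cfsg.Geo Cfsg.Agent.Helper9.AschPP
open scoped MatrixGroups Matrix

variable {F : Type*} [Field F] [Fintype F]

/-! ### explicit matrices -/

/-- minus the reflection in `(1,1,1)` (characteristic 5) -/
def Tm : Matrix (Fin 3) (Fin 3) F := !![3, 4, 4; 4, 3, 4; 4, 4, 3]

/-- minus the reflection in `(0, 1, 2s)`, `s² = 2` (characteristic 5) -/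
def Gm (s : F) : Matrix (Fin 3) (Fin 3) F := !![-1, 0, 0; 0, 3, 2 * s; 0, 3 * s, 2]

omit [Fintype F] in
theorem Tm_mulVec (v : Fin 3 → F) :
    (Tm : Matrix (Fin 3) (Fin 3) F) *ᵥ v =
      ![4 * (v 0 + v 1 + v 2) - v 0, 4 * (v 0 + v 1 + v 2) - v 1, 4 * (v 0 + v 1 + v 2) - v 2] := by
  funext i
  fin_cases i <;> simp [Tm, Matrix.mulVec, dotProduct, Fin.sum_univ_three] <;> ring

omit [Fintype F] in
theorem Gm_mulVec (s : F) : Gm s *ᵥ ![0, 1, 0] = ![0, 3, 3 * s] := by
  funext i
  fin_cases i <;> simp [Gm, Matrix.mulVec, dotProduct, Fin.sum_univ_three]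

omit [Fintype F] in
theorem Tm_unitary (h5 : (5 : F) = 0) : (Tm : Matrix (Fin 3) (Fin 3) F)ᵀ * Tm.map (· ^ 5) = 1 := by
  have h3 : (3 : F) ^ 5 = 3 := by linear_combination 48 * h5
  have h4 : (4 : F) ^ 5 = 4 := by linear_combination 204 * h5
  ext i j
  fin_cases i <;> fin_cases j <;>
    simp [Tm, Matrix.mul_apply, Fin.sum_univ_three, h3, h4] <;>
    linear_combination (norm := ring_nf) 8 * h5

omit [Fintype F] in
theorem Tm_det (h5 : (5 : F) = 0) : (Tm : Matrix (Fin 3) (Fin 3) F).det = 1 := by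
  rw [Matrix.det_fin_three]
  simp [Tm]
  linear_combination 2 * h5

omit [Fintype F] in
theorem Gm_unitary (h5 : (5 : F) = 0) {s : F} (hs : s * s = 2) : (Gm s)ᵀ * (Gm s).map (· ^ 5) = 1 := by
  have h3 : (3 : F) ^ 5 = 3 := by linear_combination 48 * h5
  have h2 : (2 : F) ^ 5 = 2 := by linear_combination 6 * h5
  have hs5 : s ^ 5 = -s := by
    have : s ^ 5 = (s * s) * (s * s) * s := by ring
    rw [this, hs]
    linear_combination s * h5
  have hn : (-1 : F) ^ 5 = -1 := by ring
  ext i j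
  fin_cases i <;> fin_cases j <;>
    simp [Gm, Matrix.mul_apply, Fin.sum_univ_three, h3, h2, hs5, hn, mul_pow]
  · linear_combination (-9 : F) * hs - 2 * h5
  · ring
  · ring
  · linear_combination (-4 : F) * hs - 1 * h5

omit [Fintype F] in
theorem Gm_det (h5 : (5 : F) = 0) {s : F} (hs : s * s = 2) : (Gm s).det = 1 := by
  rw [Matrix.det_fin_three]
  simp [Gm]
  linear_combination (6 : F) * hs + 1 * h5

/-! ### elements of `GU_3 ∩ SL_3` from matrices -/

/-- a matrix of determinant one as an element of `GL` -/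
noncomputable def glOf (A : Matrix (Fin 3) (Fin 3) F) (h : A.det = 1) : GL (Fin 3) F :=
  Matrix.GeneralLinearGroup.mkOfDetNeZero A (by rw [h]; exact one_ne_zero)

omit [Fintype F] in
theorem glOf_val (A : Matrix (Fin 3) (Fin 3) F) (h : A.det = 1) :
    ((glOf A h : GL (Fin 3) F) : Matrix (Fin 3) (Fin 3) F) = A := rfl

theorem glOf_mem (hF : Fintype.card F = 5 ^ 2) (A : Matrix (Fin 3) (Fin 3) F) (h : A.det = 1)
    (hU : Aᵀ * A.map (· ^ 5) = 1) : glOf A h ∈ GU 3 F 5 ⊓ specialLinear (Fin 3) F := by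
  refine Subgroup.mem_inf.2 ⟨(Cfsg.Agent.Helper8.GUOrder.mem_GU_iff hF _).2 ?_, ?_⟩
  · rw [glOf_val]; exact hU
  · show glOf A h ∈ (Matrix.GeneralLinearGroup.det : GL (Fin 3) F →* Fˣ).ker
    rw [MonoidHom.mem_ker]
    apply Units.ext
    rw [Matrix.GeneralLinearGroup.val_det_apply, glOf_val, h, Units.val_one]

/-- conjugation by a unitary matrix -/
theorem conj_mem {P g : GL (Fin 3) F} (hP : P ∈ GU 3 F 5) (hg : g ∈ GU 3 F 5 ⊓ specialLinear (Fin 3) F) :
    P * g * P⁻¹ ∈ GU 3 F 5 ⊓ specialLinear (Fin 3) F := by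
  have hg' := Subgroup.mem_inf.1 hg
  refine Subgroup.mem_inf.2 ⟨mul_mem (mul_mem hP hg'.1) (inv_mem hP), ?_⟩
  have h1 : Matrix.GeneralLinearGroup.det g = 1 := MonoidHom.mem_ker.1 hg'.2
  show P * g * P⁻¹ ∈ (Matrix.GeneralLinearGroup.det : GL (Fin 3) F →* Fˣ).ker
  rw [MonoidHom.mem_ker, map_mul, map_mul, h1, mul_one, map_inv, mul_inv_cancel]

omit [Fintype F] in
theorem conj_coord (P g : GL (Fin 3) F) (x : Fin 3 → F) :
    ((P⁻¹ : GL (Fin 3) F) : Matrix (Fin 3) (Fin 3) F) *ᵥ (((P * g * P⁻¹ : GL (Fin 3) F) : Matrix (Fin 3) (Fin 3) F) *ᵥ x) =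
      (g : Matrix (Fin 3) (Fin 3) F) *ᵥ (((P⁻¹ : GL (Fin 3) F) : Matrix (Fin 3) (Fin 3) F) *ᵥ x) := by
  rw [Matrix.mulVec_mulVec, Matrix.mulVec_mulVec, ← Units.val_mul, ← Units.val_mul]
  congr 2
  group

/-! ### coordinates in an orthonormal basis -/

section coord

variable (hF : Fintype.card F = 5 ^ 2) (b : Module.Basis (Fin 3) F (Fin 3 → F))
  (hON : ∀ i j, hermForm 3 F 5 (b i) (b j) = if i = j then 1 else 0)

include hF hON in
/-- the matrix of an orthonormal basis is unitary -/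
theorem basisGL_mem {P : GL (Fin 3) F} (hP1 : ∀ i k, (P : Matrix (Fin 3) (Fin 3) F) i k = b k i) : P ∈ GU 3 F 5 := by
  rw [Cfsg.Agent.Helper8.GUOrder.mem_GU_iff hF]
  ext k l
  rw [Matrix.mul_apply, Matrix.one_apply, ← hON k l]
  unfold hermForm
  refine Finset.sum_congr rfl (fun i _ => ?_)
  rw [Matrix.transpose_apply, Matrix.map_apply, hP1, hP1]

include hF hON in
/-- the coefficients of a monomial isometry have norm one -/
theorem nm_eq_one_of_mon {g : GL (Fin 3) F} (hg : g ∈ GU 3 F 5) (σ : Equiv.Perm (Fin 3)) (c : Fin 3 → F)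
    (hmon : ∀ x i, b.equivFun ((g : Matrix (Fin 3) (Fin 3) F) *ᵥ x) (σ i) = c i * b.equivFun x i) (i : Fin 3) :
    nm (c i) = 1 := by
  classical
  have h1 : hermForm 3 F 5 ((g : Matrix (Fin 3) (Fin 3) F) *ᵥ b i) ((g : Matrix (Fin 3) (Fin 3) F) *ᵥ b i) = 1 := by
    have := hg (b i) (b i)
    change hermForm 3 F 5 ((g : Matrix (Fin 3) (Fin 3) F) *ᵥ b i) ((g : Matrix (Fin 3) (Fin 3) F) *ᵥ b i) = _ at this
    rw [this, hON, if_pos rfl]
  rw [Cfsg.Agent.Helper9.AschPPU.hermForm_of_orthonormal hF b hON, ← Equiv.sum_comp σ] at h1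
  simp only [hmon, Module.Basis.equivFun_self] at h1
  rw [Finset.sum_eq_single i] at h1
  · rw [if_pos rfl, mul_one] at h1
    exact h1
  · intro k _ hk
    rw [if_neg (fun h => hk h.symm), mul_zero, zero_mul]
  · intro h; exact absurd (Finset.mem_univ _) h

/-- the square of the product of the coefficients of a monomial transformation of determinant one -/
theorem prod_sq_of_mon (g : Matrix (Fin 3) (Fin 3) F) (hdet : g.det = 1) (σ : Equiv.Perm (Fin 3)) (c : Fin 3 → F)
    (hmon : ∀ x i, b.equivFun (g *ᵥ x) (σ i) = c i * b.equivFun x i) : (∏ i, c i) ^ 2 = 1 := by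
  classical
  have hM : LinearMap.toMatrix b b (Matrix.toLin' g) = mon σ c := by
    ext i j
    obtain ⟨i', rfl⟩ := σ.surjective i
    rw [LinearMap.toMatrix_apply, Matrix.toLin'_apply, mon_apply]
    have h := hmon (b j) i'
    rw [Module.Basis.equivFun_apply] at h
    rw [h, Module.Basis.equivFun_self]
    by_cases hji : j = i'
    · subst hji
      rw [if_pos rfl, if_pos rfl, mul_one]
    · rw [if_neg hji, if_neg (fun hh => hji (σ.injective hh).symm), mul_zero]
  have hd : (mon σ c).det = 1 := by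
    rw [← hM, LinearMap.det_toMatrix, LinearMap.det_toLin', hdet]
  rw [det_mon] at hd
  rcases Int.units_eq_one_or (Equiv.Perm.sign σ) with hs | hs
  · rw [hs] at hd
    have : ∏ i, c i = 1 := by simpa using hd
    rw [this, one_pow]
  · rw [hs] at hd
    have : ∏ i, c i = -1 := by
      have h2 : -(∏ i, c i) = 1 := by simpa using hd
      linear_combination -h2
    rw [this]; ring

end coord

/-- **the stabiliser of a decomposition of the unitary space `F_25^3` into three non-degenerate lines is not maximal in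
`SU_3(5)`** -/
theorem frame_five (hF : Fintype.card F = 5 ^ 2) (D : Fin 3 → Submodule F (Fin 3 → F))
    (hD : IsNondegenerateMDecomposition (hermForm 3 F 5) 1 D) :
    ¬ IsMaximalIn (GU 3 F 5 ⊓ specialLinear (Fin 3) F)
      (decompositionStabilizer D ⊓ (GU 3 F 5 ⊓ specialLinear (Fin 3) F)) := by
  classical
  obtain ⟨b, hb1, hb2, hON⟩ := Cfsg.Agent.Helper9.AschPPU.exists_orthonormal_line_basis hF D hD
  obtain ⟨P, hP1, hP2⟩ := Cfsg.Agent.Helper9.AschPPU42.exists_GL_of_basis b
  have h5 := five_eq_zero_F hF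
  obtain ⟨s, hs⟩ := exists_sq2 hF
  have hPU : P ∈ GU 3 F 5 := basisGL_mem hF b hON hP1
  have hcoord : ∀ x, (b.equivFun x : Fin 3 → F) = ((P⁻¹ : GL (Fin 3) F) : Matrix (Fin 3) (Fin 3) F) *ᵥ x := by
    intro x
    rw [hP2]
    rfl
  have h30 : (3 : F) ≠ 0 := by
    intro h
    have : (1 : F) = 0 := by linear_combination 2 * h - h5
    exact one_ne_zero this
  have h40 : (4 : F) ≠ 0 := by
    intro h
    have : (1 : F) = 0 := by linear_combination h5 - h
    exact one_ne_zero this
  refine not_maximal_of_set (fun (g : GL (Fin 3) F) (x : Fin 3 → F) => (g : Matrix (Fin 3) (Fin 3) F) *ᵥ x)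
    (fun g h x => by rw [Units.val_mul, Matrix.mulVec_mulVec])
    (fun x => by rw [Units.val_one, Matrix.one_mulVec])
    (fun x => InO (b.equivFun x)) _ _ ?_ ?_ ?_
  · -- the stabiliser of the frame is monomial
    rintro g hg x hx
    obtain ⟨hgD, hgG⟩ := Subgroup.mem_inf.1 hg
    obtain ⟨hgU, hg1⟩ := Subgroup.mem_inf.1 hgG
    obtain ⟨σ, c, hc, hmon⟩ := Cfsg.Agent.Helper7.Asch.exists_monomial b hb1 hb2 hgD
    have hdet : (g : Matrix (Fin 3) (Fin 3) F).det = 1 := by
      have h1 : Matrix.GeneralLinearGroup.det g = 1 := MonoidHom.mem_ker.1 hg1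
      have := congrArg Units.val h1
      simpa using this
    have hn := nm_eq_one_of_mon hF b hON hgU σ c hmon
    have hp := prod_sq_of_mon b _ hdet σ c hmon
    have hy : (b.equivFun ((g : Matrix (Fin 3) (Fin 3) F) *ᵥ x) : Fin 3 → F) =
        fun j => c (σ.symm j) * b.equivFun x (σ.symm j) := by
      funext j
      have := hmon x (σ.symm j)
      rwa [Equiv.apply_symm_apply] at this
    show InO (b.equivFun ((g : Matrix (Fin 3) (Fin 3) F) *ᵥ x))
    rw [hy]
    refine (inO_monomial σ.symm (fun j => c (σ.symm j)) (fun j => hn _) ?_ (b.equivFun x)).2 hx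
    rw [Equiv.prod_comp σ.symm c]
    exact hp
  · -- minus the reflection in the sum of the frame vectors
    have hTG := glOf_mem hF Tm (Tm_det h5) (Tm_unitary h5)
    refine ⟨P * glOf Tm (Tm_det h5) * P⁻¹, conj_mem hPU hTG, ?_, ?_⟩
    · intro hmem
      obtain ⟨hgD, -⟩ := Subgroup.mem_inf.1 hmem
      obtain ⟨σ, c, hc, hmon⟩ := Cfsg.Agent.Helper7.Asch.exists_monomial b hb1 hb2 hgD
      -- the coordinates of the image of `b 0` are all non-zero
      have hx : (b.equivFun (((P * glOf Tm (Tm_det h5) * P⁻¹ : GL (Fin 3) F) : Matrix (Fin 3) (Fin 3) F) *ᵥ b 0) :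
          Fin 3 → F) = ![3, 4, 4] := by
        rw [hcoord, conj_coord, ← hcoord, glOf_val, Tm_mulVec]
        have e0 : (b.equivFun (b 0) : Fin 3 → F) 0 = 1 := by rw [Module.Basis.equivFun_self, if_pos rfl]
        have e1 : (b.equivFun (b 0) : Fin 3 → F) 1 = 0 := by
          rw [Module.Basis.equivFun_self, if_neg (by decide)]
        have e2 : (b.equivFun (b 0) : Fin 3 → F) 2 = 0 := by
          rw [Module.Basis.equivFun_self, if_neg (by decide)]
        rw [e0, e1, e2]
        funext i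
        fin_cases i <;> simp <;> ring
      have h1 := hmon (b 0) 1
      rw [hx, Module.Basis.equivFun_self, if_neg (by decide), mul_zero] at h1
      have : ∀ j : Fin 3, (![3, 4, 4] : Fin 3 → F) j ≠ 0 := by
        intro j
        fin_cases j <;> simp [h30, h40]
      exact this _ h1
    · intro x
      have key : ∀ y : Fin 3 → F, InO y → InO ((Tm : Matrix (Fin 3) (Fin 3) F) *ᵥ y) := by
        intro y hy
        rw [Tm_mulVec, inO_iff]
        rw [inO_iff] at hy
        exact t_preserves_F hF _ _ _ hy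
      have hsq : ∀ y : Fin 3 → F, (Tm : Matrix (Fin 3) (Fin 3) F) *ᵥ ((Tm : Matrix (Fin 3) (Fin 3) F) *ᵥ y) = y := by
        intro y
        rw [Tm_mulVec, Tm_mulVec]
        funext i
        fin_cases i <;> simp <;> linear_combination (8 * (y 0 + y 1 + y 2)) * h5
      show InO (b.equivFun x) ↔ InO (b.equivFun (((P * glOf Tm (Tm_det h5) * P⁻¹ : GL (Fin 3) F) :
        Matrix (Fin 3) (Fin 3) F) *ᵥ x))
      rw [hcoord (_ *ᵥ x), conj_coord, ← hcoord, glOf_val]
      refine ⟨key _, fun h => ?_⟩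
      have := key _ h
      rwa [hsq] at this
  · -- minus the reflection in `(0, 1, 2s)` does not preserve the set
    have hGG := glOf_mem hF (Gm s) (Gm_det h5 hs) (Gm_unitary h5 hs)
    refine ⟨P * glOf (Gm s) (Gm_det h5 hs) * P⁻¹, conj_mem hPU hGG, b 1, ?_, ?_⟩
    · show InO (b.equivFun (b 1))
      have : (b.equivFun (b 1) : Fin 3 → F) = ![0, 1, 0] := by
        funext i
        rw [Module.Basis.equivFun_self]
        fin_cases i <;> simp
      rw [this, inO_iff]
      unfold InO3 nm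
      simp
    · show ¬ InO (b.equivFun (((P * glOf (Gm s) (Gm_det h5 hs) * P⁻¹ : GL (Fin 3) F) :
        Matrix (Fin 3) (Fin 3) F) *ᵥ b 1))
      rw [hcoord (_ *ᵥ b 1), conj_coord, ← hcoord, glOf_val]
      have : (b.equivFun (b 1) : Fin 3 → F) = ![0, 1, 0] := by
        funext i
        rw [Module.Basis.equivFun_self]
        fin_cases i <;> simp
      rw [this, Gm_mulVec, inO_iff]
      exact g_breaks_F hF hs

end Cfsg.Agent.Helper6.SU35
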