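import Mathlib

set_option autoImplicit false

/-! # `SU_3(5)`: the normal form of a non-degenerate symmetric matrix of degree 3 over the field with 5 elements

Every invertible symmetric matrix `Γ` of degree 3 over `ZMod 5` is congruent to a scalar matrix: there are an invertible
`A` and a non-zero `c` with `Aᵀ Γ A = c`. -/

namespace Cfsg.Agent.Helper6.SU35

open scoped Matrix

/-! ### diagonalisation over a field in which 2 is invertible -/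

theorem exists_diag {K : Type*} [Field K] [Invertible (2 : K)] (Γ : Matrix (Fin 3) (Fin 3) K) (hs : Γᵀ = Γ) :
    ∃ (A : Matrix (Fin 3) (Fin 3) K) (d : Fin 3 → K), A.det ≠ 0 ∧ Aᵀ * Γ * A = Matrix.diagonal d := by
  classical
  have hsymm : LinearMap.IsSymm (Matrix.toBilin' Γ) := by
    refine LinearMap.isSymm_def.2 fun x y => ?_
    rw [RingHom.id_apply, Matrix.toBilin'_apply', Matrix.toBilin'_apply']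
    rw [Matrix.dotProduct_mulVec, dotProduct_comm, ← Matrix.mulVec_transpose, hs]
  have key : ∀ d, Module.finrank K (Fin 3 → K) = d →
      ∃ v : Module.Basis (Fin d) K (Fin 3 → K), (Matrix.toBilin' Γ).IsOrthoᵢ v := by
    intro d hd
    subst hd
    exact LinearMap.BilinForm.exists_orthogonal_basis hsymm
  obtain ⟨v, hv⟩ := key 3 (Module.finrank_fin_fun K)
  refine ⟨((Pi.basisFun K (Fin 3)).toMatrix v), fun i => Matrix.toBilin' Γ (v i) (v i), ?_, ?_⟩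
  · have := (Module.Basis.invertibleToMatrix (Pi.basisFun K (Fin 3)) v)
    exact (Matrix.isUnit_iff_isUnit_det _).1 (isUnit_of_invertible _) |>.ne_zero
  · ext i j
    have h1 : (((Pi.basisFun K (Fin 3)).toMatrix v)ᵀ * Γ * ((Pi.basisFun K (Fin 3)).toMatrix v)) i j =
        Matrix.toBilin' Γ (v i) (v j) := by
      have hA : ∀ k l, ((Pi.basisFun K (Fin 3)).toMatrix v) k l = v l k := fun k l => by
        rw [Module.Basis.toMatrix_apply, Pi.basisFun_repr]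
      rw [Matrix.toBilin'_apply', Matrix.mul_apply, dotProduct]
      simp only [Matrix.mul_apply, Matrix.transpose_apply, hA, Matrix.mulVec, dotProduct, Finset.sum_mul,
        Finset.mul_sum]
      rw [Finset.sum_comm]
      exact Finset.sum_congr rfl fun l _ => Finset.sum_congr rfl fun k _ => by ring
    rw [h1, Matrix.diagonal_apply]
    split_ifs with h
    · rw [h]
    · exact hv h

/-! ### the diagonal forms -/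

/-- a table of solutions, indexed by `25 d₀ + 5 d₁ + d₂` -/
def nfTable : List (List (List ℕ) × ℕ) :=
  [([[0, 0, 0], [0, 0, 0], [0, 0, 0]], 0),
  ([[0, 0, 0], [0, 0, 0], [0, 0, 0]], 0),
  ([[0, 0, 0], [0, 0, 0], [0, 0, 0]], 0),
  ([[0, 0, 0], [0, 0, 0], [0, 0, 0]], 0),
  ([[0, 0, 0], [0, 0, 0], [0, 0, 0]], 0),
  ([[0, 0, 0], [0, 0, 0], [0, 0, 0]], 0),
  ([[0, 0, 0], [0, 0, 0], [0, 0, 0]], 0),
  ([[0, 0, 0], [0, 0, 0], [0, 0, 0]], 0),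
  ([[0, 0, 0], [0, 0, 0], [0, 0, 0]], 0),
  ([[0, 0, 0], [0, 0, 0], [0, 0, 0]], 0),
  ([[0, 0, 0], [0, 0, 0], [0, 0, 0]], 0),
  ([[0, 0, 0], [0, 0, 0], [0, 0, 0]], 0),
  ([[0, 0, 0], [0, 0, 0], [0, 0, 0]], 0),
  ([[0, 0, 0], [0, 0, 0], [0, 0, 0]], 0),
  ([[0, 0, 0], [0, 0, 0], [0, 0, 0]], 0),
  ([[0, 0, 0], [0, 0, 0], [0, 0, 0]], 0),
  ([[0, 0, 0], [0, 0, 0], [0, 0, 0]], 0),
  ([[0, 0, 0], [0, 0, 0], [0, 0, 0]], 0),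
  ([[0, 0, 0], [0, 0, 0], [0, 0, 0]], 0),
  ([[0, 0, 0], [0, 0, 0], [0, 0, 0]], 0),
  ([[0, 0, 0], [0, 0, 0], [0, 0, 0]], 0),
  ([[0, 0, 0], [0, 0, 0], [0, 0, 0]], 0),
  ([[0, 0, 0], [0, 0, 0], [0, 0, 0]], 0),
  ([[0, 0, 0], [0, 0, 0], [0, 0, 0]], 0),
  ([[0, 0, 0], [0, 0, 0], [0, 0, 0]], 0),
  ([[0, 0, 0], [0, 0, 0], [0, 0, 0]], 0),
  ([[0, 0, 0], [0, 0, 0], [0, 0, 0]], 0),
  ([[0, 0, 0], [0, 0, 0], [0, 0, 0]], 0),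
  ([[0, 0, 0], [0, 0, 0], [0, 0, 0]], 0),
  ([[0, 0, 0], [0, 0, 0], [0, 0, 0]], 0),
  ([[0, 0, 0], [0, 0, 0], [0, 0, 0]], 0),
  ([[1, 0, 0], [0, 1, 0], [0, 0, 1]], 1),
  ([[1, 4, 0], [1, 1, 0], [0, 0, 1]], 2),
  ([[2, 3, 0], [2, 2, 0], [0, 0, 1]], 3),
  ([[1, 0, 0], [0, 1, 0], [0, 0, 2]], 1),
  ([[0, 0, 0], [0, 0, 0], [0, 0, 0]], 0),
  ([[1, 0, 4], [0, 1, 0], [1, 0, 1]], 2),
  ([[1, 0, 0], [0, 2, 3], [0, 2, 2]], 1),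
  ([[1, 0, 0], [0, 2, 3], [0, 4, 4]], 1),
  ([[1, 0, 4], [0, 1, 0], [2, 0, 2]], 2),
  ([[0, 0, 0], [0, 0, 0], [0, 0, 0]], 0),
  ([[2, 0, 3], [0, 1, 0], [2, 0, 2]], 3),
  ([[1, 0, 0], [0, 1, 4], [0, 2, 2]], 1),
  ([[1, 0, 0], [0, 1, 4], [0, 1, 1]], 1),
  ([[2, 0, 3], [0, 1, 0], [4, 0, 4]], 3),
  ([[0, 0, 0], [0, 0, 0], [0, 0, 0]], 0),
  ([[1, 0, 0], [0, 2, 0], [0, 0, 1]], 1),
  ([[1, 4, 0], [2, 2, 0], [0, 0, 1]], 2),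
  ([[2, 3, 0], [4, 4, 0], [0, 0, 1]], 3),
  ([[1, 0, 0], [0, 2, 0], [0, 0, 2]], 1),
  ([[0, 0, 0], [0, 0, 0], [0, 0, 0]], 0),
  ([[0, 0, 0], [0, 0, 0], [0, 0, 0]], 0),
  ([[0, 0, 0], [0, 0, 0], [0, 0, 0]], 0),
  ([[0, 0, 0], [0, 0, 0], [0, 0, 0]], 0),
  ([[0, 0, 0], [0, 0, 0], [0, 0, 0]], 0),
  ([[0, 0, 0], [0, 0, 0], [0, 0, 0]], 0),
  ([[1, 0, 0], [0, 1, 4], [0, 1, 1]], 2),
  ([[2, 0, 3], [0, 1, 0], [2, 0, 2]], 1),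
  ([[2, 0, 3], [0, 1, 0], [4, 0, 4]], 1),
  ([[1, 0, 0], [0, 1, 4], [0, 2, 2]], 2),
  ([[0, 0, 0], [0, 0, 0], [0, 0, 0]], 0),
  ([[2, 3, 0], [2, 2, 0], [0, 0, 1]], 1),
  ([[1, 0, 0], [0, 1, 0], [0, 0, 1]], 2),
  ([[1, 0, 0], [0, 1, 0], [0, 0, 2]], 2),
  ([[1, 4, 0], [1, 1, 0], [0, 0, 1]], 4),
  ([[0, 0, 0], [0, 0, 0], [0, 0, 0]], 0),
  ([[2, 3, 0], [4, 4, 0], [0, 0, 1]], 1),
  ([[1, 0, 0], [0, 2, 0], [0, 0, 1]], 2),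
  ([[1, 0, 0], [0, 2, 0], [0, 0, 2]], 2),
  ([[1, 4, 0], [2, 2, 0], [0, 0, 1]], 4),
  ([[0, 0, 0], [0, 0, 0], [0, 0, 0]], 0),
  ([[1, 0, 0], [0, 2, 3], [0, 4, 4]], 2),
  ([[1, 0, 4], [0, 1, 0], [1, 0, 1]], 4),
  ([[1, 0, 4], [0, 1, 0], [2, 0, 2]], 4),
  ([[1, 0, 0], [0, 2, 3], [0, 2, 2]], 2),
  ([[0, 0, 0], [0, 0, 0], [0, 0, 0]], 0),
  ([[0, 0, 0], [0, 0, 0], [0, 0, 0]], 0),
  ([[0, 0, 0], [0, 0, 0], [0, 0, 0]], 0),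
  ([[0, 0, 0], [0, 0, 0], [0, 0, 0]], 0),
  ([[0, 0, 0], [0, 0, 0], [0, 0, 0]], 0),
  ([[0, 0, 0], [0, 0, 0], [0, 0, 0]], 0),
  ([[1, 0, 0], [0, 2, 3], [0, 2, 2]], 3),
  ([[1, 0, 4], [0, 1, 0], [2, 0, 2]], 1),
  ([[1, 0, 4], [0, 1, 0], [1, 0, 1]], 1),
  ([[1, 0, 0], [0, 2, 3], [0, 4, 4]], 3),
  ([[0, 0, 0], [0, 0, 0], [0, 0, 0]], 0),
  ([[1, 4, 0], [2, 2, 0], [0, 0, 1]], 1),
  ([[1, 0, 0], [0, 2, 0], [0, 0, 2]], 3),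
  ([[1, 0, 0], [0, 2, 0], [0, 0, 1]], 3),
  ([[2, 3, 0], [4, 4, 0], [0, 0, 1]], 4),
  ([[0, 0, 0], [0, 0, 0], [0, 0, 0]], 0),
  ([[1, 4, 0], [1, 1, 0], [0, 0, 1]], 1),
  ([[1, 0, 0], [0, 1, 0], [0, 0, 2]], 3),
  ([[1, 0, 0], [0, 1, 0], [0, 0, 1]], 3),
  ([[2, 3, 0], [2, 2, 0], [0, 0, 1]], 4),
  ([[0, 0, 0], [0, 0, 0], [0, 0, 0]], 0),
  ([[1, 0, 0], [0, 1, 4], [0, 2, 2]], 3),
  ([[2, 0, 3], [0, 1, 0], [4, 0, 4]], 4),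
  ([[2, 0, 3], [0, 1, 0], [2, 0, 2]], 4),
  ([[1, 0, 0], [0, 1, 4], [0, 1, 1]], 3),
  ([[0, 0, 0], [0, 0, 0], [0, 0, 0]], 0),
  ([[0, 0, 0], [0, 0, 0], [0, 0, 0]], 0),
  ([[0, 0, 0], [0, 0, 0], [0, 0, 0]], 0),
  ([[0, 0, 0], [0, 0, 0], [0, 0, 0]], 0),
  ([[0, 0, 0], [0, 0, 0], [0, 0, 0]], 0),
  ([[0, 0, 0], [0, 0, 0], [0, 0, 0]], 0),
  ([[1, 0, 0], [0, 2, 0], [0, 0, 2]], 4),
  ([[2, 3, 0], [4, 4, 0], [0, 0, 1]], 2),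
  ([[1, 4, 0], [2, 2, 0], [0, 0, 1]], 3),
  ([[1, 0, 0], [0, 2, 0], [0, 0, 1]], 4),
  ([[0, 0, 0], [0, 0, 0], [0, 0, 0]], 0),
  ([[2, 0, 3], [0, 1, 0], [4, 0, 4]], 2),
  ([[1, 0, 0], [0, 1, 4], [0, 1, 1]], 4),
  ([[1, 0, 0], [0, 1, 4], [0, 2, 2]], 4),
  ([[2, 0, 3], [0, 1, 0], [2, 0, 2]], 2),
  ([[0, 0, 0], [0, 0, 0], [0, 0, 0]], 0),
  ([[1, 0, 4], [0, 1, 0], [2, 0, 2]], 3),
  ([[1, 0, 0], [0, 2, 3], [0, 4, 4]], 4),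
  ([[1, 0, 0], [0, 2, 3], [0, 2, 2]], 4),
  ([[1, 0, 4], [0, 1, 0], [1, 0, 1]], 3),
  ([[0, 0, 0], [0, 0, 0], [0, 0, 0]], 0),
  ([[1, 0, 0], [0, 1, 0], [0, 0, 2]], 4),
  ([[2, 3, 0], [2, 2, 0], [0, 0, 1]], 2),
  ([[1, 4, 0], [1, 1, 0], [0, 0, 1]], 3),
  ([[1, 0, 0], [0, 1, 0], [0, 0, 1]], 4)]

/-- the base change of the table -/
def nfA (d₀ d₁ d₂ : ZMod 5) : Matrix (Fin 3) (Fin 3) (ZMod 5) := fun i j =>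
  ((((nfTable.getD (25 * d₀.val + 5 * d₁.val + d₂.val) ([], 0)).1.getD i.val []).getD j.val 0 : ℕ) : ZMod 5)

/-- the scalar of the table -/
def nfC (d₀ d₁ d₂ : ZMod 5) : ZMod 5 := (((nfTable.getD (25 * d₀.val + 5 * d₁.val + d₂.val) ([], 0)).2 : ℕ) : ZMod 5)

set_option maxRecDepth 100000 in
theorem nf_table : ∀ d₀ d₁ d₂ : ZMod 5, d₀ ≠ 0 → d₁ ≠ 0 → d₂ ≠ 0 → nfC d₀ d₁ d₂ ≠ 0 ∧
    ∀ i j : Fin 3, ∑ k : Fin 3, nfA d₀ d₁ d₂ k i * (![d₀, d₁, d₂] k * nfA d₀ d₁ d₂ k j) =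
      if i = j then nfC d₀ d₁ d₂ else 0 := by
  decide +kernel

/-! ### the normal form -/

theorem exists_nf (Γ : Matrix (Fin 3) (Fin 3) (ZMod 5)) (hs : Γᵀ = Γ) (hd : Γ.det ≠ 0) :
    ∃ (A A' : Matrix (Fin 3) (Fin 3) (ZMod 5)) (c : ZMod 5), c ≠ 0 ∧ A * A' = 1 ∧ A' * A = 1 ∧
      Aᵀ * Γ * A = c • (1 : Matrix (Fin 3) (Fin 3) (ZMod 5)) := by
  have h20 : (2 : ZMod 5) ≠ 0 := by decide
  haveI : Fact (Nat.Prime 5) := ⟨by norm_num⟩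
  haveI : Invertible (2 : ZMod 5) := invertibleOfNonzero h20
  obtain ⟨A₀, d, hA₀, hdiag⟩ := exists_diag Γ hs
  have hdet : (Matrix.diagonal d).det ≠ 0 := by
    rw [← hdiag, Matrix.det_mul, Matrix.det_mul, Matrix.det_transpose]
    exact mul_ne_zero (mul_ne_zero hA₀ hd) hA₀
  rw [Matrix.det_diagonal, Finset.prod_ne_zero_iff] at hdet
  obtain ⟨hc, htab⟩ := nf_table (d 0) (d 1) (d 2) (hdet 0 (Finset.mem_univ _)) (hdet 1 (Finset.mem_univ _))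
    (hdet 2 (Finset.mem_univ _))
  have hd3 : d = ![d 0, d 1, d 2] := by
    funext i
    fin_cases i <;> rfl
  have h1 : (nfA (d 0) (d 1) (d 2))ᵀ * Matrix.diagonal d * nfA (d 0) (d 1) (d 2) =
      nfC (d 0) (d 1) (d 2) • (1 : Matrix (Fin 3) (Fin 3) (ZMod 5)) := by
    ext i j
    rw [Matrix.mul_assoc, Matrix.mul_apply, Matrix.smul_apply, Matrix.one_apply, smul_eq_mul, mul_ite, mul_one,
      mul_zero, ← htab i j]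
    refine Finset.sum_congr rfl fun k _ => ?_
    rw [Matrix.transpose_apply, Matrix.diagonal_mul, ← hd3]
  have h2 : (A₀ * nfA (d 0) (d 1) (d 2))ᵀ * Γ * (A₀ * nfA (d 0) (d 1) (d 2)) =
      nfC (d 0) (d 1) (d 2) • (1 : Matrix (Fin 3) (Fin 3) (ZMod 5)) := by
    rw [← h1, ← hdiag, Matrix.transpose_mul]
    simp only [Matrix.mul_assoc]
  have hdetA : (A₀ * nfA (d 0) (d 1) (d 2)).det ≠ 0 := by
    intro h0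
    have := congrArg Matrix.det h2
    rw [Matrix.det_mul, Matrix.det_mul, h0, mul_zero, Matrix.det_smul, Matrix.det_one, mul_one] at this
    exact pow_ne_zero _ hc this.symm
  have hu : IsUnit (A₀ * nfA (d 0) (d 1) (d 2)).det := isUnit_iff_ne_zero.2 hdetA
  exact ⟨_, (A₀ * nfA (d 0) (d 1) (d 2))⁻¹, _, hc, Matrix.mul_nonsing_inv _ hu, Matrix.nonsing_inv_mul _ hu, h2⟩

end Cfsg.Agent.Helper6.SU35
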