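import Mathlib
import Cfsg.Agent.Helper6.SU35Frame

/-!
# `SU_3(5)`: the 105-point set is invariant under `3 × SO_3(5)` (helper6)

In the description `InOv` of the set (through `h(v,v)` and `β = v·v`) the invariance under the scalar multiples `d • R`,
`R` over the prime field, which are unitary, is visible.
-/

set_option autoImplicit false
set_option linter.unusedVariables false
set_option linter.unusedSectionVars false

namespace Cfsg.Agent.Helper6.SU35

open Cfsg Cfsg.Geo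
open scoped MatrixGroups Matrix

variable {F : Type*} [Field F] [Fintype F]

/-- vector form of `InO3'` -/
def InOv (v : Fin 3 → F) : Prop :=
  hermForm 3 F 5 v v = 1 ∧ ((v ⬝ᵥ v) ^ 3 = 0 ∨ (v ⬝ᵥ v) ^ 3 = 2 ∨ (v ⬝ᵥ v) ^ 3 = 4 ∨
    ((v ⬝ᵥ v) ^ 3 = 1 ∧ ∀ i j, v i * v j ^ 5 = v i ^ 5 * v j))

theorem inO_iff_inOv (hF : Fintype.card F = 5 ^ 2) (v : Fin 3 → F) : InO v ↔ InOv v := by
  rw [inO_iff, inO3_iff'_F hF]
  unfold InO3' InOv
  have h1 : nm (v 0) + nm (v 1) + nm (v 2) = hermForm 3 F 5 v v := by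
    rw [← s1_eq_hermForm]
    unfold s1
    rw [Fin.sum_univ_three]
  have h2 : v 0 ^ 2 + v 1 ^ 2 + v 2 ^ 2 = v ⬝ᵥ v := by
    rw [dotProduct, Fin.sum_univ_three]
    ring
  have h3 : (v 0 * v 1 ^ 5 = v 0 ^ 5 * v 1 ∧ v 0 * v 2 ^ 5 = v 0 ^ 5 * v 2 ∧ v 1 * v 2 ^ 5 = v 1 ^ 5 * v 2) ↔
      ∀ i j, v i * v j ^ 5 = v i ^ 5 * v j := by
    constructor
    · rintro ⟨h01, h02, h12⟩ i j
      fin_cases i <;> fin_cases j
      · exact mul_comm _ _
      · exact h01
      · exact h02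
      · show v 1 * v 0 ^ 5 = v 1 ^ 5 * v 0
        rw [mul_comm, ← h01, mul_comm]
      · exact mul_comm _ _
      · exact h12
      · show v 2 * v 0 ^ 5 = v 2 ^ 5 * v 0
        rw [mul_comm, ← h02, mul_comm]
      · show v 2 * v 1 ^ 5 = v 2 ^ 5 * v 1
        rw [mul_comm, ← h12, mul_comm]
      · exact mul_comm _ _
    · intro h
      exact ⟨h 0 1, h 0 2, h 1 2⟩
  rw [h1, h2, h3]

/-- invariance under the unitary scalar multiples of matrices over the prime field -/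
theorem inOv_smul_rat (hF : Fintype.card F = 5 ^ 2) (d : F) (R : Matrix (Fin 3) (Fin 3) F)
    (hR : ∀ i j, R i j ^ 5 = R i j) (hU : (d • R)ᵀ * (d • R).map (· ^ 5) = 1) (v : Fin 3 → F) (hv : InOv v) :
    InOv ((d • R) *ᵥ v) := by
  have hRmap : R.map (· ^ 5) = R := by
    ext i j
    rw [Matrix.map_apply, hR]
  have hmap : (d • R).map (· ^ 5) = d ^ 5 • R := by
    ext i j
    rw [Matrix.map_apply, Matrix.smul_apply, Matrix.smul_apply, smul_eq_mul, smul_eq_mul, mul_pow, hR]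
  obtain ⟨e, he⟩ : ∃ e : F, e = d * d ^ 5 := ⟨_, rfl⟩
  have hU' : e • (Rᵀ * R) = 1 := by
    rw [← hU, hmap, Matrix.transpose_smul, Matrix.smul_mul, Matrix.mul_smul, smul_smul, he, mul_comm]
  have he0 : e ≠ 0 := by
    intro h0
    rw [h0, zero_smul] at hU'
    have := congrFun (congrFun hU' 0) 0
    rw [Matrix.zero_apply, Matrix.one_apply_eq] at this
    exact zero_ne_one this
  have hRR : Rᵀ * R = e⁻¹ • (1 : Matrix (Fin 3) (Fin 3) F) := by
    rw [← hU', smul_smul, inv_mul_cancel₀ he0, one_smul]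
  have hdet : e ^ 3 * R.det ^ 2 = 1 := by
    have := congrArg Matrix.det hU'
    rw [Matrix.det_smul, Matrix.det_mul, Matrix.det_transpose, Matrix.det_one, Fintype.card_fin] at this
    rw [← this]
    ring
  have hdR : R.det ^ 5 = R.det := by
    rw [← Cfsg.Agent.Helper8.GUOrder.det_map_q hF R, hRmap]
  have hdR0 : R.det ≠ 0 := by
    intro h0
    rw [h0] at hdet
    simp at hdet
  have hdR4 : R.det ^ 4 = 1 := by
    have : R.det ^ 4 * R.det = 1 * R.det := by rw [← pow_succ, hdR, one_mul]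
    exact mul_right_cancel₀ hdR0 this
  have he5 : e ^ 5 = e := by
    rw [he, mul_pow, pow_five_pow_five hF, mul_comm]
  have he4 : e ^ 4 = 1 := by
    have : e ^ 4 * e = 1 * e := by rw [← pow_succ, he5, one_mul]
    exact mul_right_cancel₀ he0 this
  have he6 : e ^ 6 = 1 := by
    have : (e ^ 3 * R.det ^ 2) ^ 2 = 1 := by rw [hdet, one_pow]
    have h' : e ^ 6 * R.det ^ 4 = 1 := by rw [← this]; ring
    rwa [hdR4, mul_one] at h'
  have he2 : e ^ 2 = 1 := by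
    have : e ^ 2 * e ^ 4 = e ^ 6 := by ring
    rwa [he4, he6, mul_one] at this
  obtain ⟨k, hk⟩ : ∃ k : F, k = d ^ 2 * e⁻¹ := ⟨_, rfl⟩
  have hk3 : k ^ 3 = 1 := by
    have h1 : k ^ 3 = (d * d ^ 5) * (e⁻¹) ^ 3 := by rw [hk]; ring
    rw [h1, ← he]
    have h2 : e * e⁻¹ ^ 3 * e ^ 2 = 1 := by
      field_simp
    rwa [he2, mul_one] at h2
  have hCC : (d • R)ᵀ * (d • R) = k • (1 : Matrix (Fin 3) (Fin 3) F) := by
    rw [Matrix.transpose_smul, Matrix.smul_mul, Matrix.mul_smul, smul_smul, hRR, smul_smul, hk]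
    congr 1
    ring
  have hβ : ((d • R) *ᵥ v) ⬝ᵥ ((d • R) *ᵥ v) = k * (v ⬝ᵥ v) := by
    rw [Matrix.dotProduct_mulVec, Matrix.vecMul_mulVec, hCC, Matrix.vecMul_smul, Matrix.vecMul_one, smul_dotProduct,
      smul_eq_mul]
  have hβ3 : (((d • R) *ᵥ v) ⬝ᵥ ((d • R) *ᵥ v)) ^ 3 = (v ⬝ᵥ v) ^ 3 := by
    rw [hβ, mul_pow, hk3, one_mul]
  have hh : hermForm 3 F 5 ((d • R) *ᵥ v) ((d • R) *ᵥ v) = hermForm 3 F 5 v v := by
    rw [Cfsg.Agent.Helper8.GUOrder.hermForm_mulVec_mulVec hF, hU, Matrix.one_mulVec,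
      Cfsg.Agent.Helper8.GUOrder.hermForm_eq_dot]
  have hrat : (∀ i j, v i * v j ^ 5 = v i ^ 5 * v j) →
      ∀ i j, ((d • R) *ᵥ v) i * ((d • R) *ᵥ v) j ^ 5 = ((d • R) *ᵥ v) i ^ 5 * ((d • R) *ᵥ v) j := by
    intro hvr i j
    have hc : ∀ i, ((d • R) *ᵥ v) i = d * ∑ k, R i k * v k := by
      intro i
      rw [Matrix.mulVec, dotProduct, Finset.mul_sum]
      refine Finset.sum_congr rfl fun k _ => ?_
      rw [Matrix.smul_apply, smul_eq_mul, mul_assoc]
    have hc5 : ∀ i, ((d • R) *ᵥ v) i ^ 5 = d ^ 5 * ∑ k, R i k * v k ^ 5 := by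
      intro i
      rw [hc, mul_pow, Cfsg.Agent.Helper7.Herm.sum_pow_q hF]
      congr 1
      refine Finset.sum_congr rfl fun k _ => ?_
      rw [mul_pow, hR]
    rw [hc5 j, hc5 i, hc i, hc j]
    have : (∑ k, R i k * v k) * (∑ l, R j l * v l ^ 5) = (∑ k, R i k * v k ^ 5) * (∑ l, R j l * v l) := by
      rw [Finset.sum_mul_sum, Finset.sum_mul_sum]
      refine Finset.sum_congr rfl fun k _ => Finset.sum_congr rfl fun l _ => ?_
      have := hvr k l
      linear_combination (R i k * R j l) * this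
    linear_combination (d * d ^ 5) * this
  obtain ⟨hv1, hv2⟩ := hv
  refine ⟨by rw [hh, hv1], ?_⟩
  rw [hβ3]
  rcases hv2 with h | h | h | ⟨h, hr⟩
  · exact Or.inl h
  · exact Or.inr (Or.inl h)
  · exact Or.inr (Or.inr (Or.inl h))
  · exact Or.inr (Or.inr (Or.inr ⟨h, hrat hr⟩))

end Cfsg.Agent.Helper6.SU35
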