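import Mathlib
import Cfsg.Agent.Helper6.SU35Frame
import Cfsg.Agent.Helper6.SU35NF
import Cfsg.Agent.Helper6.SU35SubA
import Cfsg.Agent.Helper7.AschNotGenC
import Cfsg.Agent.Helper7.SubFA

/-!
# `SU_3(5)`: the subfield group `3 × SO_3(5)` is not maximal (helper6)

It lies in the stabiliser (`3·A_7`) of the 105-point set `InO` taken in the coordinates of an orthonormal basis of the
rational structure (after rescaling).
-/

set_option autoImplicit false
set_option linter.unusedVariables false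
set_option linter.unusedSectionVars false

namespace Cfsg.Agent.Helper6.SU35

open Cfsg Cfsg.Geo Cfsg.Agent.Helper9.U35
open scoped MatrixGroups Matrix

theorem fixed_cases25 : ∀ x : F25, x ^ 5 = x → x = 0 ∨ x = 1 ∨ x = 2 ∨ x = 3 ∨ x = 4 := by
  decide +kernel

variable {F : Type*} [Field F] [Fintype F]

theorem fixed_cases (hF : Fintype.card F = 5 ^ 2) (x : F) (hx : x ^ 5 = x) :
    x = 0 ∨ x = 1 ∨ x = 2 ∨ x = 3 ∨ x = 4 := by
  obtain ⟨x₀, rfl⟩ := (phiF hF).surjective x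
  have h0 : x₀ ^ 5 = x₀ := by
    apply (phiF hF).injective
    rw [map_pow, hx]
  rcases fixed_cases25 x₀ h0 with h | h | h | h | h
  · left; rw [h, map_zero]
  · right; left; rw [h, map_one]
  · right; right; left; rw [h, map_ofNat]
  · right; right; right; left; rw [h, map_ofNat]
  · right; right; right; right; rw [h, map_ofNat]

theorem map_pow5_mul (hF : Fintype.card F = 5 ^ 2) (M N : Matrix (Fin 3) (Fin 3) F) :
    (M * N).map (· ^ 5) = M.map (· ^ 5) * N.map (· ^ 5) := by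
  ext i j
  simp only [Matrix.map_apply, Matrix.mul_apply, Cfsg.Agent.Helper7.Herm.sum_pow_q hF, mul_pow]

/-- the third roots of unity -/
theorem exists_omega (hF : Fintype.card F = 5 ^ 2) : ∃ w : F, w ^ 2 + w + 1 = 0 ∧ w ≠ 1 ∧ w ≠ 0 := by
  have h5 := five_eq_zero_F hF
  obtain ⟨s, hs⟩ := exists_sq2 hF
  refine ⟨2 + 2 * s, by linear_combination 4 * hs + (3 + 2 * s) * h5, ?_, ?_⟩
  · intro h
    have h1 : 2 * s = -1 := by linear_combination h
    have h2 : (2 * s) * (2 * s) = 1 := by rw [h1]; ring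
    have h3 : (7 : F) = 0 := by linear_combination h2 - 4 * hs
    have : (1 : F) = 0 := by linear_combination 3 * h5 - 2 * h3
    exact one_ne_zero this
  · intro h
    have h1 : 2 * s = -2 := by linear_combination h
    have h2 : (2 * s) * (2 * s) = 4 := by rw [h1]; ring
    have h3 : (4 : F) = 0 := by linear_combination h2 - 4 * hs
    have : (1 : F) = 0 := by linear_combination h5 - h3
    exact one_ne_zero this

/-- a rational structure for the unitary form has, up to a scalar, an orthonormal rational basis -/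
theorem exists_unitary_rat (hF : Fintype.card F = 5 ^ 2) (F₀ : Subfield F) (P : GL (Fin 3) F)
    (hq : Nat.card F₀ = 5) (hP : IsFormRationalStructure (hermForm 3 F 5) F₀ 1 P) :
    ∃ (A A' : Matrix (Fin 3) (Fin 3) F) (μ : F), (∀ i j, A i j ^ 5 = A i j) ∧ (∀ i j, A' i j ^ 5 = A' i j) ∧
      A * A' = 1 ∧ A' * A = 1 ∧ μ ≠ 0 ∧
      (μ • ((P : Matrix (Fin 3) (Fin 3) F) * A))ᵀ * (μ • ((P : Matrix (Fin 3) (Fin 3) F) * A)).map (· ^ 5) = 1 := by
  classical
  have h5 := five_eq_zero_F hF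
  haveI : Fact (Nat.Prime 5) := ⟨by norm_num⟩
  haveI : CharP F 5 := (CharP.charP_iff_prime_eq_zero (by norm_num)).2 (by exact_mod_cast h5)
  obtain ⟨ι, hι⟩ : ∃ ι : ZMod 5 →+* F, ι = ZMod.castHom (dvd_refl 5) F := ⟨_, rfl⟩
  have hι5 : ∀ y, ι y ^ 5 = ι y := by
    intro y
    rw [← map_pow]
    congr 1
    have := ZMod.pow_card y
    exact this
  have hιsurj : ∀ x : F, x ∈ F₀ → ∃ y, ι y = x := by
    intro x hx
    have hx5 := Cfsg.Agent.Helper7.SubF.pow_q_of_mem hq hx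
    rcases fixed_cases hF x hx5 with h | h | h | h | h
    · exact ⟨0, by rw [h, map_zero]⟩
    · exact ⟨1, by rw [h, map_one]⟩
    · exact ⟨2, by rw [h, map_ofNat]⟩
    · exact ⟨3, by rw [h, map_ofNat]⟩
    · exact ⟨4, by rw [h, map_ofNat]⟩
  obtain ⟨Pm, hPm⟩ : ∃ Pm : Matrix (Fin 3) (Fin 3) F, Pm = (P : Matrix (Fin 3) (Fin 3) F) := ⟨_, rfl⟩
  obtain ⟨Γ, hΓdef⟩ : ∃ Γ : Matrix (Fin 3) (Fin 3) F, Γ = Pmᵀ * Pm.map (· ^ 5) := ⟨_, rfl⟩
  have hΓ : ∀ i j, Γ i j ∈ F₀ := by
    intro i j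
    have hmem : ∀ i : Fin 3, ∀ k, (Pi.single i (1 : F) : Fin 3 → F) k ∈ F₀ := by
      intro i k
      by_cases hk : k = i
      · subst hk; rw [Pi.single_eq_same]; exact F₀.one_mem
      · rw [Pi.single_eq_of_ne hk]; exact F₀.zero_mem
    have h := hP (Pi.single i 1) (Pi.single j 1) (hmem i) (hmem j)
    rw [one_mul, ← hPm, Cfsg.Agent.Helper8.GUOrder.hermForm_mulVec_mulVec hF, ← hΓdef] at h
    have e1 : (fun k => (Pi.single j (1 : F) : Fin 3 → F) k ^ 5) = Pi.single j 1 := by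
      ext k
      by_cases hk : k = j
      · subst hk; simp
      · simp [Pi.single_eq_of_ne hk]
    rw [e1, Matrix.mulVec_single_one, single_dotProduct, one_mul, Matrix.col_apply] at h
    exact h
  have hΓs : ∀ i j, Γ j i = Γ i j := by
    intro i j
    have h1 := Cfsg.Agent.Helper7.SubF.pow_q_of_mem hq (hΓ i j)
    rw [← h1, hΓdef]
    simp only [Matrix.mul_apply, Matrix.transpose_apply, Matrix.map_apply, Cfsg.Agent.Helper7.Herm.sum_pow_q hF,
      mul_pow, pow_five_pow_five hF]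
    exact Finset.sum_congr rfl fun k _ => mul_comm _ _
  obtain ⟨Γ₁, hΓ₁⟩ : ∃ Γ₁ : Matrix (Fin 3) (Fin 3) (ZMod 5), ∀ i j, ι (Γ₁ i j) = Γ i j :=
    ⟨fun i j => Classical.choose (hιsurj _ (hΓ i j)), fun i j => Classical.choose_spec (hιsurj _ (hΓ i j))⟩
  have hΓ₁map : Γ₁.map ι = Γ := by
    ext i j
    rw [Matrix.map_apply, hΓ₁]
  have hsym : Γ₁ᵀ = Γ₁ := by
    ext i j
    apply ι.injective
    rw [Matrix.transpose_apply, hΓ₁, hΓ₁, hΓs]
  have hPdet : Pm.det ≠ 0 := by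
    rw [hPm]
    have := Matrix.GeneralLinearGroup.det_ne_zero P
    exact this
  have hdet : Γ₁.det ≠ 0 := by
    intro h0
    have h1 : ι Γ₁.det = Γ.det := by
      rw [RingHom.map_det, RingHom.mapMatrix_apply, hΓ₁map]
    rw [h0, map_zero, hΓdef, Matrix.det_mul, Matrix.det_transpose, Cfsg.Agent.Helper8.GUOrder.det_map_q hF] at h1
    exact mul_ne_zero hPdet (pow_ne_zero _ hPdet) h1.symm
  obtain ⟨A₁, A₂, c, hc0, h12, h21, hnf⟩ := exists_nf Γ₁ hsym hdet
  have hιc : ι c ≠ 0 := fun h => hc0 (ι.injective (by rw [h, map_zero]))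
  have hcinv5 : ((ι c)⁻¹) ^ 5 = (ι c)⁻¹ := by rw [inv_pow, hι5]
  obtain ⟨μ, hμ⟩ := Cfsg.Agent.Helper8.GUOrder.exists_norm hF (inv_ne_zero hιc) hcinv5
  have hμ0 : μ ≠ 0 := by
    intro h
    rw [h, zero_mul] at hμ
    exact inv_ne_zero hιc hμ.symm
  have hArat : ∀ i j, (A₁.map ι) i j ^ 5 = (A₁.map ι) i j := fun i j => by rw [Matrix.map_apply, hι5]
  have hArat' : (A₁.map ι).map (· ^ 5) = A₁.map ι := by
    ext i j
    rw [Matrix.map_apply, hArat]
  refine ⟨A₁.map ι, A₂.map ι, μ, hArat, fun i j => by rw [Matrix.map_apply, hι5], ?_, ?_, hμ0, ?_⟩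
  · rw [← Matrix.map_mul, h12, Matrix.map_one _ (map_zero ι) (map_one ι)]
  · rw [← Matrix.map_mul, h21, Matrix.map_one _ (map_zero ι) (map_one ι)]
  · have hmap : (μ • (Pm * A₁.map ι)).map (· ^ 5) = μ ^ 5 • (Pm.map (· ^ 5) * A₁.map ι) := by
      rw [← hArat', ← map_pow5_mul hF, hArat']
      ext i j
      rw [Matrix.map_apply, Matrix.smul_apply, Matrix.smul_apply, smul_eq_mul, smul_eq_mul, mul_pow,
        Matrix.map_apply]
    have hnf' : (A₁.map ι)ᵀ * Γ * A₁.map ι = ι c • (1 : Matrix (Fin 3) (Fin 3) F) := by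
      have := congrArg (fun M : Matrix (Fin 3) (Fin 3) (ZMod 5) => M.map ι) hnf
      simp only [Matrix.map_mul, Matrix.transpose_map, hΓ₁map] at this
      rw [this]
      ext i j
      rw [Matrix.map_apply, Matrix.smul_apply, Matrix.smul_apply, smul_eq_mul, smul_eq_mul, map_mul]
      congr 1
      by_cases hij : i = j
      · subst hij; rw [Matrix.one_apply_eq, Matrix.one_apply_eq, map_one]
      · rw [Matrix.one_apply_ne hij, Matrix.one_apply_ne hij, map_zero]
    rw [← hPm, hmap, Matrix.transpose_smul, Matrix.smul_mul, Matrix.mul_smul, smul_smul, Matrix.transpose_mul]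
    have : (A₁.map ι)ᵀ * Pmᵀ * (Pm.map (· ^ 5) * A₁.map ι) = (A₁.map ι)ᵀ * Γ * A₁.map ι := by
      rw [hΓdef]
      simp only [Matrix.mul_assoc]
    rw [this, hnf', smul_smul, hμ, inv_mul_cancel₀ hιc, one_smul]

end Cfsg.Agent.Helper6.SU35
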