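import Mathlib
import Cfsg.Agent.Helper6.SU35SubB

/-!
# `SU_3(5)`: the subfield group `3 × SO_3(5)` is not maximal (helper6)
-/

set_option autoImplicit false
set_option linter.unusedVariables false
set_option linter.unusedSectionVars false

namespace Cfsg.Agent.Helper6.SU35

open Cfsg Cfsg.Geo
open scoped MatrixGroups Matrix

variable {F : Type*} [Field F] [Fintype F]

/-- the diagonal element of order three -/
def Dm (w : F) : Matrix (Fin 3) (Fin 3) F := Matrix.diagonal ![w, w ^ 2, 1]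

theorem Dm_det {w : F} (hw : w ^ 2 + w + 1 = 0) : (Dm w).det = 1 := by
  unfold Dm
  rw [Matrix.det_diagonal, Fin.prod_univ_three]
  simp only [Matrix.cons_val_zero, Matrix.cons_val_one, Matrix.cons_val_two, Matrix.head_cons, Matrix.tail_cons]
  linear_combination (w - 1) * hw

theorem Dm_unitary {w : F} (hw : w ^ 2 + w + 1 = 0) : (Dm w)ᵀ * (Dm w).map (· ^ 5) = 1 := by
  have h3 : w ^ 3 = 1 := by linear_combination (w - 1) * hw
  unfold Dm
  rw [Matrix.diagonal_transpose, Matrix.diagonal_map (by simp), Matrix.diagonal_mul_diagonal,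
    ← Matrix.diagonal_one]
  congr 1
  funext i
  fin_cases i
  · show w * w ^ 5 = 1
    calc w * w ^ 5 = (w ^ 3) ^ 2 := by ring
      _ = 1 := by rw [h3, one_pow]
  · show w ^ 2 * (w ^ 2) ^ 5 = 1
    calc w ^ 2 * (w ^ 2) ^ 5 = (w ^ 3) ^ 4 := by ring
      _ = 1 := by rw [h3, one_pow]
  · show (1 : F) * 1 ^ 5 = 1
    rw [one_pow, one_mul]

/-- **the subfield group `3 × SO_3(5)` of the unitary space `F_25^3` is not maximal in `SU_3(5)`** -/
theorem subfield_two_five (hF : Fintype.card F = 5 ^ 2) (F₀ : Subfield F) (P : GL (Fin 3) F)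
    (hc : Fintype.card F = Nat.card F₀ ^ 2) (hP : IsFormRationalStructure (hermForm 3 F 5) F₀ 1 P) :
    ¬ IsMaximalIn (GU 3 F 5 ⊓ specialLinear (Fin 3) F)
      (subfieldSubgroup F₀ P ⊓ (GU 3 F 5 ⊓ specialLinear (Fin 3) F)) := by
  classical
  have hq : Nat.card F₀ = 5 := by
    rw [hF] at hc
    have h1 : Nat.card F₀ * Nat.card F₀ = 25 := by rw [← sq, ← hc]; norm_num
    have h2 : Nat.card F₀ ≤ 5 := by nlinarith
    interval_cases (Nat.card F₀) <;> omega
  obtain ⟨A, A', μ, hA, hA', hAA', hA'A, hμ0, hBU⟩ := exists_unitary_rat hF F₀ P hq hP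
  have h5 := five_eq_zero_F hF
  obtain ⟨s, hs⟩ := exists_sq2 hF
  obtain ⟨w, hw, hw1, hw0⟩ := exists_omega hF
  have hw3 : w ^ 3 = 1 := by linear_combination (w - 1) * hw
  -- the change of basis
  obtain ⟨Ag, hAg, hAgi⟩ : ∃ Ag : GL (Fin 3) F, (Ag : Matrix (Fin 3) (Fin 3) F) = A ∧
      ((Ag⁻¹ : GL (Fin 3) F) : Matrix (Fin 3) (Fin 3) F) = A' := ⟨⟨A, A', hAA', hA'A⟩, rfl, rfl⟩
  obtain ⟨sg, hsg, hsgi⟩ : ∃ sg : GL (Fin 3) F, (sg : Matrix (Fin 3) (Fin 3) F) = μ • 1 ∧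
      ((sg⁻¹ : GL (Fin 3) F) : Matrix (Fin 3) (Fin 3) F) = μ⁻¹ • 1 :=
    ⟨⟨μ • 1, μ⁻¹ • 1, by rw [Matrix.smul_mul, Matrix.mul_smul, mul_one, smul_smul, mul_inv_cancel₀ hμ0, one_smul],
      by rw [Matrix.smul_mul, Matrix.mul_smul, mul_one, smul_smul, inv_mul_cancel₀ hμ0, one_smul]⟩, rfl, rfl⟩
  obtain ⟨Bg, hBg⟩ : ∃ Bg : GL (Fin 3) F, Bg = P * Ag * sg := ⟨_, rfl⟩
  have hBgv : (Bg : Matrix (Fin 3) (Fin 3) F) = μ • ((P : Matrix (Fin 3) (Fin 3) F) * A) := by
    rw [hBg, Units.val_mul, Units.val_mul, hAg, hsg, Matrix.mul_smul, mul_one]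
  have hBgU : Bg ∈ GU 3 F 5 := (Cfsg.Agent.Helper8.GUOrder.mem_GU_iff hF _).2 (by rw [hBgv]; exact hBU)
  -- the shape of the elements of the subfield group in the new coordinates
  have hconj : ∀ g ∈ subfieldSubgroup F₀ P, ∃ (d : F) (R : Matrix (Fin 3) (Fin 3) F),
      (∀ i j, R i j ^ 5 = R i j) ∧
        ((Bg⁻¹ * g * Bg : GL (Fin 3) F) : Matrix (Fin 3) (Fin 3) F) = d • R := by
    intro g hg
    obtain ⟨Y, d, hY, hYd⟩ := Cfsg.Agent.Helper7.AschGen.exists_of_mem_subfieldSubgroup' hg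
    have hY5 : Y.map (· ^ 5) = Y := by
      ext i j
      rw [Matrix.map_apply]
      exact Cfsg.Agent.Helper7.SubF.pow_q_of_mem hq (hY i j)
    have hA5 : A.map (· ^ 5) = A := by
      ext i j
      rw [Matrix.map_apply, hA]
    have hA'5 : A'.map (· ^ 5) = A' := by
      ext i j
      rw [Matrix.map_apply, hA']
    refine ⟨d, A' * Y * A, fun i j => ?_, ?_⟩
    · have : (A' * Y * A).map (· ^ 5) = A' * Y * A := by
        rw [map_pow5_mul hF, map_pow5_mul hF, hY5, hA5, hA'5]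
      have := congrFun (congrFun this i) j
      rwa [Matrix.map_apply] at this
    · have hYd' : ((P⁻¹ : GL (Fin 3) F) : Matrix (Fin 3) (Fin 3) F) * (g : Matrix (Fin 3) (Fin 3) F) *
          (P : Matrix (Fin 3) (Fin 3) F) = d • Y := by
        ext i j
        rw [hYd, Matrix.smul_apply, smul_eq_mul, mul_comm]
      have e1 : Bg⁻¹ * g * Bg = sg⁻¹ * (Ag⁻¹ * (P⁻¹ * g * P) * Ag) * sg := by
        rw [hBg]
        group
      rw [e1]
      simp only [Units.val_mul]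
      rw [hsg, hsgi, hAg, hAgi, hYd']
      rw [Matrix.smul_mul, Matrix.mul_smul, Matrix.one_mul, Matrix.mul_one, smul_smul, mul_inv_cancel₀ hμ0,
        one_smul, Matrix.mul_smul, Matrix.smul_mul]
  have hcoord : ∀ (g : GL (Fin 3) F) (x : Fin 3 → F),
      ((Bg⁻¹ : GL (Fin 3) F) : Matrix (Fin 3) (Fin 3) F) *ᵥ ((g : Matrix (Fin 3) (Fin 3) F) *ᵥ x) =
        ((Bg⁻¹ * g * Bg : GL (Fin 3) F) : Matrix (Fin 3) (Fin 3) F) *ᵥ
          (((Bg⁻¹ : GL (Fin 3) F) : Matrix (Fin 3) (Fin 3) F) *ᵥ x) := by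
    intro g x
    rw [Matrix.mulVec_mulVec, Matrix.mulVec_mulVec, ← Units.val_mul, ← Units.val_mul]
    congr 2
    group
  refine not_maximal_of_set (fun (g : GL (Fin 3) F) (x : Fin 3 → F) => (g : Matrix (Fin 3) (Fin 3) F) *ᵥ x)
    (fun g h x => by rw [Units.val_mul, Matrix.mulVec_mulVec])
    (fun x => by rw [Units.val_one, Matrix.one_mulVec])
    (fun x => InO (((Bg⁻¹ : GL (Fin 3) F) : Matrix (Fin 3) (Fin 3) F) *ᵥ x)) _ _ ?_ ?_ ?_
  · -- the subfield group preserves the set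
    rintro g hg x hx
    obtain ⟨hgS, hgG⟩ := Subgroup.mem_inf.1 hg
    obtain ⟨hgU, hg1⟩ := Subgroup.mem_inf.1 hgG
    obtain ⟨d, R, hR, hdR⟩ := hconj g hgS
    have hCU : Bg⁻¹ * g * Bg ∈ GU 3 F 5 := mul_mem (mul_mem (inv_mem hBgU) hgU) hBgU
    have hU := (Cfsg.Agent.Helper8.GUOrder.mem_GU_iff hF _).1 hCU
    rw [hdR] at hU
    show InO (((Bg⁻¹ : GL (Fin 3) F) : Matrix (Fin 3) (Fin 3) F) *ᵥ ((g : Matrix (Fin 3) (Fin 3) F) *ᵥ x))
    rw [hcoord, hdR, inO_iff_inOv hF]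
    exact inOv_smul_rat hF d R hR hU _ ((inO_iff_inOv hF _).1 hx)
  · -- a diagonal element of order three
    have hTG := glOf_mem hF (Dm w) (Dm_det hw) (Dm_unitary hw)
    refine ⟨Bg * glOf (Dm w) (Dm_det hw) * Bg⁻¹, conj_mem hBgU hTG, ?_, ?_⟩
    · intro hmem
      obtain ⟨hS, -⟩ := Subgroup.mem_inf.1 hmem
      obtain ⟨d, R, hR, hdR⟩ := hconj _ hS
      have e1 : Bg⁻¹ * (Bg * glOf (Dm w) (Dm_det hw) * Bg⁻¹) * Bg = glOf (Dm w) (Dm_det hw) := by group
      rw [e1, glOf_val] at hdR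
      have h00 := congrFun (congrFun hdR 0) 0
      have h22 := congrFun (congrFun hdR 2) 2
      unfold Dm at h00 h22
      rw [Matrix.diagonal_apply_eq, Matrix.smul_apply, smul_eq_mul] at h00 h22
      simp only [Matrix.cons_val_zero, Matrix.cons_val_two, Matrix.tail_cons, Matrix.head_cons] at h00 h22
      have hR22 : R 2 2 ≠ 0 := by
        intro h0
        rw [h0, mul_zero] at h22
        exact one_ne_zero h22
      have hd0 : d ≠ 0 := by
        intro h0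
        rw [h0, zero_mul] at h22
        exact one_ne_zero h22
      have h1 : w * R 2 2 = R 0 0 := by
        have : d * (w * R 2 2) = d * R 0 0 := by rw [← h00]; linear_combination w * h22.symm
        exact mul_left_cancel₀ hd0 this
      have h2 : w ^ 5 * R 2 2 = R 0 0 := by
        have := congrArg (· ^ 5) h1
        simp only [mul_pow, hR] at this
        exact this
      have h3 : w ^ 5 = w := by
        have : w ^ 5 * R 2 2 = w * R 2 2 := by rw [h2, h1]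
        exact mul_right_cancel₀ hR22 this
      have h4 : w * w = w * 1 := by
        have : w ^ 5 = w ^ 3 * (w * w) := by ring
        rw [this, hw3, one_mul] at h3
        rw [h3, mul_one]
      exact hw1 (mul_left_cancel₀ hw0 h4)
    · intro x
      show InO (((Bg⁻¹ : GL (Fin 3) F) : Matrix (Fin 3) (Fin 3) F) *ᵥ x) ↔
        InO (((Bg⁻¹ : GL (Fin 3) F) : Matrix (Fin 3) (Fin 3) F) *ᵥ
          (((Bg * glOf (Dm w) (Dm_det hw) * Bg⁻¹ : GL (Fin 3) F) : Matrix (Fin 3) (Fin 3) F) *ᵥ x))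
      rw [conj_coord, glOf_val]
      have hD : ∀ v : Fin 3 → F, (Dm w) *ᵥ v = fun i => (![w, w ^ 2, 1] : Fin 3 → F) i * v ((1 : Equiv.Perm (Fin 3)) i) := by
        intro v
        funext i
        unfold Dm
        rw [Matrix.mulVec_diagonal, Equiv.Perm.one_apply]
      rw [hD]
      refine (inO_monomial 1 _ ?_ ?_ _).symm
      · intro i
        unfold nm
        fin_cases i
        · show w * w ^ 5 = 1
          calc w * w ^ 5 = (w ^ 3) ^ 2 := by ring
            _ = 1 := by rw [hw3, one_pow]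
        · show w ^ 2 * (w ^ 2) ^ 5 = 1
          calc w ^ 2 * (w ^ 2) ^ 5 = (w ^ 3) ^ 4 := by ring
            _ = 1 := by rw [hw3, one_pow]
        · show (1 : F) * 1 ^ 5 = 1
          rw [one_pow, one_mul]
      · rw [Fin.prod_univ_three]
        show (w * w ^ 2 * 1) ^ 2 = 1
        calc (w * w ^ 2 * 1) ^ 2 = (w ^ 3) ^ 2 := by ring
          _ = 1 := by rw [hw3, one_pow]
  · -- minus the reflection in `(0, 1, 2s)` does not preserve the set
    have hGG := glOf_mem hF (Gm s) (Gm_det h5 hs) (Gm_unitary h5 hs)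
    have hx : ((Bg⁻¹ : GL (Fin 3) F) : Matrix (Fin 3) (Fin 3) F) *ᵥ
        ((Bg : Matrix (Fin 3) (Fin 3) F) *ᵥ ![0, 1, 0]) = ![0, 1, 0] := by
      rw [Matrix.mulVec_mulVec, ← Units.val_mul, inv_mul_cancel, Units.val_one, Matrix.one_mulVec]
    refine ⟨Bg * glOf (Gm s) (Gm_det h5 hs) * Bg⁻¹, conj_mem hBgU hGG, (Bg : Matrix (Fin 3) (Fin 3) F) *ᵥ ![0, 1, 0],
      ?_, ?_⟩
    · show InO (((Bg⁻¹ : GL (Fin 3) F) : Matrix (Fin 3) (Fin 3) F) *ᵥ ((Bg : Matrix (Fin 3) (Fin 3) F) *ᵥ ![0, 1, 0]))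
      rw [hx, inO_iff]
      unfold InO3 nm
      simp
    · show ¬ InO (((Bg⁻¹ : GL (Fin 3) F) : Matrix (Fin 3) (Fin 3) F) *ᵥ
        (((Bg * glOf (Gm s) (Gm_det h5 hs) * Bg⁻¹ : GL (Fin 3) F) : Matrix (Fin 3) (Fin 3) F) *ᵥ
          ((Bg : Matrix (Fin 3) (Fin 3) F) *ᵥ ![0, 1, 0])))
      rw [conj_coord, hx, glOf_val, Gm_mulVec, inO_iff]
      exact g_breaks_F hF hs

end Cfsg.Agent.Helper6.SU35
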