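import Mathlib
import Cfsg.Agent.Helper6.RepEigen

/-!
# Determinant of an element whose powers have vanishing character
-/

set_option autoImplicit false

namespace Cfsg.Agent.Helper6

open Module

/-- determinant of an endomorphism with an eigenbasis -/
theorem det_eq_prod_of_eigenbasis {V : Type*} [AddCommGroup V] [Module ℂ V]
    {ι : Type*} [Fintype ι] [DecidableEq ι] (b : Basis ι ℂ V) (f : End ℂ V) (μ : ι → ℂ)
    (hb : ∀ i, f (b i) = μ i • b i) : LinearMap.det f = ∏ i, μ i := by
  rw [← LinearMap.det_toMatrix b f]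
  have : LinearMap.toMatrix b b f = Matrix.diagonal μ := by
    ext i j
    rw [LinearMap.toMatrix_apply, hb j, Matrix.diagonal_apply]
    simp only [map_smul, Finsupp.smul_apply, Basis.repr_self, smul_eq_mul]
    rw [Finsupp.single_apply]
    by_cases h : i = j
    · subst h
      simp
    · rw [if_neg (fun h' => h h'.symm), if_neg h, mul_zero]
  rw [this, Matrix.det_diagonal]

/-- geometric sum of a root of unity -/
theorem geom_sum_root {ω : ℂ} {e : ℕ} (hω : ω ^ e = 1) :
    ∑ j ∈ Finset.range e, ω ^ j = if ω = 1 then (e : ℂ) else 0 := by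
  split_ifs with h
  · subst h
    simp
  · have h1 := mul_geom_sum ω e
    rw [hω, sub_self] at h1
    rcases mul_eq_zero.mp h1 with h2 | h2
    · exact absurd (sub_eq_zero.mp h2) h
    · exact h2

/-- multiplicities of eigenvalues from vanishing power sums -/
theorem count_of_power_sums {ι : Type*} [Fintype ι] [DecidableEq ι] (e t : ℕ) (he : 0 < e)
    (ζ : ℂ) (hζ : IsPrimitiveRoot ζ e) (k : ι → ℕ) (hk : ∀ i, k i < e)
    (hcard : Fintype.card ι = e * t)
    (hsum : ∀ j, 0 < j → j < e → ∑ i, (ζ ^ k i) ^ j = 0) (m : ℕ) (hm : m < e) :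
    (Finset.univ.filter (fun i => k i = m)).card = t := by
  have hζe : ζ ^ e = 1 := hζ.pow_eq_one
  have hζ0 : ζ ≠ 0 := hζ.ne_zero he.ne'
  -- double sum
  have h1 : ∑ j ∈ Finset.range e, (ζ ^ m)⁻¹ ^ j * ∑ i, (ζ ^ k i) ^ j = (e : ℂ) * t := by
    rw [Finset.sum_eq_single_of_mem 0 (Finset.mem_range.mpr he)]
    · simp [hcard]
    · intro j hj hj0
      rw [hsum j (Nat.pos_of_ne_zero hj0) (Finset.mem_range.mp hj), mul_zero]
  have h2 : ∑ j ∈ Finset.range e, (ζ ^ m)⁻¹ ^ j * ∑ i, (ζ ^ k i) ^ j =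
      ∑ i, ∑ j ∈ Finset.range e, ((ζ ^ m)⁻¹ * ζ ^ k i) ^ j := by
    rw [Finset.sum_comm]
    apply Finset.sum_congr rfl
    intro j _
    rw [Finset.mul_sum]
    apply Finset.sum_congr rfl
    intro i _
    rw [mul_pow]
  have h3 : ∀ i, ∑ j ∈ Finset.range e, ((ζ ^ m)⁻¹ * ζ ^ k i) ^ j =
      if k i = m then (e : ℂ) else 0 := by
    intro i
    have hω : ((ζ ^ m)⁻¹ * ζ ^ k i) ^ e = 1 := by
      rw [mul_pow, inv_pow, ← pow_mul, ← pow_mul, mul_comm m e, mul_comm (k i) e, pow_mul, pow_mul,
        hζe, one_pow, one_pow, inv_one, one_mul]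
    rw [geom_sum_root hω]
    have hiff : ((ζ ^ m)⁻¹ * ζ ^ k i = 1) ↔ k i = m := by
      constructor
      · intro h
        have h' : ζ ^ k i = ζ ^ m := by
          have hm0 : ζ ^ m ≠ 0 := pow_ne_zero _ hζ0
          field_simp at h
          exact h
        exact hζ.pow_inj (hk i) hm h'
      · intro h
        rw [h, inv_mul_cancel₀ (pow_ne_zero _ hζ0)]
    by_cases hkm : k i = m
    · rw [if_pos (hiff.mpr hkm), if_pos hkm]
    · rw [if_neg (fun h => hkm (hiff.mp h)), if_neg hkm]
  rw [h2] at h1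
  simp_rw [h3] at h1
  rw [Finset.sum_ite, Finset.sum_const, Finset.sum_const_zero, add_zero, nsmul_eq_mul] at h1
  have he0 : (e : ℂ) ≠ 0 := by exact_mod_cast he.ne'
  have h4 : ((Finset.univ.filter (fun i => k i = m)).card : ℂ) = t := by
    have : (e : ℂ) * ((Finset.univ.filter (fun i => k i = m)).card : ℂ) = (e : ℂ) * t := by
      rw [mul_comm]; exact h1
    exact mul_left_cancel₀ he0 this
  exact_mod_cast h4

/-- If `y` has even order `e`, all the powers `y ^ j` with `0 < j < e` have character zero and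
the degree is `e * t` with `t` odd, then `y` has determinant `-1`. -/
theorem det_eq_neg_one_of_vanishing {G : Type*} [Group G] [Finite G] {V : Type*} [AddCommGroup V]
    [Module ℂ V] [FiniteDimensional ℂ V] (ρ : Representation ℂ G V) (y : G) (t : ℕ)
    (hdim : finrank ℂ V = orderOf y * t) (heven : Even (orderOf y)) (hodd : Odd t)
    (hvan : ∀ j, 0 < j → j < orderOf y → ρ.character (y ^ j) = 0) :
    LinearMap.det (ρ y) = -1 := by
  classical
  obtain ⟨ι, hι, b, μ, h1, h2, h3⟩ := exists_eigenbasis_rep ρ y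
  set e := orderOf y with he_def
  have he : 0 < e := orderOf_pos y
  obtain ⟨m, hm⟩ := heven
  have hm0 : 0 < m := by omega
  have hζ : IsPrimitiveRoot (Complex.exp (2 * Real.pi * Complex.I / e)) e :=
    Complex.isPrimitiveRoot_exp e he.ne'
  set ζ := Complex.exp (2 * Real.pi * Complex.I / e) with hζdef
  haveI : NeZero e := ⟨he.ne'⟩
  have hkex : ∀ i, ∃ k, k < e ∧ ζ ^ k = μ i := fun i => hζ.eq_pow_of_pow_eq_one (h2 i)
  choose k hk hkμ using hkex
  have hsum : ∀ j, 0 < j → j < e → ∑ i, (ζ ^ k i) ^ j = 0 := by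
    intro j hj hje
    have := hvan j hj hje
    rw [Representation.character, trace_eq_sum_of_eigenbasis b (ρ (y ^ j)) (fun i => μ i ^ j)
      (fun i => eigen_pow ρ y b μ h1 j i)] at this
    simp_rw [hkμ]
    exact this
  have hcount := count_of_power_sums e t he ζ hζ k hk (by rw [h3, hdim]) hsum
  rw [det_eq_prod_of_eigenbasis b (ρ y) μ h1]
  have hprod : ∏ i, μ i = ζ ^ (∑ i, k i) := by
    rw [← Finset.prod_pow_eq_pow_sum]
    apply Finset.prod_congr rfl
    intro i _
    rw [hkμ]
  have hsumk : ∑ i, k i = t * (m * (2 * m - 1)) := by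
    have hmaps : ∀ i ∈ (Finset.univ : Finset ι), k i ∈ Finset.range e := fun i _ =>
      Finset.mem_range.mpr (hk i)
    rw [← Finset.sum_fiberwise_of_maps_to hmaps]
    have : ∀ n ∈ Finset.range e, ∑ i ∈ Finset.univ.filter (fun i => k i = n), k i = t * n := by
      intro n hn
      rw [Finset.sum_congr rfl (fun i hi => (Finset.mem_filter.mp hi).2), Finset.sum_const,
        hcount n (Finset.mem_range.mp hn), smul_eq_mul]
    rw [Finset.sum_congr rfl this, ← Finset.mul_sum]
    congr 1
    have h5 := Finset.sum_range_id_mul_two e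
    have h6 : e * (e - 1) = (m * (2 * m - 1)) * 2 := by
      rw [hm]
      have : m + m - 1 = 2 * m - 1 := by omega
      rw [this]
      ring
    rw [h6] at h5
    exact Nat.eq_of_mul_eq_mul_right (by norm_num) h5
  have hζm : ζ ^ m = -1 := by
    have hsq : (ζ ^ m) ^ 2 = 1 := by
      rw [← pow_mul, mul_comm, two_mul, ← hm]
      exact hζ.pow_eq_one
    have hne : ζ ^ m ≠ 1 := by
      intro h
      have := hζ.dvd_of_pow_eq_one m h
      have := Nat.le_of_dvd hm0 this
      omega
    rcases sq_eq_one_iff.mp hsq with h | h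
    · exact absurd h hne
    · exact h
  rw [hprod, hsumk, mul_comm t, mul_assoc, pow_mul, hζm]
  have hodd2 : Odd ((2 * m - 1) * t) := by
    apply Odd.mul _ hodd
    exact ⟨m - 1, by omega⟩
  exact hodd2.neg_one_pow

end Cfsg.Agent.Helper6
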