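import Mathlib

/-!
# A determinant equal to `-1` forces the commutator subgroup to have even index
-/

set_option autoImplicit false

namespace Cfsg.Agent.Helper6

open Module

theorem even_index_commutator_of_det {G : Type*} [Group G] [Finite G] {V : Type*} [AddCommGroup V]
    [Module ℂ V] (ρ : Representation ℂ G V) (y : G)
    (hdet : LinearMap.det (ρ y) = -1) : Even (commutator G).index := by
  set f : G →* ℂˣ := ((LinearMap.det : (V →ₗ[ℂ] V) →* ℂ).comp ρ).toHomUnits with hf
  have hfy : ((f y : ℂˣ) : ℂ) = -1 := by
    rw [hf, MonoidHom.coe_toHomUnits]
    exact hdet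
  have hle : commutator G ≤ f.ker := Abelianization.commutator_subset_ker f
  have hdvd : f.ker.index ∣ (commutator G).index := Subgroup.index_dvd_of_le hle
  have h2 : 2 ∣ f.ker.index := by
    rw [Subgroup.index_ker]
    have hord : orderOf (f y) = 2 := by
      apply orderOf_eq_prime
      · apply Units.ext
        rw [Units.val_pow_eq_pow_val, hfy]
        norm_num
      · intro h
        have := congrArg Units.val h
        rw [hfy] at this
        norm_num at this
    have hmem : f y ∈ f.range := ⟨y, rfl⟩
    have := Subgroup.orderOf_dvd_natCard f.range hmem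
    rwa [hord] at this
  exact even_iff_two_dvd.mpr (dvd_trans h2 hdvd)

end Cfsg.Agent.Helper6
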