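import Mathlib
import Cfsg.Agent.Lead.SelfCentP

/-!
# A generator of the normalizer quotient of a self-centralizing subgroup of prime order
-/

set_option autoImplicit false

namespace Cfsg.Agent.Helper6

universe u

variable {G : Type u} [Group G] [Finite G] (p : ℕ) [hp : Fact p.Prime] (x : G)

local notation "PP" => Subgroup.zpowers x
local notation "NN" => Subgroup.normalizer ((Subgroup.zpowers x : Subgroup G) : Set G)
local notation "P'" => Subgroup.subgroupOf (Subgroup.zpowers x)
  (Subgroup.normalizer ((Subgroup.zpowers x : Subgroup G) : Set G))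

/-- the normalizer of a self-centralizing subgroup of prime order contains an element of order
`e = |N : P|` none of whose nontrivial powers lie in `P` -/
theorem exists_generator_mod (hx : orderOf x = p)
    (hC : Subgroup.centralizer ({x} : Set G) = Subgroup.zpowers x)
    (he : 2 ≤ (Subgroup.zpowers x).relIndex NN) :
    ∃ y : G, y ∈ NN ∧ orderOf y = (Subgroup.zpowers x).relIndex NN ∧
      ∀ j, 0 < j → j < (Subgroup.zpowers x).relIndex NN → y ^ j ∉ Subgroup.zpowers x := by
  classical
  haveI : (P').Normal := Subgroup.normal_in_normalizer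
  have hcardP : Nat.card P' = p := by
    rw [Nat.card_congr (Subgroup.subgroupOfEquivOfLe Subgroup.le_normalizer).toEquiv,
      Nat.card_zpowers, hx]
  haveI : IsCyclic P' := isCyclic_of_prime_card hcardP
  haveI : IsCyclic (MulAut P') := by
    have h1 : IsCyclic (ZMod (Nat.card P'))ˣ := by
      apply ZMod.isCyclic_units_prime
      rw [hcardP]
      exact hp.out
    exact (IsCyclic.mulAutMulEquiv P').isCyclic.mpr h1
  have hker : (MulAut.conjNormal : ↥NN →* MulAut P').ker = P' := by
    ext n
    rw [MonoidHom.mem_ker, Subgroup.mem_subgroupOf]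
    constructor
    · intro h
      have hxN : x ∈ NN := Subgroup.le_normalizer (Subgroup.mem_zpowers x)
      have hxP : (⟨x, hxN⟩ : ↥NN) ∈ P' := by
        rw [Subgroup.mem_subgroupOf]
        exact Subgroup.mem_zpowers x
      have h1 := congrArg (fun f : MulAut P' => ((f ⟨⟨x, hxN⟩, hxP⟩ : P') : ↥NN)) h
      simp only [MulAut.conjNormal_apply, MulAut.one_apply] at h1
      have h2 := congrArg Subtype.val h1
      simp only [Subgroup.coe_mul, Subgroup.coe_inv] at h2
      have hmem : (n : G) ∈ Subgroup.centralizer ({x} : Set G) := by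
        rw [Subgroup.mem_centralizer_singleton_iff]
        calc (n : G) * x = ((n : G) * x * (n : G)⁻¹) * n := by group
          _ = x * n := by rw [h2]
      rw [hC] at hmem
      exact hmem
    · intro h
      ext k
      rw [MulAut.conjNormal_apply, MulAut.one_apply]
      have hk : ((k : ↥NN) : G) ∈ Subgroup.zpowers x := Subgroup.mem_subgroupOf.mp k.2
      obtain ⟨a, ha⟩ := Subgroup.mem_zpowers_iff.mp h
      obtain ⟨b, hb⟩ := Subgroup.mem_zpowers_iff.mp hk
      simp only [Subgroup.coe_mul, Subgroup.coe_inv]
      rw [← ha, ← hb]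
      have : Commute (x ^ a) (x ^ b) := (Commute.refl x).zpow_zpow a b
      rw [this.eq, mul_inv_cancel_right]
  have hidx : Nat.card (MulAut.conjNormal : ↥NN →* MulAut P').range =
      (Subgroup.zpowers x).relIndex NN := by
    rw [← Subgroup.index_ker, hker]
    rfl
  obtain ⟨g, hg⟩ := (inferInstance :
    IsCyclic (MulAut.conjNormal : ↥NN →* MulAut P').range).exists_generator
  obtain ⟨y, hy⟩ := g.2
  have hord : orderOf ((MulAut.conjNormal : ↥NN →* MulAut P') y) =
      (Subgroup.zpowers x).relIndex NN := by
    rw [← hidx, hy, Subgroup.orderOf_coe g]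
    exact orderOf_eq_card_of_forall_mem_zpowers hg
  -- powers of `y` in `P`
  have hpow : ∀ j : ℕ, ((y : G) ^ j ∈ Subgroup.zpowers x) ↔
      (Subgroup.zpowers x).relIndex NN ∣ j := by
    intro j
    have h1 : ((y : G) ^ j ∈ Subgroup.zpowers x) ↔
        y ^ j ∈ (MulAut.conjNormal : ↥NN →* MulAut P').ker := by
      rw [hker, Subgroup.mem_subgroupOf]
      rfl
    rw [h1, MonoidHom.mem_ker, map_pow, ← hord]
    exact (orderOf_dvd_iff_pow_eq_one).symm
  have hye : (y : G) ^ ((Subgroup.zpowers x).relIndex NN) = 1 := by
    by_contra hne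
    have hmem : (y : G) ^ ((Subgroup.zpowers x).relIndex NN) ∈ Subgroup.zpowers x :=
      (hpow _).mpr dvd_rfl
    have hcent := Cfsg.Agent.Lead.SelfCentP.centralizer_eq_of_mem p x hx hC hmem hne
    have hyc : (y : G) ∈ Subgroup.centralizer
        ({(y : G) ^ ((Subgroup.zpowers x).relIndex NN)} : Set G) := by
      rw [Subgroup.mem_centralizer_singleton_iff]
      exact ((Commute.refl (y : G)).pow_right _).eq
    rw [hcent] at hyc
    have h1 : (Subgroup.zpowers x).relIndex NN ∣ 1 := by
      rw [← hpow 1, pow_one]
      exact hyc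
    have := Nat.le_of_dvd one_pos h1
    omega
  refine ⟨y, y.2, ?_, ?_⟩
  · apply Nat.dvd_antisymm
    · exact orderOf_dvd_of_pow_eq_one hye
    · have h1 : orderOf (y : G) = orderOf y := Subgroup.orderOf_coe y
      rw [h1, ← hord]
      exact orderOf_map_dvd _ y
  · intro j hj hje hmem
    have := Nat.le_of_dvd hj ((hpow j).mp hmem)
    omega

end Cfsg.Agent.Helper6
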