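import Mathlib
import Cfsg.Prelude.Def_Characters
import Cfsg.Agent.Helper6.TIFrob2
import Cfsg.Agent.Helper6.ItoCycD

/-!
# Characters of degree `|K| - 1` vanish on `N_G(K) \ K` for a self-centralizing abelian
T.I. subgroup `K` with nontrivial normalizer quotient
-/

set_option autoImplicit false
set_option linter.style.haveILetI false

namespace Cfsg.Agent.Helper6

open scoped ComplexConjugate

universe u

variable {G : Type u} [Group G]

/-- Bessel's inequality for two irreducible characters -/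
theorem bessel_two [Fintype G] {Ψ χ₁ χ₂ : G → ℂ} (h₁ : Cfsg.IsIrrCharacter G χ₁)
    (h₂ : Cfsg.IsIrrCharacter G χ₂) (hne : χ₁ ≠ χ₂) (a₁ a₂ r : ℝ)
    (ha₁ : Cfsg.classInner Ψ χ₁ = a₁) (ha₂ : Cfsg.classInner Ψ χ₂ = a₂)
    (hr : Cfsg.classInner Ψ Ψ = r) : a₁ ^ 2 + a₂ ^ 2 ≤ r := by
  set δ : G → ℂ := Ψ - (a₁ : ℂ) • χ₁ - (a₂ : ℂ) • χ₂ with hδ
  have hb₁ : Cfsg.classInner χ₁ Ψ = a₁ := by
    rw [classInner_conj_symm Ψ χ₁, ha₁, Complex.conj_ofReal]
  have hb₂ : Cfsg.classInner χ₂ Ψ = a₂ := by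
    rw [classInner_conj_symm Ψ χ₂, ha₂, Complex.conj_ofReal]
  have h12 : Cfsg.classInner χ₁ χ₂ = 0 := classInner_irr_ne h₁ h₂ hne
  have h21 : Cfsg.classInner χ₂ χ₁ = 0 := classInner_irr_ne h₂ h₁ (Ne.symm hne)
  have hcomp : Cfsg.classInner δ δ = ((r - a₁ ^ 2 - a₂ ^ 2 : ℝ) : ℂ) := by
    rw [hδ]
    simp only [classInner_sub_left, classInner_sub_right, classInner_smul_left,
      classInner_smul_right, Complex.conj_ofReal, ha₁, ha₂, hr, hb₁, hb₂, h12, h21,
      classInner_irr_self h₁, classInner_irr_self h₂]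
    push_cast
    ring
  rw [classInner_self_eq] at hcomp
  have hreal : ((Nat.card G : ℝ)⁻¹ * ∑ g : G, ‖δ g‖ ^ 2) = r - a₁ ^ 2 - a₂ ^ 2 := by
    have : (((Nat.card G : ℝ)⁻¹ * ∑ g : G, ‖δ g‖ ^ 2 : ℝ) : ℂ) =
        ((r - a₁ ^ 2 - a₂ ^ 2 : ℝ) : ℂ) := by
      rw [← hcomp]
      push_cast
      rfl
    exact_mod_cast this
  have hnonneg : 0 ≤ (Nat.card G : ℝ)⁻¹ * ∑ g : G, ‖δ g‖ ^ 2 := by
    apply mul_nonneg
    · positivity
    · apply Finset.sum_nonneg
      intro g _
      positivity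
  linarith


section

variable (K : Subgroup G)

local notation "NK" => Subgroup.normalizer (K : Set G)
local notation "K'" => Subgroup.subgroupOf K (Subgroup.normalizer (K : Set G))

/-- the indicator function of `K \ {1}` on the normalizer -/
noncomputable def scInd : ↥NK → ℂ :=
  fun n => by
    classical
    exact if (n : G) ∈ K ∧ n ≠ 1 then 1 else 0

theorem scInd_isClassFunction : Cfsg.IsClassFunction ↥NK (scInd K) := by
  classical
  intro g h
  unfold scInd
  have h1 : ((h * g * h⁻¹ : ↥NK) : G) ∈ K ↔ (g : G) ∈ K := by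
    have hn : (K').Normal := Subgroup.normal_in_normalizer
    constructor
    · intro hm
      have hm' : h * g * h⁻¹ ∈ K' := Subgroup.mem_subgroupOf.mpr hm
      have := hn.conj_mem _ hm' h⁻¹
      rw [inv_inv] at this
      have h2 : h⁻¹ * (h * g * h⁻¹) * h = g := by group
      rw [h2] at this
      exact Subgroup.mem_subgroupOf.mp this
    · intro hm
      have hm' : g ∈ K' := Subgroup.mem_subgroupOf.mpr hm
      exact Subgroup.mem_subgroupOf.mp (hn.conj_mem _ hm' h)
  have h2 : (h * g * h⁻¹ ≠ 1) ↔ g ≠ 1 := by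
    constructor
    · intro hne hg
      apply hne
      rw [hg]
      group
    · intro hne hg
      apply hne
      have := congrArg (fun z => h⁻¹ * z * h) hg
      simpa [mul_assoc] using this
  simp only [h1, h2]

theorem scInd_off (n : ↥NK) (hn : (n : G) ∉ K) : scInd K n = 0 := by
  classical
  unfold scInd
  rw [if_neg]
  exact fun h => hn h.1

theorem scInd_one : scInd K 1 = 0 := by
  classical
  unfold scInd
  rw [if_neg]
  exact fun h => h.2 rfl

/-- summing against the indicator -/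
theorem sum_scInd_mul [Fintype ↥NK] [Fintype ↥K'] (f : ↥NK → ℂ) :
    ∑ n : ↥NK, scInd K n * f n = (∑ k : ↥K', f k) - f 1 := by
  classical
  have h1 : ∑ k : ↥K', f k = ∑ n : ↥NK, if n ∈ K' then f n else 0 := by
    rw [← Finset.sum_filter]
    exact (Finset.sum_subtype (Finset.univ.filter (fun n : ↥NK => n ∈ K'))
      (fun n => by simp) f).symm
  rw [h1]
  have h2 : f 1 = ∑ n : ↥NK, if n = 1 then f n else 0 := by
    rw [Finset.sum_ite_eq' Finset.univ (1 : ↥NK) f, if_pos (Finset.mem_univ _)]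
  rw [h2, ← Finset.sum_sub_distrib]
  apply Finset.sum_congr rfl
  intro n _
  unfold scInd
  by_cases hn1 : n = 1
  · subst hn1
    rw [if_neg (fun h => h.2 rfl), if_pos (Subgroup.one_mem _), if_pos rfl, zero_mul, sub_self]
  · by_cases hnK : (n : G) ∈ K
    · rw [if_pos ⟨hnK, hn1⟩, if_pos (Subgroup.mem_subgroupOf.mpr hnK), if_neg hn1, one_mul,
        sub_zero]
    · rw [if_neg (fun h => hnK h.1), if_neg (fun h => hnK (Subgroup.mem_subgroupOf.mp h)),
        if_neg hn1, zero_mul, sub_zero]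

end

end Cfsg.Agent.Helper6
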