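import Mathlib
import Cfsg.Prelude.Def_Characters
import Cfsg.Agent.Helper6.ScDetD

/-!
# Characters of degree `|K| - 1` vanish on `N_G(K) \ K`
-/

set_option autoImplicit false
set_option linter.style.haveILetI false

namespace Cfsg.Agent.Helper6

open scoped ComplexConjugate

universe u

variable {G : Type u} [Group G]

section

variable (K : Subgroup G)

local notation "NK" => Subgroup.normalizer (K : Set G)
local notation "K'" => Subgroup.subgroupOf K (Subgroup.normalizer (K : Set G))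

set_option maxHeartbeats 1600000 in
/-- the decomposition of the restriction to the normalizer -/
theorem sc_restrict_decomp [Fintype G]
    (hC : ∀ k ∈ K, k ≠ 1 → Subgroup.centralizer ({k} : Set G) ≤ K)
    (hab : ∀ a ∈ K, ∀ b ∈ K, a * b = b * a)
    (χ : G → ℂ) (hχ : Cfsg.IsCharacter G χ) [Fintype ↥K'] :
    ∃ A B : ℕ, χ 1 = (A : ℂ) + (K.relIndex NK : ℂ) * B ∧
      ∑ k : ↥K', χ k = (Nat.card K : ℂ) * A ∧
      (A = 0 → ∀ n ∈ NK, n ∉ K → χ n = 0) := by
  classical
  haveI : Fintype ↥NK := Fintype.ofFinite _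
  haveI : Finite (Cfsg.IrrCharacter ↥NK) := irr_finite
  haveI : Fintype (Cfsg.IrrCharacter ↥NK) := Fintype.ofFinite _
  haveI hn : (K').Normal := Subgroup.normal_in_normalizer
  have hfree := tifrob_free K hC
  have hresN : Cfsg.IsCharacter ↥NK (fun n : ↥NK => χ n) := IsCharacter.restrict NK hχ
  obtain ⟨c, -, hexp⟩ := char_expansion_nat hresN
  have hcardK : Nat.card ↥K' = Nat.card K :=
    Nat.card_congr (Subgroup.subgroupOfEquivOfLe Subgroup.le_normalizer).toEquiv
  -- degrees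
  have hdex : ∀ θ : Cfsg.IrrCharacter ↥NK, ∃ n : ℕ, 0 < n ∧ (θ : ↥NK → ℂ) 1 = n :=
    fun θ => IsIrrCharacter.apply_one_pos θ.2
  choose d hdpos hd using hdex
  -- the two kinds of characters
  let L : Cfsg.IrrCharacter ↥NK → Prop := fun θ => ∀ k ∈ K', (θ : ↥NK → ℂ) k = (θ : ↥NK → ℂ) 1
  have hcomm : ∀ a b : ↥K', a * b = b * a := by
    intro a b
    apply Subtype.ext
    apply Subtype.ext
    exact hab _ (Subgroup.mem_subgroupOf.mp a.2) _ (Subgroup.mem_subgroupOf.mp b.2)
  have hI : ∀ θ : Cfsg.IrrCharacter ↥NK, ¬ L θ →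
      (∀ n : ↥NK, n ∉ K' → (θ : ↥NK → ℂ) n = 0) ∧ d θ = K.relIndex NK ∧
        ∑ k : ↥K', (θ : ↥NK → ℂ) k = 0 := by
    intro θ hθ
    have hrel : ∃ k ∈ K', (θ : ↥NK → ℂ) k ≠ (θ : ↥NK → ℂ) 1 := by
      simp only [L] at hθ
      push Not at hθ
      exact hθ
    obtain ⟨φ, hφ, -, hind⟩ := irr_eq_ind_of_free K' hfree θ.1 θ.2 hrel
    refine ⟨?_, ?_, ?_⟩
    · intro n hnK
      rw [hind]
      exact indFun_normal_apply_off K' φ n hnK
    · have h1 : (θ : ↥NK → ℂ) 1 = ((K').index : ℂ) * φ 1 := by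
        rw [hind, indFun_apply_one]
      have h2 : φ 1 = 1 :=
        (comm_iff_forall_irr_degree_one (G := ↥K')).mp hcomm ⟨φ, hφ⟩
      rw [h2, mul_one, hd θ] at h1
      have : d θ = (K').index := by exact_mod_cast h1
      rw [this]
      rfl
    · rw [sum_normal_irr K' θ.2, if_neg]
      simp only [L] at hθ
      exact hθ
  have hLsum : ∀ θ : Cfsg.IrrCharacter ↥NK, L θ →
      ∑ k : ↥K', (θ : ↥NK → ℂ) k = (Nat.card K : ℂ) * d θ := by
    intro θ hθ
    rw [sum_normal_irr K' θ.2, if_pos hθ, hcardK, hd θ]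
  refine ⟨∑ θ ∈ Finset.univ.filter L, c θ * d θ,
    ∑ θ ∈ Finset.univ.filter (fun θ => ¬ L θ), c θ, ?_, ?_, ?_⟩
  · have h1 := hexp 1
    simp only [Subgroup.coe_one] at h1
    rw [h1, ← Finset.sum_filter_add_sum_filter_not Finset.univ L]
    push_cast
    congr 1
    · apply Finset.sum_congr rfl
      intro θ _
      rw [hd θ]
    · rw [Finset.mul_sum]
      apply Finset.sum_congr rfl
      intro θ hθ
      rw [hd θ, (hI θ (Finset.mem_filter.mp hθ).2).2.1]
      ring
  · have h1 : ∑ k : ↥K', χ k =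
        ∑ θ : Cfsg.IrrCharacter ↥NK, (c θ : ℂ) * ∑ k : ↥K', (θ : ↥NK → ℂ) k := by
      simp_rw [Finset.mul_sum]
      rw [Finset.sum_comm]
      apply Finset.sum_congr rfl
      intro k _
      exact hexp k
    rw [h1, ← Finset.sum_filter_add_sum_filter_not Finset.univ L]
    have h2 : ∑ θ ∈ Finset.univ.filter (fun θ => ¬ L θ),
        (c θ : ℂ) * ∑ k : ↥K', (θ : ↥NK → ℂ) k = 0 := by
      apply Finset.sum_eq_zero
      intro θ hθ
      rw [(hI θ (Finset.mem_filter.mp hθ).2).2.2, mul_zero]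
    rw [h2, add_zero]
    push_cast
    rw [Finset.mul_sum]
    apply Finset.sum_congr rfl
    intro θ hθ
    rw [hLsum θ (Finset.mem_filter.mp hθ).2]
    ring
  · intro hA n hnN hnK
    have h1 := hexp ⟨n, hnN⟩
    simp only at h1
    rw [h1]
    apply Finset.sum_eq_zero
    intro θ _
    by_cases hθ : L θ
    · have h2 : c θ * d θ = 0 := by
        have := Finset.sum_eq_zero_iff.mp hA θ (Finset.mem_filter.mpr ⟨Finset.mem_univ _, hθ⟩)
        exact this
      have h3 : c θ = 0 := by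
        rcases Nat.mul_eq_zero.mp h2 with h | h
        · exact h
        · have := hdpos θ
          omega
      rw [h3]
      simp
    · rw [(hI θ hθ).1 ⟨n, hnN⟩ (fun h => hnK (Subgroup.mem_subgroupOf.mp h)), mul_zero]

end

end Cfsg.Agent.Helper6
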