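import Mathlib
import Cfsg.Prelude.Def_Characters
import Cfsg.Agent.Helper6.ScDetE

/-!
# Characters of degree `|K| - 1` vanish on `N_G(K) \ K`: the Bessel argument
-/

set_option autoImplicit false
set_option linter.style.haveILetI false

namespace Cfsg.Agent.Helper6

open scoped ComplexConjugate

universe u

variable {G : Type u} [Group G]

section

variable (K : Subgroup G)

local notation "NK" => Subgroup.normalizer (K : Set G)
local notation "K'" => Subgroup.subgroupOf K (Subgroup.normalizer (K : Set G))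

theorem scInd_mul_conj (n : ↥NK) : scInd K n * conj (scInd K n) = scInd K n * 1 := by
  classical
  unfold scInd
  split_ifs <;> simp

/-- the arithmetic contradiction -/
theorem sc_arith (Q E A : ℝ) (hQ : 1 ≤ Q) (hE : 2 ≤ E) (hA : E ≤ A)
    (h : ((Q - 1) / (Q * E)) ^ 2 + ((Q * A - (Q - 1)) / (Q * E)) ^ 2 ≤ (Q - 1) / (Q * E)) :
    False := by
  have hQE : 0 < Q * E := by positivity
  have h1 : (Q - 1) ^ 2 + (Q * A - (Q - 1)) ^ 2 ≤ (Q - 1) * (Q * E) := by
    have h2 : ((Q - 1) / (Q * E)) ^ 2 + ((Q * A - (Q - 1)) / (Q * E)) ^ 2 =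
        ((Q - 1) ^ 2 + (Q * A - (Q - 1)) ^ 2) / (Q * E) ^ 2 := by
      field_simp
    rw [h2, div_le_div_iff₀ (by positivity) hQE] at h
    have h3 : ((Q - 1) ^ 2 + (Q * A - (Q - 1)) ^ 2) * (Q * E) ≤ ((Q - 1) * (Q * E)) * (Q * E) := by
      calc ((Q - 1) ^ 2 + (Q * A - (Q - 1)) ^ 2) * (Q * E) ≤ (Q - 1) * (Q * E) ^ 2 := h
        _ = ((Q - 1) * (Q * E)) * (Q * E) := by ring
    exact le_of_mul_le_mul_right h3 hQE
  have hX : Q * (E - 1) + 1 ≤ Q * A - (Q - 1) := by nlinarith
  have hX2 : (Q * (E - 1) + 1) * (Q + 1) ≤ (Q * A - (Q - 1)) ^ 2 := by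
    have h4 : Q + 1 ≤ Q * (E - 1) + 1 := by nlinarith
    have h5 : 0 ≤ Q * (E - 1) + 1 := by nlinarith
    nlinarith
  nlinarith

set_option maxHeartbeats 1600000 in
/-- an irreducible character of degree `|K| - 1` vanishes on `N_G(K) \ K` -/
theorem sc_vanish_off [Fintype G]
    (hTI : ∀ g : G, g ∉ NK → ∀ k ∈ K, g * k * g⁻¹ ∈ K → k = 1)
    (hC : ∀ k ∈ K, k ≠ 1 → Subgroup.centralizer ({k} : Set G) ≤ K)
    (hab : ∀ a ∈ K, ∀ b ∈ K, a * b = b * a)
    (χ : G → ℂ) (hχ : Cfsg.IsIrrCharacter G χ) (hdeg : χ 1 + 1 = (Nat.card K : ℂ))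
    (he2 : 2 ≤ K.relIndex NK) (hdvd : K.relIndex NK ∣ Nat.card K - 1) :
    ∀ n ∈ NK, n ∉ K → χ n = 0 := by
  classical
  haveI : Fintype ↥NK := Fintype.ofFinite _
  haveI : Fintype ↥K' := Fintype.ofFinite _
  obtain ⟨A, B, h1, h2, h3⟩ := sc_restrict_decomp K hC hab χ (IsIrrCharacter.isCharacter hχ)
  apply h3
  by_contra hA
  set q := Nat.card K with hq
  set e := K.relIndex NK with he
  have hq1 : 1 ≤ q := Nat.card_pos
  -- natural number identities
  have hnat : A + e * B + 1 = q := by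
    have : ((A + e * B + 1 : ℕ) : ℂ) = (q : ℂ) := by
      push_cast
      rw [← h1]
      exact hdeg
    exact_mod_cast this
  have hdvdA : e ∣ A := by
    have h4 : e ∣ A + e * B := by
      have : q - 1 = A + e * B := by omega
      rw [← this]
      exact hdvd
    exact (Nat.dvd_add_left (dvd_mul_right e B)).mp h4
  have hAe : e ≤ A := Nat.le_of_dvd (Nat.pos_of_ne_zero hA) hdvdA
  have hχ1 : χ 1 = (q : ℂ) - 1 := by
    rw [← hdeg]
    ring
  have hcardK : Nat.card ↥K' = q :=
    Nat.card_congr (Subgroup.subgroupOfEquivOfLe Subgroup.le_normalizer).toEquiv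
  have hcardN : Nat.card ↥NK = q * e := by
    rw [← Subgroup.card_mul_index K', hcardK]
    rfl
  have hNinv : ((Nat.card ↥NK : ℂ))⁻¹ = (((q : ℝ) * (e : ℝ))⁻¹ : ℝ) := by
    rw [hcardN]
    push_cast
    rfl
  -- the indicator
  have hΘcf := scInd_isClassFunction K
  have hsum1 : ∑ n : ↥NK, scInd K n * 1 = (q : ℂ) - 1 := by
    have := sum_scInd_mul K (fun _ => (1 : ℂ))
    rw [this]
    simp [← Nat.card_eq_fintype_card, hcardK]
  have hnorm : Cfsg.classInner (Cfsg.indFun NK (scInd K)) (Cfsg.indFun NK (scInd K)) =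
      (((q : ℝ) - 1) / ((q : ℝ) * e) : ℝ) := by
    rw [indFun_TI_inner (K : Set G) hTI (scInd K) (scInd K) hΘcf (scInd_off K) (scInd_off K)
      (scInd_one K), classInner_def, hNinv]
    simp_rw [scInd_mul_conj]
    rw [hsum1]
    push_cast
    ring
  have hone : Cfsg.classInner (Cfsg.indFun NK (scInd K)) (fun _ : G => (1 : ℂ)) =
      (((q : ℝ) - 1) / ((q : ℝ) * e) : ℝ) := by
    rw [frobenius_reciprocity NK (scInd K) _
      (IsCharacter.isClassFunction (IsIrrCharacter.isCharacter isIrrCharacter_one)),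
      classInner_def, hNinv]
    simp only [map_one]
    rw [hsum1]
    push_cast
    ring
  have hchi : Cfsg.classInner (Cfsg.indFun NK (scInd K)) χ =
      ((((q : ℝ) * A - ((q : ℝ) - 1)) / ((q : ℝ) * e) : ℝ)) := by
    rw [frobenius_reciprocity NK (scInd K) _
      (IsCharacter.isClassFunction (IsIrrCharacter.isCharacter hχ)), classInner_def, hNinv]
    have := sum_scInd_mul K (fun n : ↥NK => conj (χ n))
    rw [this]
    simp only [Subgroup.coe_one]
    rw [← map_sum, h2, hχ1]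
    simp only [map_mul, map_sub, map_natCast, map_one]
    push_cast
    ring
  have hne : (fun _ : G => (1 : ℂ)) ≠ χ := by
    intro h
    have h5 : χ 1 = 1 := by rw [← h]
    rw [hχ1] at h5
    have h6 : (q : ℂ) = 2 := by linear_combination h5
    have h7 : q = 2 := by exact_mod_cast h6
    have h8 : e ∣ 1 := by
      rw [h7] at hdvd
      exact hdvd
    have := Nat.le_of_dvd one_pos h8
    omega
  have hbessel := bessel_two isIrrCharacter_one hχ hne _ _ _ hone hchi hnorm
  exact sc_arith (q : ℝ) (e : ℝ) (A : ℝ) (by exact_mod_cast hq1) (by exact_mod_cast he2)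
    (by exact_mod_cast hAe) hbessel

end

end Cfsg.Agent.Helper6
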