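import Mathlib
import Cfsg.Agent.Helper6.OddAutG
import Cfsg.Agent.Helper2.BurnsidePrimeOrb

set_option autoImplicit false

/-!
# Schreier's conjecture for simple groups with a subgroup of prime index (part A)

Permutations commuting with a `p`-cycle on `p` points; odd order automorphisms of a doubly
transitive group of prime degree are induced by permutations.
-/

namespace Cfsg.Agent.Helper6.SchreierP

/-- a permutation of order `p` on `p` points has no fixed point. -/
theorem no_fixed_of_order_prime {Ω : Type*} [Fintype Ω] [DecidableEq Ω] {p : ℕ} (hp : p.Prime)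
    (hΩ : Fintype.card Ω = p) (t : Equiv.Perm Ω) (ht : orderOf t = p) :
    t.IsCycle ∧ ∀ x, t x ≠ x := by
  have hcyc : t.IsCycle :=
    Equiv.Perm.isCycle_of_prime_order'' (hΩ ▸ hp) (ht.trans hΩ.symm)
  refine ⟨hcyc, fun x => ?_⟩
  have h1 : t.support.card = Fintype.card Ω := by
    rw [← hcyc.orderOf, ht, hΩ]
  have h2 : t.support = Finset.univ := (Finset.card_eq_iff_eq_univ _).1 h1
  have : x ∈ t.support := by rw [h2]; exact Finset.mem_univ x
  exact Equiv.Perm.mem_support.1 this

/-- a permutation commuting with a permutation of order `p` on `p` points is a power of it. -/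
theorem eq_pow_of_commute {Ω : Type*} [Fintype Ω] [DecidableEq Ω] {p : ℕ} (hp : p.Prime)
    (hΩ : Fintype.card Ω = p) (t : Equiv.Perm Ω) (ht : orderOf t = p)
    (σ : Equiv.Perm Ω) (hσ : σ * t = t * σ) : ∃ i : ℕ, σ = t ^ i := by
  obtain ⟨hcyc, hfix⟩ := no_fixed_of_order_prime hp hΩ t ht
  have hp1 : 1 < p := hp.one_lt
  haveI : Nonempty Ω := Fintype.card_pos_iff.1 (by omega)
  obtain ⟨o⟩ := ‹Nonempty Ω›
  obtain ⟨i, hi⟩ := hcyc.exists_pow_eq (hfix o) (hfix (σ o))
  refine ⟨i, ?_⟩
  have hcomm : ∀ j : ℕ, σ * t ^ j = t ^ j * σ := by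
    intro j
    induction j with
    | zero => simp
    | succ j ih => rw [pow_succ, ← mul_assoc, ih, mul_assoc, hσ, mul_assoc]
  ext ω
  obtain ⟨j, hj⟩ := hcyc.exists_pow_eq (hfix o) (hfix ω)
  rw [← hj]
  have h1 : σ ((t ^ j) o) = (σ * t ^ j) o := rfl
  rw [h1, hcomm j, Equiv.Perm.mul_apply, ← hi, ← Equiv.Perm.mul_apply, ← Equiv.Perm.mul_apply,
    ← pow_add, ← pow_add, add_comm]

end Cfsg.Agent.Helper6.SchreierP
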