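import Mathlib
import Cfsg.Agent.Helper6.SchreierPA

set_option autoImplicit false

/-!
# Schreier's conjecture for simple groups with a subgroup of prime index (part B)

Odd order automorphisms of a group acting faithfully and doubly transitively on `p` points are
induced by permutations.
-/

namespace Cfsg.Agent.Helper6.SchreierP

open MulAction

/-- the order of a permutation group of prime degree `p` is not divisible by `p ^ 2`. -/
theorem not_sq_dvd_card {Ω : Type*} [Fintype Ω] [DecidableEq Ω] {p : ℕ} (hp : p.Prime)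
    (hΩ : Fintype.card Ω = p) (K : Subgroup (Equiv.Perm Ω)) : ¬ p * p ∣ Nat.card K := by
  intro h
  have h1 : Nat.card K ∣ Nat.card (Equiv.Perm Ω) := Subgroup.card_subgroup_dvd_card K
  rw [Nat.card_eq_fintype_card (α := Equiv.Perm Ω), Fintype.card_perm, hΩ] at h1
  have h2 : p * p ∣ p.factorial := h.trans h1
  have hp1 : 1 ≤ p := hp.one_lt.le
  have h3 : p.factorial = p * (p - 1).factorial := by
    obtain ⟨k, rfl⟩ : ∃ k, p = k + 1 := ⟨p - 1, by omega⟩
    rw [Nat.factorial_succ]; simp
  rw [h3] at h2
  have h4 : p ∣ (p - 1).factorial := Nat.dvd_of_mul_dvd_mul_left hp.pos h2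
  have h5 := (Nat.Prime.dvd_factorial hp).1 h4
  omega

/-- odd order automorphisms of a group acting faithfully and doubly transitively on `p`
points are induced by permutations. -/
theorem odd_aut_perm {G Ω : Type*} [Group G] [Fintype Ω] [DecidableEq Ω]
    [MulAction G Ω] {p : ℕ} (hp : p.Prime) (hΩ : Fintype.card Ω = p)
    (hf : Function.Injective (MulAction.toPermHom G Ω))
    (h2 : IsMultiplyPretransitive (MulAction.toPermHom G Ω).range Ω 2)
    (α : MulAut G) (hα : Odd (orderOf α)) :
    ∃ σ : Equiv.Perm Ω, ∀ g : G,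
      MulAction.toPermHom G Ω (α g) = σ * MulAction.toPermHom G Ω g * σ⁻¹ := by
  classical
  set f := MulAction.toPermHom G Ω with hfdef
  set G' := f.range with hG'
  let e : G ≃* G' := MonoidHom.ofInjective hf
  let α' : MulAut G' := MulAut.congr e α
  have hα' : Odd (orderOf α') := by
    have : orderOf α' = orderOf α := MulEquiv.orderOf_eq (MulAut.congr e) α
    rw [this]; exact hα
  have hp1 : 1 < p := hp.one_lt
  haveI : Nonempty Ω := Fintype.card_pos_iff.1 (by omega)
  obtain ⟨o⟩ := ‹Nonempty Ω›
  haveI : IsPretransitive G' Ω := isPretransitive_of_is_two_pretransitive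
  have hidx : (stabilizer G' o).index = p := by
    rw [index_stabilizer_of_transitive G' o, Nat.card_eq_fintype_card, hΩ]
  have hHall : (Nat.card (stabilizer G' o)).Coprime (stabilizer G' o).index := by
    rw [hidx]
    refine Nat.Coprime.symm ((Nat.Prime.coprime_iff_not_dvd hp).2 fun hd => ?_)
    apply not_sq_dvd_card hp hΩ G'
    rw [← Subgroup.card_mul_index (stabilizer G' o), hidx]
    exact Nat.mul_dvd_mul_right hd p
  obtain ⟨σ, -, hσ⟩ :=
    Cfsg.Agent.Helper6.OddAut.hall_stabilizer_odd_aut_permutational G' h2 o hHall α' hα'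
  refine ⟨σ, fun g => ?_⟩
  have h1 := hσ (e g)
  have h3 : α' (e g) = e (α g) := by
    simp [α']
  rw [h3] at h1
  exact h1

end Cfsg.Agent.Helper6.SchreierP
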