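import Mathlib
import Cfsg.Prelude.Def_KGroupFacts
import Cfsg.Agent.Helper6.SchreierPB

set_option autoImplicit false

/-!
# Schreier's conjecture for simple groups with a subgroup of prime index (part C)

The outer automorphism group of a doubly transitive group of prime degree with trivial centre is
solvable.
-/

namespace Cfsg.Agent.Helper6.SchreierP

open MulAction

/-- a finite group in which the odd order elements lie in a normal abelian subgroup is solvable. -/
theorem solvable_of_odd_mem {C : Type*} [Group C] [Finite C] (Q : Subgroup C) [Q.Normal]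
    (hQ : ∀ a b : Q, a * b = b * a)
    (hodd : ∀ c : C, Odd (orderOf c) → c ∈ Q) : Group.IsSolvable C := by
  haveI : Group.IsSolvable Q := Group.isSolvable_of_comm hQ
  have hP : IsPGroup 2 (C ⧸ Q) := by
    intro y
    obtain ⟨c, rfl⟩ := QuotientGroup.mk_surjective y
    have hc : 0 < orderOf c := orderOf_pos c
    obtain ⟨k, m, hm, hkm⟩ := Nat.exists_eq_two_pow_mul_odd hc.ne'
    refine ⟨k, ?_⟩
    rw [← QuotientGroup.mk_pow, QuotientGroup.eq_one_iff]
    apply hodd
    have : orderOf (c ^ 2 ^ k) = m := by
      rw [orderOf_pow' c (by positivity), hkm]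
      have : Nat.gcd (2 ^ k * m) (2 ^ k) = 2 ^ k := Nat.gcd_eq_right (dvd_mul_right _ _)
      rw [this]
      exact Nat.mul_div_cancel_left m (by positivity)
    rw [this]; exact hm
  haveI : Group.IsNilpotent (C ⧸ Q) := hP.isNilpotent
  haveI : Group.IsSolvable (C ⧸ Q) := inferInstance
  exact Group.isSolvable_of_ker_le_range Q.subtype (QuotientGroup.mk' Q) (by simp)

/-- the outer automorphism group of a centreless group acting faithfully and doubly
transitively on a prime number of points is solvable. -/
theorem out_solvable {G Ω : Type*} [Group G] [Finite G] [Fintype Ω] [DecidableEq Ω]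
    [MulAction G Ω] {p : ℕ} (hp : p.Prime) (hΩ : Fintype.card Ω = p)
    (hf : Function.Injective (MulAction.toPermHom G Ω))
    (h2 : IsMultiplyPretransitive (MulAction.toPermHom G Ω).range Ω 2)
    (hZ : ∀ z : G, (∀ g : G, g * z = z * g) → z = 1) :
    Group.IsSolvable (Cfsg.Out G) := by
  classical
  haveI : Fact p.Prime := ⟨hp⟩
  set f := MulAction.toPermHom G Ω with hfdef
  have hconj : Function.Injective (MulAut.conj : G →* MulAut G) := by
    rw [injective_iff_map_eq_one]
    intro z hz
    apply hZ
    intro g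
    have := congrArg (fun β : MulAut G => β g) hz
    simp only [MulAut.conj_apply, MulAut.one_apply] at this
    calc g * z = (z * g * z⁻¹) * z := by rw [this]
      _ = z * g := by group
  have hcard : (Nat.card G).factorization p = 1 := by
    set G' := f.range
    let e : G ≃* G' := MonoidHom.ofInjective hf
    have hc : Nat.card G = Nat.card G' := Nat.card_congr e.toEquiv
    haveI : IsPretransitive G' Ω := isPretransitive_of_is_two_pretransitive
    have hp1 : 1 < p := hp.one_lt
    haveI : Nonempty Ω := Fintype.card_pos_iff.1 (by omega)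
    obtain ⟨o⟩ := ‹Nonempty Ω›
    have hidx : (stabilizer G' o).index = p := by
      rw [index_stabilizer_of_transitive G' o, Nat.card_eq_fintype_card, hΩ]
    have hdvd : p ∣ Nat.card G' := hidx ▸ Subgroup.index_dvd_card _
    have hnd : ¬ p * p ∣ Nat.card G' := not_sq_dvd_card hp hΩ G'
    rw [hc]
    have hne : Nat.card G' ≠ 0 := Nat.card_pos.ne'
    apply le_antisymm
    · by_contra hlt
      push Not at hlt
      apply hnd
      have := (hp.pow_dvd_iff_le_factorization hne).2 hlt
      simpa [pow_two] using this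
    · exact (hp.pow_dvd_iff_le_factorization hne).1 (by simpa using hdvd)
  haveI : Finite (MulAut G) := inferInstance
  let P : Sylow p (Cfsg.Inn G) := default
  set Q : Subgroup (MulAut G) := (P : Subgroup (Cfsg.Inn G)).map (Cfsg.Inn G).subtype with hQdef
  have hfr : Subgroup.normalizer (Q : Set (MulAut G)) ⊔ Cfsg.Inn G = ⊤ :=
    Sylow.normalizer_sup_eq_top P
  have hInn : Nat.card (Cfsg.Inn G) = Nat.card G :=
    (Nat.card_congr (MonoidHom.ofInjective hconj).toEquiv).symm
  have hQcard : Nat.card Q = p := by
    rw [hQdef, Subgroup.card_map_of_injective (Subgroup.subtype_injective _),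
      Sylow.card_eq_multiplicity, hInn, hcard, pow_one]
  have hQle : Q ≤ Cfsg.Inn G := by
    rintro _ ⟨y, -, rfl⟩
    exact y.2
  haveI : IsCyclic Q := isCyclic_of_prime_card hQcard
  obtain ⟨q, hq⟩ := IsCyclic.exists_generator (α := Q)
  obtain ⟨x, hx⟩ : ∃ x : G, MulAut.conj x = (q : MulAut G) := hQle q.2
  have hxQ : ∀ β ∈ Q, ∃ k : ℤ, β = MulAut.conj (x ^ k) := by
    intro β hβ
    obtain ⟨k, hk⟩ := Subgroup.mem_zpowers_iff.1 (hq ⟨β, hβ⟩)
    refine ⟨k, ?_⟩
    have h1 := congrArg Subtype.val hk
    simp only [Subgroup.coe_zpow] at h1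
    rw [map_zpow, hx, h1]
  have hxmem : ∀ k : ℕ, MulAut.conj (x ^ k) ∈ Q := by
    intro k
    rw [map_pow, hx]
    exact Q.pow_mem q.2 k
  have hordx : orderOf x = p := by
    rw [← orderOf_injective (MulAut.conj : G →* MulAut G) hconj x, hx, Subgroup.orderOf_coe,
      orderOf_eq_card_of_forall_mem_zpowers hq, hQcard]
  have hkey : ∀ α : MulAut G, α ∈ Subgroup.centralizer (Q : Set (MulAut G)) →
      Odd (orderOf α) → α ∈ Q := by
    intro α hα hodd
    obtain ⟨σ, hσ⟩ := odd_aut_perm hp hΩ hf h2 α hodd
    have hcx : α * MulAut.conj x = MulAut.conj x * α := by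
      have := Subgroup.mem_centralizer_iff.1 hα (MulAut.conj x) (by rw [hx]; exact q.2)
      exact this.symm
    have hax : α x = x := by
      apply hconj
      have h1 : MulAut.conj (α x) = α * MulAut.conj x * α⁻¹ := by
        ext g
        simp [MulAut.conj_apply, map_mul, map_inv]
      rw [h1, hcx, mul_inv_cancel_right]
    have hσt : σ * f x = f x * σ := by
      have := hσ x
      rw [hax] at this
      calc σ * f x = (σ * f x * σ⁻¹) * σ := by group
        _ = f x * σ := by rw [← this]
    have hordt : orderOf (f x) = p := by rw [orderOf_injective f hf x, hordx]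
    obtain ⟨i, hi⟩ := eq_pow_of_commute hp hΩ (f x) hordt σ hσt
    have : α = MulAut.conj (x ^ i) := by
      ext g
      apply hf
      rw [hσ g, hi, MulAut.conj_apply, map_mul, map_mul, map_inv, map_pow]
    rw [this]
    exact hxmem i
  set C0 := Subgroup.centralizer (Q : Set (MulAut G)) with hC0
  have hQC : Q ≤ C0 := by
    intro β hβ
    rw [hC0, Subgroup.mem_centralizer_iff]
    intro γ hγ
    obtain ⟨k, rfl⟩ := hxQ β hβ
    obtain ⟨l, rfl⟩ := hxQ γ hγ
    rw [← map_mul, ← map_mul, ← zpow_add, ← zpow_add, add_comm]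
  haveI : (Q.subgroupOf C0).Normal := by
    constructor
    intro β hβ c
    rw [Subgroup.mem_subgroupOf] at hβ ⊢
    have h1 := Subgroup.mem_centralizer_iff.1 c.2 _ hβ
    have h3 : ((c * β * c⁻¹ : C0) : MulAut G) = β := by
      rw [Subgroup.coe_mul, Subgroup.coe_mul, Subgroup.coe_inv, ← h1, mul_inv_cancel_right]
    rw [h3]
    exact hβ
  have hC0solv : Group.IsSolvable C0 := by
    apply solvable_of_odd_mem (Q.subgroupOf C0)
    · intro a b
      apply Subtype.ext
      apply Subtype.ext
      have h1 := Subgroup.mem_centralizer_iff.1 a.1.2 _ (Subgroup.mem_subgroupOf.1 b.2)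
      simpa using h1.symm
    · intro c hc
      rw [Subgroup.mem_subgroupOf]
      apply hkey _ c.2
      rwa [Subgroup.orderOf_coe]
  set X := Subgroup.normalizer (Q : Set (MulAut G)) with hX
  have hXsolv : Group.IsSolvable X := by
    let φ := Q.normalizerMonoidHom
    haveI : Group.IsSolvable (MulAut Q) :=
      Group.isSolvable_of_isSolvable_injective (f := (IsCyclic.mulAutMulEquiv Q).toMonoidHom)
        (IsCyclic.mulAutMulEquiv Q).injective
    have hk := Q.normalizerMonoidHom_ker
    have hker : ∀ z : X, z ∈ φ.ker → (z : MulAut G) ∈ C0 := by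
      intro z hz
      have hz' : z ∈ Q.normalizerMonoidHom.ker := hz
      rw [hk, Subgroup.mem_subgroupOf] at hz'
      exact hz'
    let ι : φ.ker →* C0 := (X.subtype.comp φ.ker.subtype).codRestrict C0
      (fun y => hker y.1 y.2)
    have hι : Function.Injective ι := by
      intro a b hab
      have h1 := congrArg Subtype.val hab
      exact Subtype.ext (Subtype.ext h1)
    haveI : Group.IsSolvable φ.ker := Group.isSolvable_of_isSolvable_injective hι
    exact Group.isSolvable_of_ker_le_range φ.ker.subtype φ (by simp)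
  let ψ : X →* Cfsg.Out G := (QuotientGroup.mk' (Cfsg.Inn G)).comp X.subtype
  apply Group.isSolvable_of_surjective (f := ψ)
  intro y
  obtain ⟨a, rfl⟩ := QuotientGroup.mk_surjective y
  have ha : a ∈ X ⊔ Cfsg.Inn G := by rw [hfr]; trivial
  rw [← SetLike.mem_coe, Subgroup.mul_normal] at ha
  obtain ⟨b, hb, c, hc, rfl⟩ := Set.mem_mul.1 ha
  refine ⟨⟨b, hb⟩, ?_⟩
  show (QuotientGroup.mk b : Cfsg.Out G) = QuotientGroup.mk (b * c)
  rw [QuotientGroup.mk_mul, (QuotientGroup.eq_one_iff c).2 hc, mul_one]

end Cfsg.Agent.Helper6.SchreierP
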