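import Mathlib
import Cfsg.Prelude.Def_KGroupFacts
import Cfsg.Agent.Helper6.SchreierPC

set_option autoImplicit false

/-!
# Schreier's conjecture for simple groups with a subgroup of prime index (part D)
-/

namespace Cfsg.Agent.Helper6.SchreierP

open MulAction Cfsg.Agent.Helper2

/-- the outer automorphism group of an abelian simple group is solvable. -/
theorem out_solvable_of_comm {G : Type*} [Group G] [IsSimpleGroup G]
    (hab : ∀ a b : G, a * b = b * a) : Group.IsSolvable (Cfsg.Out G) := by
  haveI : IsCyclic G := by
    letI : CommGroup G := { ‹Group G› with mul_comm := hab }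
    exact IsSimpleGroup.isCyclic
  haveI : Group.IsSolvable (MulAut G) :=
    Group.isSolvable_of_isSolvable_injective (f := (IsCyclic.mulAutMulEquiv G).toMonoidHom)
      (IsCyclic.mulAutMulEquiv G).injective
  infer_instance

/-- S4277: a case of the Schreier conjecture. -/
theorem schreier_prime_index {G : Type*} [Group G] [Finite G] [IsSimpleGroup G]
    (H : Subgroup G) (hH : H.index.Prime) : Group.IsSolvable (Cfsg.Out G) := by
  classical
  by_cases hab : ∀ a b : G, a * b = b * a
  · exact out_solvable_of_comm hab
  haveI : Fintype (G ⧸ H) := Fintype.ofFinite _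
  have hΩ : Fintype.card (G ⧸ H) = H.index := by
    rw [Subgroup.index_eq_card, Nat.card_eq_fintype_card]
  set f := MulAction.toPermHom G (G ⧸ H) with hfdef
  have hHtop : H ≠ ⊤ := by
    intro h
    rw [h, Subgroup.index_top] at hH
    exact Nat.not_prime_one hH
  have hker : f.ker = ⊥ := by
    rcases (inferInstance : f.ker.Normal).eq_bot_or_eq_top with h | h
    · exact h
    · exfalso
      apply hHtop
      rw [eq_top_iff]
      intro g _
      have hg : g ∈ f.ker := by rw [h]; trivial
      rw [MonoidHom.mem_ker] at hg
      have h1 := congrArg (fun σ : Equiv.Perm (G ⧸ H) => σ ((1 : G) : G ⧸ H)) hg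
      simp only [hfdef, MulAction.toPermHom_apply, MulAction.toPerm_apply,
        Equiv.Perm.coe_one, id_eq] at h1
      rw [MulAction.Quotient.smul_mk, smul_eq_mul, mul_one] at h1
      have h2 := QuotientGroup.eq.1 h1
      simpa using H.inv_mem h2
  have hf : Function.Injective f := (MonoidHom.ker_eq_bot_iff f).1 hker
  haveI : IsPretransitive f.range (G ⧸ H) := by
    constructor
    intro a b
    obtain ⟨g, hg⟩ := MulAction.exists_smul_eq G a b
    exact ⟨⟨f g, ⟨g, rfl⟩⟩, hg⟩
  have h2 : IsMultiplyPretransitive f.range (G ⧸ H) 2 := by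
    by_contra h2
    apply hab
    rw [IsSimpleGroup.comm_iff_isSolvable]
    haveI : Fact (Fintype.card (G ⧸ H)).Prime := ⟨hΩ ▸ hH⟩
    obtain ⟨τ, hτG, e, hτ⟩ :=
      BurnsidePrime.exists_cycle_equiv (p := Fintype.card (G ⧸ H)) rfl f.range
    haveI : Group.IsSolvable f.range :=
      BurnsidePrime.isSolvable_of_AffG (K := ZMod (Fintype.card (G ⧸ H))) e f.range
        (BurnsidePrime.AffG_of_not_two_transitive e f.range τ hτG hτ h2)
    exact Group.isSolvable_of_isSolvable_injective
      (f := (MonoidHom.ofInjective hf).toMonoidHom) (MonoidHom.ofInjective hf).injective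
  have hZ : ∀ z : G, (∀ g : G, g * z = z * g) → z = 1 := by
    intro z hz
    rcases (inferInstance : (Subgroup.center G).Normal).eq_bot_or_eq_top with h | h
    · have : z ∈ Subgroup.center G := Subgroup.mem_center_iff.2 hz
      rw [h] at this
      exact Subgroup.mem_bot.1 this
    · exfalso
      apply hab
      intro a b
      have hb : b ∈ Subgroup.center G := by rw [h]; trivial
      exact (Subgroup.mem_center_iff.1 hb a)
  exact out_solvable hH hΩ hf h2 hZ

end Cfsg.Agent.Helper6.SchreierP
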