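import Mathlib
import Cfsg.Agent.Helper6.GaloisSum

/-!
# Sums of `n`-th roots of unity lying in a cyclotomic field of coprime conductor are rational
-/

set_option autoImplicit false
set_option linter.style.haveILetI false

namespace Cfsg.Agent.Helper6

open Polynomial

theorem powSum_coprime_aux (n r : ℕ) [NeZero n] [NeZero r] (hcop : n.Coprime r)
    {L : Type*} [Field L] [Algebra ℚ L] [hN : NeZero (n * r)]
    [IsCyclotomicExtension {n * r} ℚ L]
    {ι : Type*} [Fintype ι] (μ : ι → ℂ) (hμ : ∀ i, μ i ^ n = 1)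
    (hs : ∑ i, μ i ∈ IntermediateField.adjoin ℚ
      ({Complex.exp (2 * Real.pi * Complex.I / r)} : Set ℂ))
    (j : ℕ) (hj : j.Coprime n) : ∑ i, μ i ^ j = ∑ i, μ i := by
  classical
  set N := n * r with hNdef
  have hμN : ∀ i, μ i ^ N = 1 := fun i => by rw [hNdef, pow_mul, hμ, one_pow]
  obtain ⟨⟨j', hj'n, hj'r⟩⟩ : Nonempty {k // k ≡ j [MOD n] ∧ k ≡ 1 [MOD r]} :=
    ⟨Nat.chineseRemainder hcop j 1⟩
  have hj'cn : j'.Coprime n := by
    unfold Nat.Coprime
    rw [Nat.ModEq.gcd_eq hj'n]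
    exact hj
  have hj'cr : j'.Coprime r := by
    unfold Nat.Coprime
    rw [Nat.ModEq.gcd_eq hj'r]
    exact Nat.gcd_one_left r
  have hj'N : j'.Coprime N := Nat.Coprime.mul_right hj'cn hj'cr
  obtain ⟨φ, α, -, hσ⟩ := galois_core N (L := L) μ hμN
  have hφinj : Function.Injective φ := φ.toRingHom.injective
  set e := IsCyclotomicExtension.autEquivPow L (cyclotomic.irreducible_rat (NeZero.pos N)) with he
  have hone : φ α = ∑ i, μ i := by
    have h1 := hσ 1
    rw [map_one] at h1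
    rw [AlgEquiv.one_apply] at h1
    rw [h1]
    apply Finset.sum_congr rfl
    intro i _
    rw [Units.val_one]
    exact pow_one_val_eq N (hμN i)
  set σ : Gal(L/ℚ) := e.symm (ZMod.unitOfCoprime j' hj'N) with hσdef
  have heσ : ((e σ : (ZMod N)ˣ) : ZMod N).val = j' % N := by
    rw [hσdef, MulEquiv.apply_symm_apply, ZMod.coe_unitOfCoprime, ZMod.val_natCast]
  have hσα : φ (σ α) = ∑ i, μ i ^ j := by
    rw [hσ σ]
    apply Finset.sum_congr rfl
    intro i _
    rw [heσ, ← pow_eq_pow_mod j' (hμN i), pow_eq_pow_mod j' (hμ i), pow_eq_pow_mod j (hμ i)]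
    congr 1
  -- the primitive root
  set ζL := IsCyclotomicExtension.zeta N ℚ L with hζL
  have hζLprim : IsPrimitiveRoot ζL N := IsCyclotomicExtension.zeta_spec N ℚ L
  have hσζ : σ ζL = ζL ^ j' := by
    have hspec := hζLprim.autToPow_spec ℚ σ
    rw [← hspec]
    have : (hζLprim.autToPow ℚ σ : ZMod N).val = j' % N := by
      rw [← heσ, he, IsCyclotomicExtension.autEquivPow_apply]
      rfl
    rw [this, ← pow_eq_pow_mod j' hζLprim.pow_eq_one]
  set η := ζL ^ n with hη
  have hηprim : IsPrimitiveRoot η r := hζLprim.pow (NeZero.pos N) hNdef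
  have hφη : IsPrimitiveRoot (φ η) r := hηprim.map_of_injective hφinj
  have hω : (Complex.exp (2 * Real.pi * Complex.I / r)) ^ r = 1 :=
    (Complex.isPrimitiveRoot_exp r (NeZero.ne r)).pow_eq_one
  obtain ⟨c, -, hc⟩ := hφη.eq_pow_of_pow_eq_one hω
  set θ := η ^ c with hθ
  have hφθ : φ θ = Complex.exp (2 * Real.pi * Complex.I / r) := by
    rw [hθ, map_pow, hc]
  have hθr : θ ^ r = 1 := by
    rw [hθ, ← pow_mul, mul_comm, pow_mul, hηprim.pow_eq_one, one_pow]
  have hσθ : σ θ = θ := by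
    have h1 : σ θ = θ ^ j' := by
      rw [hθ, hη, map_pow, map_pow, hσζ, ← pow_mul, ← pow_mul, ← pow_mul, ← pow_mul]
      congr 1
      ring
    rw [h1, pow_eq_pow_mod j' hθr, hj'r, ← pow_eq_pow_mod 1 hθr, pow_one]
  -- `α` lies in `ℚ(θ)`
  have hαmem : α ∈ IntermediateField.adjoin ℚ ({θ} : Set L) := by
    rw [← hone, ← hφθ] at hs
    have h2 : IntermediateField.adjoin ℚ ({φ θ} : Set ℂ) =
        (IntermediateField.adjoin ℚ ({θ} : Set L)).map φ := by
      rw [IntermediateField.adjoin_map, Set.image_singleton]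
    rw [h2] at hs
    obtain ⟨β, hβ, hβα⟩ := hs
    have : β = α := hφinj hβα
    rw [← this]
    exact hβ
  have hθint : IsIntegral ℚ θ := by
    haveI : FiniteDimensional ℚ L := IsCyclotomicExtension.finiteDimensional {N} ℚ L
    exact IsIntegral.of_finite ℚ θ
  have hσfix : σ α = α := by
    have h3 : α ∈ (IntermediateField.adjoin ℚ ({θ} : Set L)).toSubalgebra := hαmem
    rw [IntermediateField.adjoin_simple_toSubalgebra_of_isAlgebraic hθint.isAlgebraic,
      Algebra.adjoin_singleton_eq_range_aeval] at h3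
    obtain ⟨P, hP⟩ := h3
    have hP' : Polynomial.aeval θ P = α := hP
    rw [← hP']
    have := Polynomial.aeval_algHom_apply (σ : L →ₐ[ℚ] L) θ P
    rw [AlgEquiv.coe_toAlgHom] at this
    rw [← this, hσθ]
  rw [← hσα, hσfix, hone]

/-- a sum of `n`-th roots of unity lying in the `r`-th cyclotomic field, `r` coprime to `n`, is
rational -/
theorem powSum_rational_of_mem_adjoin (n r : ℕ) [NeZero n] [NeZero r] (hcop : n.Coprime r)
    {ι : Type*} [Fintype ι] (μ : ι → ℂ) (hμ : ∀ i, μ i ^ n = 1)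
    (hs : ∑ i, μ i ∈ IntermediateField.adjoin ℚ
      ({Complex.exp (2 * Real.pi * Complex.I / r)} : Set ℂ)) :
    ∃ q : ℚ, ∑ i, μ i = q := by
  rw [← (powSum_facts n μ hμ).2.2]
  intro k
  haveI : NeZero (n * r) := ⟨Nat.mul_ne_zero (NeZero.ne n) (NeZero.ne r)⟩
  exact @powSum_coprime_aux n r _ _ hcop (CyclotomicField (n * r) ℚ) _
    (CyclotomicField.algebra (n * r) ℚ) _
    (CyclotomicField.isCyclotomicExtension (n * r) ℚ) ι _ μ hμ hs _
    (ZMod.val_coe_unit_coprime k)

end Cfsg.Agent.Helper6
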