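import Mathlib
import Cfsg.Prelude.Def_Characters
import Cfsg.Prelude.Def_Blocks
import Cfsg.Agent.Helper6.SchurB
import Cfsg.Agent.Helper6.Brauer8
import Cfsg.Agent.Helper6.NormTwo
import Cfsg.Agent.Helper6.OddReal

/-!
# Schur's bound on the order of a `p`-group with a faithful rational-valued character
-/

set_option autoImplicit false
set_option linter.style.haveILetI false

namespace Cfsg.Agent.Helper6

open Module Representation
open scoped ComplexConjugate

universe u

variable {P : Type u} [Group P]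

theorem IsGeneralizedCharacter.nat_mul {f : P → ℂ} (hf : Cfsg.IsGeneralizedCharacter P f)
    (k : ℕ) : Cfsg.IsGeneralizedCharacter P (fun x => (k : ℂ) * f x) := by
  induction k with
  | zero =>
    have : (fun x => ((0 : ℕ) : ℂ) * f x) = (0 : P → ℂ) := by
      funext x
      simp
    rw [this]
    exact IsGeneralizedCharacter.zero
  | succ k ih =>
    have : (fun x => ((k + 1 : ℕ) : ℂ) * f x) = (fun x => (k : ℂ) * f x) + f := by
      funext x
      simp only [Pi.add_apply]
      push_cast
      ring
    rw [this]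
    exact IsGeneralizedCharacter.add ih hf

theorem IsGeneralizedCharacter.int_mul {f : P → ℂ} (hf : Cfsg.IsGeneralizedCharacter P f)
    (z : ℤ) : Cfsg.IsGeneralizedCharacter P (fun x => (z : ℂ) * f x) := by
  rcases Int.eq_nat_or_neg z with ⟨k, rfl | rfl⟩
  · exact_mod_cast IsGeneralizedCharacter.nat_mul hf k
  · have : (fun x => (((-(k : ℤ)) : ℤ) : ℂ) * f x) = -(fun x => (k : ℂ) * f x) := by
      funext x
      simp only [Pi.neg_apply]
      push_cast
      ring
    rw [this]
    exact IsGeneralizedCharacter.neg (IsGeneralizedCharacter.nat_mul hf k)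

/-- the sum of the values of a generalized character is an integer multiple of the order -/
theorem IsGeneralizedCharacter.sum_eq [Fintype P] {f : P → ℂ}
    (hf : Cfsg.IsGeneralizedCharacter P f) :
    ∃ N : ℤ, ∑ x : P, f x = (Nat.card P : ℂ) * N := by
  obtain ⟨N, hN⟩ := IsGeneralizedCharacter.classInner_irr_int hf
    (isIrrCharacter_one (G := P))
  refine ⟨N, ?_⟩
  rw [← hN, classInner_def]
  have hne : (Nat.card P : ℂ) ≠ 0 := by exact_mod_cast Nat.card_pos.ne'
  rw [← mul_assoc, mul_inv_cancel₀ hne, one_mul]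
  apply Finset.sum_congr rfl
  intro x _
  simp

set_option maxHeartbeats 800000 in
theorem schur_card_dvd [Finite P] {p : ℕ} [hp : Fact p.Prime] (hP : IsPGroup p P) (ψ : P → ℂ)
    (hψ : Cfsg.IsCharacter P ψ) (hfaith : ∀ g, ψ g = ψ 1 → g = 1)
    (hrat : ∀ x, ∃ q : ℚ, ψ x = q) (n : ℕ) (hn : Cfsg.charDegree ψ = n) :
    Nat.card P ∣ p ^ (n / (p - 1)) * (n / (p - 1)).factorial := by
  classical
  haveI := Fintype.ofFinite P
  set m := n / (p - 1) with hm
  have hvals := schur_values hP ψ hψ hfaith hrat n hn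
  have hψ1 : ψ 1 = (n : ℂ) := by
    rw [← hn]
    exact (charDegree_cast_of_isCharacter hψ).symm
  set Φ : ℕ → P → ℂ := fun t x => ∏ s ∈ Finset.range t, (ψ x - ((n : ℂ) - p * ((s + 1 : ℕ) : ℂ)))
    with hΦ
  have hgen : ∀ t, Cfsg.IsGeneralizedCharacter P (Φ t) := by
    intro t
    induction t with
    | zero =>
      have : Φ 0 = fun _ => (1 : ℂ) := by
        funext x
        simp [hΦ]
      rw [this]
      exact IsGeneralizedCharacter.of_isCharacter (IsIrrCharacter.isCharacter isIrrCharacter_one)
    | succ t ih =>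
      have : Φ (t + 1) = Φ t * ψ +
          (fun x => (((p * (t + 1) : ℕ) : ℤ) - (n : ℤ) : ℤ) * Φ t x) := by
        funext x
        simp only [hΦ, Pi.add_apply, Pi.mul_apply]
        rw [Finset.prod_range_succ]
        push_cast
        ring
      rw [this]
      exact IsGeneralizedCharacter.add (IsGeneralizedCharacter.mul_char ih hψ)
        (IsGeneralizedCharacter.int_mul ih _)
  obtain ⟨N, hN⟩ := IsGeneralizedCharacter.sum_eq (hgen m)
  have hzero : ∀ x : P, x ≠ 1 → Φ m x = 0 := by
    intro x hx
    obtain ⟨s, hs1, hsm, hs⟩ := hvals x hx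
    simp only [hΦ]
    apply Finset.prod_eq_zero (i := s - 1)
    · rw [Finset.mem_range]
      omega
    · rw [hs]
      have : ((s - 1 + 1 : ℕ) : ℂ) = (s : ℂ) := by
        congr 1
        omega
      rw [this]
      ring
  have hone : Φ m 1 = ((p ^ m * m.factorial : ℕ) : ℂ) := by
    simp only [hΦ]
    rw [hψ1]
    have : ∀ s ∈ Finset.range m, ((n : ℂ) - ((n : ℂ) - p * ((s + 1 : ℕ) : ℂ))) =
        (p : ℂ) * ((s + 1 : ℕ) : ℂ) := by
      intro s _
      ring
    rw [Finset.prod_congr rfl this, Finset.prod_mul_distrib, Finset.prod_const,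
      Finset.card_range, ← Nat.cast_prod, Finset.prod_range_add_one_eq_factorial]
    push_cast
    rfl
  have hsum : ∑ x : P, Φ m x = Φ m 1 := by
    rw [Finset.sum_eq_single (1 : P)]
    · intro x _ hx
      exact hzero x hx
    · intro h
      exact absurd (Finset.mem_univ _) h
  rw [hsum, hone] at hN
  have hN' : ((p ^ m * m.factorial : ℕ) : ℤ) = (Nat.card P : ℤ) * N := by
    exact_mod_cast hN
  have : (Nat.card P : ℤ) ∣ ((p ^ m * m.factorial : ℕ) : ℤ) := ⟨N, hN'⟩
  exact_mod_cast this

end Cfsg.Agent.Helper6
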