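import Mathlib
import Cfsg.Prelude.Def_Characters
import Cfsg.Prelude.Def_Blocks
import Cfsg.Agent.Helper6.SchurA
import Cfsg.Agent.Helper6.SchurC
import Cfsg.Agent.Helper6.Induced

/-!
# Schur's bound on the `p`-part of the order of a group with a faithful `p`-rational character
-/

set_option autoImplicit false
set_option linter.style.haveILetI false

namespace Cfsg.Agent.Helper6

open Module Representation

universe u

variable {G : Type u} [Group G]

/-- a `p`-rational character takes rational values on `p`-elements -/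
theorem rational_on_pElement [Finite G] {p : ℕ} [hp : Fact p.Prime] (χ : G → ℂ)
    (hχ : Cfsg.IsCharacter G χ) (r : ℕ) (hr0 : 0 < r) (hr : ¬ p ∣ r)
    (hrat : ∀ g : G, χ g ∈ IntermediateField.adjoin ℚ
      ({Complex.exp (2 * Real.pi * Complex.I / r)} : Set ℂ))
    (x : G) (k : ℕ) (hx : x ^ (p ^ k) = 1) : ∃ q : ℚ, χ x = q := by
  classical
  obtain ⟨d, ρ, hρ⟩ := hχ
  obtain ⟨ι, hι, b, μ, h1, h2, -⟩ := exists_eigenbasis_rep ρ x
  have hval : χ x = ∑ i, μ i := by
    rw [← hρ]
    have := char_pow_eq_sum ρ x b μ h1 1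
    simpa using this
  haveI : NeZero (orderOf x) := ⟨(orderOf_pos x).ne'⟩
  haveI : NeZero r := ⟨hr0.ne'⟩
  have hcop : (orderOf x).Coprime r := by
    obtain ⟨j, -, hj⟩ := (Nat.dvd_prime_pow hp.out).mp (orderOf_dvd_of_pow_eq_one hx)
    rw [hj]
    exact Nat.Coprime.pow_left j ((Nat.Prime.coprime_iff_not_dvd hp.out).mpr hr)
  rw [hval]
  apply powSum_rational_of_mem_adjoin (orderOf x) r hcop μ h2
  rw [← hval]
  exact hrat x

theorem schur_bound [Finite G] (p : ℕ) (hp : p.Prime) (χ : G → ℂ)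
    (hχ : Cfsg.IsCharacter G χ) (hfaith : ∀ g : G, χ g = χ 1 → g = 1)
    (hrat : ∃ r : ℕ, 0 < r ∧ ¬ p ∣ r ∧ ∀ g : G, χ g ∈ IntermediateField.adjoin ℚ
      ({Complex.exp (2 * Real.pi * Complex.I / r)} : Set ℂ))
    (n : ℕ) (hn : Cfsg.charDegree χ = n) :
    (Nat.card G).factorization p ≤ ∑ i ∈ Finset.range (n + 1), n / ((p - 1) * p ^ i) := by
  classical
  haveI : Fact p.Prime := ⟨hp⟩
  obtain ⟨r, hr0, hr, hrat⟩ := hrat
  obtain ⟨P⟩ : Nonempty (Sylow p G) := inferInstance
  have hψ : Cfsg.IsCharacter (P : Subgroup G) (fun x : (P : Subgroup G) => χ x) :=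
    IsCharacter.restrict _ hχ
  have hrat' : ∀ x : (P : Subgroup G), ∃ q : ℚ, (fun x : (P : Subgroup G) => χ x) x = q := by
    intro x
    obtain ⟨k, hk⟩ := P.2 x
    exact rational_on_pElement χ hχ r hr0 hr hrat (x : G) k (by
      have := congrArg Subtype.val hk
      simpa using this)
  have hdvd := schur_card_dvd P.2 (fun x : (P : Subgroup G) => χ x) hψ
    (fun g hg => Subtype.ext (hfaith (g : G) hg)) hrat' n hn
  rw [Sylow.card_eq_multiplicity] at hdvd
  set m := n / (p - 1) with hm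
  have hne : p ^ m * m.factorial ≠ 0 :=
    Nat.mul_ne_zero (pow_ne_zero _ hp.ne_zero) (Nat.factorial_ne_zero m)
  have h1 := (Nat.Prime.pow_dvd_iff_le_factorization hp hne).mp hdvd
  have h2 : (p ^ m * m.factorial).factorization p = m + (m.factorial).factorization p := by
    rw [Nat.factorization_mul (pow_ne_zero _ hp.ne_zero) (Nat.factorial_ne_zero m),
      Finsupp.add_apply, Nat.Prime.factorization_pow hp, Finsupp.single_eq_same]
  have hlog : Nat.log p m < n + 1 := by
    have h3 : Nat.log p m ≤ m := Nat.log_le_self p m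
    have h4 : m ≤ n := Nat.div_le_self n (p - 1)
    omega
  have h3 := Nat.factorization_factorial hp hlog
  have h4 : ∑ i ∈ Finset.range (n + 1), n / ((p - 1) * p ^ i) =
      m + ∑ i ∈ Finset.Ico 1 (n + 1), m / p ^ i := by
    rw [Finset.range_eq_Ico, Finset.sum_eq_sum_Ico_succ_bot (Nat.succ_pos n)]
    congr 1
    · simp [hm]
    · apply Finset.sum_congr rfl
      intro i _
      rw [hm, Nat.div_div_eq_div_mul]
  rw [h4, ← h3, ← h2]
  exact h1

end Cfsg.Agent.Helper6
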