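import Mathlib
import Cfsg.Prelude.Def_Characters
import Cfsg.Prelude.Def_Blocks
import Cfsg.Agent.Helper6.SepClsE

/-!
# Blocks with a prescribed defect group from separated classes: the theorem
-/

set_option autoImplicit false
set_option linter.style.haveILetI false
set_option maxHeartbeats 1000000

namespace Cfsg.Agent.Helper6.SepCls

open Matrix
open scoped ComplexConjugate

universe u

variable {G : Type u} [Group G] [Finite G] {M : Ideal Cfsg.AlgInt}

/-- the determinant of the values, from the determinant of the central characters -/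
theorem det_values_of_det_centralChar (p : ℕ) [hp : Fact p.Prime] (hM : Cfsg.IsPModular p M)
    {r : ℕ} (x : Fin r → G) (χ : Fin r → Cfsg.IrrCharacter G) (e : ℕ)
    (hN : ∀ i, ((Subgroup.centralizer ({x i} : Set G)).index).factorization p = e)
    (hdeg : ∀ k, (Cfsg.charDegree (χ k : G → ℂ)).factorization p = e)
    (hdet : ¬ Cfsg.MemLocalIdeal M (Matrix.of fun i j : Fin r =>
        Cfsg.centralChar (χ j : G → ℂ) (x i)).det) :
    ¬ Cfsg.MemLocalIdeal M (Matrix.det (Matrix.of fun i j : Fin r => (χ i : G → ℂ) (x j))) := by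
  classical
  have hMm := hM.2.1
  intro hX
  apply hdet
  set X : Matrix (Fin r) (Fin r) ℂ := Matrix.of fun i j : Fin r => (χ i : G → ℂ) (x j) with hXdef
  set N : Fin r → ℕ := fun i => (Subgroup.centralizer ({x i} : Set G)).index with hNdef
  set dg : Fin r → ℕ := fun k => Cfsg.charDegree (χ k : G → ℂ) with hdgdef
  have hN0 : ∀ i, N i ≠ 0 := fun i => Subgroup.index_ne_zero_of_finite
  have hdg0 : ∀ k, dg k ≠ 0 := fun k => charDegree_ne_zero_of_irr (χ k).2
  have hdgc : ∀ k, (dg k : ℂ) = (χ k : G → ℂ) 1 := fun k =>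
    charDegree_cast_of_isCharacter (IsIrrCharacter.isCharacter (χ k).2)
  -- the determinant identity
  have hA : (Matrix.of fun i j : Fin r => Cfsg.centralChar (χ j : G → ℂ) (x i)) =
      Matrix.of fun i j : Fin r => (N i : ℂ) * (Matrix.of fun i j : Fin r =>
        ((dg j : ℂ))⁻¹ * Xᵀ i j) i j := by
    ext i j
    simp only [Matrix.of_apply, Matrix.transpose_apply, hXdef]
    unfold Cfsg.centralChar
    rw [← hdgc j]
    ring
  have hdetA : (∏ k, (dg k : ℂ)) * (Matrix.of fun i j : Fin r =>
      Cfsg.centralChar (χ j : G → ℂ) (x i)).det = (∏ i, (N i : ℂ)) * X.det := by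
    rw [hA, Matrix.det_mul_column, Matrix.det_mul_row, Matrix.det_transpose]
    have h1 : (∏ k, (dg k : ℂ)) * ∏ k, ((dg k : ℂ))⁻¹ = 1 := by
      rw [← Finset.prod_mul_distrib]
      apply Finset.prod_eq_one
      intro k _
      apply mul_inv_cancel₀
      exact_mod_cast hdg0 k
    calc (∏ k, (dg k : ℂ)) * ((∏ i, (N i : ℂ)) * ((∏ k, ((dg k : ℂ))⁻¹) * X.det))
        = ((∏ k, (dg k : ℂ)) * ∏ k, ((dg k : ℂ))⁻¹) * ((∏ i, (N i : ℂ)) * X.det) := by ring
      _ = (∏ i, (N i : ℂ)) * X.det := by rw [h1, one_mul]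
  -- split off the `p`-parts
  set u : Fin r → ℕ := fun i => N i / p ^ e with hu
  set v : Fin r → ℕ := fun k => dg k / p ^ e with hv
  have hNu : ∀ i, N i = p ^ e * u i := by
    intro i
    have := Nat.ordProj_mul_ordCompl_eq_self (N i) p
    rw [hN i] at this
    exact this.symm
  have hdv : ∀ k, dg k = p ^ e * v k := by
    intro k
    have := Nat.ordProj_mul_ordCompl_eq_self (dg k) p
    rw [hdeg k] at this
    exact this.symm
  have hvp : ∀ k, ¬ p ∣ v k := by
    intro k
    have := Nat.not_dvd_ordCompl hp.out (hdg0 k)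
    rw [hdeg k] at this
    exact this
  have hprodN : (∏ i, (N i : ℂ)) = ((p ^ e : ℕ) : ℂ) ^ r * ((∏ i, u i : ℕ) : ℂ) := by
    have : ∀ i, (N i : ℂ) = ((p ^ e : ℕ) : ℂ) * (u i : ℂ) := by
      intro i
      conv_lhs => rw [hNu i]
      push_cast
      ring
    simp_rw [this]
    rw [Finset.prod_mul_distrib, Finset.prod_const, Finset.card_univ, Fintype.card_fin]
    push_cast
    ring
  have hprodd : (∏ k, (dg k : ℂ)) = ((p ^ e : ℕ) : ℂ) ^ r * ((∏ k, v k : ℕ) : ℂ) := by
    have : ∀ k, (dg k : ℂ) = ((p ^ e : ℕ) : ℂ) * (v k : ℂ) := by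
      intro k
      conv_lhs => rw [hdv k]
      push_cast
      ring
    simp_rw [this]
    rw [Finset.prod_mul_distrib, Finset.prod_const, Finset.card_univ, Fintype.card_fin]
    push_cast
    ring
  rw [hprodN, hprodd, mul_assoc, mul_assoc] at hdetA
  have hpe0 : (((p ^ e : ℕ) : ℂ)) ^ r ≠ 0 := by
    apply pow_ne_zero
    exact_mod_cast (pow_pos hp.out.pos e).ne'
  have hkey := mul_left_cancel₀ hpe0 hdetA
  have hR : Cfsg.MemLocalIdeal M (((∏ k, v k : ℕ) : ℂ) * (Matrix.of fun i j : Fin r =>
      Cfsg.centralChar (χ j : G → ℂ) (x i)).det) := by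
    rw [hkey]
    exact MemLocalIdeal.mul_left hMm (memLocalRing_natCast hMm _) hX
  have hdetloc : Cfsg.MemLocalRing M (Matrix.of fun i j : Fin r =>
      Cfsg.centralChar (χ j : G → ℂ) (x i)).det :=
    det_memLocalRing hMm _ (fun i j =>
      memLocalRing_of_isIntegral hMm (isIntegral_centralChar (χ j) (x i)))
  rcases MemLocalIdeal.of_mul hMm (memLocalRing_natCast hMm _) hdetloc hR with h | h
  · exfalso
    have h1 := dvd_of_memLocalIdeal_natCast hM _ h
    obtain ⟨k, -, hk⟩ := (Prime.dvd_finsetProd_iff (Nat.prime_iff.mp hp.out) _).mp h1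
    exact hvp k hk
  · exact h

/-- **blocks with a prescribed defect group from separated classes** -/
theorem main (p : ℕ) [hp : Fact p.Prime] (hM : Cfsg.IsPModular p M) (D : Subgroup G) {r : ℕ}
    (x : Fin r → G) (hx : ∀ i j : Fin r, IsConj (x i) (x j) → i = j)
    (hD : ∀ i : Fin r, ∃ S : Sylow p ↥(Subgroup.centralizer ({x i} : Set G)),
      (S : Subgroup ↥(Subgroup.centralizer ({x i} : Set G))).map
        (Subgroup.centralizer ({x i} : Set G)).subtype = D)
    (hsep : ∀ i j : Fin r, ∀ g h : G, IsConj (x i) g → IsConj (x j) h → ∀ k : ℕ, 0 < k →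
      orderOf (g * h⁻¹) ≠ p ^ k) :
    ∃ B : Fin r → Set (Cfsg.IrrCharacter G), Function.Injective B ∧
      (∀ i : Fin r, Cfsg.IsPBlock M (B i) ∧ Cfsg.IsDefectGroup p M (B i) D) ∧
      ∀ χ : Fin r → Cfsg.IrrCharacter G,
        (∀ i : Fin r, χ i ∈ B i ∧ Cfsg.blockHeight p (B i) (χ i : G → ℂ) = 0) →
        ¬ Cfsg.MemLocalIdeal M
          (Matrix.det (Matrix.of fun i j : Fin r => (χ i : G → ℂ) (x j))) := by
  classical
  have hMm := hM.2.1
  have hpM := hM.2.2
  obtain ⟨f, hdetf, hval⟩ := exists_selection p hM x hx hsep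
  set A : Matrix (Fin r) (Fin r) ℂ :=
    Matrix.of fun i j : Fin r => Cfsg.centralChar (f j : G → ℂ) (x i) with hA
  have hAloc : ∀ i j, Cfsg.MemLocalRing M (A i j) := fun i j =>
    memLocalRing_of_isIntegral hMm (isIntegral_centralChar (f j) (x i))
  have hdefect : ∀ k : Fin r, Cfsg.IsDefectGroup p M (Cfsg.blockOf M (f k : G → ℂ)) D := by
    intro k
    obtain ⟨i, hi⟩ : ∃ i, ¬ Cfsg.MemLocalIdeal M (A i k) := by
      by_contra hcon
      push Not at hcon
      exact hdetf (det_memLocalIdeal_of_column hMm A hAloc k hcon)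
    exact isDefectGroup_of_selection p hM D (x i) (x k) (hD i) (hD k) (f k) hi (hval k)
  refine ⟨fun k => Cfsg.blockOf M (f k : G → ℂ), ?_, fun k => ⟨⟨f k, rfl⟩, hdefect k⟩, ?_⟩
  · intro k l hkl
    by_contra hne
    apply hdetf
    have hmem : f l ∈ Cfsg.blockOf M (f k : G → ℂ) := by
      have h1 : Cfsg.blockOf M (f k : G → ℂ) = Cfsg.blockOf M (f l : G → ℂ) := hkl
      rw [h1]
      exact mem_blockOf_self hMm (f l)
    apply det_memLocalIdeal_of_columns_congr hMm A hAloc k l hne
    intro i
    have h2 := MemLocalIdeal.neg (hmem (x i))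
    rw [neg_sub] at h2
    exact h2
  · intro χ hχ
    -- the valuations
    set a := (Nat.card G).factorization p with ha
    set δ := (Nat.card D).factorization p with hδ
    have hcardD : ∀ i, Nat.card D =
        p ^ (Nat.card (Subgroup.centralizer ({x i} : Set G))).factorization p := fun i =>
      card_eq_of_sylow_map p D (x i) (hD i)
    have hfacC : ∀ i, (Nat.card (Subgroup.centralizer ({x i} : Set G))).factorization p = δ := by
      intro i
      rw [hδ, hcardD i, Nat.factorization_pow, Finsupp.smul_apply,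
        Nat.Prime.factorization_self hp.out, smul_eq_mul, mul_one]
    have hN : ∀ i, ((Subgroup.centralizer ({x i} : Set G)).index).factorization p = a - δ := by
      intro i
      have := factorization_index_centralizer p (x i)
      rw [hfacC i, ← ha] at this
      omega
    have hdeg : ∀ k, (Cfsg.charDegree (χ k : G → ℂ)).factorization p = a - δ := by
      intro k
      have h1 := factorization_charDegree_eq p _ (χ k) (hχ k).1
      rw [(hχ k).2, add_zero, ← ha] at h1
      have h2 := card_defectGroup hMm p hpM _ ⟨f k, rfl⟩ D (hdefect k)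
      have h3 : Cfsg.blockDefect p (Cfsg.blockOf M (f k : G → ℂ)) = δ := by
        rw [hδ, h2, Nat.factorization_pow, Finsupp.smul_apply,
          Nat.Prime.factorization_self hp.out, smul_eq_mul, mul_one]
      rw [h3] at h1
      exact h1
    apply det_values_of_det_centralChar p hM x χ (a - δ) hN hdeg
    -- congruence of the central character matrices
    set A' : Matrix (Fin r) (Fin r) ℂ :=
      Matrix.of fun i j : Fin r => Cfsg.centralChar (χ j : G → ℂ) (x i) with hA'
    have hA'loc : ∀ i j, Cfsg.MemLocalRing M (A' i j) := fun i j =>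
      memLocalRing_of_isIntegral hMm (isIntegral_centralChar (χ j) (x i))
    have hcong : ∀ i j, Cfsg.MemLocalIdeal M (A i j - A' i j) := fun i j => (hχ j).1 (x i)
    have h4 := det_congr_mod hMm A A' hAloc hcong hA'loc
    intro h5
    apply hdetf
    have := MemLocalIdeal.add hMm h4 h5
    rwa [sub_add_cancel] at this

end Cfsg.Agent.Helper6.SepCls
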