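import Mathlib
import Cfsg.Prelude.Def_Characters
import Cfsg.Agent.Helper6.SigmaExist
import Cfsg.Agent.Helper6.DetExt2
import Cfsg.Agent.Helper6.AbelianInertia

/-!
# Galois-fixed extensions over solvable quotients of odd order
-/

set_option autoImplicit false
set_option linter.style.haveILetI false

namespace Cfsg.Agent.Helper6

open Module
open scoped ComplexConjugate

universe u

set_option maxHeartbeats 1600000 in
/-- Over a solvable quotient of odd order, an invariant Galois-fixed irreducible character has a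
Galois-fixed extension. -/
theorem sigma_ext_solvable : ∀ (j : ℕ) (G : Type u) [Group G] [Finite G] (k e : ℕ)
    (_ : SigmaHyp G k e) (N : Subgroup G) [hN : N.Normal], N.index = j → Odd N.index →
    Group.IsSolvable (G ⧸ N) → ∀ (ϑ : N → ℂ), Cfsg.IsIrrCharacter N ϑ →
    (∀ (g : G) (n : N), ϑ ⟨g * n * g⁻¹, hN.conj_mem (n : G) n.2 g⟩ = ϑ n) →
    (∀ n : N, ϑ (n ^ k) = ϑ n) →
    ∃ χ : G → ℂ, Cfsg.IsIrrCharacter G χ ∧ (∀ n : N, χ n = ϑ n) ∧ ∀ g, χ (g ^ k) = χ g := by
  intro j
  induction j using Nat.strong_induction_on with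
  | _ j ih =>
    intro G _ _ k e hσ N hN hj hodd hsolv ϑ hϑ hinv hfix
    classical
    haveI := Fintype.ofFinite G
    by_cases htop : N = ⊤
    · subst htop
      refine ⟨fun g => ϑ ⟨g, Subgroup.mem_top g⟩, ?_, fun n => rfl, ?_⟩
      · exact IsIrrCharacter.comp_mulEquiv (Subgroup.topEquiv (G := G)).symm hϑ
      · intro g
        exact hfix ⟨g, Subgroup.mem_top g⟩
    -- a normal subgroup of prime index containing N
    haveI : Nontrivial (G ⧸ N) := by
      rw [← Finite.one_lt_card_iff_nontrivial, ← Subgroup.index_eq_card]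
      have h1 : N.index ≠ 1 := fun h => htop (Subgroup.index_eq_one.mp h)
      have h0 : N.index ≠ 0 := Subgroup.index_ne_zero_of_finite
      omega
    have hcomm : commutator (G ⧸ N) ≠ ⊤ :=
      (Group.IsSolvable.commutator_lt_top_of_nontrivial (G ⧸ N)).ne
    obtain ⟨μ₀, p, hp, hμ₀⟩ := exists_hom_ker_index_prime hcomm
    set f : G →* ℂˣ := μ₀.comp (QuotientGroup.mk' N) with hf
    set K : Subgroup G := f.ker with hK
    have hNK : N ≤ K := by
      intro x hx
      rw [hK, MonoidHom.mem_ker, hf, MonoidHom.comp_apply]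
      have : (QuotientGroup.mk' N) x = 1 := (QuotientGroup.eq_one_iff x).mpr hx
      rw [this, map_one]
    have hKidx : K.index = p := by
      rw [hK, Subgroup.index_ker, ← hμ₀, Subgroup.index_ker]
      congr 1
      rw [hf, MonoidHom.range_comp, MonoidHom.range_eq_top.mpr (QuotientGroup.mk'_surjective N),
        ← MonoidHom.range_eq_map]
    haveI hKn : K.Normal := MonoidHom.normal_ker f
    haveI : Fintype K := Fintype.ofFinite K
    -- the data on K
    set N' : Subgroup K := N.subgroupOf K with hN'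
    haveI hN'n : N'.Normal := Subgroup.Normal.subgroupOf hN K
    haveI : Fintype N' := Fintype.ofFinite N'
    let ε : N' ≃* N := Subgroup.subgroupOfEquivOfLe hNK
    have hrel : N'.index * K.index = N.index := Subgroup.relIndex_mul_index hNK
    have hidxlt : N'.index < j := by
      rw [← hj, ← hrel, hKidx]
      have h0 : N'.index ≠ 0 := Subgroup.index_ne_zero_of_finite
      have := hp.one_lt
      nlinarith [Nat.pos_of_ne_zero h0]
    have hodd' : Odd N'.index := by
      rw [← hrel] at hodd
      exact (Nat.odd_mul.mp hodd).1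
    have hKodd : Odd K.index := by
      rw [← hrel] at hodd
      exact (Nat.odd_mul.mp hodd).2
    have hsolv' : Group.IsSolvable (K ⧸ N') := by
      let φ : K ⧸ N' →* G ⧸ N := QuotientGroup.map N' N K.subtype (by
        intro x hx
        exact hx)
      apply Group.isSolvable_of_isSolvable_injective (f := φ)
      rw [injective_iff_map_eq_one]
      intro q hq
      obtain ⟨x, rfl⟩ := QuotientGroup.mk_surjective q
      rw [QuotientGroup.eq_one_iff]
      have h1 : φ (x : K ⧸ N') = ((x : G) : G ⧸ N) := rfl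
      rw [h1, QuotientGroup.eq_one_iff] at hq
      exact hq
    set ϑ' : N' → ℂ := ϑ ∘ ε with hϑ'
    have hϑ'irr : Cfsg.IsIrrCharacter N' ϑ' := IsIrrCharacter.comp_mulEquiv ε hϑ
    have hϑ'inv : ∀ (g : K) (n : N'),
        ϑ' ⟨g * n * g⁻¹, hN'n.conj_mem (n : K) n.2 g⟩ = ϑ' n := by
      intro g n
      have := hinv (g : G) (ε n)
      exact this
    have hϑ'fix : ∀ n : N', ϑ' (n ^ k) = ϑ' n := by
      intro n
      rw [hϑ', Function.comp_apply, Function.comp_apply, map_pow]
      exact hfix (ε n)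
    have hσK : SigmaHyp K k e := hσ.subgroup K
    obtain ⟨ψ, hψirr, hψN, hψfix⟩ := ih N'.index hidxlt K k e hσK N' rfl hodd' hsolv' ϑ' hϑ'irr
      hϑ'inv hϑ'fix
    -- ψ lies over ϑ'
    have hover : ∀ ψ' : K → ℂ, (∀ n : N', ψ' n = ϑ' n) →
        Cfsg.classInner (fun n : N' => ψ' n) ϑ' ≠ 0 := by
      intro ψ' h'
      have : (fun n : N' => ψ' n) = ϑ' := funext h'
      rw [this, classInner_irr_self hϑ'irr]
      exact one_ne_zero
    -- ψ is G-invariant
    have hψinv : ∀ g : G, conjFun K ψ g = ψ := by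
      intro g
      apply sigma_unique_over hσK N' hodd' ϑ' hϑ'irr _ _ (conjFun_isIrr K hψirr g) hψirr ?_ hψfix
        ?_ (hover ψ hψN)
      · intro x
        change ψ ((MulAut.conjNormal g : K ≃* K) (x ^ k)) = ψ ((MulAut.conjNormal g : K ≃* K) x)
        rw [map_pow]
        exact hψfix _
      · apply hover
        intro n
        have h1 : conjFun K ψ g (n : K) =
            ψ ((⟨⟨g * ((n : K) : G) * g⁻¹, hKn.conj_mem _ (n : K).2 g⟩,
              Subgroup.mem_subgroupOf.mpr (hN.conj_mem _ (Subgroup.mem_subgroupOf.mp n.2) g)⟩ :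
                N') : K) := rfl
        rw [h1, hψN]
        exact hinv g (ε n)
    -- a fixed character of G over ψ
    obtain ⟨χ, hχirr, hχfix, hχover⟩ := sigma_exists_over hσ K hKodd ψ hψirr hψfix
    haveI : Finite (Cfsg.IrrCharacter G) := irr_finite
    haveI : Fintype (Cfsg.IrrCharacter G) := Fintype.ofFinite _
    have hab : ∀ x y : G, x * y * x⁻¹ * y⁻¹ ∈ K := by
      intro x y
      rw [hK, MonoidHom.mem_ker]
      simp only [map_mul, map_inv]
      rw [mul_comm (f x) (f y), mul_assoc (f y), mul_inv_cancel, mul_one, mul_inv_cancel]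
    obtain ⟨e', Ψ, he'pos, hΨmem, hΨres, hΨcard, -⟩ :=
      abelian_quotient_clifford K ψ hψirr hψinv hab
    have he'1 : e' = 1 := by
      have h1 : Nat.card K * K.index = Nat.card G := Subgroup.card_mul_index K
      rw [hKidx] at h1
      have h2 : e' ^ 2 * Ψ.card * Nat.card K = Nat.card K * p := by rw [hΨcard, h1]
      have hK0 : 0 < Nat.card K := Nat.card_pos
      have h3 : e' ^ 2 * Ψ.card = p := by
        have : Nat.card K * (e' ^ 2 * Ψ.card) = Nat.card K * p := by rw [← h2]; ring
        exact Nat.eq_of_mul_eq_mul_left hK0 this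
      have h4 : e' ∣ p := ⟨e' * Ψ.card, by rw [← h3]; ring⟩
      rcases (Nat.dvd_prime hp).mp h4 with h5 | h5
      · exact h5
      · exfalso
        rw [h5] at h3
        have h6 : p * (p * Ψ.card) = p * 1 := by rw [mul_one]; nth_rewrite 3 [← h3]; ring
        have h7 := Nat.eq_of_mul_eq_mul_left hp.pos h6
        have h8 : p ∣ 1 := ⟨Ψ.card, h7.symm⟩
        exact hp.one_lt.ne' (Nat.dvd_one.mp h8)
    have hχK : (fun n : K => χ n) = ψ := by
      have h1 := hΨres ⟨χ, hχirr⟩ ((hΨmem ⟨χ, hχirr⟩).mpr hχover)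
      rw [he'1, Nat.cast_one, one_smul] at h1
      exact h1
    refine ⟨χ, hχirr, ?_, hχfix⟩
    intro n
    have h1 := congrFun hχK ⟨(n : G), hNK n.2⟩
    change χ (n : G) = ψ ⟨(n : G), hNK n.2⟩ at h1
    rw [h1]
    exact hψN ⟨⟨(n : G), hNK n.2⟩, Subgroup.mem_subgroupOf.mpr n.2⟩

end Cfsg.Agent.Helper6
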