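import Mathlib
import Cfsg.Prelude.Def_Characters
import Cfsg.Agent.Helper6.SigmaSolv
import Cfsg.Agent.Helper6.GlueAbs

/-!
# Galois-fixed extensions of invariant Galois-fixed characters of normal subgroups of odd index
-/

set_option autoImplicit false
set_option linter.style.haveILetI false

namespace Cfsg.Agent.Helper6

open Module
open scoped ComplexConjugate

universe u

variable {G : Type u} [Group G]

set_option maxHeartbeats 1600000 in
theorem sigma_ext_invariant [Finite G] {k e : ℕ} (hσ : SigmaHyp G k e) (N : Subgroup G)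
    [hN : N.Normal] (hodd : Odd N.index) (ϑ : N → ℂ) (hϑ : Cfsg.IsIrrCharacter N ϑ)
    (hinv : ∀ (g : G) (n : N), ϑ ⟨g * n * g⁻¹, hN.conj_mem (n : G) n.2 g⟩ = ϑ n)
    (hfix : ∀ n : N, ϑ (n ^ k) = ϑ n) :
    ∃ χ : G → ℂ, Cfsg.IsIrrCharacter G χ ∧ (∀ n : N, χ n = ϑ n) ∧ ∀ g, χ (g ^ k) = χ g := by
  classical
  haveI := Fintype.ofFinite G
  let Good : (H : Subgroup G) → (H → ℂ) → Prop :=
    fun H χ => BaseExt N ϑ H χ ∧ ∀ h : H, χ (h ^ k) = χ h
  have hoddH : ∀ H : Subgroup G, Odd (N.subgroupOf H).index := by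
    intro H
    exact Odd.of_dvd_nat hodd (Subgroup.relIndex_dvd_index_of_normal N H)
  have hresfix : ∀ (H : Subgroup G) (n : N.subgroupOf H),
      resSub N ϑ H (n ^ k) = resSub N ϑ H n := by
    intro H n
    exact hfix ⟨((n : H) : G), Subgroup.mem_subgroupOf.mp n.2⟩
  have hex : ∀ (S : Subgroup G), Group.IsSolvable S → ∃ χ : (N ⊔ S : Subgroup G) → ℂ,
      Good (N ⊔ S) χ := by
    intro S hS
    haveI := hS
    have hsolv := solvable_quot_sup N S
    obtain ⟨χ, hχirr, hχN, hχfix⟩ := sigma_ext_solvable _ (N ⊔ S : Subgroup G) k e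
      (hσ.subgroup _) (N.subgroupOf (N ⊔ S)) rfl (hoddH _) hsolv (resSub N ϑ (N ⊔ S))
      (resSub_isIrr hϑ _ le_sup_left) (resSub_inv hinv _) (hresfix _)
    exact ⟨χ, ⟨hχirr, hχN⟩, hχfix⟩
  obtain ⟨Ψ, hΨirr, hΨN, hΨeq⟩ := glue_abstract N ϑ hϑ Good
    (fun H χ h => h.1)
    (fun H K hNK hKH χ h => ⟨baseExt_restrict hϑ H K hNK hKH h.1,
      fun k' => h.2 ⟨(k' : G), hKH k'.2⟩⟩)
    (fun H χ x h => ⟨baseExt_conj hinv H h.1 x, fun y => by
      change χ ((Subgroup.equivMapOfInjective H (MulAut.conj x).toMonoidHom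
        (MulAut.conj x).injective).symm (y ^ k)) = χ ((Subgroup.equivMapOfInjective H
          (MulAut.conj x).toMonoidHom (MulAut.conj x).injective).symm y)
      rw [map_pow]
      exact h.2 _⟩)
    (fun H hNH χ χ' hg hg' => by
      haveI : Fintype H := Fintype.ofFinite H
      haveI : Fintype (N.subgroupOf H) := Fintype.ofFinite _
      have hover : ∀ ψ' : H → ℂ, (∀ n : N.subgroupOf H, ψ' n = resSub N ϑ H n) →
          Cfsg.classInner (fun n : N.subgroupOf H => ψ' n) (resSub N ϑ H) ≠ 0 := by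
        intro ψ' h'
        have : (fun n : N.subgroupOf H => ψ' n) = resSub N ϑ H := funext h'
        rw [this, classInner_irr_self (resSub_isIrr hϑ H hNH)]
        exact one_ne_zero
      exact sigma_unique_over (hσ.subgroup H) (N.subgroupOf H) (hoddH H) (resSub N ϑ H)
        (resSub_isIrr hϑ H hNH) χ χ' hg.1.1 hg'.1.1 hg.2 hg'.2 (hover χ hg.1.2)
        (hover χ' hg'.1.2))
    hex
  refine ⟨Ψ, hΨirr, hΨN, ?_⟩
  intro g
  have hzsolv : Group.IsSolvable (Subgroup.zpowers g) := by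
    letI : CommGroup (Subgroup.zpowers g) := IsCyclic.commGroup
    exact Group.isSolvable_of_comm (fun a b => mul_comm a b)
  obtain ⟨χ, hχ⟩ := hex (Subgroup.zpowers g) hzsolv
  have hg : g ∈ N ⊔ Subgroup.zpowers g := Subgroup.mem_sup_right (Subgroup.mem_zpowers g)
  rw [hΨeq _ le_sup_left χ hχ g hg, hΨeq _ le_sup_left χ hχ (g ^ k) (Subgroup.pow_mem _ hg k)]
  exact hχ.2 ⟨g, hg⟩

end Cfsg.Agent.Helper6
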