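import Mathlib
import Cfsg.Prelude.Def_Characters
import Cfsg.Prelude.Def_Blocks
import Cfsg.Agent.Helper6.KnI
import Cfsg.Agent.Helper6.PrincipalDefect
import Cfsg.Agent.Helper6.DefectOrder
import Cfsg.Agent.Helper6.RealBlockC
import Cfsg.Agent.Helper6.BlockCover3
import Cfsg.Agent.Helper6.PrincipalPairs
import Cfsg.Agent.Helper6.PRatC

/-!
# Galois-fixed characters over Galois-fixed characters of a normal subgroup of odd index:
principal `2`-blocks correspond
-/

set_option autoImplicit false
set_option linter.style.haveILetI false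

namespace Cfsg.Agent.Helper6.SigmaPrin

open scoped ComplexConjugate
open Cfsg.Agent.Helper6.AlpDade Cfsg.Agent.Helper6.PRat

universe u

variable {G : Type u} [Group G] {M : Ideal Cfsg.AlgInt}

/-- the central character of a power-twisted character -/
theorem centralChar_comp_pow [Finite G] (χ : G → ℂ) (k : ℕ) (hk : k.Coprime (Nat.card G)) (g : G) :
    Cfsg.centralChar (fun x => χ (x ^ k)) g = Cfsg.centralChar χ (g ^ k) := by
  unfold Cfsg.centralChar
  have hcop : (orderOf g).Coprime k :=
    (Nat.Coprime.coprime_dvd_right (orderOf_dvd_natCard g) hk).symm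
  rw [centralizer_pow_coprime g k hcop]
  simp only [one_pow]

/-- blocks are permuted by the coprime power maps -/
theorem sameBlock_comp_pow [Finite G] {χ ψ : G → ℂ} (k : ℕ) (hk : k.Coprime (Nat.card G))
    (h : Cfsg.SameBlock M χ ψ) :
    Cfsg.SameBlock M (fun x => χ (x ^ k)) (fun x => ψ (x ^ k)) := by
  intro g
  rw [centralChar_comp_pow χ k hk, centralChar_comp_pow ψ k hk]
  exact h (g ^ k)

/-- the principal block of a normal subgroup is stable under conjugation -/
theorem mem_principalBlock_of_conj [Finite G] (N : Subgroup G) [hN : N.Normal]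
    (θ θ' : Cfsg.IrrCharacter N) (hθ' : θ' ∈ Cfsg.principalBlock M N) (g : G)
    (h : ∀ n : N, (θ : N → ℂ) n =
      (θ' : N → ℂ) ⟨g * n * g⁻¹, hN.conj_mem n n.2 g⟩) :
    θ ∈ Cfsg.principalBlock M N := by
  set φ : N ≃* N := conjEquivOf N N g (fun n hn => hN.conj_mem n hn g)
    (fun n hn => by
      have := hN.conj_mem n hn g⁻¹
      rwa [inv_inv] at this) with hφ
  have h1 : Cfsg.SameBlock M (fun x : N => (fun _ : N => (1 : ℂ)) (φ x))
      (fun x : N => (θ' : N → ℂ) (φ x)) := sameBlock_comp_mulEquiv φ _ _ hθ'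
  have h2 : (fun x : N => (θ' : N → ℂ) (φ x)) = (θ : N → ℂ) := by
    funext n
    rw [h n]
    rfl
  rw [h2] at h1
  exact h1

set_option maxHeartbeats 1600000 in
/-- **principal `2`-blocks and Galois-fixed characters over a normal subgroup of odd index** -/
theorem sigma_principal_iff [Fintype G] (hM : Cfsg.IsPModular 2 M) (N : Subgroup G)
    [hN : N.Normal] [Fintype N] (hidx : Odd N.index) (k : ℕ)
    (hk : Nat.Coprime k (Nat.card G)) (hk₂ : ∀ g : G, Odd (orderOf g) → g ^ k = g⁻¹)
    (θ : Cfsg.IrrCharacter N) (χ : Cfsg.IrrCharacter G)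
    (hχ : ∀ g : G, (χ : G → ℂ) (g ^ k) = (χ : G → ℂ) g)
    (hover : Cfsg.classInner (fun n : N => (χ : G → ℂ) n) (θ : N → ℂ) ≠ 0) :
    χ ∈ Cfsg.principalBlock M G ↔ θ ∈ Cfsg.principalBlock M N := by
  classical
  haveI : Fact (Nat.Prime 2) := ⟨Nat.prime_two⟩
  have hMax : M.IsMaximal := hM.2.1
  have hpM : ((2 : ℕ) : Cfsg.AlgInt) ∈ M := hM.2.2
  constructor
  · intro hχB
    have h1 : Cfsg.classInner (fun n : N => ((trivIrr G : Cfsg.IrrCharacter G) : G → ℂ) n)
        ((trivIrr N : Cfsg.IrrCharacter N) : N → ℂ) ≠ 0 := by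
      have e : (fun n : N => ((trivIrr G : Cfsg.IrrCharacter G) : G → ℂ) n) =
          ((trivIrr N : Cfsg.IrrCharacter N) : N → ℂ) := rfl
      rw [e, classInner_irr_self (trivIrr N).2]
      exact one_ne_zero
    obtain ⟨g, θ', hθ', hconj⟩ := covering_conj hMax N (Cfsg.principalBlock M G)
      (isPBlock_principalBlock G) (Cfsg.principalBlock M N) (isPBlock_principalBlock N)
      (trivIrr G) (trivIrr_mem_principalBlock hMax) (trivIrr N) (trivIrr_mem_principalBlock hMax)
      h1 χ hχB θ hover
    exact mem_principalBlock_of_conj N θ θ' hθ' g hconj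
  · intro hθB
    set B : Set (Cfsg.IrrCharacter G) := Cfsg.blockOf M (χ : G → ℂ) with hBdef
    have hB : Cfsg.IsPBlock M B := ⟨χ, rfl⟩
    have hχB : χ ∈ B := mem_blockOf_self hMax χ
    -- a Sylow 2-subgroup of `N`
    obtain ⟨Q₀⟩ : Nonempty (Sylow 2 N) := inferInstance
    set Q : Subgroup G := (Q₀ : Subgroup N).map N.subtype with hQ
    have hQN : Q ≤ N := by
      rintro x ⟨q, -, rfl⟩
      exact q.2
    have hQsub : Q.subgroupOf N = (Q₀ : Subgroup N) := by
      ext x
      rw [Subgroup.mem_subgroupOf]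
      constructor
      · rintro ⟨q, hq, hqx⟩
        have : q = x := Subtype.ext hqx
        rwa [← this]
      · intro hx
        exact ⟨x, hx, rfl⟩
    have hQdef : Cfsg.IsDefectGroup 2 M (Cfsg.principalBlock M N) (Q.subgroupOf N) := by
      rw [isDefectGroup_principal_iff 2 hMax hpM]
      exact ⟨Q₀, hQsub.symm⟩
    obtain ⟨P, hP, hPN⟩ := Kn.knorr_meet hM N (Cfsg.principalBlock M N)
      (isPBlock_principalBlock N) Q hQN hQdef B hB ⟨χ, hχB, θ, hθB, hover⟩
    have hcardP := card_defectGroup hMax 2 hpM B hB P hP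
    -- full defect
    have hQP : Q ≤ P := by
      rw [← hPN]
      exact inf_le_left
    have hcardQ : Nat.card Q = 2 ^ (Nat.card G).factorization 2 := by
      rw [hQ, Subgroup.card_map_of_injective N.subtype_injective, Sylow.card_eq_multiplicity]
      congr 1
      have h1 : Nat.card G = Nat.card N * N.index := (Subgroup.card_mul_index N).symm
      have hN0 : Nat.card N ≠ 0 := Nat.card_pos.ne'
      have hi0 : N.index ≠ 0 := Subgroup.index_ne_zero_of_finite
      rw [h1, Nat.factorization_mul hN0 hi0]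
      have h2 : (N.index).factorization 2 = 0 := by
        apply Nat.factorization_eq_zero_of_not_dvd
        intro h2
        exact (Nat.not_even_iff_odd.mpr hidx) (even_iff_two_dvd.mpr h2)
      simp [h2]
    have hle : (Nat.card G).factorization 2 ≤ Cfsg.blockDefect 2 B := by
      have h1 : Nat.card Q ∣ Nat.card P := Subgroup.card_dvd_of_le hQP
      rw [hcardQ, hcardP] at h1
      exact (Nat.pow_dvd_pow_iff_le_right (by norm_num)).mp h1
    have hdef : Cfsg.blockDefect 2 B = (Nat.card G).factorization 2 := by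
      apply le_antisymm _ hle
      unfold Cfsg.blockDefect
      exact Nat.sub_le _ _
    -- the Galois action
    haveI : Fintype G := inferInstance
    set σ : Cfsg.IrrCharacter G → Cfsg.IrrCharacter G := fun ψ =>
      ⟨fun g => (ψ : G → ℂ) (g ^ k), IsIrrCharacter.comp_pow ψ.2 k hk⟩ with hσ
    have hσinj : Function.Injective σ := by
      intro ψ₁ ψ₂ h
      apply Subtype.ext
      funext g
      obtain ⟨g', rfl⟩ := (powCoprime hk.symm).surjective g
      have := congrFun (congrArg Subtype.val h) g'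
      exact this
    have hσB : ∀ ψ ∈ B, σ ψ ∈ B := by
      intro ψ hψ
      have h1 : Cfsg.SameBlock M (fun x => (χ : G → ℂ) (x ^ k)) (fun x => (ψ : G → ℂ) (x ^ k)) :=
        sameBlock_comp_pow k hk hψ
      have h2 : (fun x => (χ : G → ℂ) (x ^ k)) = (χ : G → ℂ) := funext hχ
      rw [h2] at h1
      exact h1
    have hσval : ∀ (ψ : Cfsg.IrrCharacter G) (g : G), ¬ 2 ∣ orderOf g →
        (σ ψ : G → ℂ) g = (ψ : G → ℂ) g⁻¹ := by
      intro ψ g hg
      show (ψ : G → ℂ) (g ^ k) = _
      rw [hk₂ g (Nat.not_even_iff_odd.mp (fun h => hg (even_iff_two_dvd.mp h)))]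
    have hBeq := eq_principalBlock_of_stable hM B hB hdef σ hσinj hσB hσval
    rw [← hBeq]
    exact hχB

end Cfsg.Agent.Helper6.SigmaPrin
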