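import Mathlib

/-!
# S2772 from S2858, part A: the "transvection" lemma forcing `q = 3`.

`X` finite, `Q ⊴ X` a `2`-group of index `2q` (`q` an odd prime) with `X/Q` of trivial centre,
`V ≤ Q` normal in `X` with `C_X(V) = Q`; if some `t ∉ Q` with `t² ∈ Q` centralizes a subgroup of
index `≤ 2` of `V`, then `q = 3`.
-/

set_option autoImplicit false

namespace Cfsg.Agent.Helper6.Sims2

open scoped Pointwise

section quot

variable {Y : Type*} [Group Y] [Finite Y] {q : ℕ}

/-- In a group of order `2q`, `q` odd, a `2`-subgroup has order at most `2`. -/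
theorem card_le_two_of_isPGroup (hq : Odd q) (hY : Nat.card Y = 2 * q) (K : Subgroup Y)
    (hK : IsPGroup 2 K) : Nat.card K ≤ 2 := by
  have : Fact (Nat.Prime 2) := ⟨Nat.prime_two⟩
  obtain ⟨k, hk⟩ := IsPGroup.iff_card.mp hK
  have hdvd : Nat.card K ∣ Nat.card Y := Subgroup.card_subgroup_dvd_card K
  rw [hk, hY] at hdvd
  rw [hk]
  rcases Nat.lt_or_ge k 2 with h | h
  · interval_cases k <;> norm_num
  · exfalso
    obtain ⟨j, rfl⟩ := Nat.exists_eq_add_of_le h
    rw [pow_add] at hdvd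
    have h4 : (2 : ℕ) ^ 2 ∣ 2 * q := Dvd.dvd.trans (dvd_mul_right _ _) hdvd
    have h2 : 2 ∣ q := by
      have : 2 * 2 ∣ 2 * q := by simpa using h4
      exact (Nat.mul_dvd_mul_iff_left (by norm_num)).mp this
    exact (Nat.not_even_iff_odd.mpr hq) (even_iff_two_dvd.mpr h2)

/-- A subgroup of a group of order `2q` (`q` prime) containing an involution and a third element
is everything. -/
theorem eq_top_of_two_invol (hqp : q.Prime) (hY : Nat.card Y = 2 * q) (M : Subgroup Y)
    (a b : Y) (ha : a ∈ M) (hb : b ∈ M) (ha1 : a ≠ 1) (ha2 : a * a = 1) (hab : a ≠ b)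
    (hb1 : b ≠ 1) : M = ⊤ := by
  have hdvd : Nat.card M ∣ Nat.card Y := Subgroup.card_subgroup_dvd_card M
  have ho : orderOf a = 2 := by
    have h1 : orderOf a ∣ 2 := orderOf_dvd_of_pow_eq_one (by rw [pow_two]; exact ha2)
    rcases (Nat.dvd_prime Nat.prime_two).mp h1 with h | h
    · exact absurd (orderOf_eq_one_iff.mp h) ha1
    · exact h
  have h2 : 2 ∣ Nat.card M := by
    have : orderOf (⟨a, ha⟩ : M) ∣ Nat.card M := orderOf_dvd_natCard _
    rwa [Subgroup.orderOf_mk, ho] at this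
  obtain ⟨m, hm⟩ := h2
  rw [hm, hY] at hdvd
  have hmq : m ∣ q := (Nat.mul_dvd_mul_iff_left (by norm_num)).mp hdvd
  rcases (Nat.dvd_prime hqp).mp hmq with h | h
  · exfalso
    rw [h, mul_one] at hm
    obtain ⟨y, -, hy⟩ := (Nat.card_eq_two_iff' (1 : M)).mp hm
    have h5 := hy ⟨a, ha⟩ (fun h => ha1 (congrArg Subtype.val h))
    have h6 := hy ⟨b, hb⟩ (fun h => hb1 (congrArg Subtype.val h))
    exact hab (congrArg Subtype.val (h5.trans h6.symm))
  · apply (Subgroup.card_eq_iff_eq_top M).mp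
    rw [hm, h, hY]

end quot

section tv

variable {X : Type*} [Group X] [Finite X]

/-- fixed points of the conjugation action of `zpowers x₀` on a normal subgroup `V`. -/
theorem card_fixed_modEq (V : Subgroup X) [V.Normal] (q : ℕ) [Fact q.Prime] (x₀ : X)
    (hx₀ : orderOf x₀ = q) :
    Nat.card V ≡ Nat.card ((Subgroup.centralizer ({x₀} : Set X)).subgroupOf V) [MOD q] := by
  let R : Subgroup X := Subgroup.zpowers x₀
  have hR : IsPGroup q R := by
    apply IsPGroup.of_card (n := 1)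
    rw [pow_one, Nat.card_zpowers, hx₀]
  letI : MulAction R V := MulAction.compHom V ((MulAut.conjNormal (H := V)).comp R.subtype)
  have hmod := hR.card_modEq_card_fixedPoints V
  have hset : MulAction.fixedPoints R V =
      (((Subgroup.centralizer ({x₀} : Set X)).subgroupOf V : Subgroup V) : Set V) := by
    ext v
    rw [MulAction.mem_fixedPoints, SetLike.mem_coe, Subgroup.mem_subgroupOf,
      Subgroup.mem_centralizer_singleton_iff]
    constructor
    · intro h
      have h1 := h ⟨x₀, Subgroup.mem_zpowers x₀⟩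
      have h2 : ((⟨x₀, Subgroup.mem_zpowers x₀⟩ : R) • v : V) =
          MulAut.conjNormal (x₀ : X) v := rfl
      rw [h2] at h1
      have h3 := congrArg Subtype.val h1
      rw [MulAut.conjNormal_apply] at h3
      symm
      calc x₀ * (v : X) = x₀ * v * x₀⁻¹ * x₀ := by group
        _ = v * x₀ := by rw [h3]
    · intro h r
      have h2 : (r • v : V) = MulAut.conjNormal (r : X) v := rfl
      rw [h2]
      apply Subtype.ext
      rw [MulAut.conjNormal_apply]
      obtain ⟨r, hr⟩ := r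
      obtain ⟨k, rfl⟩ := Subgroup.mem_zpowers_iff.mp hr
      have hc : Commute x₀ (v : X) := h.symm
      have hc' : Commute (x₀ ^ k) (v : X) := hc.zpow_left k
      show x₀ ^ k * (v : X) * (x₀ ^ k)⁻¹ = v
      rw [hc'.eq]; group
  rw [hset] at hmod
  exact hmod

/-- **The transvection lemma.** -/
theorem q_eq_three (Q V : Subgroup X) [Q.Normal] [V.Normal]
    (hQ2 : IsPGroup 2 Q) (hVQ : V ≤ Q)
    (hQV : ∀ x ∈ Q, ∀ v ∈ V, x * v = v * x)
    (hcent : ∀ x : X, (∀ v ∈ V, x * v = v * x) → x ∈ Q)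
    (q : ℕ) (hqp : q.Prime) (hq2 : q ≠ 2) (hidx : Q.index = 2 * q)
    (hcen : ∀ x : X, (∀ y : X, x * y * x⁻¹ * y⁻¹ ∈ Q) → x ∈ Q)
    (t : X) (htQ : t ∉ Q) (ht2 : t * t ∈ Q)
    (V₀ : Subgroup X) (hV₀ : V₀ ≤ V) (hidx₀ : V₀.relIndex V ≤ 2)
    (hcomm : ∀ v ∈ V₀, t * v = v * t) : q = 3 := by
  have : Fact q.Prime := ⟨hqp⟩
  have : Fact (Nat.Prime 2) := ⟨Nat.prime_two⟩
  -- a conjugate of `t` in a different coset
  obtain ⟨y, hy⟩ : ∃ y : X, t * y * t⁻¹ * y⁻¹ ∉ Q := by
    by_contra hcon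
    apply htQ
    apply hcen
    intro y
    by_contra h
    exact hcon ⟨y, h⟩
  set t' := y * t * y⁻¹ with ht'
  have ht'Q : t' ∉ Q := by
    intro h
    apply htQ
    have h1 := Subgroup.Normal.conj_mem (inferInstance : Q.Normal) t' h y⁻¹
    have h2 : y⁻¹ * t' * y⁻¹⁻¹ = t := by rw [ht']; group
    rwa [h2] at h1
  have hcardY : Nat.card (X ⧸ Q) = 2 * q := by
    rw [← Subgroup.index_eq_card]; exact hidx
  let a : X ⧸ Q := QuotientGroup.mk t
  let b : X ⧸ Q := QuotientGroup.mk t'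
  have ha1 : a ≠ 1 := fun h => htQ ((QuotientGroup.eq_one_iff t).mp h)
  have hb1 : b ≠ 1 := fun h => ht'Q ((QuotientGroup.eq_one_iff t').mp h)
  have ha2 : a * a = 1 := by
    show (QuotientGroup.mk t : X ⧸ Q) * QuotientGroup.mk t = 1
    rw [← QuotientGroup.mk_mul]
    exact (QuotientGroup.eq_one_iff _).mpr ht2
  have hab : a ≠ b := by
    intro h
    apply hy
    have h1 : t * y * t⁻¹ * y⁻¹ = t * t'⁻¹ := by rw [ht']; group
    rw [h1, ← QuotientGroup.eq_one_iff, QuotientGroup.mk_mul, QuotientGroup.mk_inv]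
    show a * b⁻¹ = 1
    rw [h, mul_inv_cancel]
  -- the common centralizer in `V`
  set V₁ : Subgroup X := V₀.map (MulAut.conj y).toMonoidHom with hV₁
  set C : Subgroup X := V₀ ⊓ V₁ with hC
  have hCV : C ≤ V := inf_le_left.trans hV₀
  have hMtop : Subgroup.centralizer (C : Set X) = ⊤ := by
    set M := Subgroup.centralizer (C : Set X) with hM
    have hQM : Q ≤ M := by
      intro x hx
      rw [hM, Subgroup.mem_centralizer_iff]
      intro c hc
      exact (hQV x hx c (hCV hc)).symm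
    have htM : t ∈ M := by
      rw [hM, Subgroup.mem_centralizer_iff]
      intro c hc
      exact (hcomm c hc.1).symm
    have ht'M : t' ∈ M := by
      rw [hM, Subgroup.mem_centralizer_iff]
      intro c hc
      obtain ⟨v, hv, rfl⟩ := hc.2
      have := hcomm v hv
      show (MulAut.conj y) v * t' = t' * (MulAut.conj y) v
      rw [MulAut.conj_apply, ht']
      calc y * v * y⁻¹ * (y * t * y⁻¹) = y * (v * t) * y⁻¹ := by group
        _ = y * (t * v) * y⁻¹ := by rw [this]
        _ = y * t * y⁻¹ * (y * v * y⁻¹) := by group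
    have hmap : M.map (QuotientGroup.mk' Q) = ⊤ :=
      eq_top_of_two_invol hqp hcardY _ a b ⟨t, htM, rfl⟩ ⟨t', ht'M, rfl⟩ ha1 ha2 hab hb1
    have h2 := Subgroup.comap_map_eq (QuotientGroup.mk' Q) M
    rw [hmap, Subgroup.comap_top, QuotientGroup.ker_mk', sup_of_le_left hQM] at h2
    exact h2.symm
  have hidx₁ : V₁.relIndex V ≤ 2 := by
    have hVmap : V.map (MulAut.conj y).toMonoidHom = V :=
      Subgroup.Normal.map_conj_eq V y
    have h1 := Subgroup.relIndex_map_map_of_injective (f := (MulAut.conj y).toMonoidHom) V₀ V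
      (MulAut.conj y).injective
    rw [hVmap] at h1
    rw [hV₁]
    exact h1.le.trans hidx₀
  have hidxC : C.relIndex V ≤ 4 := by
    calc C.relIndex V ≤ V₀.relIndex V * V₁.relIndex V := Subgroup.relIndex_inf_le
      _ ≤ 2 * 2 := Nat.mul_le_mul hidx₀ hidx₁
  -- an element of order `q`
  have hcardX : Nat.card X = 2 * q * Nat.card Q := by rw [← hidx, Subgroup.index_mul_card]
  obtain ⟨x₀, hx₀⟩ := exists_prime_orderOf_dvd_card' q
    (by rw [hcardX]; exact Dvd.dvd.mul_right (Dvd.intro_left 2 rfl) _)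
  have hmod := card_fixed_modEq V q x₀ hx₀
  set F := (Subgroup.centralizer ({x₀} : Set X)).subgroupOf V with hF
  have hCF : C.subgroupOf V ≤ F := by
    intro v hv
    rw [hF, Subgroup.mem_subgroupOf, Subgroup.mem_centralizer_singleton_iff]
    have h1 : x₀ ∈ Subgroup.centralizer (C : Set X) := hMtop ▸ Subgroup.mem_top x₀
    exact Subgroup.mem_centralizer_iff.mp h1 v hv
  have hcV : Nat.card V = C.relIndex V * Nat.card (C.subgroupOf V) := by
    rw [Subgroup.relIndex, mul_comm]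
    exact (Subgroup.card_mul_index _).symm
  obtain ⟨n, hn⟩ := IsPGroup.iff_card.mp (hQ2.to_le hVQ)
  have hFd : Nat.card F ∣ Nat.card V := Subgroup.card_subgroup_dvd_card F
  rw [hn] at hFd
  obtain ⟨m, hmn, hm⟩ := (Nat.dvd_prime_pow Nat.prime_two).mp hFd
  have hle : Nat.card V ≤ 4 * Nat.card F := by
    calc Nat.card V = C.relIndex V * Nat.card (C.subgroupOf V) := hcV
      _ ≤ 4 * Nat.card F := Nat.mul_le_mul hidxC (Subgroup.card_le_of_le hCF)
  have hFne : Nat.card F ≠ Nat.card V := by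
    intro h
    have hFtop : F = ⊤ := (Subgroup.card_eq_iff_eq_top F).mp h
    have hx₀Q : x₀ ∈ Q := by
      apply hcent
      intro v hv
      have h1 : (⟨v, hv⟩ : V) ∈ F := hFtop ▸ Subgroup.mem_top _
      rw [hF, Subgroup.mem_subgroupOf, Subgroup.mem_centralizer_singleton_iff] at h1
      exact h1.symm
    obtain ⟨k, hk⟩ := hQ2 ⟨x₀, hx₀Q⟩
    have h1 : x₀ ^ 2 ^ k = 1 := congrArg Subtype.val hk
    have hdvd := orderOf_dvd_of_pow_eq_one h1
    rw [hx₀] at hdvd
    exact hq2 ((Nat.prime_dvd_prime_iff_eq hqp Nat.prime_two).mp (hqp.dvd_of_dvd_pow hdvd))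
  rw [hn, hm] at hmod hle
  rw [hm, hn] at hFne
  have hpow : (2 : ℕ) ^ m ≤ 2 ^ n := Nat.pow_le_pow_right (by norm_num) hmn
  have hdvd : q ∣ 2 ^ n - 2 ^ m := (Nat.modEq_iff_dvd' hpow).mp hmod.symm
  have hn2 : n ≤ m + 2 := by
    have h1 : (2 : ℕ) ^ n ≤ 2 ^ (m + 2) := by rw [pow_add]; linarith
    exact (Nat.pow_le_pow_iff_right (by norm_num)).mp h1
  have hnm : n ≠ m := fun h => hFne (by rw [h])
  have hq2' : ¬ q ∣ 2 ^ m := fun h =>
    hq2 ((Nat.prime_dvd_prime_iff_eq hqp Nat.prime_two).mp (hqp.dvd_of_dvd_pow h))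
  rcases (by omega : n = m + 1 ∨ n = m + 2) with h | h
  · exfalso
    apply hq2'
    have h1 : (2 : ℕ) ^ n - 2 ^ m = 2 ^ m := by rw [h, pow_succ]; omega
    rwa [h1] at hdvd
  · have h1 : (2 : ℕ) ^ n - 2 ^ m = 2 ^ m * 3 := by rw [h, pow_add]; omega
    rw [h1] at hdvd
    rcases (Nat.Prime.dvd_mul hqp).mp hdvd with h2 | h2
    · exact absurd h2 hq2'
    · exact (Nat.prime_dvd_prime_iff_eq hqp Nat.prime_three).mp h2

end tv

end Cfsg.Agent.Helper6.Sims2
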