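import Mathlib
import Cfsg.Prelude.Def_Amalgam
import Cfsg.Agent.Gold.Base
import Cfsg.Agent.Helper6.GoldSpe
import Cfsg.Agent.Helper6.Sims2A

/-!
# S2772 from S2858, part B: the local theory of a group `X` with `X / O_2(X)` dihedral of order `2q`.
-/

set_option autoImplicit false

namespace Cfsg.Agent.Helper6.Sims2

open Cfsg Cfsg.Agent.Gold

section loc

variable {X : Type*} [Group X]

/-- `|X : O_2(X)| = 2q`. -/
theorem index_pCore {q : ℕ} (e : X ⧸ Cfsg.pCore 2 X ≃* DihedralGroup q) :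
    (Cfsg.pCore 2 X).index = 2 * q := by
  rw [Subgroup.index_eq_card, Nat.card_congr e.toEquiv, DihedralGroup.nat_card]

/-- trivial centre of the dihedral quotient, elementwise -/
theorem mem_pCore_of_central {q : ℕ} (hq : Odd q) (hq1 : q ≠ 1)
    (e : X ⧸ Cfsg.pCore 2 X ≃* DihedralGroup q) (x : X)
    (h : ∀ y : X, x * y * x⁻¹ * y⁻¹ ∈ Cfsg.pCore 2 X) : x ∈ Cfsg.pCore 2 X := by
  have hc : e (QuotientGroup.mk x) ∈ Subgroup.center (DihedralGroup q) := by
    rw [Subgroup.mem_center_iff]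
    intro g
    obtain ⟨y', rfl⟩ := e.surjective g
    obtain ⟨y, rfl⟩ := QuotientGroup.mk_surjective y'
    rw [← map_mul, ← map_mul, ← QuotientGroup.mk_mul, ← QuotientGroup.mk_mul]
    congr 1
    have h1 := (QuotientGroup.eq_one_iff (N := Cfsg.pCore 2 X) _).mpr (h y)
    rw [QuotientGroup.mk_mul, QuotientGroup.mk_mul, QuotientGroup.mk_mul, QuotientGroup.mk_inv,
      QuotientGroup.mk_inv] at h1
    have h2 : (QuotientGroup.mk x : X ⧸ Cfsg.pCore 2 X) * QuotientGroup.mk y =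
        QuotientGroup.mk y * QuotientGroup.mk x := by
      calc (QuotientGroup.mk x : X ⧸ Cfsg.pCore 2 X) * QuotientGroup.mk y
          = (QuotientGroup.mk x * QuotientGroup.mk y * (QuotientGroup.mk x)⁻¹ *
              (QuotientGroup.mk y)⁻¹) * (QuotientGroup.mk y * QuotientGroup.mk x) := by group
        _ = QuotientGroup.mk y * QuotientGroup.mk x := by rw [h1, one_mul]
    rw [QuotientGroup.mk_mul, QuotientGroup.mk_mul]
    exact h2.symm
  rw [DihedralGroup.center_eq_bot_of_odd_ne_one hq hq1, Subgroup.mem_bot] at hc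
  have h3 : (QuotientGroup.mk x : X ⧸ Cfsg.pCore 2 X) = 1 := by
    have := congrArg e.symm hc
    simpa using this
  exact (QuotientGroup.eq_one_iff x).mp h3

variable [Finite X]

/-- `q ≠ 2`. -/
theorem q_ne_two {q : ℕ} (e : X ⧸ Cfsg.pCore 2 X ≃* DihedralGroup q) : q ≠ 2 := by
  have : Fact (Nat.Prime 2) := ⟨Nat.prime_two⟩
  intro hq
  have hidx := index_pCore e
  rw [hq] at hidx
  obtain ⟨k, hk⟩ := IsPGroup.iff_card.mp (Gold.pCore_isPGroup 2 X)
  have hX : Nat.card X = 2 ^ (k + 2) := by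
    rw [← Subgroup.index_mul_card (Cfsg.pCore 2 X), hidx, hk, pow_add]; ring
  have hXp : IsPGroup 2 X := IsPGroup.of_card hX
  have htop : IsPGroup 2 (⊤ : Subgroup X) := hXp.of_equiv Subgroup.topEquiv.symm
  have hle : (⊤ : Subgroup X) ≤ Cfsg.pCore 2 X :=
    Gold.le_pCore_of_normal ⊤ inferInstance htop
  rw [top_le_iff.mp hle, Subgroup.index_top] at hidx
  omega

/-- In a group of order `2 ^ k * m`, `m` odd, a Sylow `2`-subgroup has order `2 ^ k`. -/
theorem card_sylow_two_odd (k m : ℕ) (hm : Odd m) (hX : Nat.card X = 2 ^ k * m)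
    (S : Sylow 2 X) : Nat.card (S : Subgroup X) = 2 ^ k := by
  have : Fact (Nat.Prime 2) := ⟨Nat.prime_two⟩
  have h1 : 2 ^ k ∣ Nat.card (S : Subgroup X) :=
    S.pow_dvd_card_of_pow_dvd_card (by rw [hX]; exact dvd_mul_right _ _)
  obtain ⟨a, ha⟩ := IsPGroup.iff_card.mp S.isPGroup'
  have h2 : Nat.card (S : Subgroup X) ∣ Nat.card X := Subgroup.card_subgroup_dvd_card _
  rw [ha, hX] at h2
  have hcop : Nat.Coprime 2 m := Nat.coprime_two_left.mpr hm
  have h3 : 2 ^ a ∣ 2 ^ k := (Nat.Coprime.pow_left a hcop).dvd_of_dvd_mul_right h2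
  rw [ha] at h1 ⊢
  exact Nat.dvd_antisymm h3 h1

section dih

variable {q : ℕ} (hqp : q.Prime) (e : X ⧸ Cfsg.pCore 2 X ≃* DihedralGroup q) (S : Sylow 2 X)

include hqp e

theorem q_odd : Odd q := hqp.odd_of_ne_two (q_ne_two e)

/-- `|S| = 2 |O_2(X)|`. -/
theorem card_sylow_dih : Nat.card (S : Subgroup X) = 2 * Nat.card (Cfsg.pCore 2 X) := by
  have : Fact (Nat.Prime 2) := ⟨Nat.prime_two⟩
  obtain ⟨k, hk⟩ := IsPGroup.iff_card.mp (Gold.pCore_isPGroup 2 X)
  have hX : Nat.card X = 2 ^ (k + 1) * q := by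
    rw [← Subgroup.index_mul_card (Cfsg.pCore 2 X), index_pCore e, hk, pow_succ]; ring
  rw [card_sylow_two_odd (k + 1) q (q_odd hqp e) hX S, hk, pow_succ]; ring

/-- `|X| = q |S|`. -/
theorem card_eq_q_mul : Nat.card X = q * Nat.card (S : Subgroup X) := by
  rw [card_sylow_dih hqp e S, ← Subgroup.index_mul_card (Cfsg.pCore 2 X), index_pCore e]; ring

/-- `S` is a maximal subgroup of `X`. -/
theorem sylow_maximal (K : Subgroup X) (hSK : (S : Subgroup X) ≤ K) :
    K = (S : Subgroup X) ∨ K = ⊤ := by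
  obtain ⟨m, hm⟩ := Subgroup.card_dvd_of_le hSK
  obtain ⟨n, hn⟩ := Subgroup.card_subgroup_dvd_card K
  have hX := card_eq_q_mul hqp e S
  have hmn : m * n = q := by
    have hSpos : 0 < Nat.card (S : Subgroup X) := Nat.card_pos
    have h1 : Nat.card (S : Subgroup X) * (m * n) = Nat.card (S : Subgroup X) * q := by
      rw [← mul_assoc, ← hm, ← hn, hX]; ring
    exact Nat.eq_of_mul_eq_mul_left hSpos h1
  have hmq : m ∣ q := ⟨n, hmn.symm⟩
  rcases (Nat.dvd_prime hqp).mp hmq with h | h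
  · left
    symm
    apply Subgroup.eq_of_le_of_card_ge hSK
    rw [hm, h, mul_one]
  · right
    apply (Subgroup.card_eq_iff_eq_top K).mp
    rw [hm, h, hX]; ring

end dih

omit [Finite X] in
theorem pCore_le_sylow (S : Sylow 2 X) : Cfsg.pCore 2 X ≤ (S : Subgroup X) :=
  (Gold.pCore_isPGroup 2 X).le_sylow_of_normal S

end loc

section vsub

variable {X : Type*} [Group X]

/-- `Ω₁ Z(Q)` is normal when `Q` is. -/
theorem omZ_normal (Q : Subgroup X) [Q.Normal] : (omZ Q).Normal := ⟨fun z hz g => by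
  obtain ⟨h1, h2, h3⟩ := hz
  refine ⟨Subgroup.Normal.conj_mem inferInstance z h1 g, ?_, ?_⟩
  · calc g * z * g⁻¹ * (g * z * g⁻¹) = g * (z * z) * g⁻¹ := by group
      _ = 1 := by rw [h2]; group
  · intro h hh
    have hh' : g⁻¹ * h * g ∈ Q := by
      have := Subgroup.Normal.conj_mem (inferInstance : Q.Normal) h hh g⁻¹
      simpa using this
    have := h3 _ hh'
    calc h * (g * z * g⁻¹) = g * ((g⁻¹ * h * g) * z) * g⁻¹ := by group
      _ = g * (z * (g⁻¹ * h * g)) * g⁻¹ := by rw [this]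
      _ = g * z * g⁻¹ * h := by group⟩

/-- `V = ⟨Ω₁Z(S)^X⟩`. -/
def Vs (S : Subgroup X) : Subgroup X := Subgroup.normalClosure (omZ S : Set X)

instance Vs_normal (S : Subgroup X) : (Vs S).Normal := Subgroup.normalClosure_normal

theorem omZ_le_Vs (S : Subgroup X) : omZ S ≤ Vs S := Subgroup.subset_normalClosure

theorem omZ_le_omZ {S Q : Subgroup X} (hQS : Q ≤ S)
    (hchar : Subgroup.centralizer (Q : Set X) ≤ Q) : omZ S ≤ omZ Q := by
  rintro z ⟨h1, h2, h3⟩
  have hzQ : z ∈ Q := by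
    apply hchar
    rw [Subgroup.mem_centralizer_iff]
    intro h hh
    exact h3 h (hQS hh)
  exact ⟨hzQ, h2, fun h hh => h3 h (hQS hh)⟩

theorem Vs_le_omZ {S Q : Subgroup X} [Q.Normal] (hQS : Q ≤ S)
    (hchar : Subgroup.centralizer (Q : Set X) ≤ Q) : Vs S ≤ omZ Q := by
  haveI := omZ_normal Q
  exact Subgroup.normalClosure_le_normal (omZ_le_omZ hQS hchar)

variable [Finite X]

/-- `C_X(V) ≤ O_2(X)` when `Ω₁Z(S)` is not central. -/
theorem mem_pCore_of_centralizes_Vs {q : ℕ} (hqp : q.Prime)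
    (e : X ⧸ Cfsg.pCore 2 X ≃* DihedralGroup q) (S : Sylow 2 X)
    (hnc : ∃ z ∈ omZ (S : Subgroup X), ∃ x : X, x * z ≠ z * x) (x : X)
    (hx : ∀ v ∈ Vs (S : Subgroup X), x * v = v * x) : x ∈ Cfsg.pCore 2 X := by
  set CV := Subgroup.centralizer (Vs (S : Subgroup X) : Set X) with hCV
  have hxCV : x ∈ CV := by
    rw [hCV, Subgroup.mem_centralizer_iff]
    intro v hv
    exact (hx v hv).symm
  rcases sylow_maximal hqp e S (CV ⊔ (S : Subgroup X)) le_sup_right with h | h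
  · have hle : CV ≤ (S : Subgroup X) := h ▸ le_sup_left
    have hp : IsPGroup 2 CV := S.isPGroup'.to_le hle
    exact Gold.le_pCore_of_normal CV inferInstance hp hxCV
  · exfalso
    obtain ⟨z, hz, x', hx'⟩ := hnc
    have h1 : CV ⊔ (S : Subgroup X) ≤ Subgroup.centralizer (omZ (S : Subgroup X) : Set X) := by
      apply sup_le
      · exact Subgroup.centralizer_le (omZ_le_Vs _)
      · intro s hs
        rw [Subgroup.mem_centralizer_iff]
        intro z' hz'
        exact (hz'.2.2 s hs).symm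
    rw [h] at h1
    have h2 : x' ∈ Subgroup.centralizer (omZ (S : Subgroup X) : Set X) := h1 (Subgroup.mem_top x')
    exact hx' (Subgroup.mem_centralizer_iff.mp h2 z hz).symm

/-- The local conclusion: a "transvection" on `V` forces `q = 3`. -/
theorem q_eq_three_of_local {q : ℕ} (hqp : q.Prime)
    (e : X ⧸ Cfsg.pCore 2 X ≃* DihedralGroup q)
    (hchar : Subgroup.centralizer (Cfsg.pCore 2 X : Set X) ≤ Cfsg.pCore 2 X) (S : Sylow 2 X)
    (hnc : ∃ z ∈ omZ (S : Subgroup X), ∃ x : X, x * z ≠ z * x)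
    (t : X) (htQ : t ∉ Cfsg.pCore 2 X) (ht2 : t * t ∈ Cfsg.pCore 2 X)
    (V₀ : Subgroup X) (hV₀ : V₀ ≤ Vs (S : Subgroup X))
    (hidx₀ : V₀.relIndex (Vs (S : Subgroup X)) ≤ 2)
    (hcomm : ∀ v ∈ V₀, t * v = v * t) : q = 3 := by
  have hVom : Vs (S : Subgroup X) ≤ omZ (Cfsg.pCore 2 X) := Vs_le_omZ (pCore_le_sylow S) hchar
  exact q_eq_three (Cfsg.pCore 2 X) (Vs (S : Subgroup X)) (Gold.pCore_isPGroup 2 X)
    (hVom.trans (omZ_le _)) (fun x hx v hv => (hVom hv).2.2 x hx)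
    (mem_pCore_of_centralizes_Vs hqp e S hnc) q hqp (q_ne_two e) (index_pCore e)
    (mem_pCore_of_central (q_odd hqp e) hqp.one_lt.ne' e) t htQ ht2 V₀ hV₀ hidx₀ hcomm

end vsub

end Cfsg.Agent.Helper6.Sims2
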