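import Mathlib

/-!
# S2772 from S2858, part C: existence of a "critical pair" (graph-free path argument).

`H = ⟨G, g⟩`, `V ≤ Q ≤ G` with `V` normal in `G` and `Q ≤ G^g ⊓ G^{g⁻¹}`.  If not all
`H`-conjugates of `V` lie in `Q`, there is `w` with `V ≤ G^w`, `V^w ≤ G` and `V ≰ Q^w`.
-/

set_option autoImplicit false

namespace Cfsg.Agent.Helper6.Sims2

section path

variable {H : Type*} [Group H]

/-- `Wn G g n`: the products `p₀ e₁ p₁ ⋯ e_n p_n` with `p_i ∈ G`, `e_i ∈ {g, g⁻¹}`. -/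
def Wn (G : Subgroup H) (g : H) : ℕ → Set H
  | 0 => (G : Set H)
  | (n + 1) => {w | ∃ w' ∈ Wn G g n, ∃ e : H, (e = g ∨ e = g⁻¹) ∧ ∃ p ∈ G, w = w' * e * p}

variable {G : Subgroup H} {g : H}

theorem mem_Wn_zero {w : H} : w ∈ Wn G g 0 ↔ w ∈ G := Iff.rfl

theorem mem_Wn_succ {n : ℕ} {w : H} : w ∈ Wn G g (n + 1) ↔
    ∃ w' ∈ Wn G g n, ∃ e : H, (e = g ∨ e = g⁻¹) ∧ ∃ p ∈ G, w = w' * e * p := Iff.rfl

theorem Wn_mul_mem {n : ℕ} {w p : H} (hw : w ∈ Wn G g n) (hp : p ∈ G) : w * p ∈ Wn G g n := by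
  cases n with
  | zero => exact G.mul_mem hw hp
  | succ n =>
    obtain ⟨w', hw', e, he, p', hp', rfl⟩ := hw
    exact ⟨w', hw', e, he, p' * p, G.mul_mem hp' hp, by group⟩

theorem Wn_left {n : ℕ} {w : H} (hw : w ∈ Wn G g (n + 1)) :
    ∃ p ∈ G, ∃ e : H, (e = g ∨ e = g⁻¹) ∧ ∃ w'' ∈ Wn G g n, w = p * e * w'' := by
  induction n generalizing w with
  | zero =>
    obtain ⟨w', hw', e, he, p, hp, rfl⟩ := hw
    exact ⟨w', hw', e, he, p, hp, rfl⟩
  | succ n ih =>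
    obtain ⟨w', hw', e, he, p, hp, rfl⟩ := hw
    obtain ⟨p₁, hp₁, e₁, he₁, w₁, hw₁, rfl⟩ := ih hw'
    exact ⟨p₁, hp₁, e₁, he₁, w₁ * e * p, ⟨w₁, hw₁, e, he, p, hp, rfl⟩, by group⟩

theorem exists_mem_Wn (hgen : Subgroup.closure ((G : Set H) ∪ {g}) = ⊤) (w : H) :
    ∃ n, w ∈ Wn G g n := by
  have hw : w ∈ Subgroup.closure ((G : Set H) ∪ {g}) := hgen ▸ Subgroup.mem_top w
  induction hw using Subgroup.closure_induction_right with
  | one => exact ⟨0, G.one_mem⟩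
  | mul_right x hx y hy ih =>
    obtain ⟨n, hn⟩ := ih
    rcases hy with hy | hy
    · exact ⟨n, Wn_mul_mem hn hy⟩
    · rw [Set.mem_singleton_iff] at hy
      subst hy
      exact ⟨n + 1, x, hn, y, Or.inl rfl, 1, G.one_mem, by group⟩
  | mul_inv_cancel x hx y hy ih =>
    obtain ⟨n, hn⟩ := ih
    rcases hy with hy | hy
    · exact ⟨n, Wn_mul_mem hn (G.inv_mem hy)⟩
    · rw [Set.mem_singleton_iff] at hy
      subst hy
      exact ⟨n + 1, x, hn, y⁻¹, Or.inr rfl, 1, G.one_mem, by group⟩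

/-- **Existence of a critical pair.** -/
theorem exists_critical (G Q V : Subgroup H) (g : H)
    (hVQ : V ≤ Q)
    (hVn : ∀ p ∈ G, ∀ v ∈ V, p * v * p⁻¹ ∈ V)
    (hQg : ∀ x ∈ Q, g * x * g⁻¹ ∈ G ∧ g⁻¹ * x * g ∈ G)
    (hgen : Subgroup.closure ((G : Set H) ∪ {g}) = ⊤)
    (hnot : ¬ ∀ w : H, ∀ v ∈ V, w⁻¹ * v * w ∈ Q) :
    ∃ w : H, (∀ v ∈ V, w⁻¹ * v * w ∈ G) ∧ (∀ v ∈ V, w * v * w⁻¹ ∈ G) ∧
      ∃ v ∈ V, w⁻¹ * v * w ∉ Q := by
  by_contra hcon
  have hQe : ∀ e : H, (e = g ∨ e = g⁻¹) → ∀ x ∈ Q, e * x * e⁻¹ ∈ G ∧ e⁻¹ * x * e ∈ G := by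
    rintro e (rfl | rfl) x hx
    · exact hQg x hx
    · have := hQg x hx
      rw [inv_inv]
      exact ⟨this.2, this.1⟩
  have key : ∀ n : ℕ, ∀ w ∈ Wn G g n, ∀ v ∈ V, w⁻¹ * v * w ∈ Q ∧ w * v * w⁻¹ ∈ Q := by
    intro n
    induction n with
    | zero =>
      intro w hw v hv
      constructor
      · have := hVn w⁻¹ (G.inv_mem hw) v hv
        rw [inv_inv] at this
        exact hVQ this
      · exact hVQ (hVn w hw v hv)
    | succ n ih =>
      intro w hw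
      have h1 : ∀ v ∈ V, w⁻¹ * v * w ∈ G := by
        intro v hv
        obtain ⟨w', hw', e, he, p, hp, rfl⟩ := hw
        have hx := (ih w' hw' v hv).1
        have hG := (hQe e he _ hx).2
        have : (w' * e * p)⁻¹ * v * (w' * e * p) = p⁻¹ * (e⁻¹ * (w'⁻¹ * v * w') * e) * p := by
          group
        rw [this]
        exact G.mul_mem (G.mul_mem (G.inv_mem hp) hG) hp
      have h2 : ∀ v ∈ V, w * v * w⁻¹ ∈ G := by
        intro v hv
        obtain ⟨p, hp, e, he, w'', hw'', rfl⟩ := Wn_left hw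
        have hx := (ih w'' hw'' v hv).2
        have hG := (hQe e he _ hx).1
        have : (p * e * w'') * v * (p * e * w'')⁻¹ = p * (e * (w'' * v * w''⁻¹) * e⁻¹) * p⁻¹ := by
          group
        rw [this]
        exact G.mul_mem (G.mul_mem hp hG) (G.inv_mem hp)
      intro v hv
      constructor
      · by_contra h
        exact hcon ⟨w, h1, h2, v, hv, h⟩
      · by_contra h
        refine hcon ⟨w⁻¹, ?_, ?_, v, hv, ?_⟩
        · intro v' hv'
          rw [inv_inv]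
          exact h2 v' hv'
        · intro v' hv'
          rw [inv_inv]
          exact h1 v' hv'
        · rw [inv_inv]
          exact h
  apply hnot
  intro w v hv
  obtain ⟨n, hn⟩ := exists_mem_Wn hgen w
  exact (key n w hn v hv).1

end path

end Cfsg.Agent.Helper6.Sims2
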