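import Mathlib
import Cfsg.Prelude.Def_Amalgam
import Cfsg.Agent.Gold.Base
import Cfsg.Agent.Helper6.GoldSpe

/-!
# S2772 from S2858, part D: transport lemmas (`pCore` under isomorphisms, conjugates), `D₃ ≅ S₃`,
`Ω₁Z` bridges.
-/

set_option autoImplicit false

namespace Cfsg.Agent.Helper6.Sims2

open Cfsg Cfsg.Agent.Gold

section transport

/-- `O_p` is preserved by isomorphisms (one inclusion). -/
theorem map_pCore_le {p : ℕ} {A B : Type*} [Group A] [Group B] (e : A ≃* B) :
    (Cfsg.pCore p A).map e.toMonoidHom ≤ Cfsg.pCore p B := by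
  apply Gold.le_pCore_of_normal
  · exact Subgroup.Normal.map inferInstance _ e.surjective
  · exact (Gold.pCore_isPGroup p A).map _

/-- `O_p` is preserved by isomorphisms. -/
theorem map_pCore_eq {p : ℕ} {A B : Type*} [Group A] [Group B] (e : A ≃* B) :
    (Cfsg.pCore p A).map e.toMonoidHom = Cfsg.pCore p B := by
  apply le_antisymm (map_pCore_le e)
  intro b hb
  have h1 := map_pCore_le (p := p) e.symm (Subgroup.mem_map_of_mem _ hb)
  refine ⟨e.symm b, h1, ?_⟩
  simp

variable {H : Type*} [Group H]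

/-- `O_p` of a conjugate (more generally of the image under an automorphism). -/
theorem pCoreOf_map (p : ℕ) (φ : H ≃* H) (P : Subgroup H) :
    Cfsg.pCoreOf p (P.map φ.toMonoidHom) = (Cfsg.pCoreOf p P).map φ.toMonoidHom := by
  unfold Cfsg.pCoreOf
  let e : ↥P ≃* ↥(P.map φ.toMonoidHom) := φ.subgroupMap P
  rw [← map_pCore_eq (p := p) e, Subgroup.map_map, Subgroup.map_map]
  congr 1

/-- The centralizer of the image under an automorphism. -/
theorem centralizer_map (φ : H ≃* H) (K : Subgroup H) :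
    Subgroup.centralizer ((K.map φ.toMonoidHom : Subgroup H) : Set H) =
      (Subgroup.centralizer (K : Set H)).map φ.toMonoidHom := by
  ext x
  rw [Subgroup.mem_centralizer_iff, Subgroup.mem_map]
  constructor
  · intro h
    refine ⟨φ.symm x, ?_, by simp⟩
    rw [Subgroup.mem_centralizer_iff]
    intro k hk
    have := h (φ k) (Subgroup.mem_map_of_mem _ hk)
    apply φ.injective
    simpa using this
  · rintro ⟨y, hy, rfl⟩ k hk
    obtain ⟨k', hk', rfl⟩ := hk
    have := Subgroup.mem_centralizer_iff.mp hy k' hk'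
    show φ k' * φ y = φ y * φ k'
    rw [← map_mul, ← map_mul, this]

end transport

section dthree

/-- the map `D₃ → S₃` -/
def d3fun : DihedralGroup 3 → Equiv.Perm (Fin 3)
  | DihedralGroup.r i => (Equiv.addRight (-i : ZMod 3) : Equiv.Perm (ZMod 3))
  | DihedralGroup.sr i =>
    ((Equiv.neg (ZMod 3)).trans (Equiv.addRight (i : ZMod 3)) : Equiv.Perm (ZMod 3))

theorem d3fun_mul : ∀ a b : DihedralGroup 3, d3fun (a * b) = d3fun a * d3fun b := by decide

theorem d3fun_bij : Function.Bijective d3fun := by decide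

/-- `D₃ ≅ S₃`. -/
noncomputable def d3equiv : DihedralGroup 3 ≃* Equiv.Perm (Fin 3) :=
  MulEquiv.ofBijective (MonoidHom.mk' d3fun d3fun_mul) d3fun_bij

end dthree

section bridges

variable {H : Type*} [Group H]

/-- `Ω₁(Z(T))` in the two notations. -/
theorem omegaOne_eq_omZ (T : Subgroup H) :
    Cfsg.omegaOne 2 (T ⊓ Subgroup.centralizer (T : Set H)) = omZ T := by
  unfold Cfsg.omegaOne
  have hset : {x : H | x ∈ T ⊓ Subgroup.centralizer (T : Set H) ∧ x ^ 2 = 1} = (omZ T : Set H) := by
    ext x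
    simp only [Set.mem_ofPred_eq, SetLike.mem_coe, Subgroup.mem_inf, Subgroup.mem_centralizer_iff,
      mem_omZ, pow_two]
    tauto
  rw [hset, Subgroup.closure_eq]

/-- `Ω₁Z` of the image of a subgroup of a subgroup. -/
theorem omZ_map_subtype (G : Subgroup H) (S : Subgroup G) :
    omZ (S.map G.subtype) = (omZ S).map G.subtype := by
  ext x
  constructor
  · rintro ⟨h1, h2, h3⟩
    obtain ⟨s, hs, rfl⟩ := h1
    refine ⟨s, ⟨hs, ?_, ?_⟩, rfl⟩
    · apply Subtype.ext
      exact h2
    · intro h hh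
      apply Subtype.ext
      exact h3 (h : H) ⟨h, hh, rfl⟩
  · rintro ⟨s, ⟨hs, h2, h3⟩, rfl⟩
    refine ⟨⟨s, hs, rfl⟩, ?_, ?_⟩
    · exact congrArg Subtype.val h2
    · rintro h ⟨h', hh', rfl⟩
      exact congrArg Subtype.val (h3 h' hh')

end bridges

end Cfsg.Agent.Helper6.Sims2
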