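import Mathlib
import Cfsg.Prelude.Def_Amalgam
import Cfsg.Agent.Gold.Base
import Cfsg.Agent.Helper6.GoldSpe
import Cfsg.Agent.Helper6.Sims2A
import Cfsg.Agent.Helper6.Sims2B
import Cfsg.Agent.Helper6.Sims2C
import Cfsg.Agent.Helper6.Sims2D

/-!
# S2772 from S2858, part E: a maximal subgroup of a simple group and its conjugate by `g ∈ N(S) ∖ G`.
-/

set_option autoImplicit false

namespace Cfsg.Agent.Helper6.Sims2

open Cfsg Cfsg.Agent.Gold

section simple

variable {H : Type*} [Group H] [IsSimpleGroup H]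

theorem center_eq_bot (hna : ¬ IsMulCommutative H) : Subgroup.center H = ⊥ := by
  rcases (inferInstance : (Subgroup.center H).Normal).eq_bot_or_eq_top with h | h
  · exact h
  · exfalso
    apply hna
    rw [isMulCommutative_iff]
    intro a b
    have : a ∈ Subgroup.center H := h ▸ Subgroup.mem_top a
    exact (Subgroup.mem_center_iff.mp this b).symm

variable (G : Subgroup H) (hG : IsCoatom G)

include hG

omit [IsSimpleGroup H] in
theorem closure_eq_top {g : H} (hg : g ∉ G) : Subgroup.closure ((G : Set H) ∪ {g}) = ⊤ := by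
  apply hG.2
  rw [lt_iff_le_and_ne]
  refine ⟨?_, ?_⟩
  · intro x hx
    exact Subgroup.subset_closure (Or.inl hx)
  · intro h
    apply hg
    rw [h]
    exact Subgroup.subset_closure (Or.inr rfl)

theorem normalizer_eq_self (hne : G ≠ ⊥) : Subgroup.normalizer (G : Set H) = G := by
  by_contra hcon
  have hlt : G < Subgroup.normalizer (G : Set H) :=
    lt_of_le_of_ne Subgroup.le_normalizer (Ne.symm hcon)
  have htop := hG.2 _ hlt
  have hn : G.Normal := Subgroup.normalizer_eq_top_iff.mp htop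
  rcases hn.eq_bot_or_eq_top with h | h
  · exact hne h
  · exact hG.1 h

theorem sup_conj_eq_top [Finite H] (hne : G ≠ ⊥) {g : H} (hg : g ∉ G) :
    G ⊔ G.map (MulAut.conj g).toMonoidHom = ⊤ := by
  by_contra hcon
  have hle : G.map (MulAut.conj g).toMonoidHom ≤ G := by
    have h1 : G ≤ G ⊔ G.map (MulAut.conj g).toMonoidHom := le_sup_left
    rcases eq_or_lt_of_le h1 with h | h
    · exact le_sup_right.trans h.ge
    · exact absurd (hG.2 _ h) hcon
  have heq : G.map (MulAut.conj g).toMonoidHom = G := by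
    apply Subgroup.eq_of_le_of_card_ge hle
    rw [Subgroup.card_map_of_injective (MulAut.conj g).injective]
  have hgn : g ∈ Subgroup.normalizer (G : Set H) := Subgroup.mem_normalizer_iff_map_conj_eq.mpr heq
  rw [normalizer_eq_self G hG hne] at hgn
  exact hg hgn

end simple

section main

variable {H : Type*} [Group H] [Finite H]
  (G : Subgroup H) (S : Sylow 2 ↥G) {q : ℕ} (hq : q.Prime)
  (e : ↥G ⧸ Cfsg.pCore 2 ↥G ≃* DihedralGroup q)

include hq e

omit [Finite H] in
theorem G_ne_bot : G ≠ ⊥ := by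
  intro h
  have h1 := index_pCore e
  have h2 : Nat.card ↥G = 1 := by rw [h]; exact Subgroup.card_bot
  have h3 : (Cfsg.pCore 2 ↥G).index ∣ Nat.card ↥G := Subgroup.index_dvd_card _
  rw [h1, h2] at h3
  have h4 := hq.two_le
  have h5 : 2 * q = 1 := Nat.dvd_one.mp h3
  omega

/-- `Ω₁Z(S) ≠ 1`. -/
theorem exists_omZ_ne_one : ∃ z ∈ omZ (S : Subgroup ↥G), z ≠ 1 := by
  have : Fact (Nat.Prime 2) := ⟨Nat.prime_two⟩
  have hS2 : IsPGroup 2 (S : Subgroup ↥G) := S.isPGroup'
  have hcard : Nat.card (S : Subgroup ↥G) = 2 * Nat.card (Cfsg.pCore 2 ↥G) :=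
    card_sylow_dih hq e S
  haveI : Nontrivial (S : Subgroup ↥G) := by
    apply Finite.one_lt_card_iff_nontrivial.mp
    have : 0 < Nat.card (Cfsg.pCore 2 ↥G) := Nat.card_pos
    omega
  haveI := hS2.center_nontrivial
  have hZ2 : IsPGroup 2 (Subgroup.center (S : Subgroup ↥G)) := hS2.to_subgroup _
  obtain ⟨n, hn0, hn⟩ := (hZ2.nontrivial_iff_card).mp inferInstance
  obtain ⟨c, hc⟩ := exists_prime_orderOf_dvd_card' 2
    (show 2 ∣ Nat.card (Subgroup.center (S : Subgroup ↥G)) by rw [hn]; exact dvd_pow_self 2 hn0.ne')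
  have hc2 : c * c = 1 := by
    have := pow_orderOf_eq_one c
    rwa [hc, pow_two] at this
  have hc1 : c ≠ 1 := by
    intro h
    rw [h, orderOf_one] at hc
    omega
  refine ⟨((c : (S : Subgroup ↥G)) : ↥G), ⟨(c : (S : Subgroup ↥G)).2, ?_, ?_⟩, ?_⟩
  · have := congrArg (fun x : Subgroup.center (S : Subgroup ↥G) => ((x : (S : Subgroup ↥G)) : ↥G)) hc2
    simpa using this
  · intro h hh
    have h1 := Subgroup.mem_center_iff.mp c.2 ⟨h, hh⟩
    exact congrArg Subtype.val h1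
  · intro h
    apply hc1
    apply Subtype.ext
    apply Subtype.ext
    simpa using h

end main

section main2

variable {H : Type*} [Group H] [Finite H] [IsSimpleGroup H] (hna : ¬ IsMulCommutative H)
  (G : Subgroup H) (hG : IsCoatom G) (S : Sylow 2 ↥G) {q : ℕ} (hq : q.Prime)
  (e : ↥G ⧸ Cfsg.pCore 2 ↥G ≃* DihedralGroup q) {g : H}
  (hgT : g ∈ Subgroup.normalizer (((S : Subgroup ↥G).map G.subtype : Subgroup H) : Set H))
  (hgG : g ∉ G)

include hgT in
omit [Finite H] [IsSimpleGroup H] in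
theorem map_conj_T : ((S : Subgroup ↥G).map G.subtype).map (MulAut.conj g).toMonoidHom =
    (S : Subgroup ↥G).map G.subtype :=
  Subgroup.mem_normalizer_iff_map_conj_eq.mp hgT

include hna hG hq e hgT hgG

/-- `Ω₁Z(S)` is not central in `G`. -/
theorem exists_noncentral : ∃ z ∈ omZ (S : Subgroup ↥G), ∃ x : ↥G, x * z ≠ z * x := by
  by_contra hcon
  have hall : ∀ z ∈ omZ (S : Subgroup ↥G), ∀ x : ↥G, x * z = z * x := by
    intro z hz x
    by_contra h
    exact hcon ⟨z, hz, x, h⟩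
  have hTmap := map_conj_T G S hgT
  set T := (S : Subgroup ↥G).map G.subtype with hT
  have h1 : G ≤ Subgroup.centralizer (omZ T : Set H) := by
    intro x hx
    rw [Subgroup.mem_centralizer_iff]
    intro z hz
    rw [hT, omZ_map_subtype] at hz
    obtain ⟨z', hz', rfl⟩ := hz
    have := hall z' hz' ⟨x, hx⟩
    exact (congrArg Subtype.val this).symm
  have h2 : G.map (MulAut.conj g).toMonoidHom ≤ Subgroup.centralizer (omZ T : Set H) := by
    rintro _ ⟨p, hp, rfl⟩
    rw [Subgroup.mem_centralizer_iff]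
    intro z hz
    have hz1 : g⁻¹ * z * g ∈ omZ T := by
      have h3 : g * (g⁻¹ * z * g) * g⁻¹ ∈ omZ (T.map (MulAut.conj g).toMonoidHom) := by
        rw [hTmap]
        have h5 : g * (g⁻¹ * z * g) * g⁻¹ = z := by group
        rw [h5]
        exact hz
      exact conj_mem_omZ.mp h3
    have h4 := Subgroup.mem_centralizer_iff.mp (h1 hp) _ hz1
    show z * (MulAut.conj g) p = (MulAut.conj g) p * z
    rw [MulAut.conj_apply]
    calc z * (g * p * g⁻¹) = g * ((g⁻¹ * z * g) * p) * g⁻¹ := by group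
      _ = g * (p * (g⁻¹ * z * g)) * g⁻¹ := by rw [h4]
      _ = g * p * g⁻¹ * z := by group
  have h3 : Subgroup.centralizer (omZ T : Set H) = ⊤ := by
    rw [eq_top_iff, ← sup_conj_eq_top G hG (G_ne_bot G hq e) hgG]
    exact sup_le h1 h2
  obtain ⟨z, hz, hz1⟩ := exists_omZ_ne_one G S hq e
  have hzT : (z : H) ∈ omZ T := by
    rw [hT, omZ_map_subtype]
    exact ⟨z, hz, rfl⟩
  have hzc : (z : H) ∈ Subgroup.center H := by
    rw [Subgroup.mem_center_iff]
    intro x
    have : x ∈ Subgroup.centralizer (omZ T : Set H) := h3 ▸ Subgroup.mem_top x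
    exact (Subgroup.mem_centralizer_iff.mp this _ hzT).symm
  rw [center_eq_bot hna, Subgroup.mem_bot] at hzc
  exact hz1 (Subtype.ext hzc)

/-- **`q = 3`.** -/
theorem q_eq_three_of_simple
    (hchar : Subgroup.centralizer (Cfsg.pCore 2 ↥G : Set ↥G) ≤ Cfsg.pCore 2 ↥G) : q = 3 := by
  have hnc := exists_noncentral hna G hG S hq e hgT hgG
  set Q := Cfsg.pCore 2 ↥G with hQ
  set V := Vs (S : Subgroup ↥G) with hV
  have hVom : V ≤ omZ Q := Vs_le_omZ (pCore_le_sylow S) hchar
  set QH := Q.map G.subtype with hQH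
  set VH := V.map G.subtype with hVH
  have hQVH : ∀ x ∈ QH, ∀ v ∈ VH, x * v = v * x := by
    rintro _ ⟨x, hx, rfl⟩ _ ⟨v, hv, rfl⟩
    exact congrArg Subtype.val ((hVom hv).2.2 x hx)
  obtain ⟨w, hw1, hw2, v₀, hv₀, hv₀Q⟩ := exists_critical G QH VH g
    (Subgroup.map_mono (hVom.trans (omZ_le _)))
    (by
      rintro p hp _ ⟨v, hv, rfl⟩
      exact ⟨⟨p, hp⟩ * v * ⟨p, hp⟩⁻¹, (Vs_normal _).conj_mem v hv ⟨p, hp⟩, rfl⟩)
    (by
      rintro _ ⟨x, hx, rfl⟩
      have hxT : ((x : ↥G) : H) ∈ (S : Subgroup ↥G).map G.subtype :=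
        ⟨x, pCore_le_sylow S hx, rfl⟩
      have h1 := (Subgroup.mem_normalizer_iff.mp hgT _).mp hxT
      have h2 := (Subgroup.mem_normalizer_iff.mp (Subgroup.inv_mem _ hgT) _).mp hxT
      rw [inv_inv] at h2
      exact ⟨Subgroup.map_subtype_le _ h1, Subgroup.map_subtype_le _ h2⟩)
    (closure_eq_top G hG hgG)
    (by
      intro hall
      have hle : Subgroup.normalClosure (VH : Set H) ≤ G := by
        unfold Subgroup.normalClosure
        rw [Subgroup.closure_le]
        intro x hx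
        obtain ⟨v, hv, hvx⟩ := Group.mem_conjugatesOfSet_iff.mp hx
        obtain ⟨c, rfl⟩ := isConj_iff.mp hvx
        have := hall c⁻¹ v hv
        rw [inv_inv] at this
        exact Subgroup.map_subtype_le _ this
      rcases (Subgroup.normalClosure_normal :
          (Subgroup.normalClosure (VH : Set H)).Normal).eq_bot_or_eq_top with h | h
      · obtain ⟨z, hz, hz1⟩ := exists_omZ_ne_one G S hq e
        have hzV : (z : H) ∈ VH := ⟨z, omZ_le_Vs _ hz, rfl⟩
        have h3 : (z : H) ∈ Subgroup.normalClosure (VH : Set H) :=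
          Subgroup.subset_normalClosure hzV
        rw [h, Subgroup.mem_bot] at h3
        exact hz1 (Subtype.ext h3)
      · rw [h, top_le_iff] at hle
        exact hG.1 hle)
  obtain ⟨v₁, hv₁, hv₁Q⟩ : ∃ v₁ ∈ VH, w * v₁ * w⁻¹ ∉ QH := by
    by_contra hcon
    have hall : ∀ v₁ ∈ VH, w * v₁ * w⁻¹ ∈ QH := by
      intro v₁ hv₁
      by_contra h
      exact hcon ⟨v₁, hv₁, h⟩
    apply hv₀Q
    have huG := hw1 v₀ hv₀
    have hu : (⟨w⁻¹ * v₀ * w, huG⟩ : ↥G) ∈ Q := by
      apply mem_pCore_of_centralizes_Vs hq e S hnc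
      intro v' hv'
      apply Subtype.ext
      show w⁻¹ * v₀ * w * (v' : H) = v' * (w⁻¹ * v₀ * w)
      have h1 := hQVH _ (hall (v' : H) ⟨v', hv', rfl⟩) v₀ hv₀
      calc w⁻¹ * v₀ * w * (v' : H) = w⁻¹ * (v₀ * (w * v' * w⁻¹)) * w := by group
        _ = w⁻¹ * ((w * v' * w⁻¹) * v₀) * w := by rw [h1]
        _ = v' * (w⁻¹ * v₀ * w) := by group
    exact ⟨_, hu, rfl⟩
  obtain ⟨v₁', hv₁', rfl⟩ := hv₁
  have hv₁sq : ((v₁' : ↥G) : H) * v₁' = 1 := congrArg Subtype.val (hVom hv₁').2.1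
  set t : ↥G := ⟨w * v₁' * w⁻¹, hw2 _ ⟨v₁', hv₁', rfl⟩⟩ with ht
  have htQ : t ∉ Q := fun h => hv₁Q ⟨t, h, rfl⟩
  have ht2 : t * t ∈ Q := by
    have h1 : t * t = 1 := by
      apply Subtype.ext
      show w * v₁' * w⁻¹ * (w * v₁' * w⁻¹) = 1
      calc w * v₁' * w⁻¹ * (w * v₁' * w⁻¹) = w * (((v₁' : ↥G) : H) * v₁') * w⁻¹ := by group
        _ = 1 := by rw [hv₁sq]; group
    rw [h1]
    exact Q.one_mem
  set V₀ : Subgroup ↥G := V ⊓ (QH.map (MulAut.conj w).toMonoidHom).comap G.subtype with hV₀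
  have hcomm : ∀ v ∈ V₀, t * v = v * t := by
    rintro v ⟨-, hvQ⟩
    obtain ⟨x, hx, hxv⟩ := hvQ
    apply Subtype.ext
    show w * v₁' * w⁻¹ * (v : H) = v * (w * v₁' * w⁻¹)
    have hxv' : (v : H) = w * x * w⁻¹ := by
      rw [← MulAut.conj_apply]
      exact hxv.symm
    have h1 := hQVH x hx v₁' ⟨v₁', hv₁', rfl⟩
    rw [hxv']
    calc w * v₁' * w⁻¹ * (w * x * w⁻¹) = w * (v₁' * x) * w⁻¹ := by group
      _ = w * (x * v₁') * w⁻¹ := by rw [h1]
      _ = w * x * w⁻¹ * (w * v₁' * w⁻¹) := by group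
  have hidx₀ : V₀.relIndex V ≤ 2 := by
    let f₁ : ↥V →* H := (MulAut.conj w⁻¹).toMonoidHom.comp (G.subtype.comp V.subtype)
    have hf₁v : ∀ v : ↥V, f₁ v = w⁻¹ * ((v : ↥G) : H) * w := by
      intro v
      show (MulAut.conj w⁻¹) ((v : ↥G) : H) = _
      rw [MulAut.conj_apply, inv_inv]
    have hf₁ : ∀ v : ↥V, f₁ v ∈ G := by
      intro v
      rw [hf₁v]
      exact hw1 ((v : ↥G) : H) ⟨v, v.2, rfl⟩
    let f₂ : ↥V →* ↥G := f₁.codRestrict G hf₁
    let ψ : ↥V →* ↥G ⧸ Q := (QuotientGroup.mk' Q).comp f₂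
    have hker : ψ.ker = V₀.subgroupOf V := by
      ext v
      rw [MonoidHom.mem_ker, Subgroup.mem_subgroupOf]
      show (QuotientGroup.mk (f₂ v) : ↥G ⧸ Q) = 1 ↔ (v : ↥G) ∈ V₀
      rw [QuotientGroup.eq_one_iff]
      constructor
      · intro h
        refine ⟨v.2, ?_⟩
        refine ⟨(f₂ v : H), ⟨f₂ v, h, rfl⟩, ?_⟩
        show (MulAut.conj w) (f₁ v) = _
        rw [MulAut.conj_apply, hf₁v]
        show w * (w⁻¹ * ((v : ↥G) : H) * w) * w⁻¹ = ((v : ↥G) : H)
        group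
      · rintro ⟨-, x, ⟨x', hx', rfl⟩, hxv⟩
        have h1 : f₂ v = x' := by
          apply Subtype.ext
          show f₁ v = x'
          rw [hf₁v]
          have h2 : ((v : ↥G) : H) = w * x' * w⁻¹ := by
            rw [← MulAut.conj_apply]
            exact hxv.symm
          rw [h2]
          group
        rw [h1]
        exact hx'
    have hrange : Nat.card ψ.range ≤ 2 := by
      refine card_le_two_of_isPGroup (q_odd hq e) (Y := ↥G ⧸ Q) ?_ ψ.range ?_
      · rw [← Subgroup.index_eq_card]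
        exact index_pCore e
      · have hV2 : IsPGroup 2 ↥V := (Gold.pCore_isPGroup 2 ↥G).to_le (hVom.trans (omZ_le _))
        exact hV2.of_surjective ψ.rangeRestrict ψ.rangeRestrict_surjective
    rw [Subgroup.relIndex, ← hker, Subgroup.index_ker]
    exact hrange
  exact q_eq_three_of_local hq e hchar S hnc t htQ ht2 V₀ inf_le_left hidx₀ hcomm

end main2

end Cfsg.Agent.Helper6.Sims2
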