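import Mathlib
import Cfsg.Prelude.Def_Amalgam
import Cfsg.Agent.Gold.Base
import Cfsg.Agent.Helper6.GoldSpe
import Cfsg.Agent.Helper6.Sims2A
import Cfsg.Agent.Helper6.Sims2B
import Cfsg.Agent.Helper6.Sims2C
import Cfsg.Agent.Helper6.Sims2D
import Cfsg.Agent.Helper6.Sims2E

/-!
# S2772 from S2858, part F: the hypotheses of S2858 for `P₁ = G`, `P₂ = G^g`, and the assembly.
-/

set_option autoImplicit false

namespace Cfsg.Agent.Helper6.Sims2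

open Cfsg Cfsg.Agent.Gold

/-- The statement of S2858 for subgroups of a fixed group `H`. -/
def GoldStmt (H : Type*) [Group H] : Prop :=
  ∀ (P₁ P₂ : Subgroup H) [Finite ↥P₁] [Finite ↥P₂] (_hgen : P₁ ⊔ P₂ = ⊤) (T : Subgroup H) (_hT : T = P₁ ⊓ P₂) (_h₁ : ∀ P ∈ ({P₁, P₂} : Set (Subgroup H)), P ⊓ Subgroup.centralizer (Cfsg.pCoreOf 2 P : Set H) ≤ Cfsg.pCoreOf 2 P) (_h₂ : ∀ P ∈ ({P₁, P₂} : Set (Subgroup H)), ∃ S : Sylow 2 ↥P, (S : Subgroup ↥P) = T.subgroupOf P) (_h₃ : ∀ N : Subgroup H, N.Normal → N ≤ T → N = ⊥) (_h₄ : ∀ P ∈ ({P₁, P₂} : Set (Subgroup H)), Nonempty (↥P ⧸ Cfsg.pCore 2 ↥P ≃* Equiv.Perm (Fin 3))) (_h₅ : ∀ P ∈ ({P₁, P₂} : Set (Subgroup H)), ¬ P ≤ Subgroup.centralizer (Cfsg.omegaOne 2 (T ⊓ Subgroup.centralizer (T : Set H)) : Set H)), (Nonempty (↥P₁ ≃* Equiv.Perm (Fin 4)) ∧ Nonempty (↥P₂ ≃* Equiv.Perm (Fin 4))) ∨ (Nonempty (↥P₁ ≃* Multiplicative (ZMod 2) × Equiv.Perm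 (Fin 4)) ∧ Nonempty (↥P₂ ≃* Multiplicative (ZMod 2) × Equiv.Perm (Fin 4)))

section assembly

variable {H : Type*} [Group H] [Finite H] [IsSimpleGroup H]

/-- **S2772 from S2858.** -/
theorem sims_local_of_gold (hgold : GoldStmt H) (hna : ¬ IsMulCommutative H) (G : Subgroup H) (hG : IsCoatom G) (hchar : Subgroup.centralizer (Cfsg.pCore 2 ↥G : Set ↥G) ≤ Cfsg.pCore 2 ↥G) (S : Sylow 2 ↥G) (hN : ¬ Subgroup.normalizer (((S : Subgroup ↥G).map G.subtype : Subgroup H) : Set H) ≤ G) (q : ℕ) (hq : q.Prime) (hD : Nonempty (↥G ⧸ Cfsg.pCore 2 ↥G ≃* DihedralGroup q)) : Nonempty (↥G ≃* Equiv.Perm (Fin 4)) ∨ Nonempty (↥G ≃* Equiv.Perm (Fin 4) × Multiplicative (ZMod 2)) := by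
  have : Fact (Nat.Prime 2) := ⟨Nat.prime_two⟩
  obtain ⟨e⟩ := hD
  obtain ⟨g, hgT, hgG⟩ := SetLike.not_le_iff_exists.mp hN
  have hq3 : q = 3 := q_eq_three_of_simple hna G hG S hq e hgT hgG hchar
  subst hq3
  have hnc := exists_noncentral hna G hG S hq e hgT hgG
  have hTmap := map_conj_T G S hgT
  have hsup := sup_conj_eq_top G hG (G_ne_bot G hq e) hgG
  set T := (S : Subgroup ↥G).map G.subtype with hTdef
  set P₂ := G.map (MulAut.conj g).toMonoidHom with hP₂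
  have hTG : T ≤ G := Subgroup.map_subtype_le _
  have hTP₂ : T ≤ P₂ := by
    intro x hx
    rw [← hTmap] at hx
    obtain ⟨y, hy, rfl⟩ := hx
    exact ⟨y, hTG hy, rfl⟩
  have hcardP₂ : Nat.card ↥P₂ = Nat.card ↥G :=
    Subgroup.card_map_of_injective (MulAut.conj g).injective
  have hle : G ⊓ P₂ ≤ T := by
    have hSK : (S : Subgroup ↥G) ≤ (G ⊓ P₂).subgroupOf G := by
      intro s hs
      rw [Subgroup.mem_subgroupOf]
      exact ⟨s.2, hTP₂ ⟨s, hs, rfl⟩⟩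
    rcases sylow_maximal hq e S _ hSK with h | h
    · intro x hx
      have hxG : x ∈ G := hx.1
      have h1 : (⟨x, hxG⟩ : ↥G) ∈ (G ⊓ P₂).subgroupOf G := by
        rw [Subgroup.mem_subgroupOf]
        exact hx
      rw [h] at h1
      exact ⟨⟨x, hxG⟩, h1, rfl⟩
    · exfalso
      have hGP₂ : G ≤ P₂ := by
        intro x hx
        have h1 : (⟨x, hx⟩ : ↥G) ∈ (G ⊓ P₂).subgroupOf G := h ▸ Subgroup.mem_top _
        rw [Subgroup.mem_subgroupOf] at h1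
        exact h1.2
      have hP₂top : P₂ = ⊤ := by
        rw [← hsup]
        exact (sup_of_le_right hGP₂).symm
      apply hG.1
      apply (Subgroup.card_eq_iff_eq_top G).mp
      rw [← hcardP₂, hP₂top, Subgroup.card_top]
  have hT : T = G ⊓ P₂ := le_antisymm (le_inf hTG hTP₂) hle
  have m1 : ∀ {φ : Subgroup H → Prop}, φ G → φ P₂ → ∀ P ∈ ({G, P₂} : Set (Subgroup H)), φ P := by
    intro φ h1 h2 P hP
    rcases hP with rfl | hP
    · exact h1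
    · rw [Set.mem_singleton_iff] at hP
      subst hP
      exact h2
  -- h₁
  have h₁G : G ⊓ Subgroup.centralizer (Cfsg.pCoreOf 2 G : Set H) ≤ Cfsg.pCoreOf 2 G := by
    intro x hx
    obtain ⟨hxG, hxC⟩ := Subgroup.mem_inf.mp hx
    have h1 : (⟨x, hxG⟩ : ↥G) ∈ Cfsg.pCore 2 ↥G := by
      apply hchar
      rw [Subgroup.mem_centralizer_iff]
      intro y hy
      apply Subtype.ext
      exact Subgroup.mem_centralizer_iff.mp hxC y ⟨y, hy, rfl⟩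
    exact ⟨_, h1, rfl⟩
  have h₁P : P₂ ⊓ Subgroup.centralizer (Cfsg.pCoreOf 2 P₂ : Set H) ≤ Cfsg.pCoreOf 2 P₂ := by
    rw [hP₂, pCoreOf_map 2 (MulAut.conj g) G, centralizer_map,
      ← Subgroup.map_inf _ _ _ (MulAut.conj g).injective]
    exact Subgroup.map_mono h₁G
  -- h₂
  have h₂G : ∃ S' : Sylow 2 ↥G, (S' : Subgroup ↥G) = T.subgroupOf G :=
    ⟨S, (Subgroup.comap_map_eq_self_of_injective G.subtype_injective _).symm⟩
  have h₂P : ∃ S' : Sylow 2 ↥P₂, (S' : Subgroup ↥P₂) = T.subgroupOf P₂ := by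
    have hc : Nat.card (T.subgroupOf P₂) = 2 ^ (Nat.card ↥P₂).factorization 2 := by
      rw [Nat.card_congr (Subgroup.subgroupOfEquivOfLe hTP₂).toEquiv, hcardP₂,
        ← S.card_eq_multiplicity]
      exact Subgroup.card_map_of_injective G.subtype_injective
    exact ⟨Sylow.ofCard (T.subgroupOf P₂) hc, Sylow.coe_ofCard _ _⟩
  -- h₃
  have h₃ : ∀ N : Subgroup H, N.Normal → N ≤ T → N = ⊥ := by
    intro N hN hNT
    rcases hN.eq_bot_or_eq_top with h | h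
    · exact h
    · exfalso
      apply hG.1
      rw [eq_top_iff, ← h]
      exact hNT.trans hTG
  -- h₄
  have h₄G : Nonempty (↥G ⧸ Cfsg.pCore 2 ↥G ≃* Equiv.Perm (Fin 3)) := ⟨e.trans d3equiv⟩
  have h₄P : Nonempty (↥P₂ ⧸ Cfsg.pCore 2 ↥P₂ ≃* Equiv.Perm (Fin 3)) := by
    let e₂ : ↥G ≃* ↥P₂ := (MulAut.conj g).subgroupMap G
    have he₂ : (Cfsg.pCore 2 ↥G).map (e₂ : ↥G →* ↥P₂) = Cfsg.pCore 2 ↥P₂ := map_pCore_eq e₂
    exact ⟨(QuotientGroup.congr _ _ e₂ he₂).symm.trans (e.trans d3equiv)⟩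
  -- h₅
  obtain ⟨z, hz, x, hxz⟩ := hnc
  have hzT : ((z : ↥G) : H) ∈ omZ T := by
    rw [hTdef, omZ_map_subtype]
    exact ⟨z, hz, rfl⟩
  have h₅G : ¬ G ≤ Subgroup.centralizer
      (Cfsg.omegaOne 2 (T ⊓ Subgroup.centralizer (T : Set H)) : Set H) := by
    intro hcon
    rw [omegaOne_eq_omZ] at hcon
    have h1 := Subgroup.mem_centralizer_iff.mp (hcon x.2) _ hzT
    exact hxz (Subtype.ext h1.symm)
  have h₅P : ¬ P₂ ≤ Subgroup.centralizer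
      (Cfsg.omegaOne 2 (T ⊓ Subgroup.centralizer (T : Set H)) : Set H) := by
    intro hcon
    rw [omegaOne_eq_omZ] at hcon
    have hx2 : g * (x : H) * g⁻¹ ∈ P₂ := ⟨x, x.2, by simp⟩
    have hz2 : g * (z : H) * g⁻¹ ∈ omZ T := by
      have h3 : g * (z : H) * g⁻¹ ∈ omZ (T.map (MulAut.conj g).toMonoidHom) :=
        conj_mem_omZ.mpr hzT
      rwa [hTmap] at h3
    have h1 := Subgroup.mem_centralizer_iff.mp (hcon hx2) _ hz2
    apply hxz
    apply Subtype.ext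
    show (x : H) * z = z * x
    have h2 : g * ((z : H) * x) * g⁻¹ = g * ((x : H) * z) * g⁻¹ := by
      calc g * ((z : H) * x) * g⁻¹ = g * z * g⁻¹ * (g * x * g⁻¹) := by group
        _ = g * x * g⁻¹ * (g * z * g⁻¹) := h1
        _ = g * ((x : H) * z) * g⁻¹ := by group
    exact (mul_left_cancel (mul_right_cancel h2)).symm
  rcases hgold G P₂ hsup T hT (m1 h₁G h₁P) (m1 h₂G h₂P) h₃ (m1 h₄G h₄P) (m1 h₅G h₅P) with
    ⟨⟨e1⟩, -⟩ | ⟨⟨e1⟩, -⟩
  · exact Or.inl ⟨e1⟩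
  · exact Or.inr ⟨e1.trans MulEquiv.prodComm⟩

end assembly

end Cfsg.Agent.Helper6.Sims2
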