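import Cfsg.Agent.Helper9.TensU1

set_option autoImplicit false
set_option linter.unusedSectionVars false
set_option linter.unusedVariables false

/-! `Sp(U) ⊗ O(W) < Sp(U ⊗ W)` (S5666), helper6: the leaf [STL].  In helper9's generic language
(`t : U →ₗ W →ₗ V`, `f₂` alternating on `W`, fibres `fib t w = U ⊗ w`, root elements
`yB w c = 1 ⊗ t_w(c)`; for S5666 use `t.flip`): for a max pair `(S, R)`, an element `l` of the
group with `(l - 1) V ⊆ S + R` which stabilises `S` is a root element of `S`, provided the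
stabiliser of a fibre preserves the tensor decomposition and `dim W ≥ 4`. -/

namespace Cfsg.Agent.Helper6.SpO

open Module Cfsg.Agent.Helper7.ExtF Cfsg.Agent.Helper8.OrthOrder Cfsg.Agent.Helper3.TensOm
  Cfsg.Agent.Helper8.Tens Cfsg.Agent.Helper9.TensU

variable {F : Type*} [Field F] {U W V : Type*} [AddCommGroup U] [Module F U]
  [AddCommGroup W] [Module F W] [AddCommGroup V] [Module F V]
  {t : U →ₗ[F] W →ₗ[F] V} {f₂ : LinearMap.BilinForm F W}

/-- a non-zero vector perpendicular to three given vectors, in dimension at least four. -/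
theorem exists_perp_three [FiniteDimensional F W] (f : LinearMap.BilinForm F W)
    (h4 : 4 ≤ finrank F W) (a b c : W) :
    ∃ w' : W, w' ≠ 0 ∧ f a w' = 0 ∧ f b w' = 0 ∧ f c w' = 0 := by
  set L : W →ₗ[F] (Fin 3 → F) := LinearMap.pi ![f a, f b, f c] with hL
  have h1 := LinearMap.finrank_range_add_finrank_ker L
  have h2 : finrank F ↥(LinearMap.range L) ≤ 3 := by
    have := Submodule.finrank_le (LinearMap.range L)
    simpa using this
  have h3 : 1 ≤ finrank F ↥(LinearMap.ker L) := by omega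
  obtain ⟨⟨w', hw'⟩, hne⟩ := exists_ne_zero_of_one_le (F := F) h3
  have hw'' := LinearMap.mem_ker.mp hw'
  refine ⟨w', fun h0 => hne (Subtype.ext h0), ?_, ?_, ?_⟩
  · have := congrFun hw'' 0
    simpa [hL] using this
  · have := congrFun hw'' 1
    simpa [hL] using this
  · have := congrFun hw'' 2
    simpa [hL] using this

/-- a vector killed by all functionals vanishing at `w` is a multiple of `w`. -/
theorem exists_smul_of_dual {w y : W} (h : ∀ φ : Module.Dual F W, φ w = 0 → φ y = 0) :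
    ∃ κ : F, y = κ • w := by
  by_contra hcon
  have hy : y ∉ Submodule.span F {w} := by
    intro hy
    obtain ⟨κ, hκ⟩ := Submodule.mem_span_singleton.mp hy
    exact hcon ⟨κ, hκ.symm⟩
  obtain ⟨ψ, h1, h2⟩ := exists_kfunc (K := F) (Submodule.span F {w}) hy
  have := h ψ (h1 w (Submodule.mem_span_singleton_self w))
  rw [h2] at this
  exact one_ne_zero this

section

variable [FiniteDimensional F U] [FiniteDimensional F W] [FiniteDimensional F V]
  {X : Subgroup (V ≃ₗ[F] V)} {w w₀ : W} {g : V ≃ₗ[F] V} {d : ℕ}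

/-- for a max pair `(S, R)`: a vector of `S + R` fixed by a root element `1 ⊗ t_{w'}(1)`,
`w' ⊥ w`, lies in `S`. -/
theorem MaxPair_mem_fib_of_fixed (ht : IsTensorProduct t) (hU : 1 ≤ finrank F U)
    (halt₂ : ∀ w, f₂ w w = 0) (hnd₂ : ∀ w, (∀ y, f₂ w y = 0) → w = 0)
    (hXB : ∀ w c, yB ht f₂ halt₂ w c ∈ X) (hyp : RootHypS ht f₂ halt₂ X)
    (hp : MaxPair t X w g w₀ d) {w' : W} (hw' : w' ≠ 0) (hww' : f₂ w w' = 0) {v : V}
    (hv : v ∈ fib t w ⊔ img g (fib t w₀)) (hev : ev ht (lw f₂ w' 1) v = 0) : v ∈ fib t w := by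
  obtain ⟨s, hs, r, hr, rfl⟩ := Submodule.mem_sup.mp hv
  have hs0 : ev ht (lw f₂ w' 1) s = 0 :=
    ev_eq_zero_of_mem_fib ht (by rw [lw_apply, hww', mul_zero]) hs
  have hr0 : ev ht (lw f₂ w' 1) r = 0 := by
    rw [map_add, hs0, zero_add] at hev
    exact hev
  have hrS : r ∈ fib t w := by
    apply step1_S ht hU halt₂ hnd₂ X hXB hyp hp.hmax hp.hw hp.mem_Orb hp.hRn hp.hd hw' hww' hr
    rw [hr0, LinearMap.map_zero₂]
    exact Submodule.zero_mem _
  exact Submodule.add_mem _ hs hrS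

/-- **[STL]**: for a max pair `(S, R)`, an element `l` of `X` with `(l - 1) V ⊆ S + R` which
stabilises `S` is a root element `1 ⊗ t_w(c)` of `S`. -/
theorem STL_generic (ht : IsTensorProduct t) (hU : 1 ≤ finrank F U) (hW : 4 ≤ finrank F W)
    (halt₂ : ∀ w, f₂ w w = 0) (hnd₂ : ∀ w, (∀ y, f₂ w y = 0) → w = 0)
    (hXB : ∀ w c, yB ht f₂ halt₂ w c ∈ X) (hyp : RootHypS ht f₂ halt₂ X)
    (B : LinearMap.BilinForm F V) (f₁ : LinearMap.BilinForm F U)
    (hf₁ : ∃ u u' : U, f₁ u u' ≠ 0)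
    (pol : ∀ u w u' w', B (t u w) (t u' w') = f₁ u u' * f₂ w w')
    (hstab : ∀ l ∈ X, ∀ w : W, w ≠ 0 → img l (fib t w) = fib t w → IsTens t l)
    (hp : MaxPair t X w g w₀ d) {l : V ≃ₗ[F] V} (hl : l ∈ X)
    (hiso : ∀ v v', B (l v) (l v') = B v v')
    (hlSR : ∀ v, l v - v ∈ fib t w ⊔ img g (fib t w₀))
    (hst : img l (fib t w) = fib t w) : ∃ c : F, l = yB ht f₂ halt₂ w c := by
  have hw := hp.hw
  obtain ⟨A, Bw, hAB⟩ := hstab l hl w hw hst
  -- the key: `(l - 1)` maps every pure tensor into `S`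
  have key : ∀ u z, t (A u) (Bw z) - t u z ∈ fib t w := by
    intro u z
    obtain ⟨w', hw', h1, h2, h3⟩ := exists_perp_three f₂ hW w z (Bw z)
    apply MaxPair_mem_fib_of_fixed ht hU halt₂ hnd₂ hXB hyp hp hw' h1
    · rw [← hAB]; exact hlSR _
    · rw [map_sub, ev_t, ev_t, lw_apply, lw_apply, h2, h3]
      simp
  have key2 : ∀ φ : Module.Dual F W, φ w = 0 → ∀ u z, φ (Bw z) • A u = φ z • u := by
    intro φ hφ u z
    have := ev_eq_zero_of_mem_fib ht hφ (key u z)
    rw [map_sub, ev_t, ev_t] at this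
    exact sub_eq_zero.mp this
  -- `A` is a scalar
  obtain ⟨φ₁, hφ₁0, hφ₁w, -⟩ := exists_dual_two (F := F) (by omega : 3 ≤ finrank F W) w w
  obtain ⟨z₁, hz₁⟩ : ∃ z₁, φ₁ z₁ ≠ 0 := by
    by_contra hcon
    push Not at hcon
    exact hφ₁0 (LinearMap.ext hcon)
  obtain ⟨u₁, hu₁⟩ := exists_ne_zero_of_one_le (F := F) (M := U) hU
  set β := φ₁ (Bw z₁) / φ₁ z₁ with hβ
  have hA1 : ∀ u, β • A u = u := by
    intro u
    have := key2 φ₁ hφ₁w u z₁
    rw [hβ, div_eq_mul_inv, mul_comm, mul_smul, this, smul_smul, inv_mul_cancel₀ hz₁, one_smul]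
  have hβ0 : β ≠ 0 := by
    intro h0
    have := hA1 u₁
    rw [h0, zero_smul] at this
    exact hu₁ this.symm
  have hA : ∀ u, A u = β⁻¹ • u := by
    intro u
    rw [← hA1 u, smul_smul, inv_mul_cancel₀ hβ0, one_smul, hA1]
  -- `β⁻¹ Bw` is the identity modulo `w`
  have hC : ∀ z, ∃ κ : F, β⁻¹ • Bw z - z = κ • w := by
    intro z
    apply exists_smul_of_dual
    intro φ hφ
    have := key2 φ hφ u₁ z
    rw [hA, smul_smul] at this
    have h' : (φ (Bw z) * β⁻¹ - φ z) • u₁ = 0 := by rw [sub_smul, this, sub_self]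
    rcases smul_eq_zero.mp h' with h'' | h''
    · rw [map_sub, map_smul, smul_eq_mul]
      linear_combination h''
    · exact absurd h'' hu₁
  obtain ⟨l₀, hl₀⟩ := exists_dual_eq_one (F := F) hw
  set ψ : W → F := fun z => l₀ (β⁻¹ • Bw z - z) with hψ
  have hCψ : ∀ z, β⁻¹ • Bw z = z + ψ z • w := by
    intro z
    obtain ⟨κ, hκ⟩ := hC z
    have : ψ z = κ := by
      rw [hψ]
      simp only
      rw [hκ, map_smul, hl₀, smul_eq_mul, mul_one]
    rw [this, ← hκ]
    abel
  have hlt : ∀ u z, l (t u z) = t u (z + ψ z • w) := by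
    intro u z
    rw [hAB, hA, ← hCψ, map_smul, map_smul, LinearMap.smul_apply]
  -- the isometry condition
  obtain ⟨u₂, u₃, hu₂₃⟩ := hf₁
  have hisoC : ∀ z z', f₂ (z + ψ z • w) (z' + ψ z' • w) = f₂ z z' := by
    intro z z'
    have := hiso (t u₂ z) (t u₃ z')
    rw [hlt, hlt, pol, pol] at this
    exact mul_left_cancel₀ hu₂₃ this
  obtain ⟨ws, hws⟩ := exists_pair f₂ hnd₂ hw
  have hψz : ∀ z, ψ z = - ψ ws * f₂ z w := by
    intro z
    have := hisoC z ws
    simp only [map_add, map_smul, LinearMap.add_apply, LinearMap.smul_apply, smul_eq_mul,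
      halt₂, hws, mul_zero, add_zero, mul_one] at this
    linear_combination this
  refine ⟨- ψ ws, ?_⟩
  apply equiv_ext_pure ht
  intro u z
  rw [hlt, yB_t, hψz z]

end

end Cfsg.Agent.Helper6.SpO
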