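import Cfsg.Agent.Helper6.SpOA

set_option autoImplicit false
set_option linter.unusedSectionVars false
set_option linter.unusedVariables false

/-! `Sp(U) ⊗ O(W) < Sp(U ⊗ W)` (S5666), helper6: the branch `dim U = 2`.  The configuration
`A2Conf` of a max pair `(S, R)`, `S = u ⊗ W` (a Lagrangian), `R` a non-fibre of the orbit with
root group `y : F → X`: `N_S = yA u 1 - 1`, `N_R = y 1 - 1`, and `Θ` the operator on `W` with
`N_S N_R (u ⊗ p) = u ⊗ Θ p`.  Here `ker Θ = W_D` (`S ⊓ R = u ⊗ W_D`), `range Θ = W_D^⊥`. -/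

namespace Cfsg.Agent.Helper6.SpO

open Module Cfsg.Agent.Helper7.ExtF Cfsg.Agent.Helper8.Tens

variable {F : Type*} [Field F] {U W V : Type*} [AddCommGroup U] [Module F U]
  [AddCommGroup W] [Module F W] [AddCommGroup V] [Module F V]
  {t : U →ₗ[F] W →ₗ[F] V} {B : LinearMap.BilinForm F V} {f₁ : LinearMap.BilinForm F U}
  {f₂ : LinearMap.BilinForm F W} {X : Subgroup (V ≃ₗ[F] V)}

/-- the configuration of a max pair `(S, R)`, `S = u ⊗ W`, when `dim U = 2`. -/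
structure A2Conf (ht : IsTensorProduct t) (h : Hyp t B f₁ f₂ X) (u us : U)
    (y : F → V ≃ₗ[F] V) (R : Submodule F V) (Θ : Module.End F W) : Prop where
  /-- `u, us` is a hyperbolic basis of `U`. -/
  hus : f₁ u us = 1
  dec : ∀ x : U, x = f₁ x us • u - f₁ x u • us
  /-- the root group of `R`. -/
  ymem : ∀ c, y c ∈ X
  ymul : ∀ c c', y (c + c') = y c * y c'
  ysub : ∀ c v, y c v - v = c • (y 1 v - v)
  yR : ∀ v, y 1 v - v ∈ R
  yfix : ∀ v, y 1 v = v ↔ v ∈ R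
  Riso : ∀ r ∈ R, ∀ r' ∈ R, B r r' = 0
  /-- `X ∩ Q_S = E_S` and `X ∩ Q_R = E_R`. -/
  LQS : ∀ g ∈ X, (∀ v ∈ fibU t u, g v = v) → ∃ c : F, g = yA ht f₁ h.alt₁ u c
  LQR : ∀ g ∈ X, (∀ v ∈ R, g v = v) → ∃ c : F, g = y c
  /-- the stabiliser of `S` preserves the tensor decomposition. -/
  stabS : ∀ g ∈ X, img g (fibU t u) = fibU t u → IsTens t g
  /-- step 1 of the max-intersection argument and its mirror. -/
  step : ∀ r ∈ R, yA ht f₁ h.alt₁ u 1 r - r ∈ R → r ∈ fibU t u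
  step' : ∀ s ∈ fibU t u, y 1 s - s ∈ fibU t u → s ∈ R
  /-- a root element of `S` stabilising `l S` has `l S = S`. -/
  eqStab : ∀ l ∈ X, (∀ v ∈ fibU t u, l v ∈ fibU t u ⊔ R) → ∀ c : F, c ≠ 0 →
    img (yA ht f₁ h.alt₁ u c) (img l (fibU t u)) = img l (fibU t u) →
    img l (fibU t u) = fibU t u
  /-- the operator `Θ`: `N_S N_R (u ⊗ p) = u ⊗ Θ p`. -/
  hΘ : ∀ p : W, yA ht f₁ h.alt₁ u 1 (y 1 (t u p) - t u p) - (y 1 (t u p) - t u p) = t u (Θ p)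
  Θadj : ∀ p p' : W, f₂ (Θ p) p' = f₂ p (Θ p')
  Θker : ∀ p : W, Θ p = 0 ↔ t u p ∈ R
  Θdisj : ∀ p : W, Θ (Θ p) = 0 → Θ p = 0
  Θrank : finrank F ↥(LinearMap.range Θ) ≤ 2
  Θne : ∃ p : W, Θ p ≠ 0
  /-- a singular vector of `W_D = ker Θ`. -/
  nsing : ∃ n : W, n ≠ 0 ∧ Θ n = 0 ∧ f₂ n n = 0

end Cfsg.Agent.Helper6.SpO
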