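import Mathlib

/-!
# Maschke-type utilities for representations over an arbitrary field `k` in which `|G|` is
invertible (towards Brauer's splitting field theorem).
-/

set_option autoImplicit false
set_option linter.style.haveILetI false

namespace Cfsg.Agent.Helper6.SplFld

open Module Representation

universe u v w x

variable {k : Type w} [Field k] {G : Type u} [Group G]

section sub

variable {V : Type v} [AddCommGroup V] [Module k V] {ρ : Representation k G V}

/-- The subrepresentation attached to an atom of the lattice of subrepresentations is
irreducible. -/
theorem isIrreducible_of_isAtom (W : Subrepresentation ρ) (hW : IsAtom W) :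
    W.toRepresentation.IsIrreducible := by
  have hne : W ≠ ⊥ := hW.1
  refine { exists_pair_ne := ?_, eq_bot_or_eq_top := ?_ }
  · refine ⟨⊥, ⊤, ?_⟩
    intro h
    apply hne
    apply Subrepresentation.toSubmodule_injective
    show W.toSubmodule = (⊥ : Submodule k V)
    rw [eq_bot_iff]
    intro v hv
    have hmem : (⟨v, hv⟩ : W.toSubmodule) ∈ (⊤ : Subrepresentation W.toRepresentation) :=
      Submodule.mem_top
    rw [← h] at hmem
    have h0 : (⟨v, hv⟩ : W.toSubmodule) = 0 := hmem
    have : v = 0 := congrArg Subtype.val h0
    rw [this]
    exact Submodule.zero_mem _
  · intro U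
    let U' : Subrepresentation ρ :=
      { toSubmodule := U.toSubmodule.map W.toSubmodule.subtype
        apply_mem_toSubmodule := by
          intro g v hv
          obtain ⟨w, hw, rfl⟩ := hv
          exact ⟨W.toRepresentation g w, U.apply_mem_toSubmodule g hw, rfl⟩ }
    have hle : U' ≤ W := by
      intro v hv
      obtain ⟨w, -, rfl⟩ := hv
      exact w.2
    rcases hW.le_iff.mp hle with h | h
    · left
      apply Subrepresentation.toSubmodule_injective
      have h1 : U.toSubmodule.map W.toSubmodule.subtype = ⊥ :=
        congrArg Subrepresentation.toSubmodule h
      have h2 : U.toSubmodule.map W.toSubmodule.subtype =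
          (⊥ : Submodule k W.toSubmodule).map W.toSubmodule.subtype := by
        rw [h1, Submodule.map_bot]
      exact Submodule.map_injective_of_injective (Submodule.injective_subtype _) h2
    · right
      apply Subrepresentation.toSubmodule_injective
      have h1 : U.toSubmodule.map W.toSubmodule.subtype = W.toSubmodule :=
        congrArg Subrepresentation.toSubmodule h
      show U.toSubmodule = (⊤ : Submodule k W.toSubmodule)
      rw [eq_top_iff]
      intro w _
      have hw : (w : V) ∈ U.toSubmodule.map W.toSubmodule.subtype := by rw [h1]; exact w.2
      obtain ⟨w', hw', hww'⟩ := hw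
      have : w' = w := Subtype.ext hww'
      rw [← this]
      exact hw'

/-- Complementary subrepresentations give a decomposition as a product. -/
noncomputable def prodEquivOfIsCompl (W W' : Subrepresentation ρ)
    (h : IsCompl W.toSubmodule W'.toSubmodule) :
    (W.toRepresentation.prod W'.toRepresentation).Equiv ρ :=
  Representation.Equiv.mk (Submodule.prodEquivOfIsCompl W.toSubmodule W'.toSubmodule h) (by
    intro g
    apply LinearMap.ext
    rintro ⟨w, w'⟩
    simp only [LinearMap.coe_comp, LinearEquiv.coe_coe, Function.comp_apply,
      Submodule.coe_prodEquivOfIsCompl', map_add]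
    rfl)

theorem isCompl_toSubmodule {W W' : Subrepresentation ρ} (h : IsCompl W W') :
    IsCompl W.toSubmodule W'.toSubmodule := by
  constructor
  · rw [disjoint_iff]
    have := h.inf_eq_bot
    exact congrArg Subrepresentation.toSubmodule this
  · rw [codisjoint_iff]
    have := h.sup_eq_top
    exact congrArg Subrepresentation.toSubmodule this

end sub

/-- The character of a product is the sum of the characters. -/
theorem char_prod {V : Type v} {W : Type x} [AddCommGroup V] [Module k V]
    [FiniteDimensional k V] [AddCommGroup W] [Module k W] [FiniteDimensional k W]
    (ρ : Representation k G V) (σ : Representation k G W) :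
    (ρ.prod σ).character = ρ.character + σ.character := by
  ext g
  simp only [Representation.character, Pi.add_apply]
  rw [show (ρ.prod σ) g = (ρ g).prodMap (σ g) from rfl, LinearMap.trace_prodMap']

/-- An injective intertwining map is an equivalence onto its range. -/
noncomputable def equivRange {V : Type v} {W : Type x} [AddCommGroup V] [Module k V]
    [AddCommGroup W] [Module k W] {ρ : Representation k G V} {σ : Representation k G W}
    (f : IntertwiningMap ρ σ) (hf : Function.Injective f) :
    ρ.Equiv f.range.toRepresentation :=
  Representation.Equiv.mk (LinearEquiv.ofInjective f.toLinearMap hf) (by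
    intro g
    apply LinearMap.ext
    intro v
    apply Subtype.ext
    exact IntertwiningMap.isIntertwining _ _ f g v)

variable [Finite G] [NeZero (Nat.card G : k)]

/-- Every subrepresentation has a complement (Maschke), and the character splits. -/
theorem exists_compl_char {V : Type v} [AddCommGroup V] [Module k V] [FiniteDimensional k V]
    {ρ : Representation k G V} (W : Subrepresentation ρ) :
    ∃ W' : Subrepresentation ρ, IsCompl W.toSubmodule W'.toSubmodule ∧
      ρ.character = W.toRepresentation.character + W'.toRepresentation.character := by
  obtain ⟨W', hW'⟩ := exists_isCompl W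
  have hc := isCompl_toSubmodule hW'
  refine ⟨W', hc, ?_⟩
  rw [← char_iso (prodEquivOfIsCompl W W' hc), char_prod]

/-- A nonzero finite-dimensional representation has an irreducible subrepresentation with a
complement. -/
theorem exists_irr_decomp {V : Type v} [AddCommGroup V] [Module k V] [FiniteDimensional k V]
    [Nontrivial V] (ρ : Representation k G V) :
    ∃ W W' : Subrepresentation ρ, W.toRepresentation.IsIrreducible ∧
      IsCompl W.toSubmodule W'.toSubmodule ∧
      ρ.character = W.toRepresentation.character + W'.toRepresentation.character ∧
      finrank k W'.toSubmodule < finrank k V := by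
  haveI : IsAtomic (Subrepresentation ρ) :=
    (Subrepresentation.subrepresentationSubmoduleOrderIso (ρ := ρ)).isAtomic_iff.mpr
      inferInstance
  have htop : (⊤ : Subrepresentation ρ) ≠ ⊥ := by
    intro h
    obtain ⟨v, hv⟩ := exists_ne (0 : V)
    have hmem : v ∈ (⊤ : Subrepresentation ρ) := Submodule.mem_top (R := k)
    rw [h] at hmem
    exact hv hmem
  obtain ⟨W, hW, -⟩ :=
    (IsAtomic.eq_bot_or_exists_atom_le (⊤ : Subrepresentation ρ)).resolve_left htop
  obtain ⟨W', hc, hchar⟩ := exists_compl_char W
  refine ⟨W, W', isIrreducible_of_isAtom W hW, hc, hchar, ?_⟩
  have hsum := Submodule.finrank_add_eq_of_isCompl hc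
  have hpos : 0 < finrank k W.toSubmodule := by
    rw [Module.finrank_pos_iff]
    have : W.toSubmodule ≠ ⊥ := by
      intro h
      apply hW.1
      exact Subrepresentation.toSubmodule_injective h
    exact Submodule.nontrivial_iff_ne_bot.mpr this
  omega

/-- If `σ` is irreducible and there is a nonzero intertwining map `σ → τ`, then `τ` splits off a
copy of `σ` at the level of characters. -/
theorem exists_split_of_intertwining {V : Type v} {W : Type x} [AddCommGroup V] [Module k V]
    [FiniteDimensional k V] [AddCommGroup W] [Module k W] [FiniteDimensional k W]
    (σ : Representation k G V) [hσ : σ.IsIrreducible] (τ : Representation k G W)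
    (f : IntertwiningMap σ τ) (hf : f ≠ 0) :
    ∃ W' : Subrepresentation τ,
      τ.character = σ.character + W'.toRepresentation.character := by
  have hinj : Function.Injective f := by
    -- the kernel is a subrepresentation of the irreducible `σ`
    let Kr : Subrepresentation σ :=
      { toSubmodule := LinearMap.ker f.toLinearMap
        apply_mem_toSubmodule := by
          intro g v hv
          rw [LinearMap.mem_ker] at hv ⊢
          have := IntertwiningMap.isIntertwining _ _ f g v
          show f.toLinearMap (σ g v) = 0
          rw [show f.toLinearMap (σ g v) = τ g (f.toLinearMap v) from this, hv, map_zero] }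
    rcases hσ.eq_bot_or_eq_top Kr with h | h
    · have hker : LinearMap.ker f.toLinearMap = ⊥ := congrArg Subrepresentation.toSubmodule h
      exact LinearMap.ker_eq_bot.mp hker
    · exfalso
      apply hf
      have hker : LinearMap.ker f.toLinearMap = ⊤ := congrArg Subrepresentation.toSubmodule h
      ext v
      have : v ∈ LinearMap.ker f.toLinearMap := by rw [hker]; exact Submodule.mem_top
      exact this
  obtain ⟨W', -, hchar⟩ := exists_compl_char f.range
  refine ⟨W', ?_⟩
  rw [hchar, ← char_iso (equivRange f hinj)]

end Cfsg.Agent.Helper6.SplFld
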