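import Mathlib
import Cfsg.Prelude.Def_Characters
import Cfsg.Agent.Helper6.CharBasic
import Cfsg.Agent.Helper6.SplFldA

/-!
# Characters afforded by representations over a subfield `ι : K →+* ℂ`
-/

set_option autoImplicit false
set_option linter.style.haveILetI false

namespace Cfsg.Agent.Helper6.SplFld

open Module Representation
open scoped ComplexConjugate

universe u v w x

variable {K : Type w} [Field K] (ι : K →+* ℂ) {G : Type u} [Group G]

/-- Scalar extension of a matrix representation along `ι`. -/
noncomputable def mapRep {d : ℕ} (τ : Representation K G (Fin d → K)) :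
    Representation ℂ G (Fin d → ℂ) where
  toFun g := Matrix.toLin' ((LinearMap.toMatrix' (τ g)).map ι)
  map_one' := by
    rw [map_one, LinearMap.toMatrix'_one, Matrix.map_one _ (map_zero ι) (map_one ι),
      Matrix.toLin'_one]
    rfl
  map_mul' g h := by
    rw [map_mul, LinearMap.toMatrix'_mul, Matrix.map_mul, Matrix.toLin'_mul]
    rfl

theorem mapRep_toMatrix {d : ℕ} (τ : Representation K G (Fin d → K)) (g : G) :
    LinearMap.toMatrix' (mapRep ι τ g) = (LinearMap.toMatrix' (τ g)).map ι := by
  show LinearMap.toMatrix' (Matrix.toLin' ((LinearMap.toMatrix' (τ g)).map ι)) = _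
  rw [LinearMap.toMatrix'_toLin']

theorem mapRep_character {d : ℕ} (τ : Representation K G (Fin d → K)) (g : G) :
    (mapRep ι τ).character g = ι (τ.character g) := by
  show LinearMap.trace ℂ _ (Matrix.toLin' ((LinearMap.toMatrix' (τ g)).map ι)) =
    ι (LinearMap.trace K _ (τ g))
  rw [Matrix.trace_toLin'_eq, ← AddMonoidHom.map_trace,
    LinearMap.trace_eq_matrix_trace K (Pi.basisFun K (Fin d)), LinearMap.toMatrix_eq_toMatrix']

/-- `ψ` is (the image under `ι` of) the character of a matrix representation over `K`. -/
def KChar (ψ : G → ℂ) : Prop :=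
  ∃ (d : ℕ) (τ : Representation K G (Fin d → K)), ψ = fun g => ι (τ.character g)

theorem KChar.isCharacter {ψ : G → ℂ} (h : KChar ι ψ) : Cfsg.IsCharacter G ψ := by
  obtain ⟨d, τ, rfl⟩ := h
  exact ⟨d, mapRep ι τ, funext (mapRep_character ι τ)⟩

section transport

variable {V : Type v} [AddCommGroup V] [Module K V]

/-- Transport a representation along a linear equivalence. -/
noncomputable def transportRepK {W : Type x} [AddCommGroup W] [Module K W]
    (ρ : Representation K G V) (e : V ≃ₗ[K] W) : Representation K G W where
  toFun g := e.conjRingEquiv (ρ g)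
  map_one' := by simp
  map_mul' g h := by simp

theorem transportRepK_apply {W : Type x} [AddCommGroup W] [Module K W]
    (ρ : Representation K G V) (e : V ≃ₗ[K] W) (g : G) (w : W) :
    transportRepK ρ e g w = e (ρ g (e.symm w)) := rfl

/-- The equivalence between a representation and its transport. -/
noncomputable def transportEquivK {W : Type x} [AddCommGroup W] [Module K W]
    (ρ : Representation K G V) (e : V ≃ₗ[K] W) : ρ.Equiv (transportRepK ρ e) :=
  Representation.Equiv.mk e (by
    intro g
    ext v
    simp [transportRepK_apply])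

end transport

/-- The character of any finite-dimensional `K`-representation is a `K`-character. -/
theorem kChar_of_rep {V : Type v} [AddCommGroup V] [Module K V] [FiniteDimensional K V]
    (τ : Representation K G V) : KChar ι (fun g => ι (τ.character g)) := by
  let e : V ≃ₗ[K] (Fin (finrank K V) → K) := (Module.finBasis K V).equivFun
  refine ⟨finrank K V, transportRepK τ e, ?_⟩
  rw [char_iso (transportEquivK τ e)]

theorem KChar.zero : KChar ι (0 : G → ℂ) := by
  refine ⟨0, 1, ?_⟩
  funext g
  have : (1 : Representation K G (Fin 0 → K)).character g = 0 := by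
    show LinearMap.trace K _ _ = 0
    rw [LinearMap.trace_eq_matrix_trace K (Pi.basisFun K (Fin 0))]
    simp [Matrix.trace]
  rw [this, map_zero]
  rfl

theorem KChar.add {ψ₁ ψ₂ : G → ℂ} (h₁ : KChar ι ψ₁) (h₂ : KChar ι ψ₂) : KChar ι (ψ₁ + ψ₂) := by
  obtain ⟨d₁, τ₁, rfl⟩ := h₁
  obtain ⟨d₂, τ₂, rfl⟩ := h₂
  have := kChar_of_rep ι (τ₁.prod τ₂)
  rw [char_prod] at this
  convert this using 1
  funext g
  simp

/-- The inner product of two `K`-characters is the dimension of the space of intertwining
maps. -/
theorem classInner_kchar [Fintype G] {V : Type v} {W : Type x} [AddCommGroup V] [Module K V]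
    [FiniteDimensional K V] [AddCommGroup W] [Module K W] [FiniteDimensional K W]
    (σ : Representation K G V) (τ : Representation K G W) :
    Cfsg.classInner (fun g => ι (σ.character g)) (fun g => ι (τ.character g)) =
      (finrank K (IntertwiningMap τ σ) : ℂ) := by
  have hcard : (Nat.card G : K) ≠ 0 := by
    intro h
    have h2 : ι (Nat.card G : K) = 0 := by rw [h, map_zero]
    rw [map_natCast] at h2
    have : 0 < Nat.card G := Nat.card_pos
    exact absurd h2 (by exact_mod_cast this.ne')
  haveI : Invertible (Nat.card G : K) := invertibleOfNonzero hcard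
  have hτ : Cfsg.IsCharacter G (fun g => ι (τ.character g)) := (kChar_of_rep ι τ).isCharacter
  have key := card_inv_mul_sum_char_mul_char_eq_finrank τ σ
  have key2 := congrArg ι key
  rw [map_natCast, map_mul, map_inv₀, map_natCast, map_sum] at key2
  rw [← key2, classInner_def]
  congr 1
  apply Finset.sum_congr rfl
  intro g _
  rw [map_mul]
  congr 1
  exact (Cfsg.Agent.Helper6.IsCharacter.inv_eq_conj hτ g).symm

end Cfsg.Agent.Helper6.SplFld
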