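import Mathlib
import Cfsg.Prelude.Def_Characters
import Cfsg.Agent.Helper6.CharBasic
import Cfsg.Agent.Helper6.Constituent
import Cfsg.Agent.Helper6.Induced
import Cfsg.Agent.Helper6.SplFldB

/-!
# Schur index one: an irreducible character which is a difference of two `K`-characters is a
`K`-character.
-/

set_option autoImplicit false
set_option linter.style.haveILetI false

namespace Cfsg.Agent.Helper6.SplFld

open Module Representation
open scoped ComplexConjugate

universe u w

variable {K : Type w} [Field K] (ι : K →+* ℂ) {G : Type u} [Group G]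

theorem irr_apply_one_ne_zero [Finite G] {χ : G → ℂ} (hχ : Cfsg.IsIrrCharacter G χ) :
    χ 1 ≠ 0 := by
  classical
  haveI := Fintype.ofFinite G
  intro h
  have h0 : χ = 0 := eq_zero_of_isCharacter_of_apply_one (IsIrrCharacter.isCharacter hχ) h
  have h1 := classInner_irr_self hχ
  rw [h0, classInner_zero_left] at h1
  exact zero_ne_one h1

theorem kChar_of_sub_aux [Finite G] {χ : G → ℂ} (hχ : Cfsg.IsIrrCharacter G χ) :
    ∀ (n : ℕ) (V₁ V₂ : Type w) [AddCommGroup V₁] [Module K V₁] [FiniteDimensional K V₁]
      [AddCommGroup V₂] [Module K V₂] [FiniteDimensional K V₂]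
      (τ₁ : Representation K G V₁) (τ₂ : Representation K G V₂), finrank K V₁ = n →
      (∀ g, χ g + ι (τ₂.character g) = ι (τ₁.character g)) → KChar ι χ := by
  classical
  haveI := Fintype.ofFinite G
  haveI : NeZero (Nat.card G : K) := ⟨by
    intro h
    have h2 : ι (Nat.card G : K) = 0 := by rw [h, map_zero]
    rw [map_natCast] at h2
    have : 0 < Nat.card G := Nat.card_pos
    exact absurd h2 (by exact_mod_cast this.ne')⟩
  intro n
  induction n using Nat.strong_induction_on with
  | _ n ih =>
    intro V₁ V₂ _ _ _ _ _ _ τ₁ τ₂ hn heq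
    by_cases hV : Subsingleton V₁
    · exfalso
      have h1 := heq 1
      rw [char_one, char_one, map_natCast, map_natCast] at h1
      have hz : finrank K V₁ = 0 := Module.finrank_zero_of_subsingleton
      rw [hz, Nat.cast_zero] at h1
      obtain ⟨d, hd⟩ := IsCharacter.apply_one (IsIrrCharacter.isCharacter hχ)
      have hne := irr_apply_one_ne_zero hχ
      rw [hd] at h1 hne
      have h2 : d + finrank K V₂ = 0 := by exact_mod_cast h1
      have : d = 0 := by omega
      apply hne
      rw [this, Nat.cast_zero]
    · rw [not_subsingleton_iff_nontrivial] at hV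
      obtain ⟨W, W', hWirr, hc, hchar, hlt⟩ := exists_irr_decomp τ₁
      haveI := hWirr
      by_cases hf : ∃ f : IntertwiningMap W.toRepresentation τ₂, f ≠ 0
      · obtain ⟨f, hf⟩ := hf
        obtain ⟨W₂', hchar₂⟩ := exists_split_of_intertwining W.toRepresentation τ₂ f hf
        apply ih (finrank K W'.toSubmodule) (hn ▸ hlt) W'.toSubmodule W₂'.toSubmodule
          W'.toRepresentation W₂'.toRepresentation rfl
        intro g
        have h1 := heq g
        rw [hchar, hchar₂, Pi.add_apply, Pi.add_apply, map_add, map_add] at h1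
        linear_combination h1
      · push Not at hf
        -- notation
        obtain ⟨ψσ, hψσ⟩ : ∃ ψσ : G → ℂ, ψσ = fun g => ι (W.toRepresentation.character g) :=
          ⟨_, rfl⟩
        obtain ⟨ψ₁', hψ₁'⟩ : ∃ ψ₁' : G → ℂ, ψ₁' = fun g => ι (W'.toRepresentation.character g) :=
          ⟨_, rfl⟩
        obtain ⟨ψ₂, hψ₂⟩ : ∃ ψ₂ : G → ℂ, ψ₂ = fun g => ι (τ₂.character g) := ⟨_, rfl⟩
        have hσchar : Cfsg.IsCharacter G ψσ := by
          rw [hψσ]; exact (kChar_of_rep ι W.toRepresentation).isCharacter
        have h1'char : Cfsg.IsCharacter G ψ₁' := by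
          rw [hψ₁']; exact (kChar_of_rep ι W'.toRepresentation).isCharacter
        have hsum : χ + ψ₂ = ψσ + ψ₁' := by
          funext g
          have h1 := heq g
          rw [hchar, Pi.add_apply, map_add] at h1
          rw [Pi.add_apply, Pi.add_apply, hψ₂, hψσ, hψ₁']
          exact h1
        -- ⟨ψ₂, ψσ⟩ = 0
        have h2σ : Cfsg.classInner ψ₂ ψσ = 0 := by
          rw [hψ₂, hψσ, classInner_kchar]
          have : finrank K (IntertwiningMap W.toRepresentation τ₂) = 0 := by
            haveI : Subsingleton (IntertwiningMap W.toRepresentation τ₂) :=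
              ⟨fun a b => by rw [hf a, hf b]⟩
            exact Module.finrank_zero_of_subsingleton
          rw [this, Nat.cast_zero]
        -- ⟨ψ₁', ψσ⟩ is a natural number
        obtain ⟨b, hb⟩ : ∃ b : ℕ, Cfsg.classInner ψ₁' ψσ = b := by
          rw [hψ₁', hψσ, classInner_kchar]; exact ⟨_, rfl⟩
        obtain ⟨a, ha⟩ : ∃ a : ℕ, Cfsg.classInner ψσ ψσ = a := by
          rw [hψσ, classInner_kchar]; exact ⟨_, rfl⟩
        have ha0 : a ≠ 0 := by
          intro h0
          rw [h0, Nat.cast_zero] at ha
          have hz := classInner_self_eq_zero ha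
          have hz1 := congrFun hz 1
          rw [hψσ] at hz1
          simp only [char_one, map_natCast, Pi.zero_apply] at hz1
          have hsumf := Submodule.finrank_add_eq_of_isCompl hc
          have : finrank K W.toSubmodule = 0 := by exact_mod_cast hz1
          omega
        -- ⟨χ, ψσ⟩ = a + b
        have hχσ : Cfsg.classInner χ ψσ = (a : ℂ) + b := by
          have e1 : Cfsg.classInner (χ + ψ₂) ψσ = Cfsg.classInner (ψσ + ψ₁') ψσ := by rw [hsum]
          rw [classInner_add_left, classInner_add_left, h2σ, ha, hb, add_zero] at e1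
          exact e1
        have hne : Cfsg.classInner ψσ χ ≠ 0 := by
          rw [classInner_conj_symm χ ψσ, hχσ]
          intro h0
          have h0' := congrArg conj h0
          rw [Complex.conj_conj, map_zero] at h0'
          have : (a + b : ℕ) = 0 := by exact_mod_cast h0'
          omega
        have hθ : Cfsg.IsCharacter G (ψσ - χ) := sub_isCharacter_of_constituent hσchar hχ hne
        obtain ⟨θ, hθdef⟩ : ∃ θ : G → ℂ, θ = ψσ - χ := ⟨_, rfl⟩
        rw [← hθdef] at hθ
        have hσθ : ψσ = χ + θ := by rw [hθdef]; ring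
        have h2θ : ψ₂ = θ + ψ₁' := by
          have : χ + ψ₂ = χ + (θ + ψ₁') := by rw [hsum, hσθ]; ring
          exact add_left_cancel this
        obtain ⟨c, hc'⟩ := classInner_char_char_nat hθ hσchar
        have hc0 : c = 0 := by
          have e1 := h2σ
          rw [h2θ, classInner_add_left, hc', hb] at e1
          have : (c + b : ℕ) = 0 := by exact_mod_cast e1
          omega
        obtain ⟨e, he⟩ := classInner_char_char_nat hθ (IsIrrCharacter.isCharacter hχ)
        obtain ⟨f', hf'⟩ := classInner_char_char_nat hθ hθ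
        have hf0 : f' = 0 := by
          have e1 := hc'
          rw [hσθ, classInner_add_right, he, hf', hc0] at e1
          have : (e + f' : ℕ) = 0 := by exact_mod_cast e1
          omega
        rw [hf0, Nat.cast_zero] at hf'
        have hθ0 : θ = 0 := classInner_self_eq_zero hf'
        have hfin : ψσ = χ := by rw [hσθ, hθ0, add_zero]
        rw [← hfin, hψσ]
        exact kChar_of_rep ι W.toRepresentation

/-- **Schur index one**: if `χ` is irreducible and `χ + ψ₂ = ψ₁` with `ψ₁, ψ₂` characters of
`K`-representations, then `χ` is the character of a `K`-representation. -/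
theorem kChar_of_sub [Finite G] {χ ψ₁ ψ₂ : G → ℂ} (hχ : Cfsg.IsIrrCharacter G χ)
    (h₁ : KChar ι ψ₁) (h₂ : KChar ι ψ₂) (h : χ + ψ₂ = ψ₁) : KChar ι χ := by
  obtain ⟨d₁, τ₁, rfl⟩ := h₁
  obtain ⟨d₂, τ₂, rfl⟩ := h₂
  exact kChar_of_sub_aux ι hχ _ _ _ τ₁ τ₂ rfl (fun g => congrFun h g)

end Cfsg.Agent.Helper6.SplFld
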