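import Mathlib
import Cfsg.Prelude.Def_Characters
import Cfsg.Agent.Helper6.IndFun
import Cfsg.Agent.Helper6.SplFldB

/-!
# Monomial representations over a field `K`: the induced character of a `K`-valued linear
character of a subgroup is a `K`-character.
-/

set_option autoImplicit false
set_option linter.style.haveILetI false

namespace Cfsg.Agent.Helper6.SplFld

open Module Representation

universe u w

variable {K : Type w} [Field K] {G : Type u} [Group G]

/-- Left translation representation on the space of functions `G → K`. -/
noncomputable def funRep (K : Type w) [Field K] (G : Type u) [Group G] :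
    Representation K G (G → K) where
  toFun g := LinearMap.funLeft K K (fun x => g⁻¹ * x)
  map_one' := by
    apply LinearMap.ext
    intro f
    funext x
    simp [LinearMap.funLeft_apply]
  map_mul' g h := by
    apply LinearMap.ext
    intro f
    funext x
    simp [LinearMap.funLeft_apply, mul_assoc]

theorem funRep_apply (g : G) (f : G → K) (x : G) : funRep K G g f x = f (g⁻¹ * x) := rfl

variable [Fintype G] (H : Subgroup G) [Fintype H] (μ : H →* K)

/-- The projection onto the `μ`-semi-invariant functions. -/
noncomputable def monoProj : (G → K) →ₗ[K] (G → K) :=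
  (Nat.card H : K)⁻¹ • ∑ h : H, μ h • LinearMap.funLeft K K (fun x : G => x * (h : G))

theorem monoProj_apply (f : G → K) (x : G) :
    monoProj H μ f x = (Nat.card H : K)⁻¹ * ∑ h : H, μ h * f (x * (h : G)) := by
  simp only [monoProj, LinearMap.smul_apply, LinearMap.sum_apply, Pi.smul_apply,
    Finset.sum_apply, LinearMap.funLeft_apply, smul_eq_mul]

theorem monoProj_mul_right (f : G → K) (x : G) (h₀ : H) :
    μ h₀ * monoProj H μ f (x * (h₀ : G)) = monoProj H μ f x := by
  rw [monoProj_apply, monoProj_apply, ← mul_assoc, mul_comm (μ h₀), mul_assoc, Finset.mul_sum]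
  congr 1
  apply Fintype.sum_equiv (Equiv.mulLeft h₀)
  intro h
  simp only [Equiv.coe_mulLeft, map_mul, Subgroup.coe_mul]
  rw [mul_assoc, mul_assoc]

variable [CharZero K]

theorem monoProj_idem (f : G → K) : monoProj H μ (monoProj H μ f) = monoProj H μ f := by
  funext x
  rw [monoProj_apply]
  have : ∀ h : H, μ h * monoProj H μ f (x * (h : G)) = monoProj H μ f x :=
    fun h => monoProj_mul_right H μ f x h
  rw [Finset.sum_congr rfl (fun h _ => this h), Finset.sum_const, Finset.card_univ,
    nsmul_eq_mul, ← mul_assoc, Nat.card_eq_fintype_card]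
  have hne : (Fintype.card H : K) ≠ 0 := by
    exact_mod_cast Fintype.card_ne_zero
  rw [inv_mul_cancel₀ hne, one_mul]

theorem funRep_monoProj_comm (g : G) (f : G → K) :
    funRep K G g (monoProj H μ f) = monoProj H μ (funRep K G g f) := by
  funext x
  rw [funRep_apply, monoProj_apply, monoProj_apply]
  congr 1
  apply Finset.sum_congr rfl
  intro h _
  rw [funRep_apply, mul_assoc]

/-- The monomial subrepresentation: the range of the projection. -/
noncomputable def monoSub : Subrepresentation (funRep K G) where
  toSubmodule := LinearMap.range (monoProj H μ)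
  apply_mem_toSubmodule := by
    rintro g _ ⟨f, rfl⟩
    exact ⟨funRep K G g f, (funRep_monoProj_comm H μ g f).symm⟩

/-- The `K`-valued extension by zero. -/
noncomputable def extK (y : G) : K := by
  classical
  exact if hy : y ∈ H then μ ⟨y, hy⟩ else 0

theorem sum_single_eq [DecidableEq G] (g x : G) :
    ∑ h : H, μ h * (Pi.single x (1 : K) : G → K) (g⁻¹ * x * (h : G)) = extK H μ (x⁻¹ * g * x) := by
  unfold extK
  by_cases hy : x⁻¹ * g * x ∈ H
  · rw [dif_pos hy]
    rw [Finset.sum_eq_single (⟨x⁻¹ * g * x, hy⟩ : H)]
    · have : g⁻¹ * x * (x⁻¹ * g * x) = x := by group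
      show μ ⟨x⁻¹ * g * x, hy⟩ * (Pi.single x (1 : K) : G → K) (g⁻¹ * x * (x⁻¹ * g * x)) = _
      rw [this, Pi.single_eq_same, mul_one]
    · intro h _ hne
      have : g⁻¹ * x * (h : G) ≠ x := by
        intro he
        apply hne
        apply Subtype.ext
        show (h : G) = x⁻¹ * g * x
        have h3 : (h : G) = (g⁻¹ * x)⁻¹ * (g⁻¹ * x * (h : G)) := by group
        rw [he] at h3
        rw [h3]; group
      rw [Pi.single_eq_of_ne this, mul_zero]
    · intro h; exact absurd (Finset.mem_univ _) h
  · rw [dif_neg hy]
    apply Finset.sum_eq_zero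
    intro h _
    have : g⁻¹ * x * (h : G) ≠ x := by
      intro he
      apply hy
      have : x⁻¹ * g * x = (h : G) := by
        have h3 : (h : G) = (g⁻¹ * x)⁻¹ * (g⁻¹ * x * (h : G)) := by group
        rw [he] at h3
        rw [h3]; group
      rw [this]
      exact h.2
    rw [Pi.single_eq_of_ne this, mul_zero]

/-- The character of the monomial subrepresentation. -/
theorem monoSub_character (g : G) :
    (monoSub H μ).toRepresentation.character g =
      (Nat.card H : K)⁻¹ * ∑ x : G, extK H μ (x⁻¹ * g * x) := by
  classical
  have hf : ∀ f, (funRep K G g ∘ₗ monoProj H μ) f ∈ LinearMap.range (monoProj H μ) := by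
    intro f
    exact ⟨funRep K G g f, (funRep_monoProj_comm H μ g f).symm⟩
  have h1 := LinearMap.trace_restrict_eq_of_forall_mem (LinearMap.range (monoProj H μ))
    (funRep K G g ∘ₗ monoProj H μ) hf
  have h2 : (funRep K G g ∘ₗ monoProj H μ).restrict (fun x _ => hf x) =
      (monoSub H μ).toRepresentation g := by
    apply LinearMap.ext
    rintro ⟨v, f, rfl⟩
    apply Subtype.ext
    show funRep K G g (monoProj H μ (monoProj H μ f)) = funRep K G g (monoProj H μ f)
    rw [monoProj_idem]
  show LinearMap.trace K _ ((monoSub H μ).toRepresentation g) = _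
  rw [← h2]
  erw [h1]
  rw [LinearMap.trace_eq_matrix_trace K (Pi.basisFun K G), LinearMap.toMatrix_eq_toMatrix']
  simp only [Matrix.trace, Matrix.diag_apply, LinearMap.toMatrix'_apply, LinearMap.comp_apply]
  rw [Finset.mul_sum]
  apply Finset.sum_congr rfl
  intro x _
  rw [funRep_apply, monoProj_apply, sum_single_eq]

theorem map_extK (ι : K →+* ℂ) (y : G) :
    ι (extK H μ y) = Cfsg.extendByZero H (fun h => ι (μ h)) y := by
  unfold extK
  by_cases hy : y ∈ H
  · rw [dif_pos hy, extendByZero_mem H _ hy]
  · rw [dif_neg hy, extendByZero_not_mem H _ hy, map_zero]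

/-- The induced function of a `K`-valued linear character is a `K`-character. -/
theorem kChar_indFun (ι : K →+* ℂ) : KChar ι (Cfsg.indFun H (fun h => ι (μ h))) := by
  have h := kChar_of_rep ι (monoSub H μ).toRepresentation
  convert h using 1
  funext g
  rw [monoSub_character, Cfsg.indFun, map_mul, map_inv₀, map_natCast, map_sum]
  congr 1
  apply Finset.sum_congr rfl
  intro x _
  rw [map_extK]

end Cfsg.Agent.Helper6.SplFld
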