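import Mathlib
import Cfsg.Prelude.Def_Characters
import Cfsg.Agent.Helper6.Brauer7
import Cfsg.Agent.Helper6.IrrBasis
import Cfsg.Agent.Helper6.EquivOfChar
import Cfsg.Agent.Helper6.SplFldC
import Cfsg.Agent.Helper6.SplFldD

/-!
# Brauer's splitting field theorem, generic form: if `ι : K →+* ℂ` contains all `exp(G)`-th
roots of unity in its range, every complex representation of `G` is equivalent to one with
matrix entries in the range of `ι`.
-/

set_option autoImplicit false
set_option linter.style.haveILetI false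

namespace Cfsg.Agent.Helper6.SplFld

open Module Representation

universe u w

variable {K : Type w} [Field K] [CharZero K] (ι : K →+* ℂ) {G : Type u} [Group G]

/-- A linear character of a subgroup with values in the range of `ι` lifts to `K`. -/
theorem exists_hom_lift (hroots : ∀ z : ℂ, z ^ (Monoid.exponent G) = 1 → z ∈ ι.range)
    (E : Subgroup G) (lam : E →* ℂˣ) : ∃ μ : E →* K, ∀ e : E, ι (μ e) = ((lam e : ℂˣ) : ℂ) := by
  have h : ∀ e : E, ∃ c : K, ι c = ((lam e : ℂˣ) : ℂ) := by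
    intro e
    apply hroots
    have h1 : e ^ (Monoid.exponent G) = 1 := by
      apply Subtype.ext
      rw [Subgroup.coe_pow, Monoid.pow_exponent_eq_one]
      rfl
    rw [← Units.val_pow_eq_pow_val, ← map_pow, h1, map_one, Units.val_one]
  refine ⟨{ toFun := fun e => Classical.choose (h e), map_one' := ?_, map_mul' := ?_ }, ?_⟩
  · apply ι.injective
    rw [Classical.choose_spec (h 1), map_one, map_one, Units.val_one]
  · intro a b
    apply ι.injective
    rw [Classical.choose_spec (h (a * b)), map_mul ι, Classical.choose_spec (h a),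
      Classical.choose_spec (h b), map_mul, Units.val_mul]
  · intro e
    exact Classical.choose_spec (h e)

theorem kChar_generator [Fintype G]
    (hroots : ∀ z : ℂ, z ^ (Monoid.exponent G) = 1 → z ∈ ι.range)
    (E : Subgroup G) (lam : E →* ℂˣ) :
    KChar ι (Cfsg.indFun E (fun e => ((lam e : ℂˣ) : ℂ))) := by
  classical
  obtain ⟨μ, hμ⟩ := exists_hom_lift ι hroots E lam
  have := kChar_indFun E μ ι
  have h2 : (fun e : E => ι (μ e)) = fun e => ((lam e : ℂˣ) : ℂ) := funext hμ
  rw [h2] at this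
  exact this

theorem kChar_of_irr [Finite G]
    (hroots : ∀ z : ℂ, z ^ (Monoid.exponent G) = 1 → z ∈ ι.range)
    {χ : G → ℂ} (hχ : Cfsg.IsIrrCharacter G χ) : KChar ι χ := by
  classical
  haveI := Fintype.ofFinite G
  have hmem := global_brauer χ (IsIrrCharacter.isCharacter hχ)
  have key : ∀ f ∈ BrauerSpanAll G, ∃ ψ₁ ψ₂ : G → ℂ, KChar ι ψ₁ ∧ KChar ι ψ₂ ∧ f + ψ₂ = ψ₁ := by
    intro f hf
    unfold BrauerSpanAll at hf
    induction hf using AddSubgroup.closure_induction with
    | mem f hf =>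
      obtain ⟨E, lam, -, rfl⟩ := hf
      exact ⟨_, 0, kChar_generator ι hroots E lam, KChar.zero ι, add_zero _⟩
    | zero => exact ⟨0, 0, KChar.zero ι, KChar.zero ι, add_zero _⟩
    | add f₁ f₂ _ _ ih₁ ih₂ =>
      obtain ⟨a₁, a₂, ha₁, ha₂, ha⟩ := ih₁
      obtain ⟨b₁, b₂, hb₁, hb₂, hb⟩ := ih₂
      refine ⟨a₁ + b₁, a₂ + b₂, ha₁.add ι hb₁, ha₂.add ι hb₂, ?_⟩
      rw [← ha, ← hb]; ring
    | neg f _ ih =>
      obtain ⟨a₁, a₂, ha₁, ha₂, ha⟩ := ih
      refine ⟨a₂, a₁, ha₂, ha₁, ?_⟩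
      rw [← ha]; ring
  obtain ⟨ψ₁, ψ₂, h₁, h₂, h⟩ := key χ hmem
  exact kChar_of_sub ι hχ h₁ h₂ h

theorem kChar_of_isCharacter [Finite G]
    (hroots : ∀ z : ℂ, z ^ (Monoid.exponent G) = 1 → z ∈ ι.range)
    {χ : G → ℂ} (hχ : Cfsg.IsCharacter G χ) : KChar ι χ := by
  rw [isCharacter_iff_mem_closure] at hχ
  induction hχ using AddSubmonoid.closure_induction with
  | mem f hf => exact kChar_of_irr ι hroots hf
  | zero => exact KChar.zero ι
  | add f₁ f₂ _ _ ih₁ ih₂ => exact ih₁.add ι ih₂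

/-- Brauer's splitting field theorem, generic form. -/
theorem realizable_of_roots [Finite G]
    (hroots : ∀ z : ℂ, z ^ (Monoid.exponent G) = 1 → z ∈ ι.range)
    (n : ℕ) (ρ : Representation ℂ G (Fin n → ℂ)) :
    ∃ σ : Representation ℂ G (Fin n → ℂ), Nonempty (ρ.Equiv σ) ∧
      ∀ g : G, ∀ i j : Fin n, LinearMap.toMatrix' (σ g) i j ∈ ι.range := by
  obtain ⟨d, τ, hτ⟩ := kChar_of_isCharacter ι hroots (χ := ρ.character) ⟨n, ρ, rfl⟩
  have hd : n = d := by
    have h1 := congrFun hτ 1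
    rw [char_one, char_one, map_natCast, Module.finrank_fin_fun, Module.finrank_fin_fun] at h1
    exact_mod_cast h1
  subst hd
  refine ⟨mapRep ι τ, ?_, ?_⟩
  · apply equiv_of_char_eq
    rw [hτ]
    funext g
    rw [mapRep_character]
  · intro g i j
    rw [mapRep_toMatrix, Matrix.map_apply]
    exact ⟨_, rfl⟩

end Cfsg.Agent.Helper6.SplFld
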