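import Mathlib
import Cfsg.Prelude.Def_Characters
import Cfsg.Prelude.Def_Blocks
import Cfsg.Agent.Helper6.FongMax
import Cfsg.Agent.Helper6.FongReynolds2
import Cfsg.Agent.Helper6.IrrOver
import Cfsg.Agent.Helper6.LocalTransport
import Cfsg.Agent.Helper6.DefectZeroBlock

/-!
# A height zero character of a block with a large stabilizer
-/

set_option autoImplicit false
set_option linter.style.haveILetI false

namespace Cfsg.Agent.Helper6

open scoped ComplexConjugate

universe u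

variable {G : Type u} [Group G] {M : Ideal Cfsg.AlgInt}

/-- The inertia group of a function on a normal subgroup. -/
def inertiaSubgroup (N : Subgroup G) [hN : N.Normal] (θ : N → ℂ) : Subgroup G where
  carrier := {g | conjFun N θ g = θ}
  mul_mem' := by
    intro a b ha hb
    change conjFun N θ a = θ at ha
    change conjFun N θ b = θ at hb
    change conjFun N θ (a * b) = θ
    rw [← conjFun_mul, ha, hb]
  one_mem' := conjFun_one N θ
  inv_mem' := by
    intro a ha
    change conjFun N θ a = θ at ha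
    change conjFun N θ a⁻¹ = θ
    have h1 : conjFun N (conjFun N θ a) a⁻¹ = conjFun N θ (a * a⁻¹) := conjFun_mul N θ a a⁻¹
    rw [ha, mul_inv_cancel, conjFun_one] at h1
    exact h1

theorem mem_inertiaSubgroup (N : Subgroup G) [hN : N.Normal] (θ : N → ℂ) (g : G) :
    g ∈ inertiaSubgroup N θ ↔ conjFun N θ g = θ := Iff.rfl

/-- A `G`-stable block of a normal subgroup contains a height zero character whose inertia group
has index prime to `p`. -/
theorem exists_height_zero_stable [Fintype G] {p : ℕ} [hp : Fact p.Prime]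
    (hM : Cfsg.IsPModular p M) (N : Subgroup G) [hN : N.Normal] [Fintype N]
    (b : Set (Cfsg.IrrCharacter N)) (hb : Cfsg.IsPBlock M b)
    (hO : ∀ g : G, ∀ θ ∈ b, conjIrr N g θ ∈ b) :
    ∃ θ ∈ b, Cfsg.blockHeight p b (θ : N → ℂ) = 0 ∧
      ¬ p ∣ (inertiaSubgroup N (θ : N → ℂ)).index := by
  classical
  have hMm := hM.2.1
  -- the blocks covering `b`
  obtain ⟨θ₀, hθ₀def⟩ := hb
  have hb : Cfsg.IsPBlock M b := ⟨θ₀, hθ₀def⟩
  have hθ₀ : θ₀ ∈ b := by rw [hθ₀def]; exact mem_blockOf_self hMm θ₀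
  obtain ⟨χ₀, hχ₀⟩ := exists_irr_over N θ₀
  set 𝓑 : Set (Set (Cfsg.IrrCharacter G)) := {B | Cfsg.IsPBlock M B ∧
    ∃ χ ∈ B, ∃ θ ∈ b, Cfsg.classInner (fun n : N => (χ : G → ℂ) n) (θ : N → ℂ) ≠ 0} with h𝓑
  have hne : (Cfsg.blockDefect p '' 𝓑).Nonempty :=
    ⟨_, Cfsg.blockOf M (χ₀ : G → ℂ), ⟨⟨χ₀, rfl⟩, χ₀, mem_blockOf_self hMm χ₀, θ₀, hθ₀, hχ₀⟩, rfl⟩
  have hbdd : BddAbove (Cfsg.blockDefect p '' 𝓑) := by
    refine ⟨(Nat.card G).factorization p, ?_⟩
    rintro d ⟨B, -, rfl⟩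
    unfold Cfsg.blockDefect
    exact Nat.sub_le _ _
  obtain ⟨B, ⟨hB, hcov⟩, hBmax⟩ := Nat.sSup_mem hne hbdd
  have hmax : ∀ B' : Set (Cfsg.IrrCharacter G), Cfsg.IsPBlock M B' →
      (∃ χ ∈ B', ∃ θ ∈ b, Cfsg.classInner (fun n : N => (χ : G → ℂ) n) (θ : N → ℂ) ≠ 0) →
      Cfsg.blockDefect p B' ≤ Cfsg.blockDefect p B := by
    intro B' hB' hcov'
    rw [hBmax]
    exact le_csSup hbdd ⟨B', ⟨hB', hcov'⟩, rfl⟩
  -- a defect group
  obtain ⟨g₀, hg₀⟩ := exists_defectClass hMm B hB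
  obtain ⟨S₀⟩ : Nonempty (Sylow p (Subgroup.centralizer ({g₀} : Set G))) := inferInstance
  have hP : Cfsg.IsDefectGroup p M B
      ((S₀ : Subgroup (Subgroup.centralizer ({g₀} : Set G))).map
        (Subgroup.centralizer ({g₀} : Set G)).subtype) := ⟨g₀, hg₀, S₀, rfl⟩
  obtain ⟨-, -, hdef⟩ := fong_max_defect hM N b hb hO B hB hcov hmax _ hP
  -- a height zero character of `B`
  obtain ⟨fB, hfB⟩ : ∃ f : Cfsg.IrrCharacter G → ℕ,
      f = fun χ : Cfsg.IrrCharacter G => (Cfsg.charDegree (χ : G → ℂ)).factorization p := ⟨_, rfl⟩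
  obtain ⟨fb, hfb⟩ : ∃ f : Cfsg.IrrCharacter N → ℕ,
      f = fun χ : Cfsg.IrrCharacter N => (Cfsg.charDegree (χ : N → ℂ)).factorization p := ⟨_, rfl⟩
  obtain ⟨χ₁, hχ₁B, hχ₁cov⟩ := hcov
  have hneB : (fB '' B).Nonempty := ⟨_, χ₁, hχ₁B, rfl⟩
  obtain ⟨χ, hχB, hχmin⟩ := Nat.sInf_mem hneB
  obtain ⟨θ, hθb, hθne⟩ := cover_all hMm N b hb B hB ⟨χ₁, hχ₁B, hχ₁cov⟩ χ hχB
  refine ⟨θ, hθb, ?_⟩
  -- the degree formula
  have hdeg := clifford_degree N (χ : G → ℂ) χ.2 (θ : N → ℂ) θ.2 hθne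
    (inertiaSubgroup N (θ : N → ℂ)) (mem_inertiaSubgroup N _)
  have hχchar := IsIrrCharacter.isCharacter χ.2
  have hθchar := IsIrrCharacter.isCharacter θ.2
  obtain ⟨e, he⟩ := classInner_char_char_nat (IsCharacter.restrict N hχchar) hθchar
  have he0 : e ≠ 0 := by
    rintro rfl
    rw [Nat.cast_zero] at he
    exact hθne he
  have hdχ := charDegree_cast_of_isCharacter hχchar
  have hdθ := charDegree_cast_of_isCharacter hθchar
  have hdegN : Cfsg.charDegree (χ : G → ℂ) =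
      e * (inertiaSubgroup N (θ : N → ℂ)).index * Cfsg.charDegree (θ : N → ℂ) := by
    have h1 : (Cfsg.charDegree (χ : G → ℂ) : ℂ) =
        ((e * (inertiaSubgroup N (θ : N → ℂ)).index * Cfsg.charDegree (θ : N → ℂ) : ℕ) : ℂ) := by
      push_cast
      rw [hdχ, hdθ, hdeg, he]
    exact_mod_cast h1
  have hidx0 : (inertiaSubgroup N (θ : N → ℂ)).index ≠ 0 := Subgroup.index_ne_zero_of_finite
  have hNidx0 : N.index ≠ 0 := Subgroup.index_ne_zero_of_finite
  have hdθ0 : Cfsg.charDegree (θ : N → ℂ) ≠ 0 := by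
    intro h0
    rw [h0, Nat.cast_zero] at hdθ
    exact IsIrrCharacter.apply_one_ne_zero θ.2 hdθ.symm
  have hdχ0 : Cfsg.charDegree (χ : G → ℂ) ≠ 0 := by
    intro h0
    rw [h0, Nat.cast_zero] at hdχ
    exact IsIrrCharacter.apply_one_ne_zero χ.2 hdχ.symm
  have hfac : fB χ = e.factorization p +
      (inertiaSubgroup N (θ : N → ℂ)).index.factorization p + fb θ := by
    rw [hfB, hfb]
    simp only
    rw [hdegN, Nat.factorization_mul (Nat.mul_ne_zero he0 hidx0) hdθ0,
      Nat.factorization_mul he0 hidx0]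
    rfl
  -- bookkeeping of valuations
  have hfBG : fB χ ≤ (Nat.card G).factorization p := by
    rw [hfB]
    exact (Nat.factorization_le_iff_dvd hdχ0 Nat.card_pos.ne').mpr (charDegree_dvd_card χ.2) p
  have hfbN : fb θ ≤ (Nat.card N).factorization p := by
    rw [hfb]
    exact (Nat.factorization_le_iff_dvd hdθ0 Nat.card_pos.ne').mpr (charDegree_dvd_card θ.2) p
  have hdb_le : sInf (fb '' b) ≤ fb θ := Nat.sInf_le ⟨θ, hθb, rfl⟩
  have hcard : (Nat.card G).factorization p =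
      N.index.factorization p + (Nat.card N).factorization p := by
    rw [← N.index_mul_card, Nat.factorization_mul hNidx0 Nat.card_pos.ne']
    rfl
  have hdef' : (Nat.card G).factorization p - sInf (fB '' B) =
      (Nat.card N).factorization p - sInf (fb '' b) + N.index.factorization p := by
    have := hdef
    unfold Cfsg.blockDefect at this
    rw [hfB, hfb]
    exact this
  have hheight : Cfsg.blockHeight p b (θ : N → ℂ) = fb θ - sInf (fb '' b) := by
    unfold Cfsg.blockHeight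
    rw [hfb]
  constructor
  · rw [hheight]
    omega
  · intro hdvd
    have h1 : 1 ≤ (inertiaSubgroup N (θ : N → ℂ)).index.factorization p :=
      (Nat.Prime.dvd_iff_one_le_factorization hp.out hidx0).mp hdvd
    omega

/-- Transport of heights along an isomorphism. -/
theorem blockHeight_image_irrComp' {K K' : Type u} [Group K] [Group K'] (p : ℕ) (φ : K ≃* K')
    (f : Set (Cfsg.IrrCharacter K')) (θ : Cfsg.IrrCharacter K') :
    Cfsg.blockHeight p (irrComp φ '' f) (irrComp φ θ : K → ℂ) =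
      Cfsg.blockHeight p f (θ : K' → ℂ) := by
  unfold Cfsg.blockHeight
  rw [Set.image_image]
  have h1 : ∀ χ : Cfsg.IrrCharacter K', Cfsg.charDegree (irrComp φ χ : K → ℂ) =
      Cfsg.charDegree (χ : K' → ℂ) := by
    intro χ
    unfold Cfsg.charDegree
    rw [irrComp_apply, map_one]
  rw [h1 θ]
  congr 2
  apply Set.image_congr
  intro χ _
  rw [h1 χ]

/-- A block of a normal subgroup contains a height zero character whose stabilizer in the
stabilizer `T` of the block has index prime to `p`. -/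
theorem exists_height_zero_stab [Fintype G] {p : ℕ} [hp : Fact p.Prime]
    (hM : Cfsg.IsPModular p M) (H : Subgroup G) [hH : H.Normal] [Fintype H]
    (b : Set (Cfsg.IrrCharacter H)) (hb : Cfsg.IsPBlock M b) (T : Subgroup G) (hHT : H ≤ T)
    (hT : ∀ t ∈ T, ∀ θ ∈ b, conjIrr H t θ ∈ b) :
    ∃ θ ∈ b, Cfsg.blockHeight p b (θ : H → ℂ) = 0 ∧
      ∀ S : Subgroup G, (∀ g : G, g ∈ S ↔ (g ∈ T ∧ conjFun H (θ : H → ℂ) g = θ)) →
        ¬ p ∣ S.relIndex T := by
  classical
  haveI : Fintype T := Fintype.ofFinite _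
  let e : H.subgroupOf T ≃* H := Subgroup.subgroupOfEquivOfLe hHT
  haveI : Fintype (H.subgroupOf T) := Fintype.ofFinite _
  have hb' : Cfsg.IsPBlock M (irrComp e '' b) := by
    obtain ⟨θ₀, rfl⟩ := hb
    exact ⟨irrComp e θ₀, image_irrComp_blockOf e θ₀⟩
  have hconj : ∀ (t : T) (θ : Cfsg.IrrCharacter H),
      conjIrr (H.subgroupOf T) t (irrComp e θ) = irrComp e (conjIrr H (t : G) θ) := by
    intro t θ
    apply Subtype.ext
    funext n
    change (θ : H → ℂ) (e ⟨t * n * t⁻¹, _⟩) = (θ : H → ℂ) ⟨(t : G) * (e n : G) * (t : G)⁻¹, _⟩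
    congr 1
  have hO' : ∀ t : T, ∀ θ' ∈ irrComp e '' b, conjIrr (H.subgroupOf T) t θ' ∈ irrComp e '' b := by
    rintro t θ' ⟨θ, hθ, rfl⟩
    rw [hconj]
    exact ⟨_, hT t t.2 θ hθ, rfl⟩
  obtain ⟨θ', ⟨θ, hθ, rfl⟩, hh, hidx⟩ :=
    exists_height_zero_stable hM (H.subgroupOf T) (irrComp e '' b) hb' hO'
  refine ⟨θ, hθ, ?_, ?_⟩
  · rw [← blockHeight_image_irrComp' p e b θ]
    exact hh
  · intro S hS
    have hSeq : S.subgroupOf T = inertiaSubgroup (H.subgroupOf T) (irrComp e θ : _ → ℂ) := by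
      ext t
      rw [Subgroup.mem_subgroupOf, hS, mem_inertiaSubgroup]
      constructor
      · rintro ⟨-, h⟩
        have h1 : conjIrr H (t : G) θ = θ := Subtype.ext h
        have h2 := hconj t θ
        rw [h1] at h2
        exact congrArg Subtype.val h2
      · intro h
        refine ⟨t.2, ?_⟩
        have h1 : conjIrr (H.subgroupOf T) t (irrComp e θ) = irrComp e θ := Subtype.ext h
        rw [hconj] at h1
        have h2 := irrComp_injective e h1
        exact congrArg Subtype.val h2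
    change ¬ p ∣ (S.subgroupOf T).index
    rw [hSeq]
    exact hidx

/-- The statement in the form with explicit conjugation conditions. -/
theorem exists_height_zero_stab' [Finite G] (p : ℕ) [hp : Fact p.Prime]
    (hM : Cfsg.IsPModular p M) (H : Subgroup G) [hH : H.Normal]
    (b : Set (Cfsg.IrrCharacter H)) (hb : Cfsg.IsPBlock M b) (T : Subgroup G)
    (hT : ∀ g : G, g ∈ T ↔ ∀ θ ∈ b, ∀ θ' : Cfsg.IrrCharacter H,
      (∀ h h' : H, (h' : G) = g * h * g⁻¹ → (θ' : H → ℂ) h' = (θ : H → ℂ) h) → θ' ∈ b) :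
    ∃ θ ∈ b, Cfsg.blockHeight p b (θ : H → ℂ) = 0 ∧ ∃ S : Subgroup G, S ≤ T ∧
      (∀ g : G, g ∈ S ↔ (g ∈ T ∧ ∀ h h' : H, (h' : G) = g * h * g⁻¹ →
        (θ : H → ℂ) h' = (θ : H → ℂ) h)) ∧ ¬ p ∣ S.relIndex T := by
  classical
  haveI := Fintype.ofFinite G
  haveI : Fintype H := Fintype.ofFinite _
  have hfix : ∀ (θ : H → ℂ) (g : G), conjFun H θ g = θ ↔
      ∀ h h' : H, (h' : G) = g * h * g⁻¹ → θ h' = θ h := by
    intro θ g
    constructor
    · intro h1 h h' hh'
      have h2 := congrFun h1 h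
      rw [← h2]
      unfold conjFun
      congr 1
      exact Subtype.ext hh'
    · intro h1
      funext h
      exact h1 h ⟨g * h * g⁻¹, hH.conj_mem h h.2 g⟩ rfl
  have hHT : H ≤ T := by
    intro x hx
    rw [hT]
    intro θ hθ θ' h1
    have hθcf := IsCharacter.isClassFunction (IsIrrCharacter.isCharacter θ.2)
    have : θ' = θ := by
      apply Subtype.ext
      funext y
      have h2 := h1 (⟨x, hx⟩⁻¹ * y * ⟨x, hx⟩) y (by
        push_cast
        group)
      rw [h2]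
      have h3 := hθcf y (⟨x, hx⟩⁻¹ : H)
      rw [inv_inv] at h3
      exact h3
    rw [this]
    exact hθ
  have hTstab : ∀ t ∈ T, ∀ θ ∈ b, conjIrr H t θ ∈ b := by
    intro t ht θ hθ
    have h1 := (hT t⁻¹).mp (T.inv_mem ht) θ hθ (conjIrr H t θ)
    apply h1
    intro h h' hh'
    change (θ : H → ℂ) ⟨t * h' * t⁻¹, _⟩ = (θ : H → ℂ) h
    apply congrArg
    apply Subtype.ext
    change t * (h' : G) * t⁻¹ = (h : G)
    rw [hh']
    group
  obtain ⟨θ, hθ, hh, hS⟩ := exists_height_zero_stab hM H b hb T hHT hTstab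
  refine ⟨θ, hθ, hh, inertiaSubgroup H (θ : H → ℂ) ⊓ T, inf_le_right, ?_, ?_⟩
  · intro g
    rw [Subgroup.mem_inf, mem_inertiaSubgroup, hfix]
    exact and_comm
  · apply hS
    intro g
    rw [Subgroup.mem_inf, mem_inertiaSubgroup]
    exact and_comm

end Cfsg.Agent.Helper6
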