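import Mathlib
import Cfsg.Prelude.Def_Characters
import Cfsg.Prelude.Def_Blocks
import Cfsg.Prelude.Def_BlockLocal
import Cfsg.Prelude.Def_BrauerPairs
import Cfsg.Prelude.Def_BlockRank
import Cfsg.Agent.Helper6.MajSecB
import Cfsg.Agent.Helper6.BlockCover4
import Cfsg.Agent.Helper6.LyingOver
import Cfsg.Agent.Helper6.StableDefect
import Cfsg.Agent.Helper6.StableCover
import Cfsg.Agent.Helper6.IrrOver
import Cfsg.Agent.Blk46.D
import Cfsg.Agent.Blk46.E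
import Cfsg.Agent.Blk46.F
import Cfsg.Agent.Blk46.G

/-!
# A stable block of a normal subgroup of `p`-power index, covered by a block with abelian defect
group (S4640)
-/

set_option autoImplicit false
set_option linter.style.haveILetI false

namespace Cfsg.Agent.Helper6.StableAb

open Cfsg.Agent.Helper6 Cfsg.Agent.Helper6.MajSec Cfsg.Agent.Blk46
open scoped ComplexConjugate

universe u

variable {G : Type u} [Group G] {M : Ideal Cfsg.AlgInt}

/-- step (0): the covering block is the set of characters lying over `b`, and has the idempotent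
of `b` -/
theorem cover_facts [Fintype G] {p : ℕ} [hp : Fact p.Prime] (hM : Cfsg.IsPModular p M)
    (N : Subgroup G) [hN : N.Normal] [Fintype N] (hNi : ∃ k : ℕ, N.index = p ^ k)
    (b : Set (Cfsg.IrrCharacter N)) (hb : Cfsg.IsPBlock M b)
    (hstab : ∀ g : G, Cfsg.StabilizesBlock N b g)
    (B : Set (Cfsg.IrrCharacter G)) (hB : Cfsg.IsPBlock M B)
    (hcov : ∃ χ ∈ B, ∃ θ ∈ b, Cfsg.classInner (fun n : N => (χ : G → ℂ) n) (θ : N → ℂ) ≠ 0) :
    (∀ χ : Cfsg.IrrCharacter G,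
      (∃ θ ∈ b, Cfsg.classInner (fun n : N => (χ : G → ℂ) n) (θ : N → ℂ) ≠ 0) → χ ∈ B) ∧
    (∀ χ ∈ B, ∃ θ ∈ b, Cfsg.classInner (fun n : N => (χ : G → ℂ) n) (θ : N → ℂ) ≠ 0) ∧
    (∀ g : G, Cfsg.blockCoeff B g = Cfsg.subgroupBlockCoeff N b g) := by
  classical
  obtain ⟨B₀, -, huniq⟩ := covering_unique hM.2.1 p hM.2.2 N hNi b hb
  have hBB₀ : B = B₀ := huniq B ⟨hB, hcov⟩
  have h1 : ∀ χ : Cfsg.IrrCharacter G,
      (∃ θ ∈ b, Cfsg.classInner (fun n : N => (χ : G → ℂ) n) (θ : N → ℂ) ≠ 0) → χ ∈ B := by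
    rintro χ ⟨θ, hθ, hne⟩
    have h2 : Cfsg.blockOf M (χ : G → ℂ) = B₀ :=
      huniq _ ⟨⟨χ, rfl⟩, χ, mem_blockOf_self hM.2.1 χ, θ, hθ, hne⟩
    rw [hBB₀, ← h2]
    exact mem_blockOf_self hM.2.1 χ
  have h2 : ∀ χ ∈ B, ∃ θ ∈ b,
      Cfsg.classInner (fun n : N => (χ : G → ℂ) n) (θ : N → ℂ) ≠ 0 :=
    fun χ hχ => cover_all hM.2.1 N b hb B hB hcov χ hχ
  refine ⟨h1, h2, ?_⟩
  have hlo : lyingOver N b = B := by
    ext χ
    exact ⟨fun h => h1 χ h, fun h => h2 χ h⟩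
  have hO : ∀ g : G, ∀ θ ∈ b, conjIrr N g θ ∈ b := by
    intro g θ hθ
    rw [← mem_nact_iff, (nact_eq_self_iff N g b).mpr (hstab g)]
    exact hθ
  intro g
  rw [← hlo, blockCoeff_lyingOver N b hO g]
  by_cases hg : g ∈ N
  · rw [extendByZero_mem _ _ hg, subgroupBlockCoeff_of_mem _ _ _ hg]
  · rw [extendByZero_not_mem _ _ hg, subgroupBlockCoeff_of_not_mem _ _ _ hg]

/-- (1) and (2) -/
theorem sup_eq_top_and_defect [Fintype G] {p : ℕ} [hp : Fact p.Prime] (hM : Cfsg.IsPModular p M)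
    (N : Subgroup G) [hN : N.Normal] [Fintype N] (hNi : ∃ k : ℕ, N.index = p ^ k)
    (b : Set (Cfsg.IrrCharacter N)) (hb : Cfsg.IsPBlock M b)
    (hstab : ∀ g : G, Cfsg.StabilizesBlock N b g)
    (B : Set (Cfsg.IrrCharacter G)) (hB : Cfsg.IsPBlock M B)
    (hcov : ∃ χ ∈ B, ∃ θ ∈ b, Cfsg.classInner (fun n : N => (χ : G → ℂ) n) (θ : N → ℂ) ≠ 0)
    (P : Subgroup G) (hPD : Cfsg.IsDefectGroup p M B P) :
    N ⊔ P = ⊤ ∧ Cfsg.IsDefectGroup p M b ((P ⊓ N).subgroupOf N) := by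
  classical
  obtain ⟨-, -, hBc⟩ := cover_facts hM N hNi b hb hstab B hB hcov
  obtain ⟨h1, h2⟩ := defectGroup_of_stable_gen hM N b hb hstab B hBc P hPD
  refine ⟨?_, h2⟩
  obtain ⟨k, hk⟩ := hNi
  have hdvd : (N ⊔ P).index ∣ p ^ k := by
    rw [← hk]
    exact Subgroup.index_dvd_of_le le_sup_left
  obtain ⟨j, -, hj⟩ := (Nat.dvd_prime_pow hp.out).mp hdvd
  have hj0 : j = 0 := by
    by_contra hne
    apply h1
    rw [hj]
    exact dvd_pow_self p hne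
  rw [hj0, pow_zero] at hj
  exact Subgroup.index_eq_one.mp hj

/-- `G / N` is abelian when `G = N P` with `P` abelian -/
theorem comm_mem_of_sup_eq_top (N : Subgroup G) [hN : N.Normal] (P : Subgroup G)
    (hPab : ∀ x ∈ P, ∀ y ∈ P, x * y = y * x) (hsup : N ⊔ P = ⊤) :
    ∀ a b : G, a * b * a⁻¹ * b⁻¹ ∈ N := by
  have hrep : ∀ g : G, ∃ x ∈ P, (QuotientGroup.mk g : G ⧸ N) = QuotientGroup.mk x := by
    intro g
    have hg : g ∈ N ⊔ P := by
      rw [hsup]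
      exact Subgroup.mem_top g
    rw [← SetLike.mem_coe, Subgroup.normal_mul] at hg
    obtain ⟨n, hn, x, hx, rfl⟩ := hg
    refine ⟨x, hx, ?_⟩
    rw [QuotientGroup.mk_mul, (QuotientGroup.eq_one_iff n).mpr hn, one_mul]
  intro a b
  obtain ⟨x, hx, hax⟩ := hrep a
  obtain ⟨y, hy, hby⟩ := hrep b
  rw [← QuotientGroup.eq_one_iff]
  rw [QuotientGroup.mk_mul, QuotientGroup.mk_mul, QuotientGroup.mk_mul, QuotientGroup.mk_inv,
    QuotientGroup.mk_inv, hax, hby]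
  rw [← QuotientGroup.mk_mul, hPab x hx y hy, QuotientGroup.mk_mul]
  group

/-- a `p`-regular element lies in every normal subgroup of index `p` -/
theorem mem_of_pRegular_of_index_prime [Finite G] {p : ℕ} [hp : Fact p.Prime] (K : Subgroup G)
    [hK : K.Normal] (hKi : K.index = p) (c : G) (hc : ¬ p ∣ orderOf c) : c ∈ K := by
  rw [← QuotientGroup.eq_one_iff]
  have h1 : orderOf (QuotientGroup.mk c : G ⧸ K) ∣ p := by
    have := orderOf_dvd_natCard (QuotientGroup.mk c : G ⧸ K)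
    rwa [← Subgroup.index_eq_card, hKi] at this
  have h2 : orderOf (QuotientGroup.mk c : G ⧸ K) ∣ orderOf c := by
    have := orderOf_map_dvd (QuotientGroup.mk' K) c
    exact this
  rcases (Nat.dvd_prime hp.out).mp h1 with h3 | h3
  · exact orderOf_eq_one_iff.mp h3
  · exfalso
    apply hc
    rw [← h3]
    exact h2

/-- **core**: every member of `B` restricts irreducibly to `N` -/
theorem res_isIrr [Fintype G] {p : ℕ} [hp : Fact p.Prime] (hM : Cfsg.IsPModular p M)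
    (N : Subgroup G) [hN : N.Normal] [Fintype N] (hNi : ∃ k : ℕ, N.index = p ^ k)
    (B : Set (Cfsg.IrrCharacter G)) (hB : Cfsg.IsPBlock M B)
    (P : Subgroup G) (hPD : Cfsg.IsDefectGroup p M B P)
    (hPab : ∀ x ∈ P, ∀ y ∈ P, x * y = y * x) (hsup : N ⊔ P = ⊤)
    (χ : Cfsg.IrrCharacter G) (hχ : χ ∈ B) :
    Cfsg.IsIrrCharacter N (fun n : N => (χ : G → ℂ) n) := by
  classical
  by_contra hred
  have hab := comm_mem_of_sup_eq_top N P hPab hsup
  obtain ⟨K, hKn, hNK, hKi, hvan⟩ := b46_F p N hNi hab χ hred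
  haveI := hKn
  have hex : ∃ x ∈ P, x ∉ K := by
    by_contra hno
    have hPK : P ≤ K := by
      intro y hy
      by_contra hyK
      exact hno ⟨y, hy, hyK⟩
    have hKtop : K = ⊤ := by
      apply top_le_iff.mp
      rw [← hsup]
      exact sup_le hNK hPK
    rw [hKtop, Subgroup.index_top] at hKi
    exact hp.out.one_lt.ne' hKi.symm
  obtain ⟨x, hxP, hxK⟩ := hex
  obtain ⟨c, -, hpc, hne⟩ := exists_pRegular_apply_ne_zero hM B hB P hPD hPab x hxP χ hχ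
  have hcK : c ∈ K := mem_of_pRegular_of_index_prime K hKi c hpc
  apply hne
  apply hvan
  intro hxc
  apply hxK
  have : x = (x * c) * c⁻¹ := by group
  rw [this]
  exact K.mul_mem hxc (K.inv_mem hcK)

/-- **S4640** -/
theorem stable_abelian_main [Fintype G] (p : ℕ) [hp : Fact p.Prime] (hM : Cfsg.IsPModular p M)
    (N : Subgroup G) [hN : N.Normal] [Fintype N] (hNi : ∃ k : ℕ, N.index = p ^ k)
    (b : Set (Cfsg.IrrCharacter N)) (hb : Cfsg.IsPBlock M b)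
    (hstab : ∀ g : G, Cfsg.StabilizesBlock N b g)
    (B : Set (Cfsg.IrrCharacter G)) (hB : Cfsg.IsPBlock M B)
    (hcov : ∃ χ ∈ B, ∃ θ ∈ b, Cfsg.classInner (fun n : N => (χ : G → ℂ) n) (θ : N → ℂ) ≠ 0)
    (P : Subgroup G) (hPD : Cfsg.IsDefectGroup p M B P)
    (hPab : ∀ x ∈ P, ∀ y ∈ P, x * y = y * x) :
    N ⊔ P = ⊤ ∧ Cfsg.IsDefectGroup p M b ((P ⊓ N).subgroupOf N) ∧
      (∀ χ ∈ B, ∃ θ ∈ b, ∀ n : N, (χ : G → ℂ) n = (θ : N → ℂ) n) ∧
      (∀ θ ∈ b, Nat.card {χ : Cfsg.IrrCharacter G //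
        χ ∈ B ∧ ∀ n : N, (χ : G → ℂ) n = (θ : N → ℂ) n} = N.index) ∧
      Nat.card B = N.index * Nat.card b ∧ Cfsg.blockRank p B = Cfsg.blockRank p b := by
  classical
  obtain ⟨hsup, hdef⟩ := sup_eq_top_and_defect hM N hNi b hb hstab B hB hcov P hPD
  obtain ⟨hin, hover, -⟩ := cover_facts hM N hNi b hb hstab B hB hcov
  have hab := comm_mem_of_sup_eq_top N P hPab hsup
  -- a member of `B` with a constituent `θ` restricts to `θ`
  have hres : ∀ χ ∈ B, ∀ θ : Cfsg.IrrCharacter N,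
      Cfsg.classInner (fun n : N => (χ : G → ℂ) n) (θ : N → ℂ) ≠ 0 →
        ∀ n : N, (χ : G → ℂ) n = (θ : N → ℂ) n := by
    intro χ hχ θ hne n
    have hirr := res_isIrr hM N hNi B hB P hPD hPab hsup χ hχ
    by_contra hcon
    apply hne
    apply classInner_irr_ne hirr θ.2
    intro heq
    exact hcon (congrFun heq n)
  have h3 : ∀ χ ∈ B, ∃ θ ∈ b, ∀ n : N, (χ : G → ℂ) n = (θ : N → ℂ) n := by
    intro χ hχ
    obtain ⟨θ, hθ, hne⟩ := hover χ hχ
    exact ⟨θ, hθ, hres χ hχ θ hne⟩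
  -- a character restricting to `θ ∈ b` lies in `B`
  have hmem : ∀ θ ∈ b, ∀ χ : Cfsg.IrrCharacter G,
      (∀ n : N, (χ : G → ℂ) n = (θ : N → ℂ) n) → χ ∈ B := by
    intro θ hθ χ hχθ
    apply hin χ ⟨θ, hθ, ?_⟩
    have : (fun n : N => (χ : G → ℂ) n) = (θ : N → ℂ) := funext hχθ
    rw [this, classInner_irr_self θ.2]
    exact one_ne_zero
  have hext : ∀ θ ∈ b, ∃ χ ∈ B, ∀ n : N, (χ : G → ℂ) n = (θ : N → ℂ) n := by
    intro θ hθ
    obtain ⟨χ, hne⟩ := exists_irr_over N θ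
    have hχB : χ ∈ B := hin χ ⟨θ, hθ, hne⟩
    exact ⟨χ, hχB, hres χ hχB θ hne⟩
  have h4 : ∀ θ ∈ b, Nat.card {χ : Cfsg.IrrCharacter G //
      χ ∈ B ∧ ∀ n : N, (χ : G → ℂ) n = (θ : N → ℂ) n} = N.index := by
    intro θ hθ
    obtain ⟨χ₀, -, hχ₀⟩ := hext θ hθ
    rw [← b46_D N hab θ χ₀ hχ₀]
    apply Nat.card_congr
    apply Equiv.subtypeEquivRight
    intro χ
    exact ⟨fun h => h.2, fun h => ⟨hmem θ hθ χ h, h⟩⟩
  exact ⟨hsup, hdef, h3, h4, b46_G N B b h3 h4, b46_E p N hNi B b h3 hext⟩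

end Cfsg.Agent.Helper6.StableAb
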