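import Mathlib
import Cfsg.Prelude.Def_Transfer
import Cfsg.Agent.Helper1.TateGen
import Cfsg.Agent.Helper5.PResidual

/-!
# Normal complements to Sylow normalizers: the group-theoretic half (for S4931)

`P` a Sylow `p`-subgroup of the finite group `G`, `N = N_G(P)`, `K₀ ⊴ G` with `P ≤ K₀` and
`K₀ ∩ N ≤ P`, `K₁ ⊴ G` with `P' ≤ K₁` and `K₁ ∩ P ≤ P'`.  Then `K₀` has a normal `p`-complement
`K`, and `K` is a normal complement to `N` in `G`.
-/

set_option autoImplicit false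
set_option linter.style.haveILetI false

namespace Cfsg.Agent.Helper6.SylExt

open scoped commutatorElement Pointwise

universe u

variable {G : Type u} [Group G]

/-- `O^p` of a `p`-group is trivial. -/
theorem pResidual_eq_bot_of_isPGroup' {H : Type*} [Group H] (p : ℕ) (hH : IsPGroup p H) :
    Cfsg.pResidual p H = ⊥ := by
  unfold Cfsg.pResidual
  rw [Subgroup.closure_eq_bot_iff]
  intro g hg
  have hg' : Nat.Coprime (orderOf g) p := hg
  obtain ⟨k, hk⟩ := hH g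
  have h1 : orderOf g ∣ p ^ k := orderOf_dvd_of_pow_eq_one hk
  have h2 : Nat.Coprime (orderOf g) (p ^ k) := Nat.Coprime.pow_right k hg'
  have h3 : orderOf g = 1 := Nat.Coprime.eq_one_of_dvd h2 h1
  exact orderOf_eq_one_iff.mp h3

/-- A `p`-element of `O^p(X)` lies in the derived subgroup. -/
theorem mem_commutator_of_mem_pResidual [Finite G] {p : ℕ} [hp : Fact p.Prime] {x : G}
    (hx : x ∈ Cfsg.pResidual p G) (k : ℕ) (hxk : x ^ p ^ k = 1) : x ∈ commutator G := by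
  classical
  set m := Nat.card G / p ^ (Nat.card G).factorization p with hm
  have hmdvd : ∀ g : G, (orderOf g).Coprime p → orderOf g ∣ m := by
    intro g hg
    have h1 : orderOf g ∣ Nat.card G := orderOf_dvd_natCard g
    have h2 : p ^ (Nat.card G).factorization p * m = Nat.card G :=
      Nat.ordProj_mul_ordCompl_eq_self (Nat.card G) p
    have h4 : orderOf g ∣ p ^ (Nat.card G).factorization p * m := by rw [h2]; exact h1
    exact (Nat.Coprime.pow_right _ hg).dvd_of_dvd_mul_left h4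
  have hmcop : m.Coprime p := by
    rw [hm]
    have := Nat.coprime_ordCompl hp.out (Nat.card_pos (α := G)).ne'
    exact this.symm
  -- the abelianization
  let A := Abelianization G
  let π : G →* A := Abelianization.of
  have h1 : Cfsg.pResidual p G ≤ ((powMonoidHom m : A →* A).comp π).ker := by
    unfold Cfsg.pResidual
    rw [Subgroup.closure_le]
    intro g hg
    have hg' : (orderOf g).Coprime p := hg
    rw [SetLike.mem_coe, MonoidHom.mem_ker, MonoidHom.comp_apply, powMonoidHom_apply, ← map_pow]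
    obtain ⟨c, hc⟩ := hmdvd g hg'
    rw [hc, pow_mul, pow_orderOf_eq_one, one_pow, map_one]
  have h2 : (π x) ^ m = 1 := by
    have := h1 hx
    rwa [MonoidHom.mem_ker, MonoidHom.comp_apply, powMonoidHom_apply] at this
  have h3 : (π x) ^ p ^ k = 1 := by rw [← map_pow, hxk, map_one]
  have h4 : (π x) ^ Nat.gcd m (p ^ k) = 1 := pow_gcd_eq_one.mpr ⟨h2, h3⟩
  have h5 : Nat.gcd m (p ^ k) = 1 := Nat.Coprime.pow_right k hmcop
  rw [h5, pow_one] at h4
  have h6 : x ∈ π.ker := h4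
  rwa [Abelianization.ker_of] at h6

variable [Finite G] {p : ℕ} [hp : Fact p.Prime]

/-- The fusion lemma: `K₀`-fusion in `P` is trivial modulo `P'`. -/
theorem fusion (P : Sylow p G) (K0 K1 : Subgroup G) [hK0 : K0.Normal] [hK1 : K1.Normal]
    (hPK0 : (P : Subgroup G) ≤ K0)
    (h0 : K0 ⊓ Subgroup.normalizer ((P : Subgroup G) : Set G) ≤ (P : Subgroup G))
    (hP1 : ∀ a ∈ (P : Subgroup G), ∀ b ∈ (P : Subgroup G), ⁅a, b⁆ ∈ K1)
    (h1 : K1 ⊓ (P : Subgroup G) ≤ ⁅(P : Subgroup G), (P : Subgroup G)⁆)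
    (x g : G) (hx : x ∈ (P : Subgroup G)) (hg : g ∈ K0)
    (hy : g * x * g⁻¹ ∈ (P : Subgroup G)) :
    x⁻¹ * (g * x * g⁻¹) ∈ ⁅(P : Subgroup G), (P : Subgroup G)⁆ := by
  classical
  set y := g * x * g⁻¹ with hydef
  -- the subgroup `D`
  let D : Subgroup G := K0 ⊓ (Subgroup.centralizer
    ({(QuotientGroup.mk y : G ⧸ K1)} : Set (G ⧸ K1))).comap (QuotientGroup.mk' K1)
  have hmemD : ∀ c : G, c ∈ D ↔ c ∈ K0 ∧ c⁻¹ * y⁻¹ * c * y ∈ K1 := by
    intro c
    simp only [D, Subgroup.mem_inf, Subgroup.mem_comap, QuotientGroup.mk'_apply,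
      Subgroup.mem_centralizer_iff, Set.mem_singleton_iff, forall_eq]
    constructor
    · rintro ⟨h1, h2⟩
      refine ⟨h1, ?_⟩
      rw [← QuotientGroup.mk_mul, ← QuotientGroup.mk_mul, QuotientGroup.eq] at h2
      have : (y * c)⁻¹ * (c * y) = c⁻¹ * y⁻¹ * c * y := by group
      rwa [this] at h2
    · rintro ⟨h1, h2⟩
      refine ⟨h1, ?_⟩
      rw [← QuotientGroup.mk_mul, ← QuotientGroup.mk_mul, QuotientGroup.eq]
      have : (y * c)⁻¹ * (c * y) = c⁻¹ * y⁻¹ * c * y := by group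
      rwa [this]
  have hPD : (P : Subgroup G) ≤ D := by
    intro c hc
    rw [hmemD]
    refine ⟨hPK0 hc, ?_⟩
    have h := hP1 c⁻¹ (inv_mem hc) y⁻¹ (inv_mem hy)
    have : ⁅c⁻¹, y⁻¹⁆ = c⁻¹ * y⁻¹ * c * y := by
      rw [commutatorElement_def]; group
    rwa [this] at h
  have hgPD : ((g • P : Sylow p G) : Subgroup G) ≤ D := by
    intro c hc
    rw [Sylow.coe_subgroup_smul, Subgroup.mem_pointwise_smul_iff_inv_smul_mem] at hc
    rw [MulAut.smul_def, MulAut.conj_inv_apply] at hc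
    -- `g⁻¹ * c * g ∈ P`
    set c' := g⁻¹ * c * g with hc'
    have hcc : c = g * c' * g⁻¹ := by rw [hc']; group
    rw [hmemD]
    refine ⟨?_, ?_⟩
    · rw [hcc]
      exact hK0.conj_mem c' (hPK0 hc) g
    · have h := hP1 c'⁻¹ (inv_mem hc) x⁻¹ (inv_mem hx)
      have h2 : c⁻¹ * y⁻¹ * c * y = g * ⁅c'⁻¹, x⁻¹⁆ * g⁻¹ := by
        rw [hcc, hydef, commutatorElement_def]; group
      rw [h2]
      exact hK1.conj_mem _ h g
  obtain ⟨h, hh⟩ := MulAction.exists_smul_eq D ((g • P).subtype hgPD) (P.subtype hPD)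
  simp_rw [Sylow.smul_subtype, Subgroup.smul_def, smul_smul] at hh
  have hu : (h : G) * g ∈ Subgroup.normalizer ((P : Subgroup G) : Set G) :=
    Sylow.smul_eq_iff_mem_normalizer.mp (Sylow.subtype_injective hh)
  have hhD := (hmemD h).mp h.2
  have huK : (h : G) * g ∈ K0 := K0.mul_mem hhD.1 hg
  have huP : (h : G) * g ∈ (P : Subgroup G) := h0 ⟨huK, hu⟩
  set u := (h : G) * g with hudef
  -- `x⁻¹ * (u x u⁻¹) ∈ P'`
  have ha : ⁅x⁻¹, u⁆ ∈ ⁅(P : Subgroup G), (P : Subgroup G)⁆ :=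
    Subgroup.commutator_mem_commutator (inv_mem hx) huP
  have hb : (h : G) * y⁻¹ * (h : G)⁻¹ * y ∈ K1 := by
    have h3 : (h : G) * y⁻¹ * (h : G)⁻¹ * y =
        (h : G) * ((h : G)⁻¹ * y⁻¹ * (h : G) * y)⁻¹ * (h : G)⁻¹ := by group
    rw [h3]
    exact hK1.conj_mem _ (inv_mem hhD.2) _
  have hdecomp : x⁻¹ * y = ⁅x⁻¹, u⁆ * ((h : G) * y⁻¹ * (h : G)⁻¹ * y) := by
    rw [commutatorElement_def, hudef, hydef]; group
  have hcomP : ⁅(P : Subgroup G), (P : Subgroup G)⁆ ≤ (P : Subgroup G) := by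
    rw [Subgroup.commutator_le]
    intro a ha b hb
    rw [commutatorElement_def]
    exact mul_mem (mul_mem (mul_mem ha hb) (inv_mem ha)) (inv_mem hb)
  have hk : (h : G) * y⁻¹ * (h : G)⁻¹ * y ∈ (P : Subgroup G) := by
    have h4 : (h : G) * y⁻¹ * (h : G)⁻¹ * y = ⁅x⁻¹, u⁆⁻¹ * (x⁻¹ * y) := by
      rw [hdecomp]; group
    rw [h4]
    exact mul_mem (inv_mem (hcomP ha)) (mul_mem (inv_mem hx) hy)
  rw [hdecomp]
  exact mul_mem ha (h1 ⟨hb, hk⟩)

/-- the focal subgroup of `P` in `K₀` lies in `P'` -/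
theorem focal_le (P : Sylow p G) (K0 K1 : Subgroup G) [hK0 : K0.Normal] [hK1 : K1.Normal]
    (hPK0 : (P : Subgroup G) ≤ K0)
    (h0 : K0 ⊓ Subgroup.normalizer ((P : Subgroup G) : Set G) ≤ (P : Subgroup G))
    (hP1 : ∀ a ∈ (P : Subgroup G), ∀ b ∈ (P : Subgroup G), ⁅a, b⁆ ∈ K1)
    (h1 : K1 ⊓ (P : Subgroup G) ≤ ⁅(P : Subgroup G), (P : Subgroup G)⁆)
    (z : ↥K0) (hz : z ∈ commutator ↥K0) (hzP : (z : G) ∈ (P : Subgroup G)) :
    (z : G) ∈ ⁅(P : Subgroup G), (P : Subgroup G)⁆ := by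
  classical
  let P0 : Sylow p ↥K0 := P.subtype hPK0
  have hP0 : ∀ w : ↥K0, w ∈ (P0 : Subgroup ↥K0) ↔ (w : G) ∈ (P : Subgroup G) := by
    intro w
    rw [Sylow.coe_subtype, Subgroup.mem_subgroupOf]
  have hfoc := Subgroup.commutator_inf_eq_focalSubgroup P0
  have hz2 : z ∈ (P0 : Subgroup ↥K0).focalSubgroup := by
    rw [← hfoc]
    exact ⟨hz, (hP0 z).mpr hzP⟩
  rw [Subgroup.focalSubgroup_def] at hz2
  have hle : Subgroup.closure {g : ↥K0 | g ∈ (P0 : Subgroup ↥K0) ∧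
      ∃ x ∈ (P0 : Subgroup ↥K0), ∃ u : ↥K0, g = ⁅x, u⁆} ≤
      (⁅(P : Subgroup G), (P : Subgroup G)⁆).subgroupOf K0 := by
    rw [Subgroup.closure_le]
    rintro g ⟨hgP, x, hx, u, rfl⟩
    rw [SetLike.mem_coe, Subgroup.mem_subgroupOf]
    have hxP : (x : G) ∈ (P : Subgroup G) := (hP0 x).mp hx
    have hgP' : ((⁅x, u⁆ : ↥K0) : G) ∈ (P : Subgroup G) := (hP0 _).mp hgP
    have hcoe : ((⁅x, u⁆ : ↥K0) : G) = (x : G) * ((u : G) * (x : G)⁻¹ * (u : G)⁻¹) := by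
      rw [commutatorElement_def]
      push_cast
      group
    have hy : (u : G) * (x : G)⁻¹ * (u : G)⁻¹ ∈ (P : Subgroup G) := by
      have : (u : G) * (x : G)⁻¹ * (u : G)⁻¹ = (x : G)⁻¹ * ((⁅x, u⁆ : ↥K0) : G) := by
        rw [hcoe]; group
      rw [this]
      exact mul_mem (inv_mem hxP) hgP'
    have := fusion P K0 K1 hPK0 h0 hP1 h1 (x : G)⁻¹ (u : G) (inv_mem hxP) u.2 hy
    rw [inv_inv] at this
    rw [hcoe]
    exact this
  have := hle hz2
  rwa [Subgroup.mem_subgroupOf] at this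

set_option maxHeartbeats 800000 in
/-- **The group-theoretic half of S4931.** -/
theorem exists_normal_complement (P : Sylow p G) (K0 K1 : Subgroup G) [hK0 : K0.Normal]
    [hK1 : K1.Normal] (hPK0 : (P : Subgroup G) ≤ K0)
    (h0 : K0 ⊓ Subgroup.normalizer ((P : Subgroup G) : Set G) ≤ (P : Subgroup G))
    (hP1 : ∀ a ∈ (P : Subgroup G), ∀ b ∈ (P : Subgroup G), ⁅a, b⁆ ∈ K1)
    (h1 : K1 ⊓ (P : Subgroup G) ≤ ⁅(P : Subgroup G), (P : Subgroup G)⁆) :
    ∃ K : Subgroup G, K.Normal ∧ K ⊔ Subgroup.normalizer ((P : Subgroup G) : Set G) = ⊤ ∧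
      K ⊓ Subgroup.normalizer ((P : Subgroup G) : Set G) = ⊥ := by
  classical
  let P0 : Sylow p ↥K0 := P.subtype hPK0
  have hP0 : ∀ w : ↥K0, w ∈ (P0 : Subgroup ↥K0) ↔ (w : G) ∈ (P : Subgroup G) := by
    intro w
    rw [Sylow.coe_subtype, Subgroup.mem_subgroupOf]
  -- Tate
  have hE : ∀ (x : ↥K0) (hx : x ∈ (P0 : Subgroup ↥K0)), x ∈ Cfsg.pResidual p ↥K0 →
      ∀ μ : ↥(P0 : Subgroup ↥K0) →* Multiplicative (ZMod p), μ ⟨x, hx⟩ = 1 := by
    intro x hx hxR μ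
    obtain ⟨k, hk⟩ := P0.2 ⟨x, hx⟩
    have hk' : x ^ p ^ k = 1 := by
      have := congrArg Subtype.val hk
      simpa using this
    have hxc : x ∈ commutator ↥K0 := mem_commutator_of_mem_pResidual hxR k hk'
    have hxP' := focal_le P K0 K1 hPK0 h0 hP1 h1 x hxc ((hP0 x).mp hx)
    -- the kernel of `μ` pushed to `G` contains `P'`
    let M : Subgroup G := (μ.ker.map (P0 : Subgroup ↥K0).subtype).map K0.subtype
    have hM : ⁅(P : Subgroup G), (P : Subgroup G)⁆ ≤ M := by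
      rw [Subgroup.commutator_le]
      intro a ha b hb
      have haK : a ∈ K0 := hPK0 ha
      have hbK : b ∈ K0 := hPK0 hb
      let a' : ↥(P0 : Subgroup ↥K0) := ⟨⟨a, haK⟩, (hP0 _).mpr ha⟩
      let b' : ↥(P0 : Subgroup ↥K0) := ⟨⟨b, hbK⟩, (hP0 _).mpr hb⟩
      refine ⟨((⁅a', b'⁆ : ↥(P0 : Subgroup ↥K0)) : ↥K0), ⟨⁅a', b'⁆, ?_, rfl⟩, ?_⟩
      · rw [SetLike.mem_coe, MonoidHom.mem_ker, map_commutatorElement]
        rw [commutatorElement_def]
        rw [mul_comm (μ a') (μ b'), mul_assoc (μ b'), mul_inv_cancel, mul_one, mul_inv_cancel]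
      · simp only [Subgroup.coe_subtype, a', b']
        rw [commutatorElement_def, commutatorElement_def]
        push_cast
        rfl
    obtain ⟨w, ⟨v, hv, hvw⟩, hwx⟩ := hM hxP'
    have hvx : v = ⟨x, hx⟩ := by
      apply Subtype.ext
      apply Subtype.ext
      rw [← hwx, ← hvw]
      rfl
    rw [← hvx]
    exact hv
  have htate := Cfsg.Agent.Helper1.tate_general P0 (P0 : Subgroup ↥K0) (le_refl _) hE
  have hbot : Cfsg.pResidual p ↥(P0 : Subgroup ↥K0) = ⊥ :=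
    pResidual_eq_bot_of_isPGroup' p P0.2
  rw [hbot, Subgroup.map_bot] at htate
  -- the complement
  haveI hchar : (Cfsg.pResidual p ↥K0).Characteristic :=
    Cfsg.Agent.Helper5.pResidual_characteristic p
  let K : Subgroup G := (Cfsg.pResidual p ↥K0).map K0.subtype
  have hKn : K.Normal := ConjAct.normal_of_characteristic_of_normal
  have hKK0 : K ≤ K0 := Subgroup.map_subtype_le _
  have hKP : K ⊓ (P : Subgroup G) = ⊥ := by
    rw [eq_bot_iff]
    rintro z ⟨⟨w, hw, rfl⟩, hzP⟩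
    have h2 : w ∈ Cfsg.pResidual p ↥K0 ⊓ (P0 : Subgroup ↥K0) := ⟨hw, (hP0 w).mpr hzP⟩
    have h3 := htate h2
    rw [Subgroup.mem_bot] at h3
    rw [Subgroup.mem_bot, h3]
    rfl
  have hsup : Cfsg.pResidual p ↥K0 ⊔ (P0 : Subgroup ↥K0) = ⊤ :=
    Cfsg.Agent.Helper5.pResidual_sup_sylow P0
  have hK0le : K0 ≤ K ⊔ (P : Subgroup G) := by
    intro z hz
    have h2 : (⟨z, hz⟩ : ↥K0) ∈ Cfsg.pResidual p ↥K0 ⊔ (P0 : Subgroup ↥K0) := by
      rw [hsup]; trivial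
    have h3 : K0.subtype ⟨z, hz⟩ ∈ (Cfsg.pResidual p ↥K0 ⊔ (P0 : Subgroup ↥K0)).map K0.subtype :=
      Subgroup.mem_map_of_mem _ h2
    rw [Subgroup.map_sup] at h3
    have h4 : K ⊔ (P0 : Subgroup ↥K0).map K0.subtype ≤ K ⊔ (P : Subgroup G) := by
      apply sup_le_sup_left
      rintro _ ⟨w, hw, rfl⟩
      exact (hP0 w).mp hw
    exact h4 h3
  have hfrat : Subgroup.normalizer ((P : Subgroup G) : Set G) ⊔ K0 = ⊤ :=
    Sylow.normalizer_sup_eq_top' P hPK0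
  have hPN : (P : Subgroup G) ≤ Subgroup.normalizer ((P : Subgroup G) : Set G) :=
    Subgroup.le_normalizer
  refine ⟨K, hKn, ?_, ?_⟩
  · rw [eq_top_iff, ← hfrat]
    apply sup_le le_sup_right
    exact hK0le.trans (sup_le_sup_left hPN _)
  · rw [eq_bot_iff, ← hKP]
    intro z hz
    exact ⟨hz.1, h0 ⟨hKK0 hz.1, hz.2⟩⟩

end Cfsg.Agent.Helper6.SylExt
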