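import Mathlib
import Cfsg.Prelude.Def_Characters
import Cfsg.Prelude.Def_Blocks
import Cfsg.Agent.Helper6.SylExtA
import Cfsg.Agent.Helper6.Ito
import Cfsg.Agent.Helper6.Inflation
import Cfsg.Agent.Helper6.FaithfulIrr
import Cfsg.Agent.Helper6.RepEigen
import Cfsg.Agent.Helper6.BlockKernel
import Cfsg.Agent.Helper6.BlockPart
import Cfsg.Agent.Helper6.BrauerPerm2
import Cfsg.Agent.Helper6.DefectZeroBlock

/-!
# Normal complements to Sylow normalizers: the character-theoretic half (for S4931)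

Every `p'`-degree irreducible character of `N = N_G(P)` extends to `G` iff `N` has a normal
complement in `G`.
-/

set_option autoImplicit false
set_option linter.style.haveILetI false

namespace Cfsg.Agent.Helper6.SylExt

open Cfsg.Agent.Helper6
open scoped commutatorElement

universe u

/-- If all irreducible characters of `N / D` have `p'`-degree, every `x ∉ D` is outside the
kernel of some `p'`-degree irreducible character of `N` with `D` in its kernel. -/
theorem exists_irr_pprime_sep {N : Type u} [Group N] [Finite N] (p : ℕ) (D : Subgroup N)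
    [hD : D.Normal]
    (hdeg : ∀ τ : Cfsg.IrrCharacter (N ⧸ D), ¬ p ∣ Cfsg.charDegree (τ : N ⧸ D → ℂ))
    (x : N) (hx : x ∉ D) :
    ∃ θ : Cfsg.IrrCharacter N, ¬ p ∣ Cfsg.charDegree (θ : N → ℂ) ∧
      (∀ d ∈ D, (θ : N → ℂ) d = (θ : N → ℂ) 1) ∧ (θ : N → ℂ) x ≠ (θ : N → ℂ) 1 := by
  classical
  have hx1 : (QuotientGroup.mk x : N ⧸ D) ≠ 1 := by
    intro h
    rw [QuotientGroup.eq_one_iff] at h
    exact hx h
  obtain ⟨τ, hτ, hτx⟩ : ∃ τ : N ⧸ D → ℂ, Cfsg.IsIrrCharacter (N ⧸ D) τ ∧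
      τ (QuotientGroup.mk x) ≠ τ 1 := by
    obtain ⟨n, ρ, hirr, hρ⟩ := exists_irr_rep_ne_one (QuotientGroup.mk x : N ⧸ D) hx1
    refine ⟨ρ.character, ⟨n, ρ, hirr, rfl⟩, ?_⟩
    intro h
    rw [Representation.char_one, char_eq_finrank_iff] at h
    exact hρ h
  have hinf := isIrrCharacter_inflate D ⟨τ, hτ⟩
  refine ⟨⟨_, hinf⟩, ?_, ?_, ?_⟩
  · have h1 : Cfsg.charDegree ((τ : N ⧸ D → ℂ) ∘ QuotientGroup.mk) = Cfsg.charDegree τ := by
      unfold Cfsg.charDegree
      rw [Function.comp_apply, QuotientGroup.mk_one]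
    change ¬ p ∣ Cfsg.charDegree ((τ : N ⧸ D → ℂ) ∘ QuotientGroup.mk)
    rw [h1]
    exact hdeg ⟨τ, hτ⟩
  · intro d hd
    change τ (QuotientGroup.mk d) = τ (QuotientGroup.mk 1)
    rw [(QuotientGroup.eq_one_iff d).mpr hd, QuotientGroup.mk_one]
  · change τ (QuotientGroup.mk x) ≠ τ (QuotientGroup.mk 1)
    rw [QuotientGroup.mk_one]
    exact hτx

variable {G : Type u} [Group G] [Finite G]

/-- If the relevant characters of the subgroup `N` extend to `G`, the normal closure in `G` of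
a normal subgroup `D` of `N` with only `p'`-degrees in `N / D` meets `N` in `D`. -/
theorem normalClosure_inf_le (p : ℕ) (N : Subgroup G)
    (hext : ∀ θ : Cfsg.IrrCharacter ↥N, ¬ p ∣ Cfsg.charDegree (θ : ↥N → ℂ) →
      ∃ χ : Cfsg.IrrCharacter G, ∀ x : ↥N, (χ : G → ℂ) x = (θ : ↥N → ℂ) x)
    (D : Subgroup ↥N) [hD : D.Normal]
    (hdeg : ∀ τ : Cfsg.IrrCharacter (↥N ⧸ D), ¬ p ∣ Cfsg.charDegree (τ : ↥N ⧸ D → ℂ)) :
    Subgroup.normalClosure ((D.map N.subtype : Subgroup G) : Set G) ⊓ N ≤ D.map N.subtype := by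
  classical
  intro n hn
  obtain ⟨hn1, hn2⟩ := Subgroup.mem_inf.mp hn
  by_contra hnD
  have hx : (⟨n, hn2⟩ : ↥N) ∉ D := by
    intro h
    exact hnD (Subgroup.mem_map.mpr ⟨⟨n, hn2⟩, h, rfl⟩)
  obtain ⟨θ, hθp, hθD, hθx⟩ := exists_irr_pprime_sep p D hdeg ⟨n, hn2⟩ hx
  obtain ⟨χ, hχ⟩ := hext θ hθp
  haveI := kerSub_normal χ
  have h1 : (D.map N.subtype : Subgroup G) ≤ kerSub χ := by
    rintro _ ⟨d, hd, rfl⟩
    rw [mem_kerSub]
    have h2 := hχ d
    have h3 := hχ 1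
    simp only [Subgroup.coe_subtype] at h2 ⊢
    rw [h2, hθD d hd, ← h3]
    rfl
  have h2 : Subgroup.normalClosure ((D.map N.subtype : Subgroup G) : Set G) ≤ kerSub χ :=
    Subgroup.normalClosure_le_normal h1
  have h3 := (mem_kerSub χ n).mp (h2 hn1)
  have h4 := hχ ⟨n, hn2⟩
  have h5 := hχ 1
  apply hθx
  rw [← h4, ← h5]
  exact h3

/-- Characters of a complemented subgroup extend. -/
theorem extend_of_complement (N K : Subgroup G) [hK : K.Normal] (h1 : K ⊔ N = ⊤)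
    (h2 : K ⊓ N = ⊥) (θ : Cfsg.IrrCharacter ↥N) :
    ∃ χ : Cfsg.IrrCharacter G, ∀ x : ↥N, (χ : G → ℂ) x = (θ : ↥N → ℂ) x := by
  classical
  let φ : ↥N →* G ⧸ K := (QuotientGroup.mk' K).comp N.subtype
  have hinj : Function.Injective φ := by
    rw [injective_iff_map_eq_one]
    intro a ha
    have h3 : (a : G) ∈ K := by
      have : (QuotientGroup.mk (a : G) : G ⧸ K) = 1 := ha
      rwa [QuotientGroup.eq_one_iff] at this
    have h4 : (a : G) ∈ K ⊓ N := Subgroup.mem_inf.mpr ⟨h3, a.2⟩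
    rw [h2, Subgroup.mem_bot] at h4
    exact Subtype.ext h4
  have hsurj : Function.Surjective φ := by
    intro y
    obtain ⟨g, rfl⟩ := QuotientGroup.mk_surjective y
    have hg : g ∈ K ⊔ N := by rw [h1]; exact Subgroup.mem_top g
    rw [← SetLike.mem_coe, Subgroup.normal_mul] at hg
    obtain ⟨k, hk, n, hn, rfl⟩ := Set.mem_mul.mp hg
    refine ⟨⟨n, hn⟩, ?_⟩
    change (QuotientGroup.mk n : G ⧸ K) = QuotientGroup.mk (k * n)
    rw [QuotientGroup.eq]
    have : n⁻¹ * (k * n) = n⁻¹ * k * n⁻¹⁻¹ := by group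
    rw [this]
    exact hK.conj_mem k hk n⁻¹
  let e : ↥N ≃* G ⧸ K := MulEquiv.ofBijective φ ⟨hinj, hsurj⟩
  have hτ : Cfsg.IsIrrCharacter (G ⧸ K) ((θ : ↥N → ℂ) ∘ e.symm) :=
    IsIrrCharacter.comp_mulEquiv e.symm θ.2
  have hinf := isIrrCharacter_inflate K ⟨_, hτ⟩
  refine ⟨⟨_, hinf⟩, ?_⟩
  intro x
  change (θ : ↥N → ℂ) (e.symm (QuotientGroup.mk (x : G))) = (θ : ↥N → ℂ) x
  have : (QuotientGroup.mk (x : G) : G ⧸ K) = e x := rfl
  rw [this, MulEquiv.symm_apply_apply]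

/-- Degrees of `N / Q` are `p'` when `Q` has `p'`-index. -/
theorem not_dvd_charDegree_quot {N : Type u} [Group N] [Finite N] (p : ℕ) (Q : Subgroup N)
    [hQ : Q.Normal] (hidx : ¬ p ∣ Q.index) (τ : Cfsg.IrrCharacter (N ⧸ Q)) :
    ¬ p ∣ Cfsg.charDegree (τ : N ⧸ Q → ℂ) := by
  intro h
  apply hidx
  have h1 := charDegree_dvd_card τ.2
  rw [← Subgroup.index_eq_card] at h1
  exact h.trans h1

/-- Degrees of `N / Q'` are `p'` when `Q` has `p'`-index (Itô). -/
theorem not_dvd_charDegree_quot_comm {N : Type u} [Group N] [Finite N] (p : ℕ) (Q : Subgroup N)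
    [hQ : Q.Normal] (hidx : ¬ p ∣ Q.index) (τ : Cfsg.IrrCharacter (N ⧸ ⁅Q, Q⁆)) :
    ¬ p ∣ Cfsg.charDegree (τ : N ⧸ ⁅Q, Q⁆ → ℂ) := by
  classical
  intro h
  apply hidx
  obtain ⟨n₁, ρ, hirr, hρ⟩ := id τ.2
  haveI := hirr
  haveI : (Q.map (QuotientGroup.mk' ⁅Q, Q⁆)).Normal :=
    Subgroup.Normal.map hQ _ (QuotientGroup.mk'_surjective _)
  have hAab : ∀ x ∈ Q.map (QuotientGroup.mk' ⁅Q, Q⁆),
      ∀ y ∈ Q.map (QuotientGroup.mk' ⁅Q, Q⁆), x * y = y * x := by
    rintro _ ⟨a, ha, rfl⟩ _ ⟨b, hb, rfl⟩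
    simp only [QuotientGroup.mk'_apply]
    rw [← QuotientGroup.mk_mul, ← QuotientGroup.mk_mul, QuotientGroup.eq]
    have h1 : (a * b)⁻¹ * (b * a) = ⁅b⁻¹, a⁻¹⁆ := by
      rw [commutatorElement_def]
      group
    rw [h1]
    exact Subgroup.commutator_mem_commutator (Q.inv_mem hb) (Q.inv_mem ha)
  have hAidx : (Q.map (QuotientGroup.mk' ⁅Q, Q⁆)).index = Q.index := by
    rw [Subgroup.index_map_eq _ (QuotientGroup.mk'_surjective _)
      (by rw [QuotientGroup.ker_mk']; exact Subgroup.commutator_le_left Q Q)]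
  have hito := ito ρ (Q.map (QuotientGroup.mk' ⁅Q, Q⁆)) hAab
  rw [hAidx, Module.finrank_fin_fun] at hito
  have hτ1 : (τ : N ⧸ ⁅Q, Q⁆ → ℂ) 1 = ((n₁ : ℕ) : ℂ) := by
    rw [← hρ, Representation.char_one, Module.finrank_fin_fun]
  have hcharDeg : Cfsg.charDegree (τ : N ⧸ ⁅Q, Q⁆ → ℂ) = n₁ := by
    have h1 := charDegree_cast_of_isCharacter (IsIrrCharacter.isCharacter τ.2)
    rw [hτ1] at h1
    exact_mod_cast h1
  rw [hcharDeg] at h
  exact h.trans hito

variable {p : ℕ} [hp : Fact p.Prime]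

/-- **The Sylow normalizer `N` has a normal complement iff all `p'`-degree irreducible characters
of `N` extend to `G`.** -/
theorem extend_iff_complement (P : Sylow p G) :
    (∀ θ : Cfsg.IrrCharacter ↥(Subgroup.normalizer ((P : Subgroup G) : Set G)),
      ¬ p ∣ Cfsg.charDegree (θ : ↥(Subgroup.normalizer ((P : Subgroup G) : Set G)) → ℂ) →
        ∃ χ : Cfsg.IrrCharacter G,
          ∀ x : ↥(Subgroup.normalizer ((P : Subgroup G) : Set G)),
            (χ : G → ℂ) x =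
              (θ : ↥(Subgroup.normalizer ((P : Subgroup G) : Set G)) → ℂ) x) ↔
      ∃ K : Subgroup G, K.Normal ∧
        K ⊔ Subgroup.normalizer ((P : Subgroup G) : Set G) = ⊤ ∧
        K ⊓ Subgroup.normalizer ((P : Subgroup G) : Set G) = ⊥ := by
  classical
  constructor
  · intro hext
    obtain ⟨N, hN⟩ : ∃ N : Subgroup G, N = Subgroup.normalizer ((P : Subgroup G) : Set G) :=
      ⟨_, rfl⟩
    rw [← hN] at hext ⊢
    have hPN : (P : Subgroup G) ≤ N := by rw [hN]; exact Subgroup.le_normalizer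
    obtain ⟨Q, hQdef⟩ : ∃ Q : Subgroup ↥N, Q = (P : Subgroup G).subgroupOf N := ⟨_, rfl⟩
    haveI hQn : Q.Normal := by
      rw [hQdef]
      subst hN
      exact Subgroup.normal_in_normalizer
    have hQmap : Q.map N.subtype = (P : Subgroup G) := by
      rw [hQdef, Subgroup.map_subgroupOf_eq_of_le hPN]
    have hQidx : ¬ p ∣ Q.index := by
      intro h
      have h1 : Q.index = (P : Subgroup G).relIndex N := by rw [hQdef]; rfl
      rw [h1] at h
      have h2 := Subgroup.relIndex_mul_index hPN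
      exact P.not_dvd_index (h.trans (Dvd.intro _ h2))
    haveI hQc : (⁅Q, Q⁆).Normal := Subgroup.commutator_normal Q Q
    have hQcmap : (⁅Q, Q⁆).map N.subtype = ⁅(P : Subgroup G), (P : Subgroup G)⁆ := by
      rw [Subgroup.map_commutator, hQmap]
    have hA := normalClosure_inf_le p N hext Q (not_dvd_charDegree_quot p Q hQidx)
    have hB := normalClosure_inf_le p N hext ⁅Q, Q⁆ (not_dvd_charDegree_quot_comm p Q hQidx)
    rw [hQmap] at hA
    rw [hQcmap] at hB
    rw [hN] at hA hB ⊢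
    refine exists_normal_complement P (Subgroup.normalClosure ((P : Subgroup G) : Set G))
      (Subgroup.normalClosure ((⁅(P : Subgroup G), (P : Subgroup G)⁆ : Subgroup G) : Set G))
      Subgroup.le_normalClosure hA ?_ ?_
    · intro a ha b hb
      exact Subgroup.le_normalClosure (Subgroup.commutator_mem_commutator ha hb)
    · intro x hx
      obtain ⟨hx1, hx2⟩ := Subgroup.mem_inf.mp hx
      exact hB (Subgroup.mem_inf.mpr ⟨hx1, Subgroup.le_normalizer hx2⟩)
  · rintro ⟨K, hK, h1, h2⟩ θ -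
    haveI := hK
    exact extend_of_complement _ K h1 h2 θ

end Cfsg.Agent.Helper6.SylExt
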