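import Mathlib
import Cfsg.Prelude.Def_Characters
import Cfsg.Agent.Helper6.FrobSchur

/-!
# Symplectic irreducible characters contain the trivial character of a subgroup evenly often

If `ρ` is an irreducible representation with real character and Frobenius–Schur indicator `-1`,
then for every subgroup `H` the multiplicity of the trivial character in the restriction to `H`
is even.  Consequently a real irreducible character with an odd such multiplicity has indicator
`+1`.
-/

set_option autoImplicit false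
set_option linter.style.haveILetI false
set_option linter.unusedSimpArgs false

namespace Cfsg.Agent.Helper6

open Matrix Module Representation
open scoped ComplexConjugate

universe u

namespace SympEven

/-- An idempotent matrix `E` compatible with an invertible skew-symmetric form `M` has even
trace. -/
theorem even_trace_of_skew_proj {n : ℕ} (M E : Matrix (Fin n) (Fin n) ℂ) (hM : IsUnit M)
    (hMt : Mᵀ = -M) (hE : E * E = E) (hME : M * E = Eᵀ * M) :
    ∃ a : ℕ, Even a ∧ E.trace = (a : ℂ) := by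
  classical
  set f : (Fin n → ℂ) →ₗ[ℂ] (Fin n → ℂ) := Matrix.toLin' E with hf
  have hfid : IsIdempotentElem f := by
    change f * f = f
    rw [hf, Module.End.mul_eq_comp, ← Matrix.toLin'_mul, hE]
  set W : Submodule ℂ (Fin n → ℂ) := LinearMap.range f with hW
  have hproj : LinearMap.IsProj W f := LinearMap.IsIdempotentElem.isProj_range f hfid
  have htr : E.trace = (Module.finrank ℂ W : ℂ) := by
    rw [← hproj.trace, hf, LinearMap.trace_eq_matrix_trace ℂ (Pi.basisFun ℂ (Fin n)),
      LinearMap.toMatrix_eq_toMatrix', LinearMap.toMatrix'_toLin']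
  refine ⟨Module.finrank ℂ W, ?_, htr⟩
  set a := Module.finrank ℂ W with ha
  let b : Basis (Fin a) ℂ W := Module.finBasis ℂ W
  let S : Matrix (Fin n) (Fin a) ℂ := Matrix.of (fun i j => ((b j : W) : Fin n → ℂ) i)
  set A : Matrix (Fin a) (Fin a) ℂ := Sᵀ * M * S with hA
  have hAt : Aᵀ = -A := by
    rw [hA, Matrix.transpose_mul, Matrix.transpose_mul, Matrix.transpose_transpose, hMt,
      Matrix.neg_mul, Matrix.mul_neg, Matrix.mul_assoc]
  -- nondegeneracy
  have hmapid : ∀ v : Fin n → ℂ, v ∈ W → E *ᵥ v = v := by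
    intro v hv
    have := hproj.map_id v hv
    rwa [hf, Matrix.toLin'_apply] at this
  have hmem : ∀ u : Fin n → ℂ, E *ᵥ u ∈ W := by
    intro u
    have := hproj.map_mem u
    rwa [hf, Matrix.toLin'_apply] at this
  have hdet : A.det ≠ 0 := by
    intro h0
    obtain ⟨c, hc0, hc⟩ := (Matrix.exists_mulVec_eq_zero_iff).mpr h0
    set w : W := ∑ j, c j • b j with hw
    have hwv : ((w : W) : Fin n → ℂ) = S *ᵥ c := by
      rw [hw]
      funext i
      simp only [Submodule.coe_sum, Submodule.coe_smul, Finset.sum_apply, Pi.smul_apply,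
        smul_eq_mul, Matrix.mulVec, dotProduct, S, Matrix.of_apply]
      apply Finset.sum_congr rfl
      intro j _
      ring
    have hw0 : w ≠ 0 := by
      intro hw0
      apply hc0
      funext j
      rw [hw] at hw0
      exact Fintype.linearIndependent_iff.mp b.linearIndependent c hw0 j
    -- `Sᵀ (M v) = 0`
    have h1 : Sᵀ *ᵥ (M *ᵥ (S *ᵥ c)) = 0 := by
      rw [hA] at hc
      rw [Matrix.mulVec_mulVec, Matrix.mulVec_mulVec]
      exact hc
    have h2 : ∀ j : Fin a, ((b j : W) : Fin n → ℂ) ⬝ᵥ (M *ᵥ (S *ᵥ c)) = 0 := by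
      intro j
      have := congrFun h1 j
      simp only [Matrix.mulVec, Matrix.transpose_apply, Pi.zero_apply] at this
      rw [← this]
      simp only [dotProduct, S, Matrix.of_apply]
    have h3 : ∀ x : W, ((x : W) : Fin n → ℂ) ⬝ᵥ (M *ᵥ (S *ᵥ c)) = 0 := by
      intro x
      have hx : x = ∑ j, b.repr x j • b j := (b.sum_repr x).symm
      rw [hx]
      simp only [Submodule.coe_sum, Submodule.coe_smul, sum_dotProduct, smul_dotProduct, h2,
        smul_zero, Finset.sum_const_zero]
    have h4 : ∀ u : Fin n → ℂ, u ⬝ᵥ (M *ᵥ (S *ᵥ c)) = 0 := by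
      intro u
      have hv : E *ᵥ (S *ᵥ c) = S *ᵥ c := by
        rw [← hwv]
        exact hmapid _ w.2
      calc u ⬝ᵥ (M *ᵥ (S *ᵥ c)) = u ⬝ᵥ (M *ᵥ (E *ᵥ (S *ᵥ c))) := by rw [hv]
        _ = u ⬝ᵥ ((Eᵀ * M) *ᵥ (S *ᵥ c)) := by rw [Matrix.mulVec_mulVec, hME]
        _ = u ⬝ᵥ (Eᵀ *ᵥ (M *ᵥ (S *ᵥ c))) := by
          simp only [Matrix.mulVec_mulVec, Matrix.mul_assoc]
        _ = (u ᵥ* Eᵀ) ⬝ᵥ (M *ᵥ (S *ᵥ c)) := Matrix.dotProduct_mulVec _ _ _
        _ = (E *ᵥ u) ⬝ᵥ (M *ᵥ (S *ᵥ c)) := by rw [Matrix.vecMul_transpose]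
        _ = 0 := h3 ⟨E *ᵥ u, hmem u⟩
    have h5 : M *ᵥ (S *ᵥ c) = 0 := by
      apply dotProduct_eq_zero
      intro u
      rw [dotProduct_comm]
      exact h4 u
    have h6 : S *ᵥ c = 0 := by
      have hinj := (Matrix.mulVec_injective_iff_isUnit).mpr hM
      apply hinj
      rw [h5, Matrix.mulVec_zero]
    apply hw0
    apply Subtype.ext
    rw [hwv, h6]
    rfl
  -- parity
  have h7 : A.det = (-1) ^ a * A.det := by
    conv_lhs => rw [← Matrix.det_transpose, hAt, Matrix.det_neg, Fintype.card_fin]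
  have h8 : ((-1 : ℂ)) ^ a = 1 := by
    have : (1 - (-1 : ℂ) ^ a) * A.det = 0 := by linear_combination h7
    rcases mul_eq_zero.mp this with h | h
    · exact (sub_eq_zero.mp h).symm
    · exact absurd h hdet
  exact (neg_one_pow_eq_one_iff_even (by norm_num : (-1 : ℂ) ≠ 1)).mp h8

end SympEven

section

variable {G : Type u} [Group G] [Fintype G] {n : ℕ} (ρ : Representation ℂ G (Fin n → ℂ))

/-- For an irreducible representation with real character and Frobenius–Schur indicator `-1`,
the multiplicity of the trivial character of any subgroup is even. -/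
theorem even_fixed_mult [hirr : ρ.IsIrreducible]
    (hreal : ∀ g, ρ.character g⁻¹ = ρ.character g) (hneg : fsInd ρ = -1)
    (H : Subgroup G) [Fintype H] :
    ∃ a : ℕ, Even a ∧ (Nat.card H : ℂ)⁻¹ * ∑ h : H, ρ.character (h : G) = (a : ℂ) := by
  classical
  obtain ⟨M, hM0, hM⟩ := exists_invForm_of_real ρ hreal
  have hMt : Mᵀ = -M := by rw [hM.transpose_eq, hneg, neg_one_smul]
  have hu := hM.isUnit_of_ne_zero hM0
  set Sg : Matrix (Fin n) (Fin n) ℂ := ∑ h : H, repMat ρ (h : G) with hSg
  have hc0 : (Nat.card H : ℂ) ≠ 0 := by exact_mod_cast Nat.card_pos.ne'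
  have hSS : Sg * Sg = (Nat.card H : ℂ) • Sg := by
    rw [hSg, Finset.sum_mul]
    have h1 : ∀ h : H, repMat ρ (h : G) * ∑ k : H, repMat ρ (k : G) = ∑ k : H, repMat ρ (k : G) := by
      intro h
      rw [Finset.mul_sum]
      have h2 : ∀ k : H, repMat ρ (h : G) * repMat ρ (k : G) = repMat ρ ((h * k : H) : G) := by
        intro k
        rw [Subgroup.coe_mul, repMat_mul]
      simp only [h2]
      exact Fintype.sum_equiv (Equiv.mulLeft h) _ _ (fun k => rfl)
    simp only [h1]
    rw [Finset.sum_const, Finset.card_univ, ← Nat.card_eq_fintype_card, ← Nat.cast_smul_eq_nsmul ℂ]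
  set E : Matrix (Fin n) (Fin n) ℂ := (Nat.card H : ℂ)⁻¹ • Sg with hE
  have hEE : E * E = E := by
    rw [hE, Matrix.smul_mul, Matrix.mul_smul, hSS, smul_smul, smul_smul]
    congr 1
    field_simp
  have hMS : M * Sg = Sgᵀ * M := by
    rw [hSg, Finset.mul_sum, Matrix.transpose_sum, Finset.sum_mul]
    have h1 : ∀ h : H, M * repMat ρ (h : G) = (repMat ρ ((h⁻¹ : H) : G))ᵀ * M := by
      intro h
      rw [hM.mul_repMat, Subgroup.coe_inv]
    simp only [h1]
    exact Fintype.sum_equiv (Equiv.inv H) _ _ (fun k => rfl)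
  have hME : M * E = Eᵀ * M := by
    rw [hE, Matrix.mul_smul, hMS, Matrix.transpose_smul, Matrix.smul_mul]
  obtain ⟨a, hae, hatr⟩ := SympEven.even_trace_of_skew_proj M E hu hMt hEE hME
  refine ⟨a, hae, ?_⟩
  rw [← hatr, hE, Matrix.trace_smul, hSg, Matrix.trace_sum, smul_eq_mul]
  congr 1
  apply Finset.sum_congr rfl
  intro h _
  rw [trace_repMat]

end

/-- A real-valued irreducible character containing the trivial character of some subgroup with
odd multiplicity has Frobenius–Schur indicator `+1`. -/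
theorem fs_eq_one_of_odd_mult {G : Type u} [Group G] [Fintype G] (χ : G → ℂ)
    (hχ : Cfsg.IsIrrCharacter G χ) (hreal : ∀ g : G, (χ g).im = 0) (H : Subgroup G) [Fintype H]
    (a : ℕ) (ha : (Nat.card H : ℂ)⁻¹ * ∑ h : H, χ (h : G) = (a : ℂ)) (hodd : Odd a) :
    (Nat.card G : ℂ)⁻¹ * ∑ g : G, χ (g * g) = 1 := by
  obtain ⟨n, ρ, hirr, rfl⟩ := hχ
  haveI := hirr
  have hchar : Cfsg.IsCharacter G ρ.character := ⟨n, ρ, rfl⟩
  have hreal' : ∀ g, ρ.character g⁻¹ = ρ.character g := by
    intro g
    rw [IsCharacter.inv_eq_conj hchar g]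
    exact Complex.conj_eq_iff_im.mpr (hreal g)
  rcases fsInd_sq_eq_one_of_real ρ hreal' with h | h
  · exact h
  · exfalso
    obtain ⟨a', hev, ha'⟩ := even_fixed_mult ρ hreal' h H
    rw [ha] at ha'
    have : a = a' := by exact_mod_cast ha'
    rw [this] at hodd
    exact (Nat.not_even_iff_odd.mpr hodd) hev

end Cfsg.Agent.Helper6
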