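import Mathlib
import Cfsg.Prelude.Def_Characters
import Cfsg.Agent.Helper6.SympEvenA
import Cfsg.Agent.Helper6.ColumnOrth
import Cfsg.Agent.Helper6.IrrBasis
import Cfsg.Agent.Helper6.Induced

/-!
# A counting identity for characters vanishing on `2`-singular elements of a normal subgroup
-/

set_option autoImplicit false
set_option linter.style.haveILetI false
set_option linter.unusedSimpArgs false

namespace Cfsg.Agent.Helper6

open scoped ComplexConjugate

universe u

namespace SympEven

variable {G : Type u} [Group G]

/-- An involution of a finite set of odd cardinality has a fixed point. -/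
theorem exists_fixed_of_odd_card {α : Type*} [DecidableEq α] (s : Finset α) (f : α → α)
    (hf : ∀ a ∈ s, f a ∈ s) (hinv : ∀ a ∈ s, f (f a) = a) (hodd : Odd s.card) :
    ∃ a ∈ s, f a = a := by
  by_contra hcon
  push Not at hcon
  have h0 : ∑ _a ∈ s, (1 : ZMod 2) = 0 := by
    apply Finset.sum_involution (fun a _ => f a)
    · intro a _
      decide
    · intro a ha _
      exact hcon a ha
    · intro a ha
      exact hf a ha
    · intro a ha
      exact hinv a ha
  rw [Finset.sum_const, nsmul_one] at h0
  have : Even s.card := ZMod.natCast_eq_zero_iff_even.mp h0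
  exact (Nat.not_even_iff_odd.mpr hodd) this

theorem orderOf_conj_eq (c a : G) : orderOf (c * a * c⁻¹) = orderOf a := by
  have := orderOf_injective (MulAut.conj c).toMonoidHom (MulAut.conj c).injective a
  simpa using this

theorem orderOf_eq_of_isConj {a b : G} (h : IsConj a b) : orderOf a = orderOf b := by
  obtain ⟨c, hc⟩ := isConj_iff.mp h
  rw [← hc, orderOf_conj_eq]

/-- the counting identity -/
theorem sum_mult_eq [Fintype G] [Fintype (Cfsg.IrrCharacter G)] (N : Subgroup G) [Fintype N]
    (P : Subgroup G) [Fintype P] (hP : IsPGroup 2 P) (φ : N → ℂ)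
    (hvan : ∀ n : N, 2 ∣ orderOf n → φ n = 0) :
    ∑ χ : Cfsg.IrrCharacter G, Cfsg.classInner (fun n : N => (χ : G → ℂ) n) φ *
        conj ((Nat.card P : ℂ)⁻¹ * ∑ x : P, (χ : G → ℂ) x) =
      (Nat.card N : ℂ)⁻¹ * (Nat.card P : ℂ)⁻¹ * (conj (φ 1) * (Nat.card G : ℂ)) := by
  classical
  have h1 : ∀ χ : Cfsg.IrrCharacter G, Cfsg.classInner (fun n : N => (χ : G → ℂ) n) φ *
        conj ((Nat.card P : ℂ)⁻¹ * ∑ x : P, (χ : G → ℂ) x) =
      (Nat.card N : ℂ)⁻¹ * (Nat.card P : ℂ)⁻¹ * ∑ n : N, ∑ x : P,
        conj (φ n) * ((χ : G → ℂ) n * conj ((χ : G → ℂ) x)) := by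
    intro χ
    rw [classInner_def, map_mul, map_inv₀, map_natCast, map_sum]
    rw [mul_mul_mul_comm, Finset.sum_mul_sum]
    congr 1
    apply Finset.sum_congr rfl
    intro n _
    apply Finset.sum_congr rfl
    intro x _
    ring
  simp only [h1]
  rw [← Finset.mul_sum]
  congr 1
  rw [Finset.sum_comm]
  have h2 : ∀ n : N, ∑ χ : Cfsg.IrrCharacter G, ∑ x : P,
      conj (φ n) * ((χ : G → ℂ) n * conj ((χ : G → ℂ) x)) =
      if n = 1 then conj (φ 1) * (Nat.card G : ℂ) else 0 := by
    intro n
    rw [Finset.sum_comm]
    have h3 : ∀ x : P, ∑ χ : Cfsg.IrrCharacter G,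
        conj (φ n) * ((χ : G → ℂ) n * conj ((χ : G → ℂ) x)) =
        if n = 1 ∧ x = 1 then conj (φ 1) * (Nat.card G : ℂ) else 0 := by
      intro x
      rw [← Finset.mul_sum, column_orthogonality_aux (n : G) (x : G)]
      by_cases hc : IsConj (n : G) (x : G)
      · rw [if_pos hc]
        by_cases hn : n = 1
        · have hx : x = 1 := by
            rw [hn, Subgroup.coe_one, isConj_one_right] at hc
            exact Subtype.ext hc
          rw [if_pos ⟨hn, hx⟩, hn, Subgroup.coe_one]
          congr 2
          have : Subgroup.centralizer ({(1 : G)} : Set G) = ⊤ := by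
            ext y
            simp [Subgroup.mem_centralizer_iff]
          rw [this, Subgroup.card_top]
        · rw [if_neg (fun h => hn h.1)]
          have hord : orderOf n = orderOf x := by
            rw [← Subgroup.orderOf_coe n, ← Subgroup.orderOf_coe x]
            exact orderOf_eq_of_isConj hc
          obtain ⟨k, hk⟩ := hP x
          have hdvd : orderOf n ∣ 2 ^ k := by
            rw [hord]
            exact orderOf_dvd_of_pow_eq_one hk
          obtain ⟨j, _, hj⟩ := (Nat.dvd_prime_pow Nat.prime_two).mp hdvd
          have hj0 : j ≠ 0 := by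
            intro h0
            rw [h0, pow_zero, orderOf_eq_one_iff] at hj
            exact hn hj
          have h2n : 2 ∣ orderOf n := by
            rw [hj]
            exact dvd_pow_self 2 hj0
          rw [hvan n h2n, map_zero, zero_mul]
      · rw [if_neg hc, mul_zero]
        rw [if_neg]
        rintro ⟨hn, hx⟩
        apply hc
        rw [hn, hx]
        exact IsConj.refl _
    simp only [h3]
    by_cases hn : n = 1
    · simp only [hn, true_and, if_true]
      rw [Finset.sum_ite_eq' Finset.univ (1 : P)]
      simp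
    · simp only [hn, false_and, if_false, Finset.sum_const_zero]
  simp only [h2]
  rw [Finset.sum_ite_eq' Finset.univ (1 : N)]
  simp

end SympEven

end Cfsg.Agent.Helper6
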