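import Mathlib
import Cfsg.Prelude.Def_Characters
import Cfsg.Prelude.Def_Blocks
import Cfsg.Agent.Helper6.SympEvenB
import Cfsg.Agent.Helper6.CharTripleD
import Cfsg.Agent.Helper6.DefectZeroInv
import Cfsg.Agent.Helper6.DefectZeroBlock

/-!
# Strongly real characters over `2`-defect zero characters of a normal subgroup of `2`-power index
-/

set_option autoImplicit false
set_option linter.style.haveILetI false
set_option linter.unusedSimpArgs false

namespace Cfsg.Agent.Helper6

open scoped ComplexConjugate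

universe u

namespace SympEven

variable {G : Type u} [Group G]

/-- The multiplicity of an irreducible character of a normal subgroup in an irreducible
character of the whole group divides the index. -/
theorem mult_dvd_index [Fintype G] (N : Subgroup G) [hN : N.Normal] [Fintype N]
    (χ : Cfsg.IrrCharacter G) (φ : Cfsg.IrrCharacter N) (e : ℕ)
    (he : Cfsg.classInner (fun n : N => (χ : G → ℂ) n) (φ : N → ℂ) = (e : ℂ)) (he0 : e ≠ 0) :
    e ∣ N.index := by
  have hne : Cfsg.classInner (fun n : N => (χ : G → ℂ) n) (φ : N → ℂ) ≠ 0 := by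
    rw [he]
    exact_mod_cast he0
  obtain ⟨c, _, hc⟩ := IsIrrCharacter.apply_one_pos χ.2
  obtain ⟨d, hdpos, hd⟩ := IsIrrCharacter.apply_one_pos φ.2
  have hdeg := clifford_degree N (χ : G → ℂ) χ.2 (φ : N → ℂ) φ.2 hne (conjStab N (φ : N → ℂ))
    (fun g => mem_conjStab N (φ : N → ℂ) g)
  rw [hc, he, hd] at hdeg
  have hdeg' : c = e * (conjStab N (φ : N → ℂ)).index * d := by exact_mod_cast hdeg
  obtain ⟨_, h2⟩ := degree_ratio_dvd_index N (χ : G → ℂ) χ.2 (φ : N → ℂ) φ.2 hne c d hc hd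
  rw [hdeg', Nat.mul_div_cancel _ hdpos] at h2
  exact Dvd.dvd.trans (Dvd.intro _ rfl) h2

/-- complex conjugation on irreducible characters -/
noncomputable def cbar [Finite G] (χ : Cfsg.IrrCharacter G) : Cfsg.IrrCharacter G :=
  ⟨fun g => conj ((χ : G → ℂ) g), conj_isIrr χ.2⟩

theorem cbar_apply [Finite G] (χ : Cfsg.IrrCharacter G) (g : G) :
    (cbar χ : G → ℂ) g = conj ((χ : G → ℂ) g) := rfl

theorem cbar_cbar [Finite G] (χ : Cfsg.IrrCharacter G) : cbar (cbar χ) = χ := by
  apply Subtype.ext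
  funext g
  rw [cbar_apply, cbar_apply, Complex.conj_conj]

theorem classInner_restrict_conj [Fintype G] (N : Subgroup G) [hN : N.Normal] [Fintype N]
    (χ : G → ℂ) (hχ : Cfsg.IsClassFunction G χ) (θ : N → ℂ) (g : G) :
    Cfsg.classInner (fun n : N => χ n) (conjFun N θ g) =
      Cfsg.classInner (fun n : N => χ n) θ := by
  have := classInner_conjFun N (fun n : N => χ n) θ g
  rw [conjFun_restrict N χ hχ g] at this
  exact this

/-- The main theorem. -/
theorem exists_fs_one_over_defect_zero [Fintype G] (N : Subgroup G) [hN : N.Normal] [Fintype N]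
    (h2 : IsPGroup 2 (G ⧸ N)) (φ : Cfsg.IrrCharacter N)
    (hdef : 2 ^ (Nat.card N).factorization 2 ∣ Cfsg.charDegree (φ : N → ℂ))
    (g₀ : G) (hconj : conjFun N (φ : N → ℂ) g₀ = fun n => conj ((φ : N → ℂ) n)) :
    ∃ χ : Cfsg.IrrCharacter G, (Nat.card G : ℂ)⁻¹ * ∑ g : G, (χ : G → ℂ) (g * g) = 1 ∧
      Cfsg.classInner (fun n : N => (χ : G → ℂ) n) (φ : N → ℂ) = 1 := by
  classical
  haveI : Finite (Cfsg.IrrCharacter G) := irr_finite
  haveI : Fintype (Cfsg.IrrCharacter G) := Fintype.ofFinite _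
  haveI : Fact (Nat.Prime 2) := ⟨Nat.prime_two⟩
  obtain ⟨P⟩ : Nonempty (Sylow 2 G) := inferInstance
  haveI : Fintype (P : Subgroup G) := Fintype.ofFinite _
  -- multiplicities
  have hE : ∀ χ : Cfsg.IrrCharacter G, ∃ e : ℕ,
      Cfsg.classInner (fun n : N => (χ : G → ℂ) n) (φ : N → ℂ) = (e : ℂ) := fun χ =>
    classInner_char_char_nat (IsCharacter.restrict N (IsIrrCharacter.isCharacter χ.2))
      (IsIrrCharacter.isCharacter φ.2)
  choose E hEeq using hE
  have hMm : ∀ χ : Cfsg.IrrCharacter G, ∃ m : ℕ,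
      (Nat.card (P : Subgroup G) : ℂ)⁻¹ * ∑ x : (P : Subgroup G), (χ : G → ℂ) x = (m : ℂ) := by
    intro χ
    obtain ⟨m, hm⟩ := classInner_char_char_nat
      (IsCharacter.restrict (P : Subgroup G) (IsIrrCharacter.isCharacter χ.2))
      (isCharacter_one (G := (P : Subgroup G)))
    refine ⟨m, ?_⟩
    rw [← hm, classInner_def]
    congr 1
    apply Finset.sum_congr rfl
    intro x _
    rw [map_one, mul_one]
  choose Mm hMmeq using hMm
  -- vanishing
  have hvan : ∀ n : N, 2 ∣ orderOf n → (φ : N → ℂ) n = 0 := fun n hn =>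
    irr_vanish_of_factorization φ Nat.prime_two hdef n hn
  -- the counting identity
  have hsum := sum_mult_eq N (P : Subgroup G) P.2 (φ : N → ℂ) hvan
  have hsum' : ∑ χ : Cfsg.IrrCharacter G, ((E χ * Mm χ : ℕ) : ℂ) =
      (Nat.card N : ℂ)⁻¹ * (Nat.card (P : Subgroup G) : ℂ)⁻¹ *
        (conj ((φ : N → ℂ) 1) * (Nat.card G : ℂ)) := by
    rw [← hsum]
    apply Finset.sum_congr rfl
    intro χ _
    rw [hEeq χ, hMmeq χ, Complex.conj_natCast, Nat.cast_mul]
  -- degrees and orders
  obtain ⟨d, hdpos, hd⟩ := IsIrrCharacter.apply_one_pos φ.2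
  have hcd : Cfsg.charDegree (φ : N → ℂ) = d := by
    unfold Cfsg.charDegree
    rw [hd, Complex.natCast_re, Nat.floor_natCast]
  rw [hcd] at hdef
  have hdN : d ∣ Nat.card N := by
    rw [← hcd]
    exact charDegree_dvd_card φ.2
  obtain ⟨k, hk⟩ := (IsPGroup.iff_card).mp h2
  have hidx : N.index = 2 ^ k := by rw [Subgroup.index_eq_card, hk]
  have hGcard : Nat.card G = Nat.card N * 2 ^ k := by rw [← hidx, Subgroup.card_mul_index]
  set s := (Nat.card N).factorization 2 with hs
  have hNpos : Nat.card N ≠ 0 := Nat.card_pos.ne'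
  have hPcard : Nat.card (P : Subgroup G) = 2 ^ (s + k) := by
    rw [Sylow.card_eq_multiplicity, hGcard, Nat.factorization_mul hNpos (by positivity),
      Finsupp.add_apply, Nat.Prime.factorization_pow Nat.prime_two, Finsupp.single_eq_same]
  obtain ⟨d', hd'⟩ := hdef
  have hd'odd : Odd d' := by
    rw [← Nat.not_even_iff_odd]
    intro hev
    obtain ⟨r, hr⟩ := hev.two_dvd
    have h1 : 2 ^ (s + 1) ∣ Nat.card N := by
      apply Dvd.dvd.trans _ hdN
      rw [hd', hr, pow_succ]
      exact ⟨r, by ring⟩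
    exact Nat.pow_succ_factorization_not_dvd hNpos Nat.prime_two h1
  -- the sum of products of multiplicities equals `d'`
  have hnat : ∑ χ : Cfsg.IrrCharacter G, E χ * Mm χ = d' := by
    have h1 : ((∑ χ : Cfsg.IrrCharacter G, E χ * Mm χ : ℕ) : ℂ) =
        (Nat.card N : ℂ)⁻¹ * (Nat.card (P : Subgroup G) : ℂ)⁻¹ *
          (conj ((φ : N → ℂ) 1) * (Nat.card G : ℂ)) := by
      rw [← hsum', Nat.cast_sum]
    rw [hd, Complex.conj_natCast, hPcard, hGcard, hd'] at h1
    have hN0 : (Nat.card N : ℂ) ≠ 0 := by exact_mod_cast hNpos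
    have h2' : ((∑ χ : Cfsg.IrrCharacter G, E χ * Mm χ : ℕ) : ℂ) = (d' : ℂ) := by
      rw [h1]
      push_cast
      have h20 : (2 : ℂ) ≠ 0 := two_ne_zero
      field_simp
      ring
    exact_mod_cast h2'
  -- parity
  set 𝒮 : Finset (Cfsg.IrrCharacter G) :=
    Finset.univ.filter (fun χ => E χ = 1 ∧ Odd (Mm χ)) with h𝒮
  have hterm : ∀ χ : Cfsg.IrrCharacter G, ((E χ * Mm χ : ℕ) : ZMod 2) =
      if E χ = 1 ∧ Odd (Mm χ) then 1 else 0 := by
    intro χ
    by_cases hc : E χ = 1 ∧ Odd (Mm χ)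
    · rw [if_pos hc, hc.1, one_mul]
      exact ZMod.natCast_eq_one_iff_odd.mpr hc.2
    · rw [if_neg hc, ZMod.natCast_eq_zero_iff_even]
      by_cases he0 : E χ = 0
      · rw [he0, zero_mul]
        exact Even.zero
      · have hdv : E χ ∣ 2 ^ k := by
          rw [← hidx]
          exact mult_dvd_index N χ φ (E χ) (hEeq χ) he0
        obtain ⟨j, _, hj⟩ := (Nat.dvd_prime_pow Nat.prime_two).mp hdv
        by_cases hj0 : j = 0
        · rw [hj0, pow_zero] at hj
          have : ¬ Odd (Mm χ) := fun h => hc ⟨hj, h⟩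
          rw [Nat.not_odd_iff_even] at this
          exact Even.mul_left this _
        · have : Even (E χ) := by
            rw [hj]
            exact (Nat.even_pow.mpr ⟨even_two, hj0⟩)
          exact Even.mul_right this _
  have hcardS : Odd 𝒮.card := by
    rw [← ZMod.natCast_eq_one_iff_odd]
    have h1 : ((∑ χ : Cfsg.IrrCharacter G, E χ * Mm χ : ℕ) : ZMod 2) = (𝒮.card : ZMod 2) := by
      rw [Nat.cast_sum]
      simp only [hterm]
      rw [h𝒮, Finset.card_filter, Nat.cast_sum]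
      apply Finset.sum_congr rfl
      intro χ _
      split_ifs <;> simp
    rw [← h1, hnat]
    exact ZMod.natCast_eq_one_iff_odd.mpr hd'odd
  -- the involution
  have hEbar : ∀ χ : Cfsg.IrrCharacter G, E (cbar χ) = E χ := by
    intro χ
    have h1 : Cfsg.classInner (fun n : N => (cbar χ : G → ℂ) n) (φ : N → ℂ) =
        conj (Cfsg.classInner (fun n : N => (χ : G → ℂ) n)
          (conjFun N (φ : N → ℂ) g₀)) := by
      rw [hconj, classInner_def, classInner_def, map_mul, map_inv₀, map_natCast, map_sum]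
      congr 1
      apply Finset.sum_congr rfl
      intro n _
      rw [map_mul, cbar_apply, Complex.conj_conj]
    rw [classInner_restrict_conj N (χ : G → ℂ)
      (IsCharacter.isClassFunction (IsIrrCharacter.isCharacter χ.2)) (φ : N → ℂ) g₀,
      hEeq, hEeq, Complex.conj_natCast] at h1
    exact_mod_cast h1
  have hMbar : ∀ χ : Cfsg.IrrCharacter G, Mm (cbar χ) = Mm χ := by
    intro χ
    have h1 : ((Mm (cbar χ) : ℕ) : ℂ) = conj ((Mm χ : ℕ) : ℂ) := by
      rw [← hMmeq, ← hMmeq, map_mul, map_inv₀, map_natCast, map_sum]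
      congr 1
    rw [Complex.conj_natCast] at h1
    exact_mod_cast h1
  obtain ⟨χ, hχS, hχfix⟩ := exists_fixed_of_odd_card 𝒮 cbar
    (by
      intro χ hχ
      rw [h𝒮, Finset.mem_filter] at hχ ⊢
      exact ⟨Finset.mem_univ _, by rw [hEbar, hMbar]; exact hχ.2⟩)
    (fun χ _ => cbar_cbar χ) hcardS
  rw [h𝒮, Finset.mem_filter] at hχS
  obtain ⟨_, hE1, hModd⟩ := hχS
  refine ⟨χ, ?_, ?_⟩
  · apply fs_eq_one_of_odd_mult (χ : G → ℂ) χ.2 _ (P : Subgroup G) (Mm χ) (hMmeq χ) hModd
    intro g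
    have h1 : conj ((χ : G → ℂ) g) = (χ : G → ℂ) g := by
      have := congrArg (fun ψ : Cfsg.IrrCharacter G => (ψ : G → ℂ) g) hχfix
      simpa only [cbar_apply] using this
    exact Complex.conj_eq_iff_im.mp h1
  · rw [hEeq, hE1, Nat.cast_one]

end SympEven

end Cfsg.Agent.Helper6
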