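import Mathlib
import Cfsg.Agent.Helper1.Basic
import Cfsg.Agent.Helper1.TIHallC
import Cfsg.Agent.Helper3.ShInvSyl

set_option autoImplicit false
set_option linter.unusedVariables false

/-!
Helper6: S4151 Step 1 (exact stub of helper1): abelian `p`-subgroups of `H` are cyclic, without
any solvability assumption on `O` (pass to an `A`-invariant Sylow subgroup of `O`).
-/

namespace Cfsg.Agent.Helper6.TIH

universe u

/-- a proper subgroup has a smaller `r`-part for some prime `r` -/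
theorem exists_factorization_lt {c o : ℕ} (hc : c ≠ 0) (ho : o ≠ 0) (hlt : c < o) :
    ∃ r : ℕ, r.Prime ∧ c.factorization r < o.factorization r := by
  by_contra hcon
  push Not at hcon
  have h1 : o ∣ c := by
    rw [← Nat.factorization_le_iff_dvd ho hc]
    intro r
    by_cases hr : r.Prime
    · exact hcon r hr
    · rw [Nat.factorization_eq_zero_of_not_prime _ hr]
      exact Nat.zero_le _
  have := Nat.le_of_dvd (Nat.pos_of_ne_zero hc) h1
  omega

theorem isCyclic_of_abelian_pgroup {G : Type u} [Group G] [Finite G] {O H : Subgroup G}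
    (hOn : O.Normal)
    (hcop : (Nat.card O).Coprime (Nat.card H))
    (hfix : ∀ x ∈ O, ∀ h ∈ H, h ≠ 1 → x * h = h * x → ∀ k ∈ H, x * k = k * x)
    (hne : ∃ x ∈ O, ∃ k ∈ H, x * k ≠ k * x)
    (p : ℕ) [Fact p.Prime] (A : Subgroup G) (hAH : A ≤ H) (hAp : IsPGroup p A)
    (hA : ∀ x ∈ A, ∀ y ∈ A, x * y = y * x) : IsCyclic A := by
  classical
  have hp : p.Prime := Fact.out
  by_cases hAbot : A = ⊥
  · subst hAbot
    exact inferInstance
  -- a nontrivial element of A
  obtain ⟨a, haA, ha1⟩ : ∃ a ∈ A, a ≠ 1 := by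
    by_contra hcon
    push Not at hcon
    exact hAbot ((Subgroup.eq_bot_iff_forall A).2 hcon)
  -- p divides |A|, hence |H|, hence not |O|
  have hpA : p ∣ Nat.card A := by
    obtain ⟨k, hk⟩ := IsPGroup.iff_card.1 hAp
    have hk0 : k ≠ 0 := by
      rintro rfl
      rw [pow_zero] at hk
      exact hAbot (Subgroup.card_eq_one.1 hk)
    rw [hk]
    exact dvd_pow_self p hk0
  have hpO : ¬ p ∣ Nat.card O := by
    intro h
    have h1 : p ∣ Nat.card H := hpA.trans (Subgroup.card_dvd_of_le hAH)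
    have h2 := Nat.dvd_gcd h h1
    rw [hcop] at h2
    exact hp.one_lt.ne' (Nat.dvd_one.1 h2)
  -- C := O ⊓ C_G(H) is a proper subgroup of O
  set C := O ⊓ Subgroup.centralizer (H : Set G) with hC
  have hCO : C ≤ O := inf_le_left
  have hCne : C ≠ O := by
    intro h
    obtain ⟨x, hx, k, hk, hxk⟩ := hne
    rw [← h] at hx
    have := (Subgroup.mem_centralizer_iff.1 hx.2) k hk
    exact hxk this.symm
  have hClt : Nat.card C < Nat.card O := by
    rcases (Subgroup.card_le_of_le hCO).lt_or_eq with h | h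
    · exact h
    · exact absurd (Subgroup.eq_of_le_of_card_ge hCO h.ge) hCne
  obtain ⟨r, hr, hrlt⟩ := exists_factorization_lt Nat.card_pos.ne' Nat.card_pos.ne' hClt
  haveI : Fact r.Prime := ⟨hr⟩
  -- an A-invariant Sylow r-subgroup of O
  have hAO : A ≤ Subgroup.normalizer (O : Set G) := by
    rw [Subgroup.normalizer_eq_top_iff.2 hOn]
    exact le_top
  obtain ⟨R₀, hR₀O, hR₀card, hAR₀⟩ :=
    Cfsg.Agent.Helper3.Shult.exists_invariant_sylow_of_pgroup O A hAO hAp hpO r
  have hR₀r : IsPGroup r R₀ := IsPGroup.of_card hR₀card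
  -- R₀ is not contained in C
  have hR₀C : ¬ R₀ ≤ C := by
    intro hle
    have h1 : Nat.card R₀ ∣ Nat.card C := Subgroup.card_dvd_of_le hle
    rw [hR₀card, hr.pow_dvd_iff_le_factorization Nat.card_pos.ne'] at h1
    omega
  obtain ⟨x₀, hx₀R, hx₀C⟩ : ∃ x₀ ∈ R₀, x₀ ∉ C := by
    by_contra hcon
    push Not at hcon
    exact hR₀C hcon
  have hx₀O : x₀ ∈ O := hR₀O hx₀R
  -- x₀ does not commute with a
  have hx₀a : x₀ * a ≠ a * x₀ := by
    intro hcomm
    apply hx₀C
    rw [hC, Subgroup.mem_inf]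
    refine ⟨hx₀O, ?_⟩
    rw [Subgroup.mem_centralizer_iff]
    intro k hk
    exact (hfix x₀ hx₀O a (hAH haA) ha1 hcomm k hk).symm
  -- pass to Γ := N_G(R₀)
  set Γ := Subgroup.normalizer (R₀ : Set G) with hΓ
  have hR₀Γ : R₀ ≤ Γ := Subgroup.le_normalizer
  have hAΓ : A ≤ Γ := hAR₀
  have hOn' : (R₀.subgroupOf Γ).Normal := Subgroup.normal_in_normalizer
  have hOp' : IsPGroup r ↥(R₀.subgroupOf Γ) := hR₀r.comap_subtype
  have hOs' : Group.IsSolvable ↥(R₀.subgroupOf Γ) := by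
    haveI : Group.IsNilpotent ↥(R₀.subgroupOf Γ) := hOp'.isNilpotent
    infer_instance
  have hcop' : (Nat.card ↥(R₀.subgroupOf Γ)).Coprime (Nat.card ↥(A.subgroupOf Γ)) := by
    rw [Cfsg.Agent.Helper1.card_subgroupOf_of_le hR₀Γ, Cfsg.Agent.Helper1.card_subgroupOf_of_le hAΓ]
    exact (hcop.coprime_dvd_left (Subgroup.card_dvd_of_le hR₀O)).coprime_dvd_right
      (Subgroup.card_dvd_of_le hAH)
  have hfix' : ∀ x ∈ R₀.subgroupOf Γ, ∀ h ∈ A.subgroupOf Γ, h ≠ 1 → x * h = h * x →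
      ∀ k ∈ A.subgroupOf Γ, x * k = k * x := by
    intro x hx h hh hh1 hxh k hk
    rw [Subgroup.mem_subgroupOf] at hx hh hk
    apply Subtype.ext
    rw [Subgroup.coe_mul, Subgroup.coe_mul]
    apply hfix (x : G) (hR₀O hx) (h : G) (hAH hh)
    · intro h1
      apply hh1
      exact Subtype.ext h1
    · have := congrArg Subtype.val hxh
      simpa using this
    · exact hAH hk
  have hne' : ∃ x ∈ R₀.subgroupOf Γ, ∃ k ∈ A.subgroupOf Γ, x * k ≠ k * x := by
    refine ⟨⟨x₀, hR₀Γ hx₀R⟩, ?_, ⟨a, hAΓ haA⟩, ?_, ?_⟩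
    · rw [Subgroup.mem_subgroupOf]; exact hx₀R
    · rw [Subgroup.mem_subgroupOf]; exact haA
    · intro h
      apply hx₀a
      have := congrArg Subtype.val h
      simpa using this
  obtain ⟨W, _, _, φ, hWnt, hfpf⟩ :=
    Cfsg.Agent.Helper1.TIH.exists_fpf_action hOn' hOs' hcop' hfix' hne'
  have hcyc : IsCyclic ↥(⊤ : Subgroup ↥(A.subgroupOf Γ)) := by
    apply Cfsg.Agent.Helper1.TIH.isCyclic_of_fpf φ hfpf ⊤
    intro x _ y _
    apply Subtype.ext
    apply Subtype.ext
    have := hA _ (Subgroup.mem_subgroupOf.1 x.2) _ (Subgroup.mem_subgroupOf.1 y.2)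
    simpa using this
  -- transfer to A
  let e : ↥(⊤ : Subgroup ↥(A.subgroupOf Γ)) ≃* ↥A :=
    Subgroup.topEquiv.trans (Subgroup.subgroupOfEquivOfLe hAΓ)
  exact isCyclic_of_surjective e.toMonoidHom e.surjective

end Cfsg.Agent.Helper6.TIH
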