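import Mathlib
import Cfsg.Prelude.Def_Characters
import Cfsg.Prelude.Def_Blocks
import Cfsg.Prelude.Def_Solvable
import Cfsg.Prelude.Def_Local
import Cfsg.Agent.Helper6.TILeoD
import Cfsg.Agent.Helper1.HallHigmanDual
import Cfsg.Agent.Helper1.Cores
import Cfsg.Agent.Helper1.Fitting
import Cfsg.Agent.Helper5.PPrimeCore

/-!
# A `p`-solvable group with a T.I. Sylow `p`-subgroup and a faithful character of small degree
-/

set_option autoImplicit false
set_option linter.style.haveILetI false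

namespace Cfsg.Agent.Helper6

open scoped Pointwise

universe u

set_option maxHeartbeats 1600000 in
theorem leonard_psolvable {G : Type u} [Group G] [Finite G] (p : ℕ) [hp : Fact p.Prime]
    (hsolv : Cfsg.IsPSolvable p G) (P : Sylow p G)
    (hTI : ∀ g : G, g ∉ Subgroup.normalizer ((P : Subgroup G) : Set G) →
        (P : Subgroup G) ⊓ (MulAut.conj g • (P : Subgroup G)) = ⊥)
    (χ : G → ℂ) (hχ : Cfsg.IsCharacter G χ) (hfaith : ∀ g : G, χ g = χ 1 → g = 1)
    (hdeg : Cfsg.charDegree χ ^ 2 ≤ Nat.card ↥(P : Subgroup G)) : (P : Subgroup G).Normal := by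
  classical
  by_contra hnn
  -- a nonidentity element of `P ∩ gPg⁻¹` puts `g` in the normalizer
  have hnorm_of : ∀ g x : G, x ≠ 1 → x ∈ (P : Subgroup G) → g⁻¹ * x * g ∈ (P : Subgroup G) →
      g ∈ Subgroup.normalizer ((P : Subgroup G) : Set G) := by
    intro g x hx1 hxP hxg
    by_contra hg
    have h := hTI g hg
    have hx : x ∈ (P : Subgroup G) ⊓ (MulAut.conj g • (P : Subgroup G)) :=
      ⟨hxP, Cfsg.Agent.Helper1.mem_conj_smul_iff.mpr hxg⟩
    rw [h, Subgroup.mem_bot] at hx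
    exact hx1 hx
  -- (L1) `O_p(G) = 1`
  have hO : Cfsg.pCore p G = ⊥ := by
    by_contra hne
    obtain ⟨x, hx, hx1'⟩ := (Subgroup.bot_or_exists_ne_one _).resolve_left hne
    have hle := Cfsg.Agent.Helper1.pCore_le_sylow (G := G) P
    apply hnn
    apply (Subgroup.normalizer_eq_top_iff).mp
    rw [eq_top_iff]
    intro g _
    apply hnorm_of g x hx1' (hle hx)
    apply hle
    have := (Cfsg.Agent.Helper1.pCore_normal (G := G) p).conj_mem x hx g⁻¹
    rwa [inv_inv] at this
  -- (L2) `K = O_{p'}(G)`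
  set K : Subgroup G := Cfsg.pPrimeCore p G with hKdef
  haveI hKn : K.Normal := Cfsg.Agent.Helper1.pPrimeCore_normal p
  have hcopK : ¬ p ∣ Nat.card K := Cfsg.Agent.Helper5.not_dvd_card_pPrimeCore p
  have hPK : (P : Subgroup G) ⊓ K = ⊥ := by
    apply disjoint_iff.mp
    apply Subgroup.disjoint_of_coprime_natCard
    obtain ⟨j, hj⟩ := IsPGroup.iff_card.mp P.2
    rw [hj]
    exact Nat.Coprime.pow_left j ((Nat.Prime.coprime_iff_not_dvd hp.out).mpr hcopK)
  have hfix : ∀ y ∈ (P : Subgroup G), y ≠ 1 → ∀ k ∈ K, y * k * y⁻¹ = k →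
      ∀ s ∈ (P : Subgroup G), s * k * s⁻¹ = k := by
    intro y hy hy1 k hk hyk s hs
    have hkN : k ∈ Subgroup.normalizer ((P : Subgroup G) : Set G) := by
      apply hnorm_of k y hy1 hy
      have : k⁻¹ * y * k = y := by
        calc k⁻¹ * y * k = k⁻¹ * (y * k * y⁻¹) * y := by group
          _ = y := by rw [hyk]; group
      rw [this]
      exact hy
    have h1 : s * k * s⁻¹ * k⁻¹ ∈ (P : Subgroup G) ⊓ K := by
      constructor
      · have h2 : k * s⁻¹ * k⁻¹ ∈ (P : Subgroup G) :=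
          ((Subgroup.mem_normalizer_iff.mp hkN) s⁻¹).mp ((P : Subgroup G).inv_mem hs)
        have : s * k * s⁻¹ * k⁻¹ = s * (k * s⁻¹ * k⁻¹) := by group
        rw [this]
        exact (P : Subgroup G).mul_mem hs h2
      · exact K.mul_mem (hKn.conj_mem k hk s) (K.inv_mem hk)
    rw [hPK, Subgroup.mem_bot] at h1
    calc s * k * s⁻¹ = s * k * s⁻¹ * k⁻¹ * k := by group
      _ = k := by rw [h1, one_mul]
  -- (L3)
  have hcent : Subgroup.centralizer (K : Set G) ≤ K :=
    Cfsg.Agent.Helper1.centralizer_pPrimeCore_le_of_isPSolvable hsolv hO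
  -- transport to `Γ = KP`
  set H : Subgroup G := K ⊔ (P : Subgroup G) with hH
  have hKH : K ≤ H := le_sup_left
  have hPH : (P : Subgroup G) ≤ H := le_sup_right
  haveI : Fintype H := Fintype.ofFinite _
  set K' : Subgroup H := K.subgroupOf H with hK'
  set P' : Subgroup H := (P : Subgroup G).subgroupOf H with hP'
  haveI : Fintype K' := Fintype.ofFinite _
  haveI hK'n : K'.Normal := hKn.subgroupOf H
  have hP'p : IsPGroup p P' := P.2.comap_subtype
  have hcardK' : Nat.card K' = Nat.card K :=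
    Nat.card_congr (Subgroup.subgroupOfEquivOfLe hKH).toEquiv
  have hcardP' : Nat.card P' = Nat.card (P : Subgroup G) :=
    Nat.card_congr (Subgroup.subgroupOfEquivOfLe hPH).toEquiv
  have hcopK' : ¬ p ∣ Nat.card K' := by rw [hcardK']; exact hcopK
  have htop : K' ⊔ P' = ⊤ := by
    rw [hK', hP', ← Subgroup.subgroupOf_sup hKH hPH]
    exact Subgroup.subgroupOf_self _
  have hfp' : ∀ y ∈ P', y ≠ 1 → ∀ g ∈ K', y * g * y⁻¹ = g → ∀ s ∈ P', s * g * s⁻¹ = g := by
    intro y hy hy1 g hg hyg s hs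
    apply Subtype.ext
    have h1 : ((y * g * y⁻¹ : H) : G) = (g : G) := congrArg Subtype.val hyg
    have hy1' : (y : G) ≠ 1 := fun h => hy1 (Subtype.ext h)
    exact hfix (y : G) (Subgroup.mem_subgroupOf.mp hy) hy1' (g : G) (Subgroup.mem_subgroupOf.mp hg)
      h1 (s : G) (Subgroup.mem_subgroupOf.mp hs)
  have hχ' : Cfsg.IsCharacter H (fun g : H => χ g) := IsCharacter.restrict H hχ
  have hfaith' : ∀ g : H, (fun g : H => χ g) g = (fun g : H => χ g) 1 → g = 1 := by
    intro g hg
    apply Subtype.ext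
    exact hfaith (g : G) hg
  have hdeg' : Cfsg.charDegree (fun g : H => χ g) ^ 2 ≤ Nat.card P' := by
    rw [hcardP']
    exact hdeg
  have hmain := ti_coprime_central K' P' hP'p hcopK' htop hfp' (fun g : H => χ g) hχ' hfaith' hdeg'
  -- `P` centralizes `K`
  have hPcent : (P : Subgroup G) ≤ Subgroup.centralizer (K : Set G) := by
    intro y hy
    rw [Subgroup.mem_centralizer_iff]
    intro k hk
    have h1 := hmain ⟨y, hPH hy⟩ (Subgroup.mem_subgroupOf.mpr hy) ⟨k, hKH hk⟩
      (Subgroup.mem_subgroupOf.mpr hk)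
    have h2 : y * k * y⁻¹ * k⁻¹ = 1 := congrArg Subtype.val h1
    calc k * y = (y * k * y⁻¹ * k⁻¹)⁻¹ * (y * k) := by group
      _ = y * k := by rw [h2, inv_one, one_mul]
  have hPbot : (P : Subgroup G) = ⊥ := by
    rw [eq_bot_iff, ← hPK]
    exact le_inf le_rfl (hPcent.trans hcent)
  apply hnn
  rw [hPbot]
  infer_instance

end Cfsg.Agent.Helper6
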