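import Mathlib

/-!
# A valuation subring of `ℂ` above a prime, and a fixed point lemma
-/

set_option autoImplicit false

namespace Cfsg.Agent.Helper6.TIVal

open scoped Pointwise

/-- There is a valuation subring of `ℂ` in which the prime `p` is a nonunit. -/
theorem exists_valuationSubring (p : ℕ) [hp : Fact p.Prime] :
    ∃ B : ValuationSubring ℂ, (p : ℂ) ∈ B.nonunits := by
  let A : Subring ℂ := (Int.castRingHom ℂ).range
  have hpA : (p : ℂ) ∈ A := ⟨(p : ℤ), by simp⟩
  let I : Ideal A := Ideal.span {(⟨(p : ℂ), hpA⟩ : A)}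
  have hI : I ≠ ⊤ := by
    intro h
    have h1 : (1 : A) ∈ I := by rw [h]; trivial
    obtain ⟨a, ha⟩ := Ideal.mem_span_singleton'.mp h1
    obtain ⟨n, hn⟩ := a.2
    have h2 : ((n * (p : ℤ) : ℤ) : ℂ) = 1 := by
      have := congrArg (fun x : A => (x : ℂ)) ha
      simp only [Subring.coe_mul, Subring.coe_one] at this
      rw [← this, ← hn]
      push_cast
      rfl
    have h3 : n * (p : ℤ) = 1 := by exact_mod_cast h2
    have h4 : (p : ℤ) ∣ 1 := ⟨n, by rw [mul_comm]; exact h3.symm⟩
    have h5 : p ∣ 1 := by exact_mod_cast h4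
    exact hp.out.one_lt.ne' (Nat.dvd_one.mp h5)
  obtain ⟨B, _, hB⟩ := Ideal.image_subset_nonunits_valuationSubring I hI
  refine ⟨B, hB ⟨⟨(p : ℂ), hpA⟩, ?_, rfl⟩⟩
  exact Ideal.subset_span rfl

/-- A finite `p`-group acting by additive automorphisms on an abelian group of exponent `p`:
the subgroup generated by the orbit of a nonzero element contains a nonzero fixed element. -/
theorem exists_fixed_ne_zero {P A : Type*} [Group P] [Finite P] [AddCommGroup A]
    [DistribMulAction P A] (p : ℕ) [hp : Fact p.Prime] (hP : IsPGroup p P)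
    (hpA : ∀ a : A, p • a = 0) (a₀ : A) (ha₀ : a₀ ≠ 0) :
    ∃ a : A, a ≠ 0 ∧ (∀ x : P, x • a = a) ∧
      a ∈ AddSubgroup.closure (Set.range fun x : P => x • a₀) := by
  classical
  set S : AddSubgroup A := AddSubgroup.closure (Set.range fun x : P => x • a₀) with hS
  have hstab : ∀ (x : P) (a : A), a ∈ S → x • a ∈ S := by
    intro x a ha
    induction ha using AddSubgroup.closure_induction with
    | mem a ha =>
      obtain ⟨y, rfl⟩ := ha
      exact AddSubgroup.subset_closure ⟨x * y, by simp [mul_smul]⟩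
    | zero => simpa using S.zero_mem
    | add a b _ _ ha hb => rw [smul_add]; exact S.add_mem ha hb
    | neg a _ ha => rw [smul_neg]; exact S.neg_mem ha
  have ha₀S : a₀ ∈ S := AddSubgroup.subset_closure ⟨1, by simp⟩
  -- `S` is finite
  have hfg : AddGroup.FG S := by
    rw [AddGroup.fg_iff_addSubgroup_fg]
    exact ⟨(Set.finite_range fun x : P => x • a₀).toFinset, by simp [hS]⟩
  have htor : IsAddTorsion S := by
    intro s
    rw [isOfFinAddOrder_iff_nsmul_eq_zero]
    refine ⟨p, hp.out.pos, ?_⟩
    ext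
    simpa using hpA s
  have hfinS : Finite S := AddCommGroup.finite_of_fg_isAddTorsion S htor
  have hdvdS : p ∣ Nat.card S := by
    have h1 : addOrderOf (⟨a₀, ha₀S⟩ : S) = p := by
      apply addOrderOf_eq_prime
      · ext; simpa using hpA a₀
      · intro h; exact ha₀ (congrArg Subtype.val h)
    rw [← h1]
    exact addOrderOf_dvd_natCard _
  let T : SubMulAction P A := ⟨S, fun x a ha => hstab x a ha⟩
  have hfinT : Finite T := hfinS
  have hdvdT : p ∣ Nat.card T := hdvdS
  have h0 : (⟨0, S.zero_mem⟩ : T) ∈ MulAction.fixedPoints P T := by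
    intro x
    ext
    simp
  obtain ⟨b, hb, hb0⟩ := hP.exists_fixed_point_of_prime_dvd_card_of_fixed_point T hdvdT h0
  refine ⟨b.1, ?_, ?_, b.2⟩
  · intro h
    apply hb0
    ext
    exact h.symm
  · intro x
    have := hb x
    exact congrArg Subtype.val this

end Cfsg.Agent.Helper6.TIVal
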