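import Cfsg.Agent.Helper6.TIValA

/-!
# Linear independence from reduction modulo the maximal ideal of a valuation subring
-/

set_option autoImplicit false

namespace Cfsg.Agent.Helper6.TIVal

open scoped Pointwise

/-- The left translation action of a group on functions on itself. -/
@[reducible] def transAction (P k : Type*) [Group P] [AddCommGroup k] :
    DistribMulAction P (P → k) where
  smul z α := fun y => α (z⁻¹ * y)
  one_smul := by
    intro α
    funext y
    change α ((1 : P)⁻¹ * y) = α y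
    simp
  mul_smul := by
    intro a b α
    funext y
    change α ((a * b)⁻¹ * y) = α (b⁻¹ * (a⁻¹ * y))
    simp [mul_assoc]
  smul_zero := by
    intro a
    funext y
    rfl
  smul_add := by
    intro a α β
    funext y
    rfl

theorem transAction_apply (P k : Type*) [Group P] [AddCommGroup k] (z : P) (α : P → k) (y : P) :
    (letI := transAction P k; z • α) y = α (z⁻¹ * y) := rfl

theorem valSub_smul_def (B : ValuationSubring ℂ) {W : Type*} [AddCommGroup W] [Module ℂ W]
    (b : B) (u : W) : b • u = (b : ℂ) • u := rfl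

theorem natCast_mem_maximalIdeal (p : ℕ) (B : ValuationSubring ℂ) (hpB : (p : ℂ) ∈ B.nonunits) :
    ((p : ℕ) : B) ∈ IsLocalRing.maximalIdeal B := by
  obtain ⟨ha, hm⟩ := (ValuationSubring.mem_nonunits_iff_exists_mem_maximalIdeal).mp hpB
  have : (⟨(p : ℂ), ha⟩ : B) = ((p : ℕ) : B) := by
    ext
    simp
  rwa [this] at hm

/-- If the orbit sum of `w` is not in `𝔪 • Λ`, then the orbit of `w` under the finite `p`-group `P`
is linearly independent over `ℂ`. -/
theorem linearIndependent_of_sum_not_mem (p : ℕ) [hp : Fact p.Prime] (B : ValuationSubring ℂ)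
    (hpB : (p : ℂ) ∈ B.nonunits) {P W : Type*} [Group P] [Fintype P] (hP : IsPGroup p P)
    [AddCommGroup W] [Module ℂ W] (ρ : P →* (W →ₗ[ℂ] W)) (Λ : Submodule B W)
    (hΛ : ∀ x : P, ∀ u ∈ Λ, ρ x u ∈ Λ) (w : W) (hw : w ∈ Λ)
    (hv : ∑ x : P, ρ x w ∉ (IsLocalRing.maximalIdeal B) • Λ) :
    LinearIndependent ℂ (fun x : P => ρ x w) := by
  classical
  rw [Fintype.linearIndependent_iff]
  intro α hα
  by_contra hne
  push Not at hne
  obtain ⟨x₁, hx₁⟩ := hne
  obtain ⟨x₀, hx₀⟩ := Finite.exists_max (fun x : P => B.valuation (α x))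
  have hα0 : α x₀ ≠ 0 := by
    intro h
    have h1 := hx₀ x₁
    rw [h, map_zero] at h1
    exact hx₁ ((map_eq_zero _).mp (le_zero_iff.mp h1))
  have hβB : ∀ x, α x / α x₀ ∈ B := by
    intro x
    rw [← ValuationSubring.valuation_le_one_iff, map_div₀]
    have hpos : 0 < B.valuation (α x₀) := by
      rw [zero_lt_iff]
      intro h
      exact hα0 ((map_eq_zero _).mp h)
    exact (div_le_one₀ hpos).mpr (hx₀ x)
  let β : P → B := fun x => ⟨α x / α x₀, hβB x⟩
  have hβrel : ∑ x : P, ((β x : B) : ℂ) • ρ x w = 0 := by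
    have : ∑ x : P, ((β x : B) : ℂ) • ρ x w = (α x₀)⁻¹ • ∑ x : P, α x • ρ x w := by
      rw [Finset.smul_sum]
      refine Finset.sum_congr rfl fun x _ => ?_
      rw [smul_smul]
      congr 1
      change α x / α x₀ = _
      rw [div_eq_mul_inv, mul_comm]
    rw [this, hα, smul_zero]
  have hβ1 : β x₀ = 1 := by
    ext
    change α x₀ / α x₀ = 1
    exact div_self hα0
  -- the residue field
  let k := IsLocalRing.ResidueField B
  let red : B →+* k := IsLocalRing.residue B
  have hpk : ∀ a : P → k, p • a = 0 := by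
    intro a
    funext y
    have h1 : red ((p : ℕ) : B) = 0 :=
      (IsLocalRing.residue_eq_zero_iff _).mpr (natCast_mem_maximalIdeal p B hpB)
    have h2 : ((p : ℕ) : k) = 0 := by rw [← h1]; simp
    simp [nsmul_eq_mul, h2]
  letI := transAction P k
  let a₀ : P → k := fun x => red (β x)
  have ha₀ : a₀ ≠ 0 := by
    intro h
    have := congrFun h x₀
    simp only [a₀, hβ1, map_one, Pi.zero_apply] at this
    exact one_ne_zero this
  obtain ⟨a, ha0, hafix, hamem⟩ := exists_fixed_ne_zero p hP hpk a₀ ha₀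
  -- every element of the closure comes from a relation
  have hrep : ∀ a ∈ AddSubgroup.closure (Set.range fun x : P => x • a₀),
      ∃ γ : P → B, ∑ x : P, ((γ x : B) : ℂ) • ρ x w = 0 ∧ a = fun x => red (γ x) := by
    intro a ha
    induction ha using AddSubgroup.closure_induction with
    | mem a ha =>
      obtain ⟨z, rfl⟩ := ha
      refine ⟨fun y => β (z⁻¹ * y), ?_, ?_⟩
      · have : ∑ y : P, ((β (z⁻¹ * y) : B) : ℂ) • ρ y w = ρ z (∑ x : P, ((β x : B) : ℂ) • ρ x w) := by
          rw [map_sum]
          rw [← Equiv.sum_comp (Equiv.mulLeft z)]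
          refine Finset.sum_congr rfl fun x _ => ?_
          simp only [Equiv.coe_mulLeft, inv_mul_cancel_left, map_mul, Module.End.mul_apply,
            LinearMap.map_smul]
        rw [this, hβrel, map_zero]
      · rfl
    | zero => exact ⟨0, by simp, by funext x; simp⟩
    | add a b _ _ ha hb =>
      obtain ⟨γ₁, h1, rfl⟩ := ha
      obtain ⟨γ₂, h2, rfl⟩ := hb
      refine ⟨γ₁ + γ₂, ?_, ?_⟩
      · have e1 : ∀ x : P, (((γ₁ + γ₂) x : B) : ℂ) = ((γ₁ x : B) : ℂ) + ((γ₂ x : B) : ℂ) := by
          intro x; rfl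
        simp only [e1, add_smul, Finset.sum_add_distrib, h1, h2, add_zero]
      · funext x; simp
    | neg a _ ha =>
      obtain ⟨γ, h1, rfl⟩ := ha
      refine ⟨-γ, ?_, ?_⟩
      · have e1 : ∀ x : P, (((-γ) x : B) : ℂ) = -((γ x : B) : ℂ) := by
          intro x; rfl
        simp only [e1, neg_smul, Finset.sum_neg_distrib, h1, neg_zero]
      · funext x; simp
  obtain ⟨γ, hγrel, rfl⟩ := hrep a hamem
  -- constancy
  have hconst : ∀ y : P, red (γ y) = red (γ 1) := by
    intro y
    have := congrFun (hafix y) y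
    rw [transAction_apply] at this
    simpa using this.symm
  set c : B := γ 1 with hc
  have hc0 : red c ≠ 0 := by
    intro h
    apply ha0
    funext y
    simp only [Pi.zero_apply]
    rw [hconst y, h]
  have hcunit : IsUnit c := by
    by_contra hnu
    exact hc0 ((IsLocalRing.residue_eq_zero_iff _).mpr ((IsLocalRing.mem_maximalIdeal _).mpr hnu))
  have hdiff : ∀ y : P, γ y - c ∈ IsLocalRing.maximalIdeal B := by
    intro y
    rw [← IsLocalRing.residue_eq_zero_iff]
    change red (γ y - c) = 0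
    rw [map_sub, hconst y, sub_self]
  apply hv
  obtain ⟨c', hc'⟩ := hcunit.exists_left_inv
  have hu : ∑ x : P, (γ x - c) • ρ x w ∈ (IsLocalRing.maximalIdeal B) • Λ := by
    refine Submodule.sum_mem _ fun x _ => ?_
    exact Submodule.smul_mem_smul (hdiff x) (hΛ x w hw)
  have hcv : c • ∑ x : P, ρ x w = -∑ x : P, (γ x - c) • ρ x w := by
    have h1 : ∑ x : P, (γ x) • ρ x w = 0 := by
      simpa only [valSub_smul_def] using hγrel
    have h2 : ∑ x : P, (γ x - c) • ρ x w = ∑ x : P, (γ x) • ρ x w - c • ∑ x : P, ρ x w := by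
      rw [Finset.smul_sum, ← Finset.sum_sub_distrib]
      refine Finset.sum_congr rfl fun x _ => ?_
      rw [sub_smul]
    rw [h2, h1, zero_sub, neg_neg]
  have : ∑ x : P, ρ x w = c' • (c • ∑ x : P, ρ x w) := by
    rw [smul_smul, hc', one_smul]
  rw [this, hcv]
  exact Submodule.smul_mem _ _ (Submodule.neg_mem _ hu)

end Cfsg.Agent.Helper6.TIVal
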