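import Cfsg.Agent.Helper6.TIValB

/-!
# Trivial intersection Sylow subgroups: normalizer-invariant vectors in small modules
-/

set_option autoImplicit false

namespace Cfsg.Agent.Helper6.TIVal

open scoped Pointwise

/-- Summing an equivariant function over a free `P`-set: the total is an orbit sum. -/
theorem exists_sum_eq_sum_of_free {P X W : Type*} [Group P] [Fintype P] [Fintype X] [MulAction P X]
    [AddCommGroup W] [Module ℂ W] (ρ : P →* (W →ₗ[ℂ] W))
    (hfree : ∀ (x : P) (q : X), x • q = q → x = 1) (F : X → W)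
    (hF : ∀ (x : P) (q : X), F (x • q) = ρ x (F q)) (S : AddSubgroup W) (hS : ∀ q, F q ∈ S) :
    ∃ w ∈ S, ∑ q : X, F q = ∑ x : P, ρ x w := by
  classical
  let φ : Quotient (MulAction.orbitRel P X) → X := Quotient.out
  let e : Quotient (MulAction.orbitRel P X) × P → X := fun ωx => ωx.2 • φ ωx.1
  have hmk : ∀ (x : P) (q : X), (Quotient.mk'' (x • q) : Quotient (MulAction.orbitRel P X)) =
      Quotient.mk'' q := by
    intro x q
    apply Quotient.sound'
    exact MulAction.mem_orbit q x
  have he : Function.Bijective e := by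
    constructor
    · rintro ⟨ω, x⟩ ⟨ω', x'⟩ h
      simp only [e] at h
      have h1 : ω = ω' := by
        have := congrArg (fun q => (Quotient.mk'' q : Quotient (MulAction.orbitRel P X))) h
        simp only [hmk] at this
        simpa [φ] using this
      subst h1
      have h2 : (x'⁻¹ * x) • φ ω = φ ω := by
        rw [mul_smul, h, inv_smul_smul]
      have h3 := hfree _ _ h2
      have h4 : x = x' := by
        have := congrArg (fun y => x' * y) h3
        simpa using this
      rw [h4]
    · intro q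
      have h1 : φ (Quotient.mk'' q) ∈ MulAction.orbit P q := by
        have : (Quotient.mk'' (φ (Quotient.mk'' q)) : Quotient (MulAction.orbitRel P X)) =
            Quotient.mk'' q := Quotient.out_eq' _
        exact Quotient.exact' this
      obtain ⟨x, hx⟩ := h1
      refine ⟨(Quotient.mk'' q, x⁻¹), ?_⟩
      simp only [e]
      change x⁻¹ • φ (Quotient.mk'' q) = q
      rw [← hx, inv_smul_smul]
  refine ⟨∑ ω : Quotient (MulAction.orbitRel P X), F (φ ω), S.sum_mem fun ω _ => hS _, ?_⟩
  rw [← he.sum_comp F, Fintype.sum_prod_type, Finset.sum_comm]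
  refine Finset.sum_congr rfl fun x _ => ?_
  rw [map_sum]
  refine Finset.sum_congr rfl fun ω _ => ?_
  exact hF x (φ ω)

/-- The Sylow `p`-subgroups other than `P` form a `P`-set. -/
@[reducible] def otherSylowAction (p : ℕ) {G : Type*} [Group G] (P : Sylow p G) :
    MulAction (P : Subgroup G) {Q : Sylow p G // Q ≠ P} where
  smul x Q := ⟨(x : G) • Q.1, by
    intro h
    apply Q.2
    have hx : (x : G) ∈ Subgroup.normalizer ((P : Subgroup G) : Set G) :=
      Subgroup.le_normalizer x.2
    have hx' : ((x : G)⁻¹) • P = P :=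
      Sylow.smul_eq_iff_mem_normalizer.mpr (inv_mem hx)
    calc Q.1 = (x : G)⁻¹ • ((x : G) • Q.1) := (inv_smul_smul _ _).symm
      _ = (x : G)⁻¹ • P := by rw [h]
      _ = P := hx'⟩
  one_smul Q := Subtype.ext (one_smul G Q.1)
  mul_smul x y Q := Subtype.ext (mul_smul (x : G) (y : G) Q.1)

theorem otherSylowAction_val (p : ℕ) {G : Type*} [Group G] (P : Sylow p G)
    (x : (P : Subgroup G)) (Q : {Q : Sylow p G // Q ≠ P}) :
    ((letI := otherSylowAction p P; x • Q : {Q : Sylow p G // Q ≠ P}) : Sylow p G) =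
      (x : G) • Q.1 := rfl

/-- **Key lemma.** Let `P` be a trivial intersection Sylow `p`-subgroup of `G`.  In a `G`-stable
subspace `U` of dimension less than `|P|` without nonzero `G`-invariant vectors, the only vector
fixed by `N_G(P)` is zero. -/
theorem eq_zero_of_normalizer_invariant (p : ℕ) [hp : Fact p.Prime] {G : Type*} [Group G]
    [Finite G] (P : Sylow p G)
    (hTI : ∀ g : G, g ∉ Subgroup.normalizer ((P : Subgroup G) : Set G) →
      (P : Subgroup G) ⊓ (MulAut.conj g • (P : Subgroup G)) = ⊥)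
    {W : Type*} [AddCommGroup W] [Module ℂ W] (ρ : Representation ℂ G W)
    (U : Submodule ℂ W) [FiniteDimensional ℂ U] (hU : ∀ g : G, ∀ u ∈ U, ρ g u ∈ U)
    (hinv : ∀ u ∈ U, (∀ g : G, ρ g u = u) → u = 0)
    (hdim : Module.finrank ℂ U < Nat.card (P : Subgroup G))
    (v : W) (hvU : v ∈ U)
    (hvN : ∀ n ∈ Subgroup.normalizer ((P : Subgroup G) : Set G), ρ n v = v) : v = 0 := by
  classical
  by_contra hv0
  obtain ⟨B, hpB⟩ := exists_valuationSubring p
  haveI : Fintype G := Fintype.ofFinite G
  haveI : Fintype (Sylow p G) := Fintype.ofFinite _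
  haveI : Fintype (P : Subgroup G) := Fintype.ofFinite _
  -- the lattice
  let Λ : Submodule B W := Submodule.span B (Set.range fun g : G => ρ g v)
  have hgen : ∀ g : G, ρ g v ∈ Λ := fun g => Submodule.subset_span ⟨g, rfl⟩
  have hΛstab : ∀ (g : G) (u : W), u ∈ Λ → ρ g u ∈ Λ := by
    intro g u hu
    induction hu using Submodule.span_induction with
    | mem u hu =>
      obtain ⟨h, rfl⟩ := hu
      have : ρ g (ρ h v) = ρ (g * h) v := by rw [map_mul]; rfl
      rw [this]
      exact hgen _
    | zero => rw [map_zero]; exact Λ.zero_mem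
    | add a b _ _ ha hb => rw [map_add]; exact Λ.add_mem ha hb
    | smul b u _ hu =>
      have : ρ g (b • u) = b • ρ g u := by
        rw [valSub_smul_def, valSub_smul_def, map_smul]
      rw [this]
      exact Λ.smul_mem b hu
  have hΛU : ∀ u ∈ Λ, u ∈ U := by
    intro u hu
    induction hu using Submodule.span_induction with
    | mem u hu =>
      obtain ⟨h, rfl⟩ := hu
      exact hU h v hvU
    | zero => exact U.zero_mem
    | add a b _ _ ha hb => exact U.add_mem ha hb
    | smul b u _ hu =>
      rw [valSub_smul_def]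
      exact U.smul_mem _ hu
  have hvΛ : v ∈ Λ := by
    have := hgen 1
    simpa using this
  -- Nakayama: `v ∉ 𝔪 • Λ`
  have hvm : v ∉ (IsLocalRing.maximalIdeal B) • Λ := by
    intro hmem
    have hstab2 : ∀ (g : G) (u : W), u ∈ (IsLocalRing.maximalIdeal B) • Λ →
        ρ g u ∈ (IsLocalRing.maximalIdeal B) • Λ := by
      intro g u hu
      refine Submodule.smul_induction_on hu ?_ ?_
      · intro r hr n hn
        have : ρ g (r • n) = r • ρ g n := by
          rw [valSub_smul_def, valSub_smul_def, map_smul]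
        rw [this]
        exact Submodule.smul_mem_smul hr (hΛstab g n hn)
      · intro a b ha hb
        rw [map_add]; exact Submodule.add_mem _ ha hb
    have hle : Λ ≤ (IsLocalRing.maximalIdeal B) • Λ := by
      apply Submodule.span_le.mpr
      rintro _ ⟨g, rfl⟩
      exact hstab2 g v hmem
    have hfg : Λ.FG := Submodule.fg_span (Set.finite_range _)
    have hbot : Λ = ⊥ := Submodule.eq_bot_of_le_smul_of_le_jacobson_bot _ Λ hfg hle
      (IsLocalRing.maximalIdeal_le_jacobson ⊥)
    rw [hbot] at hvΛ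
    exact hv0 ((Submodule.mem_bot B).mp hvΛ)
  -- the function on Sylow subgroups
  let F : Sylow p G → W := fun Q => ρ (Classical.choose (MulAction.exists_smul_eq G P Q)) v
  have hFP : ∀ g : G, F (g • P) = ρ g v := by
    intro g
    have hspec := Classical.choose_spec (MulAction.exists_smul_eq G P (g • P))
    set g' := Classical.choose (MulAction.exists_smul_eq G P (g • P)) with hg'
    have h1 : (g⁻¹ * g') • P = P := by rw [mul_smul, hspec, inv_smul_smul]
    have h2 : g⁻¹ * g' ∈ Subgroup.normalizer ((P : Subgroup G) : Set G) :=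
      Sylow.smul_eq_iff_mem_normalizer.mp h1
    have h3 := hvN _ h2
    change ρ g' v = ρ g v
    have : g' = g * (g⁻¹ * g') := by group
    rw [this, map_mul]
    change ρ g (ρ (g⁻¹ * g') v) = ρ g v
    rw [h3]
  have hFeq : ∀ (h : G) (Q : Sylow p G), F (h • Q) = ρ h (F Q) := by
    intro h Q
    obtain ⟨g, rfl⟩ := MulAction.exists_smul_eq G P Q
    rw [← mul_smul, hFP, hFP, map_mul]
    rfl
  have hFΛ : ∀ Q : Sylow p G, F Q ∈ Λ := by
    intro Q
    obtain ⟨g, rfl⟩ := MulAction.exists_smul_eq G P Q
    rw [hFP]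
    exact hgen g
  have hsum0 : ∑ Q : Sylow p G, F Q = 0 := by
    apply hinv
    · exact U.sum_mem fun Q _ => hΛU _ (hFΛ Q)
    · intro g
      rw [map_sum]
      rw [← Equiv.sum_comp (MulAction.toPerm g : Equiv.Perm (Sylow p G)) F]
      refine Finset.sum_congr rfl fun Q _ => ?_
      rw [← hFeq]
      rfl
  have hFPv : F P = v := by
    have := hFP 1
    simpa using this
  -- the free `P`-set of the other Sylow subgroups
  letI := otherSylowAction p P
  have hfree : ∀ (x : (P : Subgroup G)) (Q : {Q : Sylow p G // Q ≠ P}), x • Q = Q → x = 1 := by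
    intro x Q hxQ
    have h1 : (x : G) • (Q : Sylow p G) = Q := congrArg Subtype.val hxQ
    have h2 : (x : G) ∈ Subgroup.normalizer (((Q : Sylow p G) : Subgroup G) : Set G) :=
      Sylow.smul_eq_iff_mem_normalizer.mp h1
    have h3 : (x : G) ∈ (P : Subgroup G) ⊓ ((Q : Sylow p G) : Subgroup G) := by
      rw [← P.2.inf_normalizer_sylow]
      exact ⟨x.2, h2⟩
    obtain ⟨g, hg⟩ := MulAction.exists_smul_eq G P (Q : Sylow p G)
    have hgN : g ∉ Subgroup.normalizer ((P : Subgroup G) : Set G) := by
      intro hgn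
      have : g • P = P := Sylow.smul_eq_iff_mem_normalizer.mpr hgn
      exact Q.2 (by rw [← hg, this])
    have h4 := hTI g hgN
    have h5 : ((Q : Sylow p G) : Subgroup G) = MulAut.conj g • (P : Subgroup G) := by
      rw [← hg]; rfl
    rw [h5, h4] at h3
    exact Subtype.ext ((Subgroup.mem_bot).mp h3)
  let ρP : (P : Subgroup G) →* (W →ₗ[ℂ] W) := (ρ : G →* (W →ₗ[ℂ] W)).comp (P : Subgroup G).subtype
  obtain ⟨w', hw'Λ, hw'⟩ := exists_sum_eq_sum_of_free ρP hfree (fun Q : {Q : Sylow p G // Q ≠ P} => F Q)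
    (fun x Q => by
      change F ((x : G) • (Q : Sylow p G)) = ρ (x : G) (F Q)
      exact hFeq _ _) Λ.toAddSubgroup (fun Q => hFΛ Q)
  have hsplit : ∑ Q : Sylow p G, F Q = F P + ∑ Q : {Q : Sylow p G // Q ≠ P}, F Q :=
    Fintype.sum_eq_add_sum_subtype_ne F P
  have hvw : ∑ x : (P : Subgroup G), ρP x (-w') = v := by
    have h1 : ∑ x : (P : Subgroup G), ρP x (-w') = -∑ x : (P : Subgroup G), ρP x w' := by
      simp only [map_neg, Finset.sum_neg_distrib]
    rw [h1, ← hw']
    rw [hsplit, hFPv] at hsum0
    exact (eq_neg_of_add_eq_zero_left hsum0).symm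
  have hLI := linearIndependent_of_sum_not_mem p B hpB P.2 ρP Λ
    (fun x u hu => hΛstab _ u hu) (-w') (Λ.neg_mem hw'Λ) (by rw [hvw]; exact hvm)
  -- the independent family lies in `U`
  have hinU : ∀ x : (P : Subgroup G), ρP x (-w') ∈ U := fun x =>
    hΛU _ (hΛstab _ _ (Λ.neg_mem hw'Λ))
  have hLI' : LinearIndependent ℂ (fun x : (P : Subgroup G) => (⟨ρP x (-w'), hinU x⟩ : U)) := by
    apply LinearIndependent.of_comp U.subtype
    exact hLI
  have hcard := hLI'.fintype_card_le_finrank
  rw [← Nat.card_eq_fintype_card] at hcard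
  omega

end Cfsg.Agent.Helper6.TIVal
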