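import Cfsg.Agent.Helper6.TIValC
import Cfsg.Agent.Helper6.Invariants
import Cfsg.Agent.Helper6.RepEigen
import Cfsg.Agent.Helper6.BlockPart

/-!
# Characters of small degree and trivial intersection Sylow subgroups
-/

set_option autoImplicit false
set_option linter.style.haveILetI false

namespace Cfsg.Agent.Helper6.TIVal

open Module Representation
open scoped ComplexConjugate Pointwise

/-- The norm of a character is the dimension of the commuting algebra. -/
theorem classInner_self_eq_finrank {G : Type*} [Group G] [Fintype G] {V : Type*} [AddCommGroup V]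
    [Module ℂ V] [FiniteDimensional ℂ V] (ρ : Representation ℂ G V) :
    Cfsg.classInner ρ.character ρ.character = (finrank ℂ (invariants (linHom ρ ρ)) : ℂ) := by
  rw [← classInner_one_eq_finrank_invariants (linHom ρ ρ)]
  unfold Cfsg.classInner
  congr 1
  refine Finset.sum_congr rfl fun g _ => ?_
  rw [char_linHom, char_inv_eq_conj, map_one, mul_one, mul_comm]

/-- The averaging projection. -/
noncomputable def avg {G : Type*} [Group G] [Fintype G] {E : Type*} [AddCommGroup E]
    [Module ℂ E] (τ : Representation ℂ G E) : E →ₗ[ℂ] E :=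
  (Fintype.card G : ℂ)⁻¹ • ∑ g : G, τ g

theorem avg_apply {G : Type*} [Group G] [Fintype G] {E : Type*} [AddCommGroup E]
    [Module ℂ E] (τ : Representation ℂ G E) (u : E) :
    avg τ u = (Fintype.card G : ℂ)⁻¹ • ∑ g : G, τ g u := by
  simp [avg, LinearMap.sum_apply]

theorem avg_invariant {G : Type*} [Group G] [Fintype G] {E : Type*} [AddCommGroup E]
    [Module ℂ E] (τ : Representation ℂ G E) (u : E) (h : G) : τ h (avg τ u) = avg τ u := by
  rw [avg_apply, map_smul, map_sum]
  congr 1
  rw [← Equiv.sum_comp (Equiv.mulLeft h) (fun g => τ g u)]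
  refine Finset.sum_congr rfl fun g _ => ?_
  simp only [Equiv.coe_mulLeft, map_mul, Module.End.mul_apply]

theorem avg_comp {G : Type*} [Group G] [Fintype G] {E : Type*} [AddCommGroup E]
    [Module ℂ E] (τ : Representation ℂ G E) (u : E) (h : G) : avg τ (τ h u) = avg τ u := by
  rw [avg_apply, avg_apply]
  congr 1
  rw [← Equiv.sum_comp (Equiv.mulRight h) (fun g => τ g u)]
  refine Finset.sum_congr rfl fun g _ => ?_
  simp only [Equiv.coe_mulRight, map_mul, Module.End.mul_apply]

theorem avg_of_invariant {G : Type*} [Group G] [Fintype G] {E : Type*} [AddCommGroup E]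
    [Module ℂ E] (τ : Representation ℂ G E) (u : E) (hu : ∀ g : G, τ g u = u) : avg τ u = u := by
  rw [avg_apply]
  simp only [hu, Finset.sum_const, Finset.card_univ]
  rw [← Nat.cast_smul_eq_nsmul ℂ, smul_smul, inv_mul_cancel₀, one_smul]
  have : 0 < Fintype.card G := Fintype.card_pos
  exact_mod_cast this.ne'

/-- **Leonard's lemma.** For a trivial intersection Sylow `p`-subgroup `P`, a `G`-module `E` of
dimension at most `|P|` containing a nonzero invariant, every `N_G(P)`-invariant is
`G`-invariant. -/
theorem invariant_of_normalizer_invariant (p : ℕ) [hp : Fact p.Prime] {G : Type*} [Group G]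
    [Fintype G] (P : Sylow p G)
    (hTI : ∀ g : G, g ∉ Subgroup.normalizer ((P : Subgroup G) : Set G) →
      (P : Subgroup G) ⊓ (MulAut.conj g • (P : Subgroup G)) = ⊥)
    {E : Type*} [AddCommGroup E] [Module ℂ E] [FiniteDimensional ℂ E] (τ : Representation ℂ G E)
    (hdim : finrank ℂ E ≤ Nat.card (P : Subgroup G))
    (e₀ : E) (he₀ : e₀ ≠ 0) (he₀inv : ∀ g : G, τ g e₀ = e₀)
    (A : E) (hA : ∀ n ∈ Subgroup.normalizer ((P : Subgroup G) : Set G), τ n A = A) :
    ∀ g : G, τ g A = A := by
  let U : Submodule ℂ E := LinearMap.ker (avg τ)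
  have hUlt : finrank ℂ U < Nat.card (P : Subgroup G) := by
    have hne : U ≠ ⊤ := by
      intro h
      have : e₀ ∈ U := by rw [h]; trivial
      rw [LinearMap.mem_ker, avg_of_invariant τ e₀ he₀inv] at this
      exact he₀ this
    exact lt_of_lt_of_le (Submodule.finrank_lt hne) hdim
  have hv : A - avg τ A = 0 := by
    apply eq_zero_of_normalizer_invariant p P hTI τ U ?_ ?_ hUlt
    · rw [LinearMap.mem_ker, map_sub, avg_of_invariant τ (avg τ A) (avg_invariant τ A), sub_self]
    · intro n hn
      rw [map_sub, hA n hn, avg_invariant]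
    · intro g u hu
      rw [LinearMap.mem_ker] at hu ⊢
      rw [avg_comp, hu]
    · intro u hu hinv
      rw [LinearMap.mem_ker, avg_of_invariant τ u hinv] at hu
      exact hu
  intro g
  rw [sub_eq_zero] at hv
  rw [hv, avg_invariant]

/-- Restricting a character of degree at most `√|P|` to a subgroup containing the normalizer of
the trivial intersection Sylow subgroup `P` preserves its norm. -/
theorem classInner_self_restrict (p : ℕ) [hp : Fact p.Prime] {G : Type*} [Group G] [Fintype G]
    (P : Sylow p G)
    (hTI : ∀ g : G, g ∉ Subgroup.normalizer ((P : Subgroup G) : Set G) →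
      (P : Subgroup G) ⊓ (MulAut.conj g • (P : Subgroup G)) = ⊥)
    {n : ℕ} (ρ : Representation ℂ G (Fin n → ℂ)) (hdeg : n ^ 2 ≤ Nat.card (P : Subgroup G))
    (H : Subgroup G) [Fintype H] (hH : Subgroup.normalizer ((P : Subgroup G) : Set G) ≤ H) :
    Cfsg.classInner ρ.character ρ.character =
      Cfsg.classInner (fun h : H => ρ.character h) (fun h : H => ρ.character h) := by
  let ρH : Representation ℂ H (Fin n → ℂ) := (ρ : G →* _).comp H.subtype
  have hχH : ρH.character = fun h : H => ρ.character h := rfl
  rw [← hχH, classInner_self_eq_finrank, classInner_self_eq_finrank]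
  have hfin : finrank ℂ ((Fin n → ℂ) →ₗ[ℂ] (Fin n → ℂ)) = n ^ 2 := by
    rw [Module.finrank_linearMap]
    simp [sq]
  have hsub : invariants (linHom ρH ρH) = invariants (linHom ρ ρ) := by
    apply le_antisymm
    · intro A hA
      rw [mem_invariants] at hA ⊢
      by_cases hid : (LinearMap.id : (Fin n → ℂ) →ₗ[ℂ] (Fin n → ℂ)) = 0
      · intro g
        have h0 : ∀ B : (Fin n → ℂ) →ₗ[ℂ] (Fin n → ℂ), B = 0 := by
          intro B
          have : B = B ∘ₗ LinearMap.id := by simp
          rw [this, hid, LinearMap.comp_zero]
        rw [h0 A, map_zero]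
      · apply invariant_of_normalizer_invariant p P hTI (linHom ρ ρ) (by rw [hfin]; exact hdeg)
          LinearMap.id hid
        · intro g
          rw [linHom_apply]
          ext v
          simp only [LinearMap.coe_comp, Function.comp_apply, LinearMap.id_coe, id_eq]
          rw [← Module.End.mul_apply, ← map_mul, mul_inv_cancel, map_one, Module.End.one_apply]
        · intro m hm
          have := hA ⟨m, hH hm⟩
          rw [linHom_apply] at this ⊢
          exact this
    · intro A hA
      rw [mem_invariants] at hA ⊢
      intro h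
      have := hA (h : G)
      rw [linHom_apply] at this ⊢
      exact this
  rw [hsub]

end Cfsg.Agent.Helper6.TIVal
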