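import Mathlib
import Cfsg.Agent.S5097
import Cfsg.Agent.Helper6.ThompFusD

/-!
# Thompson's normal `p`-complement theorem for fusion systems, part E: the statement.
-/

set_option autoImplicit false
set_option linter.style.haveILetI false

namespace Cfsg.Agent.Helper6.ThompFus

open Cfsg Cfsg.FusionSystem Cfsg.Agent.Lead Cfsg.Agent.Lead.GlTh Cfsg.Agent.Helper1
  Cfsg.Agent.Helper1.ThompsonRed Cfsg.Agent.Helper1.TN

universe u

theorem thompson_fusion {Ω : Type u} [Group Ω] {S : Subgroup Ω} [Finite S] (p : ℕ) [Fact p.Prime]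
    (hS : IsPGroup p S) (F : Cfsg.FusionSystem S) (hF : F.IsSaturated p)
    (hp : p ≠ 2 ∨ F.IsSectionFree p (Equiv.Perm (Fin 4)))
    (hC : ∀ C : Cfsg.FusionSystem
        (Cfsg.FusionSystem.centralizerIn S (S ⊓ Subgroup.centralizer (S : Set Ω))),
      F.IsCentralizerSystem (S ⊓ Subgroup.centralizer (S : Set Ω)) C → ∀ P : Subgroup Ω,
        C.Hom P = (Cfsg.innerFusionSystem
          (Cfsg.FusionSystem.centralizerIn S (S ⊓ Subgroup.centralizer (S : Set Ω)))).Hom P)
    (hN : ∀ N : Cfsg.FusionSystem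
        (Cfsg.FusionSystem.normalizerIn S (Cfsg.thompsonSubgroupAOf S)),
      F.IsNormalizerSystem (Cfsg.thompsonSubgroupAOf S) N → ∀ P : Subgroup Ω,
        N.Hom P = (Cfsg.innerFusionSystem
          (Cfsg.FusionSystem.normalizerIn S (Cfsg.thompsonSubgroupAOf S))).Hom P) :
    ∀ P : Subgroup Ω, F.Hom P = (Cfsg.innerFusionSystem S).Hom P := by
  have hZS : S ⊓ Subgroup.centralizer (S : Set Ω) ≤ S := inf_le_left
  obtain ⟨C, hCsys⟩ := Cfsg.Agent.S5097.result F _ hZS
  have hCin : Inner p C := inner_of_hom_eq p (hS.to_le inf_le_left) C (hC C hCsys)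
  have hZ' : CP p F (S ⊓ Subgroup.centralizer (S : Set Ω)) :=
    cp_of_centralizer_inner F C hCsys hCin
  have hZ : CP p F (centerFunctor.of S) := by
    rw [centerFunctor_of]
    exact hZ'
  have hJS : Cfsg.thompsonSubgroupAOf S ≤ S := jaFunctor.of_le S
  obtain ⟨N, hNsys⟩ := Cfsg.Agent.S5096.result F _ hJS
  have hNin : Inner p N := inner_of_hom_eq p (hS.to_le inf_le_left) N (hN N hNsys)
  have hJ : NP p F (jaFunctor.of S) := (np_iff_normalizer_inner F hJS N hNsys).mpr hNin
  exact (inner_iff_hom p hS F hF).mp (thompson_inner p hS F hF ⟨hp, hZ, hJ⟩)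

end Cfsg.Agent.Helper6.ThompFus
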