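import Mathlib
import Cfsg.Prelude.Def_Characters
import Cfsg.Prelude.Def_Blocks
import Cfsg.Agent.S4710
import Cfsg.Agent.Helper6.WeakOrth
import Cfsg.Agent.Helper6.PowCongr
import Cfsg.Agent.Helper6.HeightZeroSolv
import Cfsg.Agent.Helper6.BurnsidePQ
import Cfsg.Agent.Helper6.DefectZeroBlock
import Cfsg.Agent.Helper6.DegreeDvd
import Cfsg.Agent.Helper6.Brauer11

/-!
# Groups of order `p^a q^b r^c` with `a ≤ 2`: non-principal characters of prime-power degree
-/

set_option autoImplicit false
set_option linter.style.haveILetI false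

namespace Cfsg.Agent.Helper6

open Module Representation
open scoped ComplexConjugate

universe u

variable {G : Type u} [Group G]

/-- If the `p`-part of `|G|` is at most `p²` and `p ∣ |G|`, then for every prime `r` there is a
non-principal irreducible character (in the principal `p`-block) of degree prime to `p` and `r`. -/
theorem exists_nonprincipal_coprime_degree [Finite G] (p : ℕ) [hp : Fact p.Prime]
    (hpG : p ∣ Nat.card G) (hdef : (Nat.card G).factorization p ≤ 2) (r : ℕ) (hr : r.Prime) :
    ∃ χ : Cfsg.IrrCharacter G, (χ : G → ℂ) ≠ (fun _ => 1) ∧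
      ¬ p ∣ Cfsg.charDegree (χ : G → ℂ) ∧ ¬ r ∣ Cfsg.charDegree (χ : G → ℂ) := by
  classical
  haveI := Fintype.ofFinite G
  haveI : Finite (Cfsg.IrrCharacter G) := irr_finite
  haveI : Fintype (Cfsg.IrrCharacter G) := Fintype.ofFinite _
  obtain ⟨M, hM⟩ := exists_isPModular p hp.out
  have hB := isPBlock_principalBlock (M := M) G
  -- the defect of the principal block
  have hinf : sInf ((fun ψ : Cfsg.IrrCharacter G =>
      (Cfsg.charDegree (ψ : G → ℂ)).factorization p) '' Cfsg.principalBlock M G) = 0 := by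
    apply Nat.eq_zero_of_le_zero
    apply Nat.sInf_le
    refine ⟨trivIrr G, trivIrr_mem_principalBlock hM.2.1, ?_⟩
    simp only
    rw [charDegree_trivIrr, Nat.factorization_one]
    rfl
  have hd : Cfsg.blockDefect p (Cfsg.principalBlock M G) = (Nat.card G).factorization p := by
    unfold Cfsg.blockDefect
    rw [hinf, Nat.sub_zero]
  have hheight : ∀ χ ∈ Cfsg.principalBlock M G, ¬ p ∣ Cfsg.charDegree (χ : G → ℂ) := by
    intro χ hχ
    rw [← principal_height_zero_iff hM.2.1 p χ]
    have h := (Cfsg.Agent.S4710.result p M hM _ hB _ hd).2 χ hχ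
    by_cases h1 : (Nat.card G).factorization p ≤ 1
    · exact h.1 h1
    · have h2 := h.2 (by omega)
      omega
  -- an element of order `p`
  obtain ⟨y, hy⟩ := exists_prime_orderOf_dvd_card' (G := G) p hpG
  have hworth := weak_block_orthogonality hM.2.1 p hM.2.2 _ hB (1 : G) y
    (by rw [orderOf_one]; exact hp.out.not_dvd_one) (by rw [hy])
  by_contra hcon
  push Not at hcon
  -- every non-principal member of the principal block has degree divisible by `r`
  have hdiv : ∀ χ ∈ Cfsg.principalBlock M G, (χ : G → ℂ) ≠ (fun _ => 1) →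
      r ∣ Cfsg.charDegree (χ : G → ℂ) := fun χ hχ hne => hcon χ hne (hheight χ hχ)
  rw [finsum_mem_eq_sum_ite] at hworth
  rw [← Finset.add_sum_erase _ _ (Finset.mem_univ (trivIrr G))] at hworth
  rw [if_pos (trivIrr_mem_principalBlock hM.2.1)] at hworth
  have h11 : ((trivIrr G : Cfsg.IrrCharacter G) : G → ℂ) 1 *
      conj (((trivIrr G : Cfsg.IrrCharacter G) : G → ℂ) y) = 1 := by
    change (1 : ℂ) * conj (1 : ℂ) = 1
    simp
  rw [h11] at hworth
  -- the remaining sum is `r` times an algebraic integer
  have hrest : ∃ A : ℂ, IsIntegral ℤ A ∧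
      ∑ χ ∈ Finset.univ.erase (trivIrr G), (if χ ∈ Cfsg.principalBlock M G then
        (χ : G → ℂ) 1 * conj ((χ : G → ℂ) y) else 0) = (r : ℂ) * A := by
    refine ⟨∑ χ ∈ Finset.univ.erase (trivIrr G), (if χ ∈ Cfsg.principalBlock M G then
        ((Cfsg.charDegree (χ : G → ℂ) / r : ℕ) : ℂ) * conj ((χ : G → ℂ) y) else 0), ?_, ?_⟩
    · apply IsIntegral.sum
      intro χ _
      split_ifs
      · exact IsIntegral.mul (isIntegral_algebraMap (R := ℤ) (x := ((_ : ℕ) : ℤ)) |> fun h => by
          simpa using h) (IsCharacter.conj_isIntegral (IsIrrCharacter.isCharacter χ.2) y)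
      · exact isIntegral_zero
    · rw [Finset.mul_sum]
      apply Finset.sum_congr rfl
      intro χ hχ
      split_ifs with hB'
      · have hne : (χ : G → ℂ) ≠ (fun _ => 1) := by
          intro h
          exact (Finset.mem_erase.mp hχ).1 (Subtype.ext h)
        obtain ⟨m, hm⟩ := hdiv χ hB' hne
        rw [← charDegree_cast_of_isCharacter (IsIrrCharacter.isCharacter χ.2), hm,
          Nat.mul_div_cancel_left m hr.pos]
        push_cast
        ring
      · rw [mul_zero]
  obtain ⟨A, hA, hsum⟩ := hrest
  rw [hsum] at hworth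
  have h1 : ((1 : ℕ) : ℂ) = (r : ℂ) * (-A) := by
    push_cast
    linear_combination hworth
  have := nat_dvd_of_isIntegral 1 r hr.ne_zero (-A) hA.neg h1
  exact hr.one_lt.ne' (Nat.dvd_one.mp this)

end Cfsg.Agent.Helper6
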