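import Mathlib
import Cfsg.Prelude.Def_Characters
import Cfsg.Prelude.Def_Blocks
import Cfsg.Agent.Helper6.ThreePrimesA
import Cfsg.Agent.Helper6.Linear

/-!
# Groups of order `p^a q^b r^c` with `a ≤ 2`: main statement
-/

set_option autoImplicit false
set_option linter.style.haveILetI false

namespace Cfsg.Agent.Helper6

open Module Representation
open scoped ComplexConjugate

universe u

variable {G : Type u} [Group G]

/-- A nontrivial finite solvable group has a non-principal linear character. -/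
theorem exists_nonprincipal_linear_of_solvable [Finite G] [Nontrivial G] [Group.IsSolvable G] :
    ∃ χ : Cfsg.IrrCharacter G, (χ : G → ℂ) ≠ (fun _ => 1) ∧
      Cfsg.charDegree (χ : G → ℂ) = 1 := by
  have hlt : commutator G < ⊤ := Group.IsSolvable.commutator_lt_top_of_nontrivial G
  have hidx : 1 < (commutator G).index := by
    have h1 : (commutator G).index ≠ 1 := fun h => hlt.ne (Subgroup.index_eq_one.mp h)
    have h0 : (commutator G).index ≠ 0 := Subgroup.index_ne_zero_of_finite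
    omega
  rw [← card_hom_units] at hidx
  haveI : Finite (G →* ℂˣ) := Nat.finite_of_card_ne_zero (by omega)
  haveI : Nontrivial (G →* ℂˣ) := Finite.one_lt_card_iff_nontrivial.mp hidx
  obtain ⟨lam, hlam⟩ := exists_ne (1 : G →* ℂˣ)
  refine ⟨⟨fun g => ((lam g : ℂˣ) : ℂ), isIrrCharacter_of_hom lam⟩, ?_, ?_⟩
  · intro h
    apply hlam
    ext g
    have := congrFun h g
    simpa using this
  · unfold Cfsg.charDegree
    simp

/-- **Groups of order `p^a q^b r^c`, `a ≤ 2`.** -/
theorem three_primes_characters [Finite G] [Nontrivial G] (p q r a b c : ℕ) (hp : p.Prime)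
    (hq : q.Prime) (hr : r.Prime) (hpq : p ≠ q) (hpr : p ≠ r) (_hqr : q ≠ r) (ha : a ≤ 2)
    (hG : Nat.card G = p ^ a * q ^ b * r ^ c) :
    (∃ χ : Cfsg.IrrCharacter G, (χ : G → ℂ) ≠ (fun _ => 1) ∧
      ∃ k : ℕ, Cfsg.charDegree (χ : G → ℂ) = q ^ k) ∧
    ∃ χ : Cfsg.IrrCharacter G, (χ : G → ℂ) ≠ (fun _ => 1) ∧
      ∃ k : ℕ, Cfsg.charDegree (χ : G → ℂ) = r ^ k := by
  haveI : Fact p.Prime := ⟨hp⟩
  by_cases ha0 : a = 0
  · subst ha0
    rw [pow_zero, one_mul] at hG
    haveI : Group.IsSolvable G := burnside_pq q r b c hq hr hG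
    obtain ⟨χ, hne, hdeg⟩ := exists_nonprincipal_linear_of_solvable (G := G)
    exact ⟨⟨χ, hne, 0, by rw [hdeg, pow_zero]⟩, ⟨χ, hne, 0, by rw [hdeg, pow_zero]⟩⟩
  · have hpG : p ∣ Nat.card G := by
      rw [hG, mul_assoc]
      exact Dvd.dvd.mul_right (dvd_pow_self p ha0) _
    have hfac : (Nat.card G).factorization p = a := by
      have h1 : p ^ a ≠ 0 := pow_ne_zero _ hp.ne_zero
      have h2 : q ^ b ≠ 0 := pow_ne_zero _ hq.ne_zero
      have h3 : r ^ c ≠ 0 := pow_ne_zero _ hr.ne_zero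
      rw [hG, Nat.factorization_mul (mul_ne_zero h1 h2) h3, Nat.factorization_mul h1 h2]
      simp only [Finsupp.add_apply]
      rw [Nat.Prime.factorization_pow hp, Nat.Prime.factorization_pow hq,
        Nat.Prime.factorization_pow hr]
      simp [hpq, hpr]
    have key : ∀ (s t : ℕ) (e f : ℕ), s.Prime → t.Prime →
        Nat.card G = p ^ a * s ^ e * t ^ f →
        ∃ χ : Cfsg.IrrCharacter G, (χ : G → ℂ) ≠ (fun _ => 1) ∧
          ∃ k : ℕ, Cfsg.charDegree (χ : G → ℂ) = s ^ k := by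
      intro s t e f hs ht hcard
      obtain ⟨χ, hne, h1, h2⟩ := exists_nonprincipal_coprime_degree (G := G) p hpG
        (by rw [hfac]; exact ha) t ht
      refine ⟨χ, hne, ?_⟩
      have hdvd := charDegree_dvd_card χ.2
      rw [hcard] at hdvd
      have hc1 : Nat.Coprime (Cfsg.charDegree (χ : G → ℂ)) (p ^ a) :=
        Nat.Coprime.pow_right _ ((Nat.Prime.coprime_iff_not_dvd hp).mpr h1).symm
      have hc2 : Nat.Coprime (Cfsg.charDegree (χ : G → ℂ)) (t ^ f) :=
        Nat.Coprime.pow_right _ ((Nat.Prime.coprime_iff_not_dvd ht).mpr h2).symm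
      have h3 : Cfsg.charDegree (χ : G → ℂ) ∣ p ^ a * s ^ e := hc2.dvd_of_dvd_mul_right hdvd
      have h4 : Cfsg.charDegree (χ : G → ℂ) ∣ s ^ e := hc1.dvd_of_dvd_mul_left h3
      obtain ⟨k, -, hk⟩ := (Nat.dvd_prime_pow hs).mp h4
      exact ⟨k, hk⟩
    refine ⟨key q r b c hq hr hG, key r q c b hr hq ?_⟩
    rw [hG]
    ring

end Cfsg.Agent.Helper6
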