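import Mathlib
import Cfsg.Prelude.Def_LocalStructure
import Cfsg.Agent.Helper5.PResidual
import Cfsg.Agent.Helper6.TransFamA

/-!
helper6: a group generated (modulo a `p`-group quotient) by a transitive family of normal subgroups of `R`, each
`p`-minimal, is `p`-minimal.
-/

set_option autoImplicit false

namespace Cfsg.Agent.Helper6.TransFam

open Cfsg Cfsg.Agent.Helper5

variable {H : Type*} [Group H]

theorem map_conj_inf (A B : Subgroup H) (g : H) :
    (A ⊓ B).map (MulAut.conj g).toMonoidHom =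
      A.map (MulAut.conj g).toMonoidHom ⊓ B.map (MulAut.conj g).toMonoidHom :=
  Subgroup.map_inf A B _ (MulAut.conj g).injective

/-- The join of an invariant family is normal. -/
theorem sSup_map_conj_le (𝒦 : Set (Subgroup H))
    (hinv : ∀ h : H, ∀ E ∈ 𝒦, E.map (MulAut.conj h).toMonoidHom ∈ 𝒦) (h : H) :
    (sSup 𝒦).map (MulAut.conj h).toMonoidHom ≤ sSup 𝒦 := by
  rw [Subgroup.map_le_iff_le_comap]
  apply sSup_le
  intro E hE
  rw [← Subgroup.map_le_iff_le_comap]
  exact le_sSup (hinv h E hE)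

theorem sSup_normal (𝒦 : Set (Subgroup H))
    (hinv : ∀ h : H, ∀ E ∈ 𝒦, E.map (MulAut.conj h).toMonoidHom ∈ 𝒦) : (sSup 𝒦).Normal := by
  constructor
  intro n hn g
  exact (map_conj_le_iff _ _ g).mp (sSup_map_conj_le 𝒦 hinv g) n hn

/-- The subgroup of elements compatible with the assignment `E ↦ M_E`. -/
def compatSub (𝒦 : Set (Subgroup H)) (T : Subgroup H)
    (hinv : ∀ h : H, ∀ E ∈ 𝒦, E.map (MulAut.conj h).toMonoidHom ∈ 𝒦)
    (hmax : ∀ E ∈ 𝒦, ∃ M, UMaxIn E (T ⊓ E) M) : Subgroup H where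
  carrier := {h | ∀ E ∈ 𝒦, ∀ M, UMaxIn E (T ⊓ E) M →
    UMaxIn (E.map (MulAut.conj h).toMonoidHom) (T ⊓ E.map (MulAut.conj h).toMonoidHom)
      (M.map (MulAut.conj h).toMonoidHom)}
  one_mem' := by
    intro E _ M hM
    simp only [map_conj_one]
    exact hM
  mul_mem' := by
    intro a b ha hb E hE M hM
    have h1 := hb E hE M hM
    have h2 := ha _ (hinv b E hE) _ h1
    simp only [map_conj_map_conj] at h2
    exact h2
  inv_mem' := by
    intro a ha E hE M hM
    obtain ⟨M₁, hM₁⟩ := hmax _ (hinv a⁻¹ E hE)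
    have h1 := ha _ (hinv a⁻¹ E hE) M₁ hM₁
    simp only [map_conj_map_conj_inv] at h1
    have h2 : M₁.map (MulAut.conj a).toMonoidHom = M := h1.unique hM
    have h3 : M₁ = M.map (MulAut.conj a⁻¹).toMonoidHom := by
      rw [← h2, map_conj_inv_map_conj]
    rw [← h3]
    exact hM₁

theorem mem_compatSub_iff (𝒦 : Set (Subgroup H)) (T : Subgroup H)
    (hinv : ∀ h : H, ∀ E ∈ 𝒦, E.map (MulAut.conj h).toMonoidHom ∈ 𝒦)
    (hmax : ∀ E ∈ 𝒦, ∃ M, UMaxIn E (T ⊓ E) M) (h : H) :
    h ∈ compatSub 𝒦 T hinv hmax ↔ ∀ E ∈ 𝒦, ∀ M, UMaxIn E (T ⊓ E) M →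
      UMaxIn (E.map (MulAut.conj h).toMonoidHom) (T ⊓ E.map (MulAut.conj h).toMonoidHom)
        (M.map (MulAut.conj h).toMonoidHom) := Iff.rfl

/-- Core theorem: `p`-minimality from a transitive family of `p`-minimal normal subgroups of `R`. -/
theorem isMinimalOver_of_family [Finite H] {p : ℕ} [Fact p.Prime] (𝒦 : Set (Subgroup H)) (hne : 𝒦.Nonempty)
    (hinv : ∀ h : H, ∀ E ∈ 𝒦, E.map (MulAut.conj h).toMonoidHom ∈ 𝒦)
    (htr : ∀ E ∈ 𝒦, ∀ K ∈ 𝒦, ∃ h : H, K = E.map (MulAut.conj h).toMonoidHom)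
    (hres : Cfsg.pResidual p H ≤ sSup 𝒦)
    (hnormal : ∀ E ∈ 𝒦, sSup 𝒦 ≤ Subgroup.normalizer (E : Set H))
    (T : Sylow p H)
    (hcl : ∀ E ∈ 𝒦, NClIn E ((T : Subgroup H) ⊓ E))
    (hmax : ∀ E ∈ 𝒦, ∃ M, UMaxIn E ((T : Subgroup H) ⊓ E) M) :
    Cfsg.IsMinimalOver (T : Subgroup H) := by
  classical
  set R := sSup 𝒦 with hR
  haveI hRn : R.Normal := sSup_normal 𝒦 hinv
  have hRT : R ⊔ (T : Subgroup H) = ⊤ := by
    apply le_antisymm le_top
    rw [← pResidual_sup_sylow T]
    exact sup_le_sup_right hres _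
  have hdecomp : ∀ h : H, ∃ t ∈ (T : Subgroup H), ∃ r ∈ R, h = t * r := by
    intro h
    have hh : h ∈ (T : Subgroup H) ⊔ R := by rw [sup_comm, hRT]; trivial
    obtain ⟨t, ht, r, hr, rfl⟩ := Subgroup.mem_sup_of_normal_right.mp hh
    exact ⟨t, ht, r, hr, rfl⟩
  -- `T` is transitive on `𝒦`
  have hTtr : ∀ E ∈ 𝒦, ∀ K ∈ 𝒦, ∃ t ∈ (T : Subgroup H), K = E.map (MulAut.conj t).toMonoidHom := by
    intro E hE K hK
    obtain ⟨h, rfl⟩ := htr E hE K hK
    obtain ⟨t, ht, r, hr, rfl⟩ := hdecomp h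
    refine ⟨t, ht, ?_⟩
    rw [← map_conj_map_conj, (mem_normalizer_iff_map_conj E r).mp (hnormal E hE hr)]
  set Ls := compatSub 𝒦 (T : Subgroup H) hinv hmax with hLs
  -- `T ≤ L*`
  have hTLs : (T : Subgroup H) ≤ Ls := by
    intro t ht E hE M hM
    have h1 := hM.map_conj t
    rwa [map_conj_inf, map_conj_eq_self_of_mem _ t ht] at h1
  -- `L* ≠ ⊤`
  have hLstop : Ls ≠ ⊤ := by
    intro htop
    obtain ⟨E, hE⟩ := hne
    obtain ⟨M, hM⟩ := hmax E hE
    have hEM : E ≤ Subgroup.normalizer (M : Set H) := by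
      intro e he
      have hmem : e ∈ Ls := by rw [htop]; trivial
      have h1 := hmem E hE M hM
      rw [map_conj_eq_self_of_mem E e he] at h1
      exact (mem_normalizer_iff_map_conj M e).mpr (h1.unique hM)
    exact hM.2.2.1 (hcl E hE M hM.2.1 hEM hM.1)
  -- proper overgroups of `T` lie in `L*`
  have hprop : ∀ X : Subgroup H, (T : Subgroup H) ≤ X → X ≠ ⊤ → X ≤ Ls := by
    intro X hTX hXtop
    have hnot : ∀ E ∈ 𝒦, ¬ E ≤ X := by
      intro E hE hEX
      apply hXtop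
      apply le_antisymm le_top
      rw [← hRT]
      refine sup_le ?_ hTX
      apply sSup_le
      intro K hK
      obtain ⟨t, ht, rfl⟩ := hTtr E hE K hK
      rw [map_conj_le_iff]
      intro x hx
      exact X.mul_mem (X.mul_mem (hTX ht) (hEX hx)) (X.inv_mem (hTX ht))
    intro x hx
    obtain ⟨t, ht, r, hr, rfl⟩ := hdecomp x
    have hrX : r ∈ X := by
      have : r = t⁻¹ * (t * r) := by group
      rw [this]
      exact X.mul_mem (X.inv_mem (hTX ht)) hx
    refine Ls.mul_mem (hTLs ht) ?_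
    intro E hE M hM
    have hEr : E.map (MulAut.conj r).toMonoidHom = E :=
      (mem_normalizer_iff_map_conj E r).mp (hnormal E hE hr)
    have hXE : X ⊓ E ≤ M := by
      apply hM.2.2.2 _ (inf_le_inf_right E hTX) inf_le_right
      intro he
      exact hnot E hE (he ▸ inf_le_left)
    have hXEr : (X ⊓ E).map (MulAut.conj r).toMonoidHom = X ⊓ E := by
      rw [map_conj_inf, hEr, map_conj_eq_self_of_mem X r hrX]
    have hMr : M.map (MulAut.conj r).toMonoidHom = M := by
      have hle : M.map (MulAut.conj r).toMonoidHom ≤ M := by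
        apply hM.2.2.2
        · calc (T : Subgroup H) ⊓ E ≤ X ⊓ E := inf_le_inf_right E hTX
            _ = (X ⊓ E).map (MulAut.conj r).toMonoidHom := hXEr.symm
            _ ≤ M.map (MulAut.conj r).toMonoidHom := map_conj_mono hXE r
        · calc M.map (MulAut.conj r).toMonoidHom ≤ E.map (MulAut.conj r).toMonoidHom :=
              map_conj_mono hM.2.1 r
            _ = E := hEr
        · intro he
          apply hM.2.2.1
          apply map_conj_injective r
          rw [he, hEr]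
      apply Subgroup.eq_of_le_of_card_ge hle
      rw [card_map_conj']
    rw [hEr, hMr]
    exact hM
  refine ⟨?_, ?_⟩
  · -- normal closure
    set N := Subgroup.normalClosure ((T : Subgroup H) : Set H) with hN
    have hTN : (T : Subgroup H) ≤ N := Subgroup.le_normalClosure
    apply le_antisymm le_top
    rw [← hRT]
    refine sup_le ?_ hTN
    apply sSup_le
    intro E hE
    have h1 : N ⊓ E = E := by
      apply hcl E hE (N ⊓ E) inf_le_right
      · intro e he
        exact mem_normalizer_of_conj_mem _ e (fun x hx =>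
          ⟨Subgroup.normalClosure_normal.conj_mem x hx.1 e, E.mul_mem (E.mul_mem he hx.2) (E.inv_mem he)⟩)
      · exact inf_le_inf_right E hTN
    rw [← h1]; exact inf_le_left
  · obtain ⟨M, hMc, hLsM⟩ := (eq_top_or_exists_le_coatom Ls).resolve_left hLstop
    have hTM : (T : Subgroup H) ≤ M := hTLs.trans hLsM
    have hMLs : M ≤ Ls := hprop M hTM hMc.1
    refine ⟨M, ⟨hMc, hTM⟩, ?_⟩
    rintro M' ⟨hM'c, hTM'⟩
    have hM'M : M' ≤ M := (hprop M' hTM' hM'c.1).trans hLsM
    by_contra hne'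
    exact hMc.1 (hM'c.2 M (lt_of_le_of_ne hM'M hne'))

end Cfsg.Agent.Helper6.TransFam
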