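import Mathlib
import Cfsg.Prelude.Def_LocalStructure
import Cfsg.Agent.Helper1.Subnormal
import Cfsg.Agent.Helper5.Cores
import Cfsg.Agent.Helper6.TransFamB

/-!
helper6: passing from a family `𝒦` to the family `{E · O_p(H)}`; `p`-minimality from a transitive family.
-/

set_option autoImplicit false

namespace Cfsg.Agent.Helper6.TransFam

open Cfsg Cfsg.Agent.Helper5

variable {H : Type*} [Group H]

/-- Dedekind's modular law, with the right factor normal. -/
theorem dedekind_right (A B C : Subgroup H) [C.Normal] (hBA : B ≤ A) : A ⊓ (B ⊔ C) = B ⊔ (A ⊓ C) := by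
  apply le_antisymm
  · rintro x ⟨hxA, hx⟩
    obtain ⟨b, hb, c, hc, rfl⟩ := Subgroup.mem_sup_of_normal_right.mp hx
    refine Subgroup.mul_mem _ (Subgroup.mem_sup_left hb) (Subgroup.mem_sup_right ⟨?_, hc⟩)
    have : c = b⁻¹ * (b * c) := by group
    rw [this]
    exact A.mul_mem (A.inv_mem (hBA hb)) hxA
  · exact le_inf (sup_le hBA inf_le_left) (sup_le_sup_left inf_le_right B)

/-- Dedekind's modular law, with the left factor normal. -/
theorem dedekind_left (A B C : Subgroup H) [B.Normal] (hBA : B ≤ A) : A ⊓ (B ⊔ C) = B ⊔ (A ⊓ C) := by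
  apply le_antisymm
  · rintro x ⟨hxA, hx⟩
    obtain ⟨b, hb, c, hc, rfl⟩ := Subgroup.mem_sup_of_normal_left.mp hx
    refine Subgroup.mul_mem _ (Subgroup.mem_sup_left hb) (Subgroup.mem_sup_right ⟨?_, hc⟩)
    have : c = b⁻¹ * (b * c) := by group
    rw [this]
    exact A.mul_mem (A.inv_mem (hBA hb)) hxA
  · exact le_inf (sup_le hBA inf_le_left) (sup_le_sup_left inf_le_right B)

theorem map_conj_normal (P : Subgroup H) [hP : P.Normal] (h : H) :
    P.map (MulAut.conj h).toMonoidHom = P := by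
  apply (mem_normalizer_iff_map_conj P h).mp
  rw [Subgroup.normalizer_eq_top]; trivial

/-- A maximal `p`-subgroup `T'` of `E · P` (with `P` a normal `p`-subgroup) meets `E` in a maximal
`p`-subgroup of `E`. -/
theorem inf_isMaxP_of_sup {p : ℕ} (E P T' : Subgroup H) [P.Normal] (hP : IsPGroup p ↥P)
    (hPT' : P ≤ T') (hT'E : T' ≤ E ⊔ P)
    (hmaxT' : ∀ Q : Subgroup H, IsPGroup p ↥Q → T' ≤ Q → Q ≤ E ⊔ P → Q = T')
    (Q : Subgroup H) (hQ : IsPGroup p ↥Q) (hle : T' ⊓ E ≤ Q) (hQE : Q ≤ E) : Q = T' ⊓ E := by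
  have h1 : T' = P ⊔ (T' ⊓ E) := by
    have := dedekind_left T' P E hPT'
    rw [sup_comm P E, inf_eq_left.mpr hT'E] at this
    exact this
  have h2 : Q ⊔ P = T' := by
    apply hmaxT' _ (hQ.to_sup_of_normal_right hP)
    · rw [h1, sup_comm]
      exact sup_le_sup_right hle P
    · exact sup_le_sup_right hQE P
  apply le_antisymm _ hle
  exact le_inf (le_sup_left.trans h2.le) hQE

/-- Relative form of: `T ⊓ E'` is a Sylow subgroup of the subnormal subgroup `E'`. -/
theorem isMaxP_inf_of_subnormal [Finite H] {p : ℕ} [Fact p.Prime] (T : Sylow p H) (E' : Subgroup H)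
    (hsub : E'.IsSubnormal) (Q : Subgroup H) (hQ : IsPGroup p ↥Q) (hle : (T : Subgroup H) ⊓ E' ≤ Q)
    (hQE : Q ≤ E') : Q = (T : Subgroup H) ⊓ E' := by
  obtain ⟨S, hS⟩ := Cfsg.Agent.Helper1.sylow_inf_subnormal p E' hsub T
  have h1 : (S : Subgroup ↥E') ≤ Q.subgroupOf E' := by
    rw [hS]
    intro x hx
    exact Subgroup.mem_subgroupOf.mpr (hle ⟨Subgroup.mem_subgroupOf.mp hx, x.2⟩)
  have h2 : Q.subgroupOf E' = (S : Subgroup ↥E') := S.3 hQ.comap_subtype h1
  apply le_antisymm _ hle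
  intro q hq
  have h3 : (⟨q, hQE hq⟩ : ↥E') ∈ (S : Subgroup ↥E') := by
    rw [← h2]; exact Subgroup.mem_subgroupOf.mpr hq
  rw [hS] at h3
  exact ⟨Subgroup.mem_subgroupOf.mp h3, hQE hq⟩

/-- Lifting `NClIn` from `E` to `E · P`. -/
theorem NClIn.sup_normal [Finite H] {E Y P : Subgroup H} [P.Normal] (h : NClIn E Y) (hYE : Y ≤ E) :
    NClIn (E ⊔ P) (Y ⊔ P) := by
  intro N hNE hEN hYN
  have h1 : N ⊓ E = E := by
    apply h (N ⊓ E) inf_le_right
    · intro e he
      apply mem_normalizer_of_conj_mem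
      rintro x ⟨hxN, hxE⟩
      exact ⟨(Subgroup.mem_normalizer_iff.mp (hEN (Subgroup.mem_sup_left he)) x).mp hxN,
        E.mul_mem (E.mul_mem he hxE) (E.inv_mem he)⟩
    · exact le_inf (le_sup_left.trans hYN) hYE
  apply le_antisymm hNE
  exact sup_le (h1 ▸ inf_le_left) (le_sup_right.trans hYN)

/-- Lifting `UMaxIn` from `E` to `E · P`, for a normal subgroup `P` with `E ⊓ P ≤ Y`. -/
theorem UMaxIn.sup_normal {E Y M P : Subgroup H} [P.Normal] (h : UMaxIn E Y M) (hEP : E ⊓ P ≤ Y) :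
    UMaxIn (E ⊔ P) (Y ⊔ P) (M ⊔ P) := by
  obtain ⟨hYM, hME, hne, hmax⟩ := h
  refine ⟨sup_le_sup_right hYM P, sup_le_sup_right hME P, ?_, ?_⟩
  · intro he
    apply hne
    apply le_antisymm hME
    have h1 : E ≤ E ⊓ (M ⊔ P) := le_inf le_rfl (he ▸ le_sup_left)
    rw [dedekind_right E M P hME] at h1
    exact h1.trans (sup_le le_rfl (hEP.trans hYM))
  · intro X hYX hXE hXne
    have hPX : P ≤ X := le_sup_right.trans hYX
    have h1 : X ⊓ E ≤ M := by
      apply hmax _ (le_inf (le_sup_left.trans hYX) (hYM.trans hME)) inf_le_right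
      intro he
      apply hXne
      apply le_antisymm hXE
      exact sup_le (he ▸ inf_le_left) hPX
    have h2 : X = P ⊔ (X ⊓ E) := by
      have := dedekind_left X P E hPX
      rw [sup_comm P E, inf_eq_left.mpr hXE] at this
      exact this
    rw [h2, sup_comm]
    exact sup_le_sup_right h1 P

end Cfsg.Agent.Helper6.TransFam
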