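import Mathlib
import Cfsg.Prelude.Def_LocalStructure
import Cfsg.Agent.Helper6.TransFamC

/-!
helper6: the family `{E · O_p(H)}` attached to a transitive family, and `p`-minimality of `H`.
-/

set_option autoImplicit false

namespace Cfsg.Agent.Helper6.TransFam

open Cfsg Cfsg.Agent.Helper5

variable {H : Type*} [Group H]

/-- The family `{E ⊔ P | E ∈ 𝒦}`. -/
def supFam (𝒦 : Set (Subgroup H)) (P : Subgroup H) : Set (Subgroup H) := (fun E => E ⊔ P) '' 𝒦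

theorem supFam_nonempty {𝒦 : Set (Subgroup H)} (hne : 𝒦.Nonempty) (P : Subgroup H) :
    (supFam 𝒦 P).Nonempty := hne.image _

theorem supFam_inv {𝒦 : Set (Subgroup H)} (P : Subgroup H) [P.Normal]
    (hinv : ∀ h : H, ∀ E ∈ 𝒦, E.map (MulAut.conj h).toMonoidHom ∈ 𝒦) :
    ∀ h : H, ∀ E' ∈ supFam 𝒦 P, E'.map (MulAut.conj h).toMonoidHom ∈ supFam 𝒦 P := by
  rintro h _ ⟨E, hE, rfl⟩
  refine ⟨E.map (MulAut.conj h).toMonoidHom, hinv h E hE, ?_⟩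
  show E.map (MulAut.conj h).toMonoidHom ⊔ P = (E ⊔ P).map (MulAut.conj h).toMonoidHom
  rw [Subgroup.map_sup, map_conj_normal P h]

theorem supFam_tr {𝒦 : Set (Subgroup H)} (P : Subgroup H) [P.Normal]
    (htr : ∀ E ∈ 𝒦, ∀ K ∈ 𝒦, ∃ h : H, K = E.map (MulAut.conj h).toMonoidHom) :
    ∀ E' ∈ supFam 𝒦 P, ∀ K' ∈ supFam 𝒦 P, ∃ h : H, K' = E'.map (MulAut.conj h).toMonoidHom := by
  rintro _ ⟨E, hE, rfl⟩ _ ⟨K, hK, rfl⟩
  obtain ⟨h, rfl⟩ := htr E hE K hK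
  refine ⟨h, ?_⟩
  show E.map (MulAut.conj h).toMonoidHom ⊔ P = (E ⊔ P).map (MulAut.conj h).toMonoidHom
  rw [Subgroup.map_sup, map_conj_normal P h]

theorem le_sSup_supFam (𝒦 : Set (Subgroup H)) (P : Subgroup H) : sSup 𝒦 ≤ sSup (supFam 𝒦 P) := by
  apply sSup_le
  intro E hE
  exact le_sup_left.trans (le_sSup (⟨E, hE, rfl⟩ : E ⊔ P ∈ supFam 𝒦 P))

theorem sSup_supFam_le (𝒦 : Set (Subgroup H)) (P : Subgroup H) : sSup (supFam 𝒦 P) ≤ sSup 𝒦 ⊔ P := by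
  apply sSup_le
  rintro _ ⟨E, hE, rfl⟩
  exact sup_le_sup_right (le_sSup hE) P

theorem supFam_normal {𝒦 : Set (Subgroup H)} (P : Subgroup H)
    (hnorm : ∀ E ∈ 𝒦, sSup 𝒦 ⊔ P ≤ Subgroup.normalizer ((E ⊔ P : Subgroup H) : Set H)) :
    ∀ E' ∈ supFam 𝒦 P, sSup (supFam 𝒦 P) ≤ Subgroup.normalizer (E' : Set H) := by
  rintro _ ⟨E, hE, rfl⟩
  exact (sSup_supFam_le 𝒦 P).trans (hnorm E hE)

theorem supFam_subnormal {𝒦 : Set (Subgroup H)} (P : Subgroup H) [P.Normal]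
    (hinv : ∀ h : H, ∀ E ∈ 𝒦, E.map (MulAut.conj h).toMonoidHom ∈ 𝒦)
    (hnorm : ∀ E ∈ 𝒦, sSup 𝒦 ⊔ P ≤ Subgroup.normalizer ((E ⊔ P : Subgroup H) : Set H)) :
    ∀ E' ∈ supFam 𝒦 P, E'.IsSubnormal := by
  intro E' hE'
  haveI : (sSup (supFam 𝒦 P)).Normal := sSup_normal _ (supFam_inv P hinv)
  have hle : E' ≤ sSup (supFam 𝒦 P) := le_sSup hE'
  exact Subgroup.IsSubnormal.step E' _ hle (Subgroup.Normal.isSubnormal inferInstance)
    ((Subgroup.normal_subgroupOf_iff_le_normalizer hle).mpr (supFam_normal P hnorm E' hE'))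

/-- `T ⊓ E` is a Sylow subgroup of `E`, as an element of `Sylow p ↥E`. -/
theorem exists_sylow_inf_of_family [Finite H] {p : ℕ} [Fact p.Prime] {𝒦 : Set (Subgroup H)}
    (hinv : ∀ h : H, ∀ E ∈ 𝒦, E.map (MulAut.conj h).toMonoidHom ∈ 𝒦)
    (hnorm : ∀ E ∈ 𝒦, sSup 𝒦 ⊔ Cfsg.pCore p H ≤
      Subgroup.normalizer ((E ⊔ Cfsg.pCore p H : Subgroup H) : Set H))
    (T : Sylow p H) (E : Subgroup H) (hE : E ∈ 𝒦) :
    ∃ S : Sylow p ↥E, (S : Subgroup ↥E) = ((T : Subgroup H) ⊓ E).subgroupOf E := by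
  set P := Cfsg.pCore p H with hP
  have hPT : P ≤ (T : Subgroup H) := pCore_le_sylow T
  have hsub : (E ⊔ P).IsSubnormal := supFam_subnormal P hinv hnorm _ ⟨E, hE, rfl⟩
  have hmaxE : ∀ Q : Subgroup H, IsPGroup p ↥Q → (T : Subgroup H) ⊓ E ≤ Q → Q ≤ E →
      Q = (T : Subgroup H) ⊓ E := by
    intro Q hQ hle hQE
    have h1 : ((T : Subgroup H) ⊓ (E ⊔ P)) ⊓ E = (T : Subgroup H) ⊓ E := by
      rw [inf_assoc, inf_eq_right.mpr (le_sup_left : E ≤ E ⊔ P)]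
    have := inf_isMaxP_of_sup E P ((T : Subgroup H) ⊓ (E ⊔ P)) (isPGroup_pCore p)
      (le_inf hPT le_sup_right) inf_le_right
      (fun Q hQ h1 h2 => isMaxP_inf_of_subnormal T (E ⊔ P) hsub Q hQ h1 h2) Q hQ (h1 ▸ hle) hQE
    rw [this, h1]
  have hp : IsPGroup p ↥(((T : Subgroup H) ⊓ E).subgroupOf E) :=
    (T.2.to_le inf_le_left).comap_subtype
  refine ⟨⟨((T : Subgroup H) ⊓ E).subgroupOf E, hp, ?_⟩, rfl⟩
  intro Q' hQ' hle
  have hQ : IsPGroup p ↥(Q'.map E.subtype) := hQ'.map _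
  have h1 : (T : Subgroup H) ⊓ E ≤ Q'.map E.subtype := by
    intro x hx
    exact ⟨⟨x, hx.2⟩, hle (Subgroup.mem_subgroupOf.mpr hx), rfl⟩
  have h2 := hmaxE _ hQ h1 (Subgroup.map_subtype_le Q')
  rw [← h2]
  exact (Subgroup.comap_map_eq_self_of_injective E.subtype_injective Q').symm

/-- `p`-minimality of `H` from a transitive family of `p`-minimal subgroups. -/
theorem pMinimal_of_family [Finite H] {p : ℕ} [Fact p.Prime] (𝒦 : Set (Subgroup H)) (hne : 𝒦.Nonempty)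
    (hinv : ∀ h : H, ∀ E ∈ 𝒦, E.map (MulAut.conj h).toMonoidHom ∈ 𝒦)
    (htr : ∀ E ∈ 𝒦, ∀ K ∈ 𝒦, ∃ h : H, K = E.map (MulAut.conj h).toMonoidHom)
    (hres : Cfsg.pResidual p H ≤ sSup 𝒦)
    (hnorm : ∀ E ∈ 𝒦, sSup 𝒦 ⊔ Cfsg.pCore p H ≤
      Subgroup.normalizer ((E ⊔ Cfsg.pCore p H : Subgroup H) : Set H))
    (hmin : ∀ E ∈ 𝒦, ∀ T : Sylow p ↥E, Cfsg.IsMinimalOver (T : Subgroup ↥E)) (T : Sylow p H) :
    Cfsg.IsMinimalOver (T : Subgroup H) := by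
  classical
  set P := Cfsg.pCore p H with hP
  have hPT : P ≤ (T : Subgroup H) := pCore_le_sylow T
  have key : ∀ E ∈ 𝒦, NClIn (E ⊔ P) ((T : Subgroup H) ⊓ (E ⊔ P)) ∧
      ∃ M, UMaxIn (E ⊔ P) ((T : Subgroup H) ⊓ (E ⊔ P)) M := by
    intro E hE
    obtain ⟨S, hS⟩ := exists_sylow_inf_of_family hinv hnorm T E hE
    have h1 := hmin E hE S
    rw [hS] at h1
    have hcl := nClIn_of_isMinimalOver E _ h1
    obtain ⟨M, hM⟩ := exists_uMaxIn_of_isMinimalOver E _ inf_le_right h1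
    have hded : (T : Subgroup H) ⊓ (E ⊔ P) = ((T : Subgroup H) ⊓ E) ⊔ P := by
      rw [sup_comm E P, dedekind_left (T : Subgroup H) P E hPT, sup_comm]
    rw [hded]
    exact ⟨hcl.sup_normal inf_le_right,
      M ⊔ P, hM.sup_normal (le_inf (inf_le_right.trans hPT) inf_le_left)⟩
  apply isMinimalOver_of_family (supFam 𝒦 P) (supFam_nonempty hne P) (supFam_inv P hinv)
    (supFam_tr P htr) (hres.trans (le_sSup_supFam 𝒦 P)) (supFam_normal P hnorm) T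
  · rintro _ ⟨E, hE, rfl⟩
    exact (key E hE).1
  · rintro _ ⟨E, hE, rfl⟩
    exact (key E hE).2

end Cfsg.Agent.Helper6.TransFam
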