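import Mathlib
import Cfsg.Prelude.Def_LocalStructure
import Cfsg.Agent.Helper2.SubnormalP
import Cfsg.Agent.Helper5.Basic
import Cfsg.Agent.Helper5.Misc
import Cfsg.Agent.Helper5.Cores

/-!
helper6: centralizers modulo a normal subgroup `P` (`centMod P Z = {x | [x, Z] ≤ P}`).
-/

set_option autoImplicit false

namespace Cfsg.Agent.Helper6.TransFam

open Cfsg Cfsg.Agent.Helper5

variable {H : Type*} [Group H]

/-- The subgroup of elements commuting with `Z` modulo the normal subgroup `P`. -/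
def centMod (P Z : Subgroup H) [hP : P.Normal] : Subgroup H where
  carrier := {x | ∀ z ∈ Z, x * z * x⁻¹ * z⁻¹ ∈ P}
  one_mem' := by
    intro z _
    simp
  mul_mem' := by
    intro x y hx hy z hz
    have h1 : x * y * z * (x * y)⁻¹ * z⁻¹ = x * (y * z * y⁻¹ * z⁻¹) * x⁻¹ * (x * z * x⁻¹ * z⁻¹) := by
      group
    rw [h1]
    exact P.mul_mem (hP.conj_mem _ (hy z hz) x) (hx z hz)
  inv_mem' := by
    intro x hx z hz
    have h1 : x⁻¹ * z * x⁻¹⁻¹ * z⁻¹ = x⁻¹ * (x * z * x⁻¹ * z⁻¹)⁻¹ * x⁻¹⁻¹ := by group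
    rw [h1]
    exact hP.conj_mem _ (P.inv_mem (hx z hz)) x⁻¹

theorem mem_centMod_iff (P Z : Subgroup H) [P.Normal] (x : H) :
    x ∈ centMod P Z ↔ ∀ z ∈ Z, x * z * x⁻¹ * z⁻¹ ∈ P := Iff.rfl

theorem le_centMod_comm (P A B : Subgroup H) [hP : P.Normal] :
    A ≤ centMod P B ↔ B ≤ centMod P A := by
  have key : ∀ A B : Subgroup H, A ≤ centMod P B → B ≤ centMod P A := by
    intro A B h b hb a ha
    have h1 := h ha b hb
    have h2 : b * a * b⁻¹ * a⁻¹ = (a * b * a⁻¹ * b⁻¹)⁻¹ := by group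
    rw [h2]
    exact P.inv_mem h1
  exact ⟨key A B, key B A⟩

theorem centMod_anti (P : Subgroup H) [P.Normal] {A B : Subgroup H} (h : A ≤ B) :
    centMod P B ≤ centMod P A := fun _ hx z hz => hx z (h hz)

theorem le_centMod_of_le (P Z : Subgroup H) [hP : P.Normal] : P ≤ centMod P Z := by
  intro u hu z _
  have h1 : u * z * u⁻¹ * z⁻¹ = u * (z * u⁻¹ * z⁻¹) := by group
  rw [h1]
  exact P.mul_mem hu (hP.conj_mem _ (P.inv_mem hu) z)

theorem le_centMod_sup (P X A B : Subgroup H) [P.Normal] (hA : X ≤ centMod P A) (hB : X ≤ centMod P B) :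
    X ≤ centMod P (A ⊔ B) := by
  rw [le_centMod_comm] at hA hB ⊢
  exact sup_le hA hB

theorem le_centMod_sSup (P X : Subgroup H) [P.Normal] (𝒦 : Set (Subgroup H))
    (h : ∀ E ∈ 𝒦, X ≤ centMod P E) : X ≤ centMod P (sSup 𝒦) := by
  rw [le_centMod_comm]
  apply sSup_le
  intro E hE
  rw [le_centMod_comm]
  exact h E hE

theorem commutator_le_of_le_centMod (P A B : Subgroup H) [P.Normal] (h : A ≤ centMod P B) :
    ⁅A, B⁆ ≤ P := by
  rw [Subgroup.commutator_le]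
  intro a ha b hb
  have := h ha b hb
  rw [commutatorElement_def]
  exact this

theorem le_centMod_of_commutator_le (P A B : Subgroup H) [P.Normal] (h : ⁅A, B⁆ ≤ P) :
    A ≤ centMod P B := by
  intro a ha b hb
  have := (Subgroup.commutator_le.mp h) a ha b hb
  rw [commutatorElement_def] at this
  exact this

/-- Conjugation by an element commuting with `x` modulo `P`. -/
theorem conj_mem_sup_of_mem_centMod (P X Y Z : Subgroup H) [hP : P.Normal] (hY : Y ≤ centMod P Z)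
    (hXY : X ≤ Y) : Z ≤ Subgroup.normalizer ((X ⊔ P : Subgroup H) : Set H) := by
  have hPY : P ≤ centMod P Z := le_centMod_of_le P Z
  have hconj : ∀ z ∈ Z, ∀ x ∈ X ⊔ P, z * x * z⁻¹ ∈ X ⊔ P := by
    intro z hz x hx
    have hxc : x ∈ centMod P Z := (sup_le (hXY.trans hY) hPY) hx
    have h1 := hxc z hz
    have h2 : z * x * z⁻¹ = (x * z * x⁻¹ * z⁻¹)⁻¹ * x := by group
    rw [h2]
    exact Subgroup.mul_mem _ (Subgroup.mem_sup_right (P.inv_mem h1)) hx
  intro z hz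
  rw [Subgroup.mem_normalizer_iff]
  intro x
  constructor
  · exact hconj z hz x
  · intro h
    have := hconj z⁻¹ (Z.inv_mem hz) _ h
    have h3 : z⁻¹ * (z * x * z⁻¹) * z⁻¹⁻¹ = x := by group
    rwa [h3] at this

/-- A `p`-subgroup `X` of the subnormal subgroup `Z` with `X · P` normalized by `Z` lies in `O_p(H)`. -/
theorem le_pCore_of_subnormal_of_normalizes [Finite H] {p : ℕ} [Fact p.Prime] (Z X : Subgroup H)
    (hZ : Z.IsSubnormal) (hPZ : Cfsg.pCore p H ≤ Z) (hXZ : X ≤ Z) (hX : IsPGroup p ↥X)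
    (hn : Z ≤ Subgroup.normalizer ((X ⊔ Cfsg.pCore p H : Subgroup H) : Set H)) :
    X ≤ Cfsg.pCore p H := by
  have hle : X ⊔ Cfsg.pCore p H ≤ Z := sup_le hXZ hPZ
  have hsub : (X ⊔ Cfsg.pCore p H).IsSubnormal :=
    Subgroup.IsSubnormal.step _ Z hle hZ ((Subgroup.normal_subgroupOf_iff_le_normalizer hle).mpr hn)
  have hp : IsPGroup p ↥(X ⊔ Cfsg.pCore p H : Subgroup H) := hX.to_sup_of_normal_right (isPGroup_pCore p)
  exact le_sup_left.trans (Cfsg.Agent.Helper2.isSubnormal_pGroup_le_pCore hsub hp)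

/-- Combination: `p`-subgroups of `Y ≤ Z ∩ centMod P Z` lie in `P = O_p(H)` when `Z` is subnormal. -/
theorem le_pCore_of_le_centMod [Finite H] {p : ℕ} [Fact p.Prime] (Z Y X : Subgroup H)
    (hZ : Z.IsSubnormal) (hPZ : Cfsg.pCore p H ≤ Z) (hYZ : Y ≤ Z)
    (hYc : Y ≤ centMod (Cfsg.pCore p H) Z) (hXY : X ≤ Y) (hX : IsPGroup p ↥X) :
    X ≤ Cfsg.pCore p H :=
  le_pCore_of_subnormal_of_normalizes Z X hZ hPZ (hXY.trans hYZ) hX
    (conj_mem_sup_of_mem_centMod _ X Y Z hYc hXY)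

theorem centMod_normal (P Z : Subgroup H) [hP : P.Normal] [hZ : Z.Normal] : (centMod P Z).Normal := by
  constructor
  intro x hx g z hz
  have hz' : g⁻¹ * z * g⁻¹⁻¹ ∈ Z := hZ.conj_mem z hz g⁻¹
  have h1 := hx _ hz'
  have h2 : g * x * g⁻¹ * z * (g * x * g⁻¹)⁻¹ * z⁻¹ =
      g * (x * (g⁻¹ * z * g⁻¹⁻¹) * x⁻¹ * (g⁻¹ * z * g⁻¹⁻¹)⁻¹) * g⁻¹ := by group
  rw [h2]
  exact hP.conj_mem _ h1 g

end Cfsg.Agent.Helper6.TransFam
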