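import Mathlib
import Cfsg.Prelude.Def_LocalStructure
import Cfsg.Agent.Helper5.PResidual
import Cfsg.Agent.Helper6.TransFamE
import Cfsg.Agent.Helper6.TransFamF

/-!
helper6: the commutator map `e ↦ [a, e]` modulo `P` as a homomorphism into an abelian section, and its
triviality when `E / E'` is a `p`-group and the section has no `p`-elements.
-/

set_option autoImplicit false

namespace Cfsg.Agent.Helper6.TransFam

open Cfsg Cfsg.Agent.Helper5

variable {H : Type*} [Group H]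

/-- `⟨z⟩ P` is a `p`-group when `P` is a normal `p`-subgroup and `z ^ (p ^ k) ∈ P`. -/
theorem isPGroup_zpowers_sup {p : ℕ} [Fact p.Prime] (P : Subgroup H) [hPn : P.Normal] (hP : IsPGroup p ↥P)
    (z : H) (k : ℕ) (hz : z ^ (p ^ k) ∈ P) : IsPGroup p ↥(Subgroup.zpowers z ⊔ P : Subgroup H) := by
  set φ := QuotientGroup.mk' P with hφ
  have hφz : (φ z) ^ (p ^ k) = 1 := by
    rw [← map_pow, hφ, QuotientGroup.mk'_apply, QuotientGroup.eq_one_iff]
    exact hz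
  have h1 : IsPGroup p ↥(Subgroup.zpowers (φ z)) := by
    rintro ⟨g, hg⟩
    obtain ⟨i, rfl⟩ := Subgroup.mem_zpowers_iff.mp hg
    refine ⟨k, ?_⟩
    apply Subtype.ext
    rw [Subgroup.coe_pow, Subgroup.coe_one]
    show ((φ z) ^ i) ^ (p ^ k) = 1
    rw [← zpow_natCast, ← zpow_mul, mul_comm, zpow_mul, zpow_natCast, hφz, one_zpow]
  have hker : IsPGroup p ↥φ.ker := by
    rw [hφ, QuotientGroup.ker_mk']; exact hP
  have h2 := h1.comap_of_ker_isPGroup φ hker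
  refine h2.to_le (sup_le ?_ ?_)
  · rw [Subgroup.zpowers_le]
    exact Subgroup.mem_comap.mpr (Subgroup.mem_zpowers _)
  · intro u hu
    rw [Subgroup.mem_comap]
    have : φ u = 1 := by
      rw [hφ, QuotientGroup.mk'_apply, QuotientGroup.eq_one_iff]; exact hu
    rw [this]; exact Subgroup.one_mem _

/-- The commutator-homomorphism lemma. -/
theorem mem_centMod_of_commutator_hom [Finite H] {p : ℕ} [Fact p.Prime] (P E Z : Subgroup H) [hPn : P.Normal]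
    (hP : IsPGroup p ↥P) (hPZ : P ≤ Z) (a : H)
    (h1 : ∀ e ∈ E, a * e * a⁻¹ * e⁻¹ ∈ Z)
    (h2 : Z ≤ centMod P E)
    (h3 : Z ≤ centMod P Z)
    (h4 : Cfsg.pResidual p ↥E ≤ commutator ↥E)
    (h5 : ∀ X : Subgroup H, X ≤ Z → IsPGroup p ↥X → X ≤ P) :
    a ∈ centMod P E := by
  classical
  set φ := QuotientGroup.mk' P with hφ
  have hφ1 : ∀ x : H, φ x = 1 ↔ x ∈ P := by
    intro x
    rw [hφ, QuotientGroup.mk'_apply, QuotientGroup.eq_one_iff]
  -- commutation in the quotient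
  have hcomm : ∀ x y : H, x * y * x⁻¹ * y⁻¹ ∈ P → φ x * φ y = φ y * φ x := by
    intro x y hxy
    have := (hφ1 _).mpr hxy
    rw [map_mul, map_mul, map_mul, map_inv, map_inv] at this
    calc φ x * φ y = (φ x * φ y * (φ x)⁻¹ * (φ y)⁻¹) * (φ y * φ x) := by group
      _ = φ y * φ x := by rw [this, one_mul]
  let f : ↥E → H ⧸ P := fun e => φ (a * (e : H) * a⁻¹ * (e : H)⁻¹)
  have hf_mul : ∀ e₁ e₂ : ↥E, f (e₁ * e₂) = f e₁ * f e₂ := by
    intro e₁ e₂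
    have hc : φ (a * (e₂ : H) * a⁻¹ * (e₂ : H)⁻¹) * φ (e₁ : H) = φ (e₁ : H) * φ (a * (e₂ : H) * a⁻¹ * (e₂ : H)⁻¹) :=
      hcomm _ _ (h2 (h1 e₂ e₂.2) e₁ e₁.2)
    show φ (a * ((e₁ * e₂ : ↥E) : H) * a⁻¹ * ((e₁ * e₂ : ↥E) : H)⁻¹) = _
    rw [Subgroup.coe_mul]
    have hid : a * ((e₁ : H) * (e₂ : H)) * a⁻¹ * ((e₁ : H) * (e₂ : H))⁻¹ =
        (a * (e₁ : H) * a⁻¹ * (e₁ : H)⁻¹) * ((e₁ : H) * (a * (e₂ : H) * a⁻¹ * (e₂ : H)⁻¹) * (e₁ : H)⁻¹) := by
      group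
    rw [hid]
    set A := a * (e₁ : H) * a⁻¹ * (e₁ : H)⁻¹ with hA
    set W := a * (e₂ : H) * a⁻¹ * (e₂ : H)⁻¹ with hW
    have h7 : φ ((e₁ : H) * W * (e₁ : H)⁻¹) = φ W := by
      rw [map_mul, map_mul, map_inv, ← hc]
      group
    show φ (A * ((e₁ : H) * W * (e₁ : H)⁻¹)) = φ A * φ W
    rw [map_mul, h7]
  let ψ : ↥E →* H ⧸ P := MonoidHom.mk' f hf_mul
  have hψ : ∀ e : ↥E, ψ e = φ (a * (e : H) * a⁻¹ * (e : H)⁻¹) := fun e => rfl
  -- the image is commutative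
  have himg : ∀ e₁ e₂ : ↥E, ψ e₁ * ψ e₂ = ψ e₂ * ψ e₁ := by
    intro e₁ e₂
    rw [hψ, hψ]
    exact hcomm _ _ (h3 (h1 e₁ e₁.2) _ (h1 e₂ e₂.2))
  have hcommker : commutator ↥E ≤ ψ.ker := by
    rw [commutator_def, Subgroup.commutator_le]
    intro g₁ _ g₂ _
    rw [MonoidHom.mem_ker, map_commutatorElement, commutatorElement_eq_one_iff_mul_comm]
    exact himg g₁ g₂
  -- `p`-elements are in the kernel
  have hpker : ∀ t : ↥E, (∃ k : ℕ, t ^ (p ^ k) = 1) → t ∈ ψ.ker := by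
    rintro t ⟨k, hk⟩
    rw [MonoidHom.mem_ker]
    have h6 : (ψ t) ^ (p ^ k) = 1 := by rw [← map_pow, hk, map_one]
    rw [hψ] at h6 ⊢
    set z := a * (t : H) * a⁻¹ * (t : H)⁻¹ with hz
    have hzZ : z ∈ Z := h1 t t.2
    have hzk : z ^ (p ^ k) ∈ P := by
      rw [← hφ1, map_pow]; exact h6
    have hX := isPGroup_zpowers_sup P hP z k hzk
    have hXZ : Subgroup.zpowers z ⊔ P ≤ Z := sup_le (by rw [Subgroup.zpowers_le]; exact hzZ) hPZ
    have := h5 _ hXZ hX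
    rw [hφ1]
    exact this (Subgroup.mem_sup_left (Subgroup.mem_zpowers z))
  obtain ⟨S⟩ : Nonempty (Sylow p ↥E) := inferInstance
  have hS : (S : Subgroup ↥E) ≤ ψ.ker := by
    intro t ht
    apply hpker
    obtain ⟨k, hk⟩ := S.2 ⟨t, ht⟩
    refine ⟨k, ?_⟩
    have := congrArg Subtype.val hk
    simpa using this
  have htop : ψ.ker = ⊤ := by
    apply le_antisymm le_top
    rw [← pResidual_sup_sylow S]
    exact sup_le (h4.trans hcommker) hS
  intro e he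
  have hmem : (⟨e, he⟩ : ↥E) ∈ ψ.ker := by rw [htop]; trivial
  rw [MonoidHom.mem_ker, hψ, hφ1] at hmem
  exact hmem

end Cfsg.Agent.Helper6.TransFam
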