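import Mathlib
import Cfsg.Prelude.Def_LocalStructure
import Cfsg.Agent.Helper5.CharP2
import Cfsg.Agent.S2827
import Cfsg.Agent.S2829
import Cfsg.Agent.Helper6.TransFamD
import Cfsg.Agent.Helper6.TransFamG

/-!
helper6: strong `p`-irreducibility of `E` in relative form for `E · O_p(H)`.
-/

set_option autoImplicit false

namespace Cfsg.Agent.Helper6.TransFam

open Cfsg Cfsg.Agent.Helper5
open scoped commutatorElement

variable {H : Type*} [Group H]

/-- Any subgroup containing the normal subgroup `P` is normalized by `P`. -/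
theorem le_normalizer_of_normal_le (P X : Subgroup H) [hP : P.Normal] (hPX : P ≤ X) :
    P ≤ Subgroup.normalizer (X : Set H) := by
  have hconj : ∀ u ∈ P, ∀ x ∈ X, u * x * u⁻¹ ∈ X := by
    intro u hu x hx
    have h1 : u * x * u⁻¹ = u * (x * u⁻¹ * x⁻¹) * x := by group
    rw [h1]
    exact X.mul_mem (hPX (P.mul_mem hu (hP.conj_mem _ (P.inv_mem hu) x))) hx
  intro u hu
  rw [Subgroup.mem_normalizer_iff]
  intro x
  constructor
  · exact hconj u hu x
  · intro h
    have := hconj u⁻¹ (P.inv_mem hu) _ h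
    have h3 : u⁻¹ * (u * x * u⁻¹) * u⁻¹⁻¹ = x := by group
    rwa [h3] at this

/-- `O_p(E) ≤ O_p(H)` when `E · O_p(H)` is subnormal. -/
theorem pCoreOf_le_pCore_of_sup_subnormal [Finite H] {p : ℕ} [Fact p.Prime] (E : Subgroup H)
    (hsub : (E ⊔ Cfsg.pCore p H).IsSubnormal) : Cfsg.pCoreOf p E ≤ Cfsg.pCore p H := by
  set P := Cfsg.pCore p H with hP
  set O := Cfsg.pCoreOf p E with hO
  have hOE : O ≤ E := pCore_map_subtype_le p E
  apply le_pCore_of_subnormal_of_normalizes (E ⊔ P) O hsub le_sup_right (hOE.trans le_sup_left)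
    (isPGroup_pCore_map_subtype p E)
  apply sup_le
  · intro e he
    have h1 : e ∈ Subgroup.normalizer (O : Set H) := le_normalizer_pCore_map_subtype p E he
    have h2 : e ∈ Subgroup.normalizer (P : Set H) := by rw [Subgroup.normalizer_eq_top]; trivial
    rw [mem_normalizer_iff_map_conj] at h1 h2 ⊢
    rw [Subgroup.map_sup, h1, h2]
  · exact le_normalizer_of_normal_le P (O ⊔ P) le_sup_right

theorem map_subtype_commutator_top (E : Subgroup H) : (commutator ↥E).map E.subtype = ⁅E, E⁆ := by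
  rw [commutator_def, Subgroup.map_commutator, ← MonoidHom.range_eq_map, Subgroup.range_subtype]

theorem commutator_self_le (E : Subgroup H) : ⁅E, E⁆ ≤ E := by
  rw [Subgroup.commutator_le]
  intro a ha b hb
  rw [commutatorElement_def]
  exact E.mul_mem (E.mul_mem (E.mul_mem ha hb) (E.inv_mem ha)) (E.inv_mem hb)

theorem le_normalizer_commutator_self [Finite H] (E : Subgroup H) :
    E ≤ Subgroup.normalizer ((⁅E, E⁆ : Subgroup H) : Set H) := by
  intro e he
  rw [mem_normalizer_iff_map_conj, Subgroup.map_commutator, map_conj_eq_self_of_mem E e he]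

/-- Relative strong irreducibility of `E · P` for normal subgroups containing `P`. -/
theorem resOf_le_or_le_centMod [Finite H] {p : ℕ} [Fact p.Prime] (E : Subgroup H)
    (hE : Cfsg.IsStronglyPIrreducible p ↥E)
    (hsub : (E ⊔ Cfsg.pCore p H).IsSubnormal) (T : Sylow p H)
    (S : Sylow p ↥E) (hS : (S : Subgroup ↥E) = ((T : Subgroup H) ⊓ E).subgroupOf E)
    (N : Subgroup H) (hPN : Cfsg.pCore p H ≤ N) (hNE : N ≤ E ⊔ Cfsg.pCore p H)
    (hEN : E ⊔ Cfsg.pCore p H ≤ Subgroup.normalizer (N : Set H)) :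
    resOf p (E ⊔ Cfsg.pCore p H) ≤ N ∨ N ≤ centMod (Cfsg.pCore p H) (E ⊔ Cfsg.pCore p H) := by
  classical
  set P := Cfsg.pCore p H with hP
  have hPT : P ≤ (T : Subgroup H) := pCore_le_sylow T
  set N₁ := N ⊓ E with hN₁
  have hEN₁ : E ≤ Subgroup.normalizer (N₁ : Set H) := by
    intro e he
    exact mem_normalizer_inf N E e (hEN (Subgroup.mem_sup_left he)) (Subgroup.le_normalizer he)
  have hn : (N₁.subgroupOf E).Normal :=
    (Subgroup.normal_subgroupOf_iff_le_normalizer inf_le_right).mpr hEN₁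
  by_cases hc : ⁅N₁.subgroupOf E, (⊤ : Subgroup ↥E)⁆ ≤ Cfsg.pCore p ↥E
  · right
    have hOP : Cfsg.pCoreOf p E ≤ P := pCoreOf_le_pCore_of_sup_subnormal E hsub
    have h1 : N₁ ≤ centMod P E := by
      intro n hn' e he
      have h2 : ⁅(⟨n, hn'.2⟩ : ↥E), (⟨e, he⟩ : ↥E)⁆ ∈ Cfsg.pCore p ↥E :=
        hc (Subgroup.commutator_mem_commutator (Subgroup.mem_subgroupOf.mpr hn') (Subgroup.mem_top _))
      have h3 : E.subtype ⁅(⟨n, hn'.2⟩ : ↥E), (⟨e, he⟩ : ↥E)⁆ ∈ Cfsg.pCoreOf p E := ⟨_, h2, rfl⟩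
      rw [map_commutatorElement, commutatorElement_def] at h3
      exact hOP h3
    have h2 : N₁ ≤ centMod P P := by
      rw [le_centMod_comm]; exact le_centMod_of_le P N₁
    have h3 : N = P ⊔ N₁ := by
      have := dedekind_left N P E hPN
      rw [sup_comm P E, inf_eq_left.mpr hNE] at this
      exact this
    rw [h3]
    exact sup_le (le_centMod_of_le P _) (le_centMod_sup P N₁ E P h1 h2)
  · left
    have h1 : Cfsg.pResidual p ↥E ≤ N₁.subgroupOf E := hE.2 _ hn hc
    have h2 : resOf p E ≤ N := by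
      rintro _ ⟨x, hx, rfl⟩
      exact (Subgroup.mem_subgroupOf.mp (h1 hx)).1
    obtain ⟨S', hS'⟩ := Cfsg.Agent.Helper1.sylow_inf_subnormal p (E ⊔ P) hsub T
    have hS'' : (S' : Subgroup ↥(E ⊔ P)) = ((T : Subgroup H) ⊓ (E ⊔ P)).subgroupOf (E ⊔ P) := by
      rw [hS']
      ext x
      simp only [Subgroup.mem_subgroupOf, Subgroup.mem_inf]
      exact ⟨fun h => ⟨h, x.2⟩, fun h => h.1⟩
    apply resOf_le_of_le_sup (E ⊔ P) N ((T : Subgroup H) ⊓ (E ⊔ P)) hNE hEN inf_le_right S' hS''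
    apply sup_le
    · refine (le_resOf_sup_sylow E _ inf_le_right S hS).trans (sup_le (h2.trans le_sup_left) ?_)
      exact (inf_le_inf_left _ le_sup_left).trans le_sup_right
    · exact hPN.trans le_sup_left

/-- `O^p(E P) ≤ (E P)'` when `E` is strongly `p`-irreducible. -/
theorem pResidual_le_commutator_sup [Finite H] {p : ℕ} [Fact p.Prime] (E : Subgroup H)
    (hE : Cfsg.IsStronglyPIrreducible p ↥E)
    (hsub : (E ⊔ Cfsg.pCore p H).IsSubnormal) (T : Sylow p H)
    (S : Sylow p ↥E) (hS : (S : Subgroup ↥E) = ((T : Subgroup H) ⊓ E).subgroupOf E) :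
    Cfsg.pResidual p ↥(E ⊔ Cfsg.pCore p H) ≤ commutator ↥(E ⊔ Cfsg.pCore p H) := by
  classical
  set P := Cfsg.pCore p H with hP
  have hPT : P ≤ (T : Subgroup H) := pCore_le_sylow T
  have h0 : Cfsg.pResidual p ↥E ≤ commutator ↥E :=
    (Cfsg.Agent.S2827.result (Cfsg.Agent.S2829.result hE) S).2.2.1
  have h1 : resOf p E ≤ ⁅E, E⁆ := by
    rw [← map_subtype_commutator_top]
    exact Subgroup.map_mono h0
  obtain ⟨S', hS'⟩ := Cfsg.Agent.Helper1.sylow_inf_subnormal p (E ⊔ P) hsub T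
  have hS'' : (S' : Subgroup ↥(E ⊔ P)) = ((T : Subgroup H) ⊓ (E ⊔ P)).subgroupOf (E ⊔ P) := by
    rw [hS']
    ext x
    simp only [Subgroup.mem_subgroupOf, Subgroup.mem_inf]
    exact ⟨fun h => ⟨h, x.2⟩, fun h => h.1⟩
  have h2 : resOf p (E ⊔ P) ≤ ⁅E ⊔ P, E ⊔ P⁆ := by
    apply resOf_le_of_le_sup (E ⊔ P) _ ((T : Subgroup H) ⊓ (E ⊔ P))
      (commutator_self_le _) (le_normalizer_commutator_self _) inf_le_right S' hS''
    apply sup_le
    · refine (le_resOf_sup_sylow E _ inf_le_right S hS).trans (sup_le ?_ ?_)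
      · exact (h1.trans (Subgroup.commutator_mono le_sup_left le_sup_left)).trans le_sup_left
      · exact (inf_le_inf_left _ le_sup_left).trans le_sup_right
    · exact (le_inf hPT le_sup_right).trans le_sup_right
  rw [← map_subtype_commutator_top] at h2
  exact (Subgroup.map_le_map_iff_of_injective (E ⊔ P).subtype_injective).mp h2

end Cfsg.Agent.Helper6.TransFam
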