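import Mathlib
import Cfsg.Prelude.Def_LocalStructure
import Cfsg.Agent.Helper5.PClosedQuot
import Cfsg.Agent.Helper6.TransFamH

/-!
helper6: `p`-irreducibility of a group generated modulo a `p`-group by a transitive family of normal
subgroups of `R` containing `O_p(H)`, each strongly `p`-irreducible (relative form).
-/

set_option autoImplicit false

namespace Cfsg.Agent.Helper6.TransFam

open Cfsg Cfsg.Agent.Helper5

variable {H : Type*} [Group H]

theorem family_sup_sylow [Finite H] {p : ℕ} [Fact p.Prime] (𝒦 : Set (Subgroup H))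
    (hres : Cfsg.pResidual p H ≤ sSup 𝒦) (T : Sylow p H) : sSup 𝒦 ⊔ (T : Subgroup H) = ⊤ := by
  apply le_antisymm le_top
  rw [← pResidual_sup_sylow T]
  exact sup_le_sup_right hres _

theorem family_decomp [Finite H] {p : ℕ} [Fact p.Prime] (𝒦 : Set (Subgroup H))
    (hinv : ∀ h : H, ∀ E ∈ 𝒦, E.map (MulAut.conj h).toMonoidHom ∈ 𝒦)
    (hres : Cfsg.pResidual p H ≤ sSup 𝒦) (T : Sylow p H) (h : H) :
    ∃ t ∈ (T : Subgroup H), ∃ r ∈ sSup 𝒦, h = t * r := by
  haveI : (sSup 𝒦).Normal := sSup_normal 𝒦 hinv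
  have hh : h ∈ (T : Subgroup H) ⊔ sSup 𝒦 := by rw [sup_comm, family_sup_sylow 𝒦 hres T]; trivial
  obtain ⟨t, ht, r, hr, rfl⟩ := Subgroup.mem_sup_of_normal_right.mp hh
  exact ⟨t, ht, r, hr, rfl⟩

theorem family_sylow_transitive [Finite H] {p : ℕ} [Fact p.Prime] (𝒦 : Set (Subgroup H))
    (hinv : ∀ h : H, ∀ E ∈ 𝒦, E.map (MulAut.conj h).toMonoidHom ∈ 𝒦)
    (htr : ∀ E ∈ 𝒦, ∀ K ∈ 𝒦, ∃ h : H, K = E.map (MulAut.conj h).toMonoidHom)
    (hres : Cfsg.pResidual p H ≤ sSup 𝒦)
    (hnormal : ∀ E ∈ 𝒦, sSup 𝒦 ≤ Subgroup.normalizer (E : Set H)) (T : Sylow p H) :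
    ∀ E ∈ 𝒦, ∀ K ∈ 𝒦, ∃ t ∈ (T : Subgroup H), K = E.map (MulAut.conj t).toMonoidHom := by
  intro E hE K hK
  obtain ⟨h, rfl⟩ := htr E hE K hK
  obtain ⟨t, ht, r, hr, rfl⟩ := family_decomp 𝒦 hinv hres T h
  refine ⟨t, ht, ?_⟩
  rw [← map_conj_map_conj, (mem_normalizer_iff_map_conj E r).mp (hnormal E hE hr)]

theorem family_subnormal (𝒦 : Set (Subgroup H))
    (hinv : ∀ h : H, ∀ E ∈ 𝒦, E.map (MulAut.conj h).toMonoidHom ∈ 𝒦)
    (hnormal : ∀ E ∈ 𝒦, sSup 𝒦 ≤ Subgroup.normalizer (E : Set H)) :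
    ∀ E ∈ 𝒦, E.IsSubnormal := by
  intro E hE
  haveI : (sSup 𝒦).Normal := sSup_normal 𝒦 hinv
  have hle : E ≤ sSup 𝒦 := le_sSup hE
  exact Subgroup.IsSubnormal.step E _ hle (Subgroup.Normal.isSubnormal inferInstance)
    ((Subgroup.normal_subgroupOf_iff_le_normalizer hle).mpr (hnormal E hE))

theorem sylow_of_subnormal [Finite H] {p : ℕ} [Fact p.Prime] (T : Sylow p H) (E : Subgroup H)
    (hsub : E.IsSubnormal) :
    ∃ S : Sylow p ↥E, (S : Subgroup ↥E) = ((T : Subgroup H) ⊓ E).subgroupOf E := by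
  obtain ⟨S', hS'⟩ := Cfsg.Agent.Helper1.sylow_inf_subnormal p E hsub T
  refine ⟨S', ?_⟩
  rw [hS']
  ext x
  simp only [Subgroup.mem_subgroupOf, Subgroup.mem_inf]
  exact ⟨fun h => ⟨h, x.2⟩, fun h => h.1⟩

/-- Core theorem for `p`-irreducibility. -/
theorem pIrreducible_core [Finite H] {p : ℕ} [Fact p.Prime] (𝒦 : Set (Subgroup H)) (hne : 𝒦.Nonempty)
    (hinv : ∀ h : H, ∀ E ∈ 𝒦, E.map (MulAut.conj h).toMonoidHom ∈ 𝒦)
    (htr : ∀ E ∈ 𝒦, ∀ K ∈ 𝒦, ∃ h : H, K = E.map (MulAut.conj h).toMonoidHom)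
    (hres : Cfsg.pResidual p H ≤ sSup 𝒦)
    (hnormal : ∀ E ∈ 𝒦, sSup 𝒦 ≤ Subgroup.normalizer (E : Set H))
    (hPE : ∀ E ∈ 𝒦, Cfsg.pCore p H ≤ E)
    (hR2 : ∀ E ∈ 𝒦, ∀ N : Subgroup H, Cfsg.pCore p H ≤ N → N ≤ E →
      E ≤ Subgroup.normalizer (N : Set H) → resOf p E ≤ N ∨ N ≤ centMod (Cfsg.pCore p H) E)
    (hR3 : ∀ E ∈ 𝒦, Cfsg.pResidual p ↥E ≤ commutator ↥E) :
    (∀ N : Subgroup H, N.Normal → ¬ Cfsg.IsPClosed p ↥N → Cfsg.pResidual p H ≤ N) ∧
    (∀ E ∈ 𝒦, ∀ K ∈ 𝒦, resOf p E = resOf p K ∨ E ≤ centMod (Cfsg.pCore p H) K) := by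
  classical
  set P := Cfsg.pCore p H with hP
  have hPp : IsPGroup p ↥P := isPGroup_pCore p
  set R := sSup 𝒦 with hR
  haveI hRn : R.Normal := sSup_normal 𝒦 hinv
  have hsubE : ∀ E ∈ 𝒦, E.IsSubnormal := family_subnormal 𝒦 hinv hnormal
  obtain ⟨E₀, hE₀⟩ := hne
  have hPR : P ≤ R := (hPE E₀ hE₀).trans (le_sSup hE₀)
  obtain ⟨T⟩ : Nonempty (Sylow p H) := inferInstance
  have hPT : P ≤ (T : Subgroup H) := pCore_le_sylow T
  have hRT : R ⊔ (T : Subgroup H) = ⊤ := family_sup_sylow 𝒦 hres T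
  have hTtr := family_sylow_transitive 𝒦 hinv htr hres hnormal T
  refine ⟨?_, ?_⟩
  · intro N hNn hnp
    set Nh := N ⊔ P with hNh
    haveI hNhn : Nh.Normal := Subgroup.sup_normal N P
    have hPNh : P ≤ Nh := le_sup_right
    by_cases hall : ∀ E ∈ 𝒦, Nh ⊓ E ≤ centMod P E
    · -- Case 1: `N` is `p`-closed, a contradiction
      exfalso
      apply hnp
      set A := Nh ⊓ R with hA
      haveI hAn : A.Normal := Subgroup.normal_inf_normal Nh R
      have hPA : P ≤ A := le_inf hPNh hPR
      -- Step 1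
      have hstep1 : ∀ E ∈ 𝒦, A ≤ centMod P E := by
        intro E hE a ha
        apply mem_centMod_of_commutator_hom P E (Nh ⊓ E) hPp (le_inf hPNh (hPE E hE)) a
        · intro e he
          refine ⟨?_, ?_⟩
          · have h1 : a * e * a⁻¹ * e⁻¹ = a * (e * a⁻¹ * e⁻¹) := by group
            rw [h1]
            exact Nh.mul_mem ha.1 (hNhn.conj_mem _ (Nh.inv_mem ha.1) e)
          · have h1 := (Subgroup.mem_normalizer_iff.mp (hnormal E hE ha.2) e).mp he
            exact E.mul_mem h1 (E.inv_mem he)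
        · exact hall E hE
        · exact (hall E hE).trans (centMod_anti P inf_le_right)
        · exact hR3 E hE
        · intro X hXZ hX
          exact le_pCore_of_le_centMod E (Nh ⊓ E) X (hsubE E hE) (hPE E hE) inf_le_right (hall E hE)
            hXZ hX
      have hAR : A ≤ centMod P R := le_centMod_sSup P A 𝒦 hstep1
      have hAA : A ≤ centMod P A := hAR.trans (centMod_anti P inf_le_right)
      -- Step 2
      have hstep2 : ∀ X : Subgroup H, X ≤ A → IsPGroup p ↥X → X ≤ P := by
        intro X hXA hX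
        exact le_pCore_of_le_centMod A A X (Subgroup.Normal.isSubnormal hAn) hPA le_rfl hAA hXA hX
      -- Step 3
      set S := (T : Subgroup H) ⊓ Nh with hS
      have hstep3 : S ≤ centMod P R := by
        apply le_centMod_sSup P S 𝒦
        intro E hE s hs
        apply mem_centMod_of_commutator_hom P E A hPp hPA s
        · intro e he
          refine ⟨?_, ?_⟩
          · have h1 : s * e * s⁻¹ * e⁻¹ = s * (e * s⁻¹ * e⁻¹) := by group
            rw [h1]
            exact Nh.mul_mem hs.2 (hNhn.conj_mem _ (Nh.inv_mem hs.2) e)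
          · have heR : e ∈ R := le_sSup hE he
            exact R.mul_mem (hRn.conj_mem e heR s) (R.inv_mem heR)
        · exact hstep1 E hE
        · exact hAA
        · exact hR3 E hE
        · exact hstep2
      -- Step 4
      set C := centMod P R ⊓ Nh with hC
      haveI hCMn : (centMod P R).Normal := centMod_normal P R
      haveI hCn : C.Normal := Subgroup.normal_inf_normal _ Nh
      have hSC : S ≤ C := le_inf hstep3 inf_le_right
      have hTC : (T : Subgroup H) ⊓ C = S := by
        apply le_antisymm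
        · exact le_inf inf_le_left (inf_le_right.trans inf_le_right)
        · exact le_inf inf_le_left hSC
      obtain ⟨SC, hSCeq⟩ := sylow_of_subnormal T C (Subgroup.Normal.isSubnormal hCn)
      rw [hTC] at hSCeq
      have hPS : P ≤ S := le_inf hPT hPNh
      have hCS : C ≤ Subgroup.normalizer (S : Set H) := by
        apply le_normalizer_of_coprime_normalize C S hSC SC hSCeq
        intro g _ hgc
        have hgR : g ∈ R := hres (mem_pResidual_of_coprime hgc)
        apply mem_normalizer_of_conj_mem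
        intro s hs
        have h1 := hstep3 (S.inv_mem hs) g hgR
        have h2 : g * s * g⁻¹ = s * (s⁻¹ * g * s⁻¹⁻¹ * g⁻¹) := by group
        rw [h2]
        exact S.mul_mem hs (hPS h1)
      have hSP : S ≤ P := by
        apply le_pCore_of_subnormal_of_normalizes C S (Subgroup.Normal.isSubnormal hCn)
          (le_inf (le_centMod_of_le P R) hPNh) hSC (T.2.to_le inf_le_left)
        rw [sup_eq_left.mpr hPS]
        exact hCS
      -- Step 5
      apply isPClosed_of_pClosedSub
      refine ⟨P ⊓ N, inf_le_right, hPp.to_le inf_le_left, ?_, ?_⟩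
      · haveI : (P ⊓ N).Normal := Subgroup.normal_inf_normal P N
        rw [Subgroup.normalizer_eq_top]
        exact le_top
      · intro Y hYN hY
        refine le_inf ?_ hYN
        obtain ⟨k, hk⟩ := exists_conj_le_sylow T Y hY
        intro y hy
        have h1 : k * y * k⁻¹ ∈ S :=
          ⟨hk y hy, hNhn.conj_mem y (le_sup_left (a := N) (b := P) (hYN hy)) k⟩
        have h2 := (inferInstance : P.Normal).conj_mem _ (hSP h1) k⁻¹
        have h3 : k⁻¹ * (k * y * k⁻¹) * k⁻¹⁻¹ = y := by group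
        rwa [h3] at h2
    · -- Case 2
      have hall' : ∃ E, E ∈ 𝒦 ∧ ¬ Nh ⊓ E ≤ centMod P E := by
        by_contra hcon
        apply hall
        intro E hE
        by_contra h
        exact hcon ⟨E, hE, h⟩
      obtain ⟨E, hE, hnot⟩ := hall'
      have hEn : E ≤ Subgroup.normalizer ((Nh ⊓ E : Subgroup H) : Set H) := by
        intro e he
        exact mem_normalizer_inf Nh E e (by rw [Subgroup.normalizer_eq_top]; trivial)
          (Subgroup.le_normalizer he)
      have h1 : resOf p E ≤ Nh ⊓ E :=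
        (hR2 E hE (Nh ⊓ E) (le_inf hPNh (hPE E hE)) inf_le_right hEn).resolve_right hnot
      obtain ⟨SE, hSE⟩ := sylow_of_subnormal T E (hsubE E hE)
      have h2 : E ≤ N ⊔ (T : Subgroup H) := by
        refine (le_resOf_sup_sylow E _ inf_le_right SE hSE).trans (sup_le ?_ (inf_le_left.trans le_sup_right))
        exact (h1.trans inf_le_left).trans (sup_le le_sup_left (hPT.trans le_sup_right))
      have h3 : R ≤ N ⊔ (T : Subgroup H) := by
        apply sSup_le
        intro K hK
        obtain ⟨t, ht, rfl⟩ := hTtr E hE K hK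
        rw [map_conj_le_iff]
        intro x hx
        have htm : t ∈ N ⊔ (T : Subgroup H) := Subgroup.mem_sup_right ht
        exact Subgroup.mul_mem _ (Subgroup.mul_mem _ htm (h2 hx)) (Subgroup.inv_mem _ htm)
      have h4 : N ⊔ (T : Subgroup H) = ⊤ := by
        apply le_antisymm le_top
        rw [← hRT]
        exact sup_le h3 le_sup_right
      exact pResidual_le_of_sup_sylow_eq_top T N h4
  · intro E hE K hK
    set Z := E ⊓ K with hZ
    have hPZ : P ≤ Z := le_inf (hPE E hE) (hPE K hK)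
    have hEZ : E ≤ Subgroup.normalizer (Z : Set H) := by
      intro e he
      exact mem_normalizer_inf E K e (Subgroup.le_normalizer he) (hnormal K hK (le_sSup hE he))
    have hKZ : K ≤ Subgroup.normalizer (Z : Set H) := by
      intro k hk
      exact mem_normalizer_inf E K k (hnormal E hE (le_sSup hK hk)) (Subgroup.le_normalizer hk)
    have hcard : Nat.card ↥(resOf p K) = Nat.card ↥(resOf p E) := by
      obtain ⟨h, rfl⟩ := htr E hE K hK
      exact card_resOf_map_conj p E h
    rcases hR2 E hE Z hPZ inf_le_left hEZ with h1 | h1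
    · left
      have h2 : resOf p E ≤ resOf p K := resOf_le_resOf_of_le p (h1.trans inf_le_right)
      exact Subgroup.eq_of_le_of_card_ge h2 hcard.le
    · rcases hR2 K hK Z hPZ inf_le_right hKZ with h2 | h2
      · left
        have h3 : resOf p K ≤ resOf p E := resOf_le_resOf_of_le p (h2.trans inf_le_left)
        exact (Subgroup.eq_of_le_of_card_ge h3 hcard.ge).symm
      · right
        rw [le_centMod_comm]
        intro k hk
        apply mem_centMod_of_commutator_hom P E Z hPp hPZ k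
        · intro e he
          refine ⟨?_, ?_⟩
          · have h3 := (Subgroup.mem_normalizer_iff.mp (hnormal E hE (le_sSup hK hk)) e).mp he
            exact E.mul_mem h3 (E.inv_mem he)
          · have h3 := (Subgroup.mem_normalizer_iff.mp (hnormal K hK (le_sSup hE he)) k⁻¹).mp (K.inv_mem hk)
            have h4 : k * e * k⁻¹ * e⁻¹ = k * (e * k⁻¹ * e⁻¹) := by group
            rw [h4]
            exact K.mul_mem hk h3
        · exact h1
        · exact h1.trans (centMod_anti P inf_le_left)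
        · exact hR3 E hE
        · intro X hXZ hX
          exact le_pCore_of_le_centMod E Z X (hsubE E hE) (hPE E hE) inf_le_left h1 hXZ hX

end Cfsg.Agent.Helper6.TransFam
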