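import Mathlib
import Cfsg.Prelude.Def_LocalStructure
import Cfsg.Agent.Helper5.PIrreducible
import Cfsg.Agent.Helper6.TransFamI

/-!
helper6: `p`-irreducibility of `H` from a transitive family of strongly `p`-irreducible subgroups.
-/

set_option autoImplicit false

namespace Cfsg.Agent.Helper6.TransFam

open Cfsg Cfsg.Agent.Helper5

variable {H : Type*} [Group H]

theorem pIrreducible_of_family [Finite H] {p : ℕ} [Fact p.Prime] (𝒦 : Set (Subgroup H)) (hne : 𝒦.Nonempty)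
    (hinv : ∀ h : H, ∀ E ∈ 𝒦, E.map (MulAut.conj h).toMonoidHom ∈ 𝒦)
    (htr : ∀ E ∈ 𝒦, ∀ K ∈ 𝒦, ∃ h : H, K = E.map (MulAut.conj h).toMonoidHom)
    (hres : Cfsg.pResidual p H ≤ sSup 𝒦)
    (hnorm : ∀ E ∈ 𝒦, sSup 𝒦 ⊔ Cfsg.pCore p H ≤
      Subgroup.normalizer ((E ⊔ Cfsg.pCore p H : Subgroup H) : Set H))
    (hirr : ∀ E ∈ 𝒦, Cfsg.IsStronglyPIrreducible p ↥E) :
    Cfsg.IsPIrreducible p H ∧ ∀ E ∈ 𝒦, ∀ K ∈ 𝒦,
      resOf p (E ⊔ Cfsg.pCore p H) = resOf p (K ⊔ Cfsg.pCore p H) ∨ ⁅E, K⁆ ≤ Cfsg.pCore p H := by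
  classical
  set P := Cfsg.pCore p H with hP
  obtain ⟨T⟩ : Nonempty (Sylow p H) := inferInstance
  have hsub := supFam_subnormal P hinv hnorm
  have core := pIrreducible_core (supFam 𝒦 P) (supFam_nonempty hne P) (supFam_inv P hinv)
    (supFam_tr P htr) (hres.trans (le_sSup_supFam 𝒦 P)) (supFam_normal P hnorm)
    (by rintro _ ⟨E, _, rfl⟩; exact le_sup_right)
    (by
      rintro _ ⟨E, hE, rfl⟩ N hPN hNE hEN
      obtain ⟨S, hS⟩ := exists_sylow_inf_of_family hinv hnorm T E hE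
      exact resOf_le_or_le_centMod E (hirr E hE) (hsub _ ⟨E, hE, rfl⟩) T S hS N hPN hNE hEN)
    (by
      rintro _ ⟨E, hE, rfl⟩
      obtain ⟨S, hS⟩ := exists_sylow_inf_of_family hinv hnorm T E hE
      exact pResidual_le_commutator_sup E (hirr E hE) (hsub _ ⟨E, hE, rfl⟩) T S hS)
  refine ⟨⟨?_, core.1⟩, ?_⟩
  · intro hcl
    obtain ⟨E, hE⟩ := hne
    apply (hirr E hE).1
    apply isPClosed_of_pClosedSub
    refine ⟨P ⊓ E, inf_le_right, (isPGroup_pCore p).to_le inf_le_left, ?_, ?_⟩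
    · intro e he
      exact mem_normalizer_inf P E e (by rw [Subgroup.normalizer_eq_top]; trivial)
        (Subgroup.le_normalizer he)
    · intro Y hYE hY
      exact le_inf (le_pCore_of_isPClosed hcl Y hY) hYE
  · intro E hE K hK
    rcases core.2 (E ⊔ P) ⟨E, hE, rfl⟩ (K ⊔ P) ⟨K, hK, rfl⟩ with h | h
    · exact Or.inl h
    · right
      exact (Subgroup.commutator_mono le_sup_left le_sup_left).trans
        (commutator_le_of_le_centMod P _ _ h)

end Cfsg.Agent.Helper6.TransFam
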