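import Mathlib
import Cfsg.Prelude.Def_Characters
import Cfsg.Agent.Helper6.TripI

/-!
# Invariant irreducible constituents of an induced invariant character: the main theorem
-/

set_option autoImplicit false
set_option linter.style.haveILetI false

namespace Cfsg.Agent.Helper6

universe u

variable {Γ : Type u} [Group Γ]

set_option maxHeartbeats 1600000 in
/-- Let `N ≤ G` be normal subgroups of the finite group `Γ` with `|Γ : G|` coprime to `|G : N|`
and `Γ / G` or `G / N` solvable.  Over every `Γ`-invariant irreducible character of `N` there lies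
a `Γ`-invariant irreducible character of `G`. -/
theorem exists_invariant_irr_over [Fintype Γ] (G N : Subgroup Γ) [hG : G.Normal] [hN : N.Normal]
    [Fintype G] [Fintype N] (hNG : N ≤ G) (hcop : (G.index).Coprime (N.relIndex G))
    (hsolv : Group.IsSolvable (Γ ⧸ G) ∨ Group.IsSolvable (G ⧸ N.subgroupOf G))
    (θ : Cfsg.IrrCharacter N)
    (hinv : ∀ (x : Γ) (n : N),
      (θ : N → ℂ) ⟨x * n * x⁻¹, hN.conj_mem n n.2 x⟩ = (θ : N → ℂ) n) :
    ∃ χ : Cfsg.IrrCharacter G,
      Cfsg.classInner (fun n : N => (χ : G → ℂ) ⟨n, hNG n.2⟩) (θ : N → ℂ) ≠ 0 ∧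
      ∀ (x : Γ) (g : G), (χ : G → ℂ) ⟨x * g * x⁻¹, hG.conj_mem g g.2 x⟩ = (χ : G → ℂ) g := by
  classical
  obtain ⟨d, ρ, hirr, hρ⟩ := θ.2
  haveI := hirr
  haveI := tripleGroup_finite N ρ
  have hinv' : ∀ (g : Γ) (n : N), ρ.character (cj N g n) = ρ.character n := by
    intro g n
    rw [hρ]
    exact hinv g n
  have hπ : Function.Surjective (tripleProj N ρ) := tripleProj_surjective N ρ hinv'
  obtain ⟨ν, hν1, hν2⟩ := exists_tripleScalar N ρ
  have hNtN := tripleEmb_range_le_comap N ρ
  have hcen := comm_mem_tripleEmb_range N ρ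
  have hτN := tripleRep_restrict_range_isIrrCharacter N ρ
  have hτ : Cfsg.IsCharacter (tripleGroup N ρ) (tripleRep N ρ).character :=
    ⟨d, tripleRep N ρ, rfl⟩
  haveI hXG : (G.comap (tripleProj N ρ)).Normal := inferInstance
  haveI hXN : (N.comap (tripleProj N ρ)).Normal := inferInstance
  haveI hGQn : ((G.comap (tripleProj N ρ)).map
      (QuotientGroup.mk' (tripleEmb N ρ).range)).Normal :=
    Subgroup.Normal.map hXG _ (QuotientGroup.mk'_surjective _)
  haveI hZQn : ((N.comap (tripleProj N ρ)).map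
      (QuotientGroup.mk' (tripleEmb N ρ).range)).Normal :=
    Subgroup.Normal.map hXN _ (QuotientGroup.mk'_surjective _)
  have hcop' : (((N.comap (tripleProj N ρ)).map
      (QuotientGroup.mk' (tripleEmb N ρ).range)).relIndex
      ((G.comap (tripleProj N ρ)).map (QuotientGroup.mk' (tripleEmb N ρ).range))).Coprime
      ((G.comap (tripleProj N ρ)).map (QuotientGroup.mk' (tripleEmb N ρ).range)).index := by
    rw [relIndex_comap_map_mk (tripleProj N ρ) (tripleEmb N ρ).range G N hπ hNtN hNG,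
      index_comap_map_mk (tripleProj N ρ) (tripleEmb N ρ).range G hπ
        (hNtN.trans (Subgroup.comap_mono hNG))]
    exact hcop.symm
  have hsolv' : Group.IsSolvable ((tripleGroup N ρ ⧸ (tripleEmb N ρ).range) ⧸
        (G.comap (tripleProj N ρ)).map (QuotientGroup.mk' (tripleEmb N ρ).range)) ∨
      Group.IsSolvable (↥((G.comap (tripleProj N ρ)).map
        (QuotientGroup.mk' (tripleEmb N ρ).range)) ⧸
        ((N.comap (tripleProj N ρ)).map (QuotientGroup.mk' (tripleEmb N ρ).range)).subgroupOf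
          ((G.comap (tripleProj N ρ)).map (QuotientGroup.mk' (tripleEmb N ρ).range))) := by
    rcases hsolv with h | h
    · exact Or.inl (isSolvable_quotient_comap_map_mk (tripleProj N ρ) (tripleEmb N ρ).range G h)
    · exact Or.inr (isSolvable_section_comap_map_mk (tripleProj N ρ) (tripleEmb N ρ).range G N
        hNG h)
  obtain ⟨χ, b, hχ, hb, hval, hχinv⟩ := exists_invariant_of_cover_aux (tripleProj N ρ) hπ
    (QuotientGroup.mk' (tripleEmb N ρ).range) (QuotientGroup.mk'_surjective _)
    (tripleEmb N ρ).range (fun x => QuotientGroup.eq_one_iff x) G N hNG hNtN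
    ((G.comap (tripleProj N ρ)).map (QuotientGroup.mk' (tripleEmb N ρ).range))
    ((N.comap (tripleProj N ρ)).map (QuotientGroup.mk' (tripleEmb N ρ).range))
    (fun x hx => Subgroup.mem_map_of_mem _ hx)
    (fun y hy => by
      obtain ⟨x, hx, hxy⟩ := Subgroup.mem_map.mp hy
      exact ⟨x, hx, hxy⟩)
    (fun x hx => Subgroup.mem_map_of_mem _ hx)
    (fun y hy => by
      obtain ⟨x, hx, hxy⟩ := Subgroup.mem_map.mp hy
      exact ⟨x, hx, hxy⟩)
    (comap_map_mk_le_center (tripleProj N ρ) (tripleEmb N ρ).range N hcen)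
    hcop' hsolv' (tripleRep N ρ).character hτ hτN ν hν1 ρ.character hν2
  refine ⟨⟨χ, hχ⟩, ?_, hχinv⟩
  have hfun : (fun n : N => χ ⟨n, hNG n.2⟩) = b • (θ : N → ℂ) := by
    funext n
    have h1 := hval ⟨tripleEmb N ρ n, hNtN ⟨n, rfl⟩⟩
    rw [Pi.smul_apply, smul_eq_mul, ← hρ]
    exact h1
  show Cfsg.classInner (fun n : N => χ ⟨n, hNG n.2⟩) (θ : N → ℂ) ≠ 0
  rw [hfun, classInner_smul_left, classInner_irr_self θ.2, mul_one]
  exact hb

end Cfsg.Agent.Helper6
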