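import Mathlib
import Cfsg.Prelude.Def_Characters
import Cfsg.Agent.S4456
import Cfsg.Agent.Helper6.ItoMichler
import Cfsg.Agent.Helper6.IrrOver
import Cfsg.Agent.Helper6.DefectZeroBlock
import Cfsg.Agent.Helper6.HeightZeroTrunc
import Cfsg.Agent.Helper6.Linear
import Cfsg.Agent.Helper6.Inflation
import Cfsg.Agent.Helper6.CanonicalChar

/-!
# Nilpotent groups with character degrees `1` and `m`
-/

set_option autoImplicit false
set_option linter.style.haveILetI false

namespace Cfsg.Agent.Helper6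

open scoped ComplexConjugate

universe u

variable {G : Type u} [Group G]

/-- A nilpotent group with character degrees `1` and `m ≠ 1` is the direct product of a
`p`-group and an abelian group, and `m` is a power of `p`. -/
theorem two_degree_nilpotent [Finite G] [hnil : Group.IsNilpotent G] (m : ℕ)
    (hcd : ∀ χ : Cfsg.IrrCharacter G, Cfsg.charDegree (χ : G → ℂ) = 1 ∨
      Cfsg.charDegree (χ : G → ℂ) = m)
    (hm : ∃ χ : Cfsg.IrrCharacter G, Cfsg.charDegree (χ : G → ℂ) = m) (hm1 : m ≠ 1) :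
    ∃ p e : ℕ, p.Prime ∧ m = p ^ e ∧ ∃ P A : Subgroup G, P.Normal ∧ A.Normal ∧ IsPGroup p P ∧
      (∀ a ∈ A, ∀ b ∈ A, a * b = b * a) ∧ P ⊓ A = ⊥ ∧ P ⊔ A = ⊤ := by
  classical
  haveI : Fintype G := Fintype.ofFinite G
  obtain ⟨χm, hχm⟩ := hm
  obtain ⟨p, hp, hpm⟩ := Nat.exists_prime_and_dvd hm1
  haveI : Fact p.Prime := ⟨hp⟩
  obtain ⟨A, hAn, hAcop, k, hAk⟩ := Cfsg.Agent.S4456.result (G := G) p hp (by
    intro χ hχ
    rcases hcd χ with h1 | h1
    · exact absurd h1 hχ
    · rw [h1]
      exact hpm)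
  haveI := hAn
  let P₀ : Sylow p G := default
  let P : Subgroup G := (P₀ : Subgroup G)
  haveI hPn : P.Normal := inferInstanceAs ((P₀ : Subgroup G).Normal)
  have hPp : IsPGroup p P := P₀.isPGroup'
  have hinf : P ⊓ A = ⊥ := by
    rw [← disjoint_iff]
    apply Subgroup.disjoint_of_coprime_natCard
    obtain ⟨n, hn⟩ := hPp.exists_card_eq
    rw [hn]
    exact Nat.Coprime.pow_left n hAcop.symm
  have hsup : P ⊔ A = ⊤ := by
    rw [← Subgroup.index_eq_one]
    have h1 : (P ⊔ A).index ∣ P.index := Subgroup.index_dvd_of_le le_sup_left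
    have h2 : (P ⊔ A).index ∣ A.index := Subgroup.index_dvd_of_le le_sup_right
    rw [hAk] at h2
    obtain ⟨i, -, hi⟩ := (Nat.dvd_prime_pow hp).mp h2
    have hPidx : ¬ p ∣ P.index := P₀.not_dvd_index
    by_contra hne
    have hi0 : i ≠ 0 := by
      intro h0
      rw [h0, pow_zero] at hi
      exact hne hi
    apply hPidx
    refine dvd_trans ?_ h1
    rw [hi]
    exact dvd_pow_self p hi0
  -- elements of P and A commute
  have hcommPA : ∀ x ∈ P, ∀ a ∈ A, x * a = a * x := by
    intro x hx a ha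
    exact (Subgroup.commute_of_normal_of_disjoint P A hPn hAn (disjoint_iff.mpr hinf) x a hx ha)
  -- P is not abelian
  have hPnab : ¬ ∀ x ∈ P, ∀ y ∈ P, x * y = y * x := by
    intro hPab
    have hPcen : P ≤ Subgroup.center G := by
      intro x hx
      have hle : P ⊔ A ≤ Subgroup.centralizer {x} := by
        apply sup_le
        · intro y hy
          rw [Subgroup.mem_centralizer_iff]
          intro z hz
          rw [Set.mem_singleton_iff] at hz
          rw [hz]
          exact hPab x hx y hy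
        · intro a ha
          rw [Subgroup.mem_centralizer_iff]
          intro z hz
          rw [Set.mem_singleton_iff] at hz
          rw [hz]
          exact hcommPA x hx a ha
      rw [hsup] at hle
      rw [Subgroup.mem_center_iff]
      intro g
      have := hle (Subgroup.mem_top g)
      rw [Subgroup.mem_centralizer_iff] at this
      exact (this x rfl).symm
    have h1 := charDegree_dvd_index_center χm.2
    rw [hχm] at h1
    have h2 : (Subgroup.center G).index ∣ P.index := Subgroup.index_dvd_of_le hPcen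
    exact P₀.not_dvd_index (hpm.trans (h1.trans h2))
  -- G ⧸ A is not abelian
  have hQnab : ¬ ∀ a b : G ⧸ A, a * b = b * a := by
    intro hQ
    apply hPnab
    intro x hx y hy
    have h1 : x * y * x⁻¹ * y⁻¹ ∈ A := by
      rw [← QuotientGroup.eq_one_iff]
      simp only [QuotientGroup.mk_mul, QuotientGroup.mk_inv]
      rw [hQ (x : G ⧸ A) (y : G ⧸ A)]
      simp
    have h2 : x * y * x⁻¹ * y⁻¹ ∈ P := by
      apply mul_mem (mul_mem (mul_mem hx hy) (inv_mem hx)) (inv_mem hy)
    have h3 : x * y * x⁻¹ * y⁻¹ ∈ P ⊓ A := ⟨h2, h1⟩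
    rw [hinf, Subgroup.mem_bot] at h3
    have h4 := congrArg (fun z => z * y * x) h3
    simpa using h4
  -- a nonlinear character of the quotient
  have hexψ : ∃ ψ : Cfsg.IrrCharacter (G ⧸ A), (ψ : G ⧸ A → ℂ) 1 ≠ 1 := by
    by_contra hcon
    push Not at hcon
    exact hQnab ((comm_iff_forall_irr_degree_one (G := G ⧸ A)).mpr hcon)
  obtain ⟨ψ, hψ1⟩ := hexψ
  have hψcard := charDegree_dvd_card ψ.2
  have hQcard : Nat.card (G ⧸ A) = p ^ k := by
    rw [← hAk]
    rfl
  rw [hQcard] at hψcard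
  obtain ⟨e, -, he⟩ := (Nat.dvd_prime_pow hp).mp hψcard
  have hinfl := isIrrCharacter_inflate A ψ
  have hdeginfl : Cfsg.charDegree ((ψ : G ⧸ A → ℂ) ∘ QuotientGroup.mk) =
      Cfsg.charDegree (ψ : G ⧸ A → ℂ) := by
    have h1 := charDegree_cast_of_isCharacter (IsIrrCharacter.isCharacter hinfl)
    have h2 := charDegree_cast_of_isCharacter (IsIrrCharacter.isCharacter ψ.2)
    have h3 : ((ψ : G ⧸ A → ℂ) ∘ QuotientGroup.mk) (1 : G) = (ψ : G ⧸ A → ℂ) 1 := rfl
    rw [h3, ← h2] at h1
    exact_mod_cast h1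
  have hψne1 : Cfsg.charDegree (ψ : G ⧸ A → ℂ) ≠ 1 := by
    intro h
    apply hψ1
    have h2 := charDegree_cast_of_isCharacter (IsIrrCharacter.isCharacter ψ.2)
    rw [← h2, h, Nat.cast_one]
  have hme : m = p ^ e := by
    rcases hcd ⟨_, hinfl⟩ with h1 | h1
    · exfalso
      apply hψne1
      rw [← hdeginfl]
      exact h1
    · rw [← he, ← hdeginfl]
      exact h1.symm
  refine ⟨p, e, hp, hme, P, A, hPn, hAn, hPp, ?_, hinf, hsup⟩
  -- A is abelian
  haveI : Fintype A := Fintype.ofFinite A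
  have hlin : ∀ θ : Cfsg.IrrCharacter A, (θ : A → ℂ) 1 = 1 := by
    intro θ
    obtain ⟨χ, hχ⟩ := exists_irr_over A θ
    have hdvd := (degree_dvd_of_over A χ θ hχ).1
    have hcard := charDegree_dvd_card θ.2
    have hθ1 : Cfsg.charDegree (θ : A → ℂ) = 1 := by
      by_contra hne
      obtain ⟨q, hq, hqd⟩ := Nat.exists_prime_and_dvd hne
      have hqm : q ∣ m := by
        rcases hcd χ with h1 | h1
        · rw [h1] at hdvd
          exact absurd (Nat.dvd_one.mp hdvd) hne
        · rw [h1] at hdvd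
          exact hqd.trans hdvd
      rw [hme] at hqm
      have hqp : q = p := (Nat.prime_dvd_prime_iff_eq hq hp).mp (hq.dvd_of_dvd_pow hqm)
      rw [hqp] at hqd
      exact (Nat.Prime.coprime_iff_not_dvd hp).mp hAcop.symm (hqd.trans hcard)
    have h3 := charDegree_cast_of_isCharacter (IsIrrCharacter.isCharacter θ.2)
    rw [← h3, hθ1, Nat.cast_one]
  have hcomm := (comm_iff_forall_irr_degree_one (G := A)).mpr hlin
  intro a ha b hb
  have := hcomm ⟨a, ha⟩ ⟨b, hb⟩
  exact congrArg Subtype.val this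

end Cfsg.Agent.Helper6
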