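import Mathlib
import Cfsg.Prelude.Def_Local
import Cfsg.Prelude.Def_Solvable
import Cfsg.Agent.Helper6.PpKerC
import Cfsg.Agent.Helper1.Fitting
import Cfsg.Agent.Helper1.Fitting2

/-!
# Two primes: group-theoretic part (towards S4885)

If `K` is a normal subgroup of the `p`-solvable group `G` with
`O_{p'}(G) ≤ K ≤ P' O_{p'}(G)` and `O_{q'}(G) ≤ K ≤ Q' O_{q'}(G)` for Sylow subgroups `P`, `Q` for
different primes `p`, `q`, then `p` does not divide `|G|`.
-/

set_option autoImplicit false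
set_option linter.style.haveILetI false

namespace Cfsg.Agent.Helper6.TwoPrime

open Cfsg.Agent.Helper6

universe u

variable {G : Type u} [Group G]

/-- an element of `p`-power order lies in the subgroup generated by a `p'`-power of itself -/
theorem mem_of_pow_mem_of_coprime {H : Subgroup G} {x : G} {m n : ℕ} (hmn : m.Coprime n)
    (hx : x ^ n = 1) (hm : x ^ m ∈ H) : x ∈ H := by
  have h1 : m.Coprime (orderOf x) :=
    (Nat.Coprime.coprime_dvd_left (orderOf_dvd_of_pow_eq_one hx) hmn.symm).symm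
  obtain ⟨k, hk⟩ := exists_pow_eq_self_of_coprime h1
  rw [← hk]
  exact H.pow_mem hm k

/-- In a group with trivial `O_{p'}`: a normal subgroup `L` which is a "`p'`-extension" of a
subgroup `K` of the derived subgroup of a Sylow `p`-subgroup is contained in `K`. -/
theorem le_of_coprime_ext [Finite G] (p : ℕ) [hp : Fact p.Prime] (P : Sylow p G)
    (hO : Cfsg.pPrimeCore p G = ⊥) (K L : Subgroup G) [hL : L.Normal]
    (hKP : K ≤ ⁅(P : Subgroup G), (P : Subgroup G)⁆)
    (hcop : ∀ x ∈ L, ∃ m : ℕ, m.Coprime p ∧ x ^ m ∈ K) : L ≤ K := by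
  have hLP : ∀ x ∈ L ⊓ (P : Subgroup G), x ∈ K := by
    intro x hx
    obtain ⟨m, hm, hxm⟩ := hcop x hx.1
    obtain ⟨k, hk⟩ := (IsPGroup.iff_orderOf.mp P.2) ⟨x, hx.2⟩
    have hk' : x ^ (p ^ k) = 1 := by
      have := pow_orderOf_eq_one (⟨x, hx.2⟩ : (P : Subgroup G))
      rw [hk] at this
      exact congrArg Subtype.val this
    exact mem_of_pow_mem_of_coprime (Nat.Coprime.pow_right k hm) hk' hxm
  have h1 : L ⊓ (P : Subgroup G) ≤ ⁅(P : Subgroup G), (P : Subgroup G)⁆ :=
    fun x hx => hKP (hLP x hx)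
  obtain ⟨W, hWn, hpW, hWL, hfac⟩ := PpKer.exists_normal_hall_of_inf_le_commutator p P L h1
  have hW : W = ⊥ := by
    have hc : (Nat.card W).Coprime p :=
      (Nat.Coprime.symm ((Nat.Prime.coprime_iff_not_dvd hp.out).mpr hpW))
    have := Helper1.le_pPrimeCore hWn hc
    rw [hO] at this
    exact le_bot_iff.mp this
  intro x hx
  obtain ⟨w, hw, q, hq, rfl⟩ := hfac x hx
  rw [hW, Subgroup.mem_bot] at hw
  rw [hw, one_mul]
  exact hLP q hq

/-- The same, modulo `O_{p'}(G)`. -/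
theorem le_of_coprime_ext_mod [Finite G] (p : ℕ) [hp : Fact p.Prime] (P : Sylow p G)
    (K L : Subgroup G) [hL : L.Normal] (hAK : Cfsg.pPrimeCore p G ≤ K)
    (hKP : K ≤ ⁅(P : Subgroup G), (P : Subgroup G)⁆ ⊔ Cfsg.pPrimeCore p G)
    (hcop : ∀ x ∈ L, ∃ m : ℕ, m.Coprime p ∧ x ^ m ∈ K) : L ≤ K := by
  set A := Cfsg.pPrimeCore p G with hA
  set π := QuotientGroup.mk' A with hπ
  have hπs : Function.Surjective π := QuotientGroup.mk'_surjective A
  have hker : π.ker = A := QuotientGroup.ker_mk' A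
  set Pb : Sylow p (G ⧸ A) := P.mapSurjective hπs with hPb
  have hPbc : (Pb : Subgroup (G ⧸ A)) = (P : Subgroup G).map π := Sylow.coe_mapSurjective hπs P
  haveI : (L.map π).Normal := hL.map π hπs
  have hKb : K.map π ≤ ⁅(Pb : Subgroup (G ⧸ A)), (Pb : Subgroup (G ⧸ A))⁆ := by
    rw [hPbc, ← Subgroup.map_commutator]
    refine (Subgroup.map_mono hKP).trans ?_
    rw [Subgroup.map_sup]
    have : A.map π = ⊥ := (Subgroup.map_eq_bot_iff _).mpr hker.ge
    rw [this, sup_bot_eq]
  have hcopb : ∀ x ∈ L.map π, ∃ m : ℕ, m.Coprime p ∧ x ^ m ∈ K.map π := by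
    rintro _ ⟨x, hx, rfl⟩
    obtain ⟨m, hm, hxm⟩ := hcop x hx
    exact ⟨m, hm, ⟨x ^ m, hxm, map_pow π x m⟩⟩
  have hle := le_of_coprime_ext p Pb (Helper1.pPrimeCore_quotient_pPrimeCore p) (K.map π)
    (L.map π) hKb hcopb
  have h2 : L ≤ (K.map π).comap π := fun x hx => hle ⟨x, hx, rfl⟩
  rw [Subgroup.comap_map_eq, hker] at h2
  exact h2.trans (sup_le le_rfl hAK)

/-- climbing a `p`-solvable chain -/
theorem eq_top_of_chain (p : ℕ) (hs : Cfsg.IsPSolvable p G) (K : Subgroup G)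
    [hK : K.Normal]
    (h1 : ∀ L : Subgroup G, L.Normal → K ≤ L →
      (∀ x ∈ L, ∃ m : ℕ, m.Coprime p ∧ x ^ m ∈ K) → L ≤ K)
    (h2 : ∀ L : Subgroup G, L.Normal → K ≤ L → (∀ x ∈ L, ∃ k : ℕ, x ^ (p ^ k) ∈ K) → L ≤ K) :
    K = ⊤ := by
  obtain ⟨n, H, h0, hlast, hmono, hnorm, hfac⟩ := hs
  have key : ∀ i : Fin (n + 1), H i ≤ K := by
    intro i
    induction i using Fin.induction with
    | zero => rw [h0]; exact bot_le
    | succ i ih =>
      haveI := hnorm i.castSucc
      haveI := hnorm i.succ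
      have hLn : (H i.succ ⊔ K).Normal := Subgroup.sup_normal _ _
      have hpow : ∀ x ∈ H i.succ ⊔ K, x ^ ((H i.castSucc).relIndex (H i.succ)) ∈ K := by
        intro x hx
        have hx' : x ∈ ((H i.succ ⊔ K : Subgroup G) : Set G) := hx
        rw [Subgroup.mul_normal] at hx'
        obtain ⟨h, hh, k, hk, rfl⟩ := Set.mem_mul.mp hx'
        have hr := ih (Subgroup.pow_relIndex_mem (H i.castSucc) hh)
        rw [← QuotientGroup.eq_one_iff, QuotientGroup.mk_pow, QuotientGroup.mk_mul,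
          (QuotientGroup.eq_one_iff k).mpr hk, mul_one, ← QuotientGroup.mk_pow]
        exact (QuotientGroup.eq_one_iff _).mpr hr
      rcases hfac i with ⟨m, hm⟩ | hc
      · refine le_sup_left.trans (h2 _ hLn le_sup_right ?_)
        intro x hx
        exact ⟨m, hm ▸ hpow x hx⟩
      · refine le_sup_left.trans (h1 _ hLn le_sup_right ?_)
        intro x hx
        exact ⟨_, hc, hpow x hx⟩
  have := key (Fin.last n)
  rw [hlast] at this
  exact top_le_iff.mp this

/-- the derived subgroup of a nontrivial `p`-subgroup is a proper subgroup -/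
theorem commutator_lt_of_isPGroup [Finite G] (p : ℕ) [hp : Fact p.Prime] (P : Subgroup G)
    (hP : IsPGroup p P) (hne : P ≠ ⊥) : ⁅P, P⁆ < P := by
  haveI : Group.IsNilpotent P := hP.isNilpotent
  haveI : Nontrivial P := (Subgroup.nontrivial_iff_ne_bot P).mpr hne
  have h := Group.IsSolvable.commutator_lt_top_of_nontrivial (↥P)
  rw [← Subgroup.map_subtype_lt_map_subtype, Subgroup.map_subtype_commutator,
    ← MonoidHom.range_eq_map, Subgroup.range_subtype] at h
  exact h

/-- **the group-theoretic core of S4885** -/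
theorem false_of_two_primes [Finite G] (p q : ℕ) [hp : Fact p.Prime] [hq : Fact q.Prime]
    (hpq : p ≠ q) (hpG : p ∣ Nat.card G) (hs : Cfsg.IsPSolvable p G)
    (P : Sylow p G) (Q : Sylow q G) (K : Subgroup G) [hK : K.Normal]
    (hA : Cfsg.pPrimeCore p G ≤ K)
    (hKP : K ≤ ⁅(P : Subgroup G), (P : Subgroup G)⁆ ⊔ Cfsg.pPrimeCore p G)
    (hB : Cfsg.pPrimeCore q G ≤ K)
    (hKQ : K ≤ ⁅(Q : Subgroup G), (Q : Subgroup G)⁆ ⊔ Cfsg.pPrimeCore q G) : False := by
  have hKtop : K = ⊤ := by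
    apply eq_top_of_chain p hs K
    · intro L hL _ hcop
      exact le_of_coprime_ext_mod p P K L hA hKP hcop
    · intro L hL _ hcop
      apply le_of_coprime_ext_mod q Q K L hB hKQ
      intro x hx
      obtain ⟨k, hk⟩ := hcop x hx
      refine ⟨p ^ k, Nat.Coprime.pow_left k ?_, hk⟩
      exact (Nat.coprime_primes hp.out hq.out).mpr hpq
  rw [hKtop] at hKP
  set A := Cfsg.pPrimeCore p G with hAdef
  set P' := ⁅(P : Subgroup G), (P : Subgroup G)⁆ with hP'
  have hle : P' ≤ (P : Subgroup G) := Subgroup.commutator_le_self _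
  have h1 : Nat.card G ∣ Nat.card P' * Nat.card A := by
    have := Helper1.card_sup_dvd P' A
    rw [top_le_iff.mp hKP, Subgroup.card_top] at this
    exact this
  have h2 : Nat.card (P : Subgroup G) ∣ Nat.card P' := by
    have h3 : Nat.card (P : Subgroup G) ∣ Nat.card P' * Nat.card A :=
      (Subgroup.card_subgroup_dvd_card _).trans h1
    obtain ⟨k, hk⟩ := (IsPGroup.iff_card.mp P.2)
    have hcop : (Nat.card (P : Subgroup G)).Coprime (Nat.card A) := by
      rw [hk]
      exact Nat.Coprime.pow_left k (Helper1.card_pPrimeCore_coprime p).symm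
    exact hcop.dvd_of_dvd_mul_right h3
  have h4 : (P : Subgroup G) ≤ P' :=
    (Subgroup.eq_of_le_of_card_ge hle (Nat.le_of_dvd Nat.card_pos h2)).ge
  have hne : (P : Subgroup G) ≠ ⊥ := P.ne_bot_of_dvd_card hpG
  exact absurd (lt_of_lt_of_le (commutator_lt_of_isPGroup p _ P.2 hne) h4) (lt_irrefl _)

end Cfsg.Agent.Helper6.TwoPrime
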