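import Mathlib
import Cfsg.Prelude.Def_Characters
import Cfsg.Prelude.Def_Blocks
import Cfsg.Agent.Helper6.TwoPrimeA
import Cfsg.Agent.Helper6.PrincipalSolv
import Cfsg.Agent.Helper6.PpKerD
import Cfsg.Agent.Helper6.NilpPrincipal

/-!
# Two primes: character-theoretic part (towards S4885)

For a `p`-solvable group, the common kernel of the characters of `p'`-degree of the principal
`p`-block lies between `O_{p'}(G)` and `P' O_{p'}(G)`.
-/

set_option autoImplicit false
set_option linter.style.haveILetI false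

namespace Cfsg.Agent.Helper6.TwoPrime

open Cfsg.Agent.Helper6

universe u

variable {G : Type u} [Group G] {M : Ideal Cfsg.AlgInt}

/-- the characters of `p'`-degree in the principal `p`-block -/
def ppSet (p : ℕ) (M : Ideal Cfsg.AlgInt) (G : Type u) [Group G] : Set (Cfsg.IrrCharacter G) :=
  {χ | χ ∈ Cfsg.principalBlock M G ∧ ¬ p ∣ Cfsg.charDegree (χ : G → ℂ)}

theorem pPrimeCore_le_commonKernel [Finite G] (p : ℕ) [hp : Fact p.Prime]
    (hM : Cfsg.IsPModular p M) (hsolv : Cfsg.IsPSolvable p G) :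
    Cfsg.pPrimeCore p G ≤ commonKernel (ppSet p M G) := by
  intro n hn χ hχ
  have h1 := hχ.1
  rw [principalBlock_eq_of_isPSolvable p hM hsolv] at h1
  exact h1 n hn

theorem commonKernel_le_sup [Finite G] (p : ℕ) [hp : Fact p.Prime]
    (hM : Cfsg.IsPModular p M) (hsolv : Cfsg.IsPSolvable p G) (P : Sylow p G) :
    commonKernel (ppSet p M G) ≤
      ⁅(P : Subgroup G), (P : Subgroup G)⁆ ⊔ Cfsg.pPrimeCore p G := by
  set A := Cfsg.pPrimeCore p G with hA
  set π := QuotientGroup.mk' A with hπ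
  have hπs : Function.Surjective π := QuotientGroup.mk'_surjective A
  have hker : π.ker = A := QuotientGroup.ker_mk' A
  set Pb : Sylow p (G ⧸ A) := P.mapSurjective hπs with hPb
  have hPbc : (Pb : Subgroup (G ⧸ A)) = (P : Subgroup G).map π := Sylow.coe_mapSurjective hπs P
  have hObot : Cfsg.pPrimeCore p (G ⧸ A) = ⊥ := Helper1.pPrimeCore_quotient_pPrimeCore p
  have hN : (⊥ : Subgroup (G ⧸ A)) ⊓ Subgroup.centralizer ((Pb : Subgroup (G ⧸ A)) : Set (G ⧸ A))
      = ⊥ := bot_inf_eq _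
  have hmax : ∀ L : Subgroup (G ⧸ A), L.Normal →
      L ⊓ Subgroup.centralizer ((Pb : Subgroup (G ⧸ A)) : Set (G ⧸ A)) = ⊥ → L ≤ ⊥ := by
    intro L hL hLC
    haveI := hL
    have hnd := PpKer.not_dvd_card_of_inf_centralizer_eq_bot p Pb L hLC
    have hc : (Nat.card L).Coprime p :=
      (Nat.Coprime.symm ((Nat.Prime.coprime_iff_not_dvd hp.out).mpr hnd))
    have := Helper1.le_pPrimeCore hL hc
    rwa [hObot] at this
  have hset := PpKer.kernel_pPrime_eq_normalCore p Pb ⊥ hN hmax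
  intro g hg
  have hgb : π g ∈ {x : G ⧸ A | ∀ χ : Cfsg.IrrCharacter (G ⧸ A),
      ¬ p ∣ Cfsg.charDegree (χ : G ⧸ A → ℂ) → (χ : G ⧸ A → ℂ) x = (χ : G ⧸ A → ℂ) 1} := by
    intro ψ hψ
    set χ : Cfsg.IrrCharacter G := ⟨(ψ : G ⧸ A → ℂ) ∘ QuotientGroup.mk, isIrrCharacter_inflate A ψ⟩
      with hχ
    have hχmem : χ ∈ ppSet p M G := by
      refine ⟨?_, ?_⟩
      · rw [principalBlock_eq_of_isPSolvable p hM hsolv]
        intro n hn
        show (ψ : G ⧸ A → ℂ) (QuotientGroup.mk n) = (ψ : G ⧸ A → ℂ) (QuotientGroup.mk 1)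
        rw [(QuotientGroup.eq_one_iff n).mpr hn, QuotientGroup.mk_one]
      · exact hψ
    have := hg χ hχmem
    exact this
  rw [hset] at hgb
  have h2 : π g ∈ (⊥ ⊔ ⁅(Pb : Subgroup (G ⧸ A)), (Pb : Subgroup (G ⧸ A))⁆) :=
    Subgroup.normalCore_le _ hgb
  rw [bot_sup_eq, hPbc, ← Subgroup.map_commutator] at h2
  have h3 : g ∈ (Subgroup.map π ⁅(P : Subgroup G), (P : Subgroup G)⁆).comap π := h2
  rw [Subgroup.comap_map_eq, hker] at h3
  exact h3

end Cfsg.Agent.Helper6.TwoPrime
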