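import Mathlib
import Cfsg.Agent.Helper1.FrobComplSylow
import Cfsg.Agent.Helper1.MaxClassNormal

/-!
# Type I Frobenius groups, part A: group-theoretic preliminaries

* a finite group all of whose Sylow subgroups are cyclic has exponent equal to its order;
* the quotient of an odd-order Frobenius group by its kernel has exponent equal to its order;
* a non-abelian finite `p`-group has abelianisation of order at least `p ^ 2`.
-/

set_option autoImplicit false
set_option linter.style.haveILetI false

namespace Cfsg.Agent.Helper6.TypeIFrob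

universe u

theorem exponent_eq_card_of_cyclic_sylow {U : Type u} [Group U] [Finite U]
    (h : ∀ (q : ℕ) [Fact q.Prime] (Q : Sylow q U), IsCyclic Q) :
    Monoid.exponent U = Nat.card U := by
  apply Nat.dvd_antisymm Group.exponent_dvd_nat_card
  rw [Nat.dvd_iff_prime_pow_dvd_dvd]
  intro q k hq hk
  haveI := Fact.mk hq
  let Q : Sylow q U := default
  haveI hc : IsCyclic Q := h q Q
  obtain ⟨g, hg⟩ := hc.exists_generator
  have hord : orderOf g = Nat.card Q := orderOf_eq_card_of_forall_mem_zpowers hg
  have hcard : Nat.card Q = q ^ (Nat.card U).factorization q := Sylow.card_eq_multiplicity Q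
  have hk' : k ≤ (Nat.card U).factorization q := by
    have hpos : Nat.card U ≠ 0 := Nat.card_pos.ne'
    exact (hq.pow_dvd_iff_le_factorization hpos).mp hk
  have h1 : orderOf (g : U) ∣ Monoid.exponent U := Monoid.order_dvd_exponent _
  have h2 : orderOf (g : U) = orderOf g := Subgroup.orderOf_coe g
  rw [h2, hord, hcard] at h1
  exact (pow_dvd_pow q hk').trans h1

theorem frobenius_quotient_exponent {L : Type u} [Group L] [Finite L] (hodd : Odd (Nat.card L))
    (K U : Subgroup L) [hKn : K.Normal] (hK : K ≠ ⊥) (hc : K.IsComplement' U)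
    (hfrob : ∀ h ∈ K, h ≠ 1 → Subgroup.centralizer ({h} : Set L) ≤ K) :
    Monoid.exponent (L ⧸ K) = K.index := by
  have e : L ⧸ K ≃* U := hc.symm.QuotientMulEquiv
  rw [Monoid.exponent_eq_of_mulEquiv e, hc.symm.index_eq_card]
  apply exponent_eq_card_of_cyclic_sylow
  intro q hq Q
  have hfpf : ∀ h ∈ U, h ≠ 1 → K ⊓ Subgroup.centralizer {h} = ⊥ := by
    intro h hh hh1
    rw [eq_bot_iff]
    intro k hk
    rw [Subgroup.mem_bot]
    by_contra hk1
    have hkK : k ∈ K := hk.1
    have hkh : k * h = h * k := by
      have h0 : k ∈ Subgroup.centralizer ({h} : Set L) := hk.2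
      rw [Subgroup.mem_centralizer_iff] at h0
      exact (h0 h (Set.mem_singleton h)).symm
    have hhK : h ∈ K := by
      apply hfrob k hkK hk1
      rw [Subgroup.mem_centralizer_iff]
      intro y hy
      rw [Set.mem_singleton_iff] at hy
      subst hy
      exact hkh
    have : h ∈ K ⊓ U := ⟨hhK, hh⟩
    rw [hc.isCompl.inf_eq_bot, Subgroup.mem_bot] at this
    exact hh1 this
  rcases Cfsg.Agent.Helper1.frobenius_complement_sylow K U hK hfpf q Q with h | ⟨n, ⟨f⟩⟩
  · exact h
  · exfalso
    have h1 : Nat.card (Q : Subgroup U) = Nat.card (QuaternionGroup (2 ^ n)) := Nat.card_congr f.toEquiv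
    have h2 : Nat.card (QuaternionGroup (2 ^ n)) = 4 * 2 ^ n := by
      haveI : NeZero (2 ^ n) := ⟨by positivity⟩
      rw [Nat.card_eq_fintype_card, QuaternionGroup.card]
    have h3 : Nat.card (Q : Subgroup U) ∣ Nat.card U := Subgroup.card_subgroup_dvd_card _
    have h4 : Nat.card U ∣ Nat.card L := Subgroup.card_subgroup_dvd_card _
    have h5 : Odd (Nat.card (Q : Subgroup U)) := Odd.of_dvd_nat hodd (h3.trans h4)
    rw [h1, h2] at h5
    have : Even (4 * 2 ^ n) := ⟨2 * 2 ^ n, by ring⟩
    exact (Nat.not_odd_iff_even.mpr this) h5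

theorem commutative_of_commutator_eq_bot {K : Type u} [Group K] (h : commutator K = ⊥) :
    ∀ a b : K, a * b = b * a := by
  intro a b
  have h1 : a * b * a⁻¹ * b⁻¹ ∈ commutator K := by
    rw [commutator_def, ← commutatorElement_def]
    exact Subgroup.commutator_mem_commutator (Subgroup.mem_top a) (Subgroup.mem_top b)
  rw [h, Subgroup.mem_bot] at h1
  calc a * b = (a * b * a⁻¹ * b⁻¹) * (b * a) := by group
    _ = b * a := by rw [h1, one_mul]

theorem sq_le_index_commutator {K : Type u} [Group K] [Finite K] {p : ℕ} [hp : Fact p.Prime]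
    (hK : IsPGroup p K) (hna : ¬ ∀ a b : K, a * b = b * a) :
    p ^ 2 ≤ (commutator K).index := by
  obtain ⟨j, hj⟩ := hK.index (commutator K)
  by_contra hlt
  rw [not_le] at hlt
  have hj1 : j ≤ 1 := by
    by_contra hj2
    rw [not_le] at hj2
    have : p ^ 2 ≤ p ^ j := Nat.pow_le_pow_right hp.out.pos hj2
    omega
  apply hna
  apply commutative_of_commutator_eq_bot
  apply Cfsg.Agent.Helper1.commutator_eq_bot_of_cyclic_quotient hK
  have hcard : Nat.card (K ⧸ commutator K) = p ^ j := by
    rw [← hj]; rfl
  interval_cases j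
  · rw [pow_zero] at hcard
    haveI : Subsingleton (K ⧸ commutator K) := (Nat.card_eq_one_iff_unique.mp hcard).1
    exact isCyclic_of_subsingleton
  · rw [pow_one] at hcard
    exact isCyclic_of_prime_card hcard

end Cfsg.Agent.Helper6.TypeIFrob
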