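import Mathlib
import Cfsg.Prelude.Def_Characters
import Cfsg.Agent.Helper6.IndFun
import Cfsg.Agent.Helper6.IndFun2
import Cfsg.Agent.Helper6.Linear
import Cfsg.Agent.Helper6.QuotientRep
import Cfsg.Agent.Helper6.XdCliffordCorr
import Cfsg.Agent.Helper6.PermCore
import Cfsg.Agent.Helper6.Degrees
import Cfsg.Agent.Helper6.RepEigen
import Cfsg.Agent.Helper6.IrrDegree
import Cfsg.Agent.Helper6.NormalInd
import Cfsg.Agent.Helper6.XdClifford
import Cfsg.Agent.Helper6.Codegree

/-!
(Fork of `Helper6/MGroup.lean` in the namespace `Cfsg.Agent.Helper6.Xd`, so that it can be imported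
together with the coherence library.)

# Monomial characters: one Clifford step and nilpotent groups
-/

set_option autoImplicit false
set_option linter.style.haveILetI false

namespace Cfsg.Agent.Helper6.Xd

open scoped ComplexConjugate
open Module

universe u v

variable {G : Type u} [Group G]

/-- An irreducible representation trivial on all commutators has degree one. -/
theorem finrank_eq_one_of_commutators_trivial [Finite G] {V : Type v} [AddCommGroup V]
    [Module ℂ V] [FiniteDimensional ℂ V] (ρ : Representation ℂ G V) [hirr : ρ.IsIrreducible]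
    (h : ∀ a b : G, ρ (a * b * a⁻¹ * b⁻¹) = 1) : finrank ℂ V = 1 := by
  have hker : ∀ z ∈ MonoidHom.ker (ρ : G →* (V →ₗ[ℂ] V)), ρ z = 1 := fun z hz => hz
  haveI := quotientRep_isIrreducible ρ (MonoidHom.ker (ρ : G →* (V →ₗ[ℂ] V))) hker
  have hχ : Cfsg.IsIrrCharacter (G ⧸ MonoidHom.ker (ρ : G →* (V →ₗ[ℂ] V)))
      (quotientRep ρ _ hker).character :=
    isIrrCharacter_of_rep _ inferInstance
  have hab : ∀ a b : G ⧸ MonoidHom.ker (ρ : G →* (V →ₗ[ℂ] V)), a * b = b * a := by
    intro a b
    obtain ⟨a, rfl⟩ := QuotientGroup.mk_surjective a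
    obtain ⟨b, rfl⟩ := QuotientGroup.mk_surjective b
    rw [← QuotientGroup.mk_mul, ← QuotientGroup.mk_mul, QuotientGroup.eq, MonoidHom.mem_ker]
    have : (a * b)⁻¹ * (b * a) = b⁻¹ * a⁻¹ * b⁻¹⁻¹ * a⁻¹⁻¹ := by group
    rw [this]
    exact h _ _
  have h1 := (comm_iff_forall_irr_degree_one.mp hab) ⟨_, hχ⟩
  simp only at h1
  rw [Representation.char_one] at h1
  exact_mod_cast h1

theorem irr_degree_one_of_commutators [Finite G] {χ : G → ℂ} (hχ : Cfsg.IsIrrCharacter G χ)
    (h : ∀ a b : G, χ (a * b * a⁻¹ * b⁻¹) = χ 1) : χ 1 = 1 := by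
  obtain ⟨n, ρ, hirr, rfl⟩ := hχ
  haveI := hirr
  have h1 : finrank ℂ (Fin n → ℂ) = 1 := by
    apply finrank_eq_one_of_commutators_trivial ρ
    intro a b
    have := h a b
    rw [Representation.char_one, char_eq_finrank_iff] at this
    exact this
  rw [Representation.char_one, h1]
  simp

theorem indFun_congr [Fintype G] {H₁ H₂ : Subgroup G} (h : H₁ = H₂) (θ₁ : H₁ → ℂ)
    (θ₂ : H₂ → ℂ) (hθ : ∀ x : H₁, θ₁ x = θ₂ ⟨x, h ▸ x.2⟩) :
    Cfsg.indFun H₁ θ₁ = Cfsg.indFun H₂ θ₂ := by
  subst h
  congr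
  funext x
  exact hθ x

/-- Transitivity of induction for a subgroup of a subgroup. -/
theorem indFun_indFun_subtype [Fintype G] (T : Subgroup G) [Fintype T] (H' : Subgroup T)
    (θ : H' → ℂ) :
    Cfsg.indFun T (Cfsg.indFun H' θ) =
      Cfsg.indFun (H'.map T.subtype)
        (fun h => θ ((Subgroup.equivMapOfInjective H' T.subtype T.subtype_injective).symm h)) := by
  classical
  set e := Subgroup.equivMapOfInjective H' T.subtype T.subtype_injective with he
  rw [← indFun_trans (H'.map T.subtype) T (Subgroup.map_subtype_le H') (fun h => θ (e.symm h))]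
  congr 1
  have hsub : (H'.map T.subtype).subgroupOf T = H' :=
    Subgroup.comap_map_eq_self_of_injective T.subtype_injective H'
  symm
  apply indFun_congr hsub
  intro x
  congr 1
  apply e.injective
  rw [MulEquiv.apply_symm_apply]
  apply Subtype.ext
  rfl

theorem indFun_top [Fintype G] (θ : (⊤ : Subgroup G) → ℂ)
    (hθ : ∀ x y : (⊤ : Subgroup G), θ (y * x * y⁻¹) = θ x) :
    Cfsg.indFun (⊤ : Subgroup G) θ = fun g => θ ⟨g, Subgroup.mem_top g⟩ := by
  classical
  ext g
  rw [indFun_apply]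
  have : ∀ x : G, Cfsg.extendByZero (⊤ : Subgroup G) θ (x⁻¹ * g * x) = θ ⟨g, Subgroup.mem_top g⟩ := by
    intro x
    rw [extendByZero_mem _ _ (Subgroup.mem_top _)]
    have := hθ ⟨g, Subgroup.mem_top g⟩ ⟨x⁻¹, Subgroup.mem_top _⟩
    rw [← this]
    congr 1
    apply Subtype.ext
    simp
  simp_rw [this]
  rw [Finset.sum_const, Finset.card_univ, nsmul_eq_mul, Nat.card_eq_fintype_card]
  have hc : Fintype.card (⊤ : Subgroup G) = Fintype.card G := by
    rw [← Nat.card_eq_fintype_card, ← Nat.card_eq_fintype_card, Subgroup.card_top]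
  rw [hc, ← mul_assoc, inv_mul_cancel₀, one_mul]
  exact_mod_cast Fintype.card_ne_zero

/-- One Clifford step: a normal subgroup that is abelian but not central modulo the kernel of
an irreducible character yields a proper subgroup from which the character is induced. -/
theorem monomial_step [Fintype G] (χ : G → ℂ) (hχ : Cfsg.IsIrrCharacter G χ) (A : Subgroup G)
    [hA : A.Normal]
    (hab : ∀ a ∈ A, ∀ b ∈ A, χ (a * b * a⁻¹ * b⁻¹) = χ 1)
    (hnc : ∃ a ∈ A, ∃ g : G, χ (a * g * a⁻¹ * g⁻¹) ≠ χ 1) :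
    ∃ T : Subgroup G, T ≠ ⊤ ∧ ∃ ψ : T → ℂ, Cfsg.IsIrrCharacter T ψ ∧ Cfsg.indFun T ψ = χ := by
  classical
  haveI : Fintype A := Fintype.ofFinite _
  have hχc := IsIrrCharacter.isCharacter hχ
  have hres : Cfsg.IsCharacter A (fun a : A => χ a) := IsCharacter.restrict A hχc
  have hne : (fun a : A => χ a) ≠ 0 := by
    intro h0
    have := congrFun h0 1
    exact IsIrrCharacter.apply_one_ne_zero hχ this
  obtain ⟨lam, hlam, hcon⟩ := exists_irr_constituent hres hne
  have hlam1 : lam 1 = 1 := by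
    apply irr_degree_one_of_commutators hlam
    intro a b
    apply constituent_apply_eq_of_apply_eq hres hlam hcon
    exact hab a a.2 b b.2
  obtain ⟨μ, hμ⟩ := exists_hom_of_irr_degree_one hlam hlam1
  haveI : Fintype (conjStab A lam) := Fintype.ofFinite _
  have hAT : A ≤ conjStab A lam := by
    intro a ha
    rw [mem_conjStab]
    funext n
    have hcf := IsCharacter.isClassFunction (IsIrrCharacter.isCharacter hlam)
    exact hcf n ⟨a, ha⟩
  have hT : ∀ g, g ∈ conjStab A lam ↔
      ∀ n : A, lam ⟨g * n * g⁻¹, hA.conj_mem n n.2 g⟩ = lam n := by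
    intro g
    rw [mem_conjStab]
    constructor
    · intro h n
      exact congrFun h n
    · intro h
      funext n
      exact h n
  obtain ⟨ψ, hψ, hind, -⟩ := clifford_correspondence A lam hlam (conjStab A lam) hT hAT χ hχ hcon
  refine ⟨conjStab A lam, ?_, ψ, hψ, hind⟩
  intro htop
  obtain ⟨a, ha, g, hag⟩ := hnc
  apply hag
  have hcl := clifford A χ hχ lam hlam hcon
  have hset : {ψ : A → ℂ | ∃ g : G, ψ = conjFun A lam g} = {lam} := by
    ext ψ
    constructor
    · rintro ⟨g, rfl⟩
      have : g ∈ conjStab A lam := htop ▸ Subgroup.mem_top g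
      exact (mem_conjStab A lam g).mp this
    · intro h
      rw [Set.mem_singleton_iff] at h
      rw [h]
      exact ⟨1, (conjFun_one A lam).symm⟩
  rw [hset, finsum_mem_singleton] at hcl
  have hχa : ∀ n : A, χ n = Cfsg.classInner (fun n : A => χ n) lam * lam n :=
    fun n => congrFun hcl n
  have he : χ 1 = Cfsg.classInner (fun n : A => χ n) lam := by
    have := hχa 1
    rw [hlam1, mul_one] at this
    exact this
  have hnorm1 : ‖lam ⟨a, ha⟩‖ = 1 := by
    rw [hμ]
    apply Complex.norm_eq_one_of_pow_eq_one (n := orderOf (⟨a, ha⟩ : A))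
    · rw [← Units.val_pow_eq_pow_val, ← map_pow, pow_orderOf_eq_one, map_one, Units.val_one]
    · exact (orderOf_pos _).ne'
  have hnormχ : ‖χ a‖ = ‖χ 1‖ := by
    have := hχa ⟨a, ha⟩
    change χ a = _ at this
    rw [this, norm_mul, hnorm1, mul_one, ← he]
  obtain ⟨n, ρ, hirr, rfl⟩ := hχ
  have hnorm : ‖ρ.character a‖ = (finrank ℂ (Fin n → ℂ) : ℝ) := by
    rw [hnormχ, Representation.char_one, Complex.norm_natCast]
  obtain ⟨ω, hω⟩ := (norm_char_eq_iff ρ a).mp hnorm
  have hcomm : ρ a * ρ g = ρ g * ρ a := by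
    rw [hω]
    ext v
    simp
  have h1 : ρ (a * g * a⁻¹ * g⁻¹) = 1 := by
    calc ρ (a * g * a⁻¹ * g⁻¹) = ρ a * ρ g * ρ a⁻¹ * ρ g⁻¹ := by simp only [map_mul]
      _ = ρ g * ρ a * ρ a⁻¹ * ρ g⁻¹ := by rw [hcomm]
      _ = ρ (g * a * a⁻¹ * g⁻¹) := by simp only [map_mul]
      _ = 1 := by simp
  unfold Representation.character
  rw [h1, map_one ρ]

theorem closure_comm {Q : Type v} [Group Q] {S : Set Q}
    (hS : ∀ s ∈ S, ∀ t ∈ S, s * t = t * s) :
    ∀ a ∈ Subgroup.closure S, ∀ b ∈ Subgroup.closure S, a * b = b * a := by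
  have h1 : ∀ s ∈ S, Subgroup.closure S ≤ Subgroup.centralizer {s} := by
    intro s hs
    rw [Subgroup.closure_le]
    intro t ht
    rw [SetLike.mem_coe, Subgroup.mem_centralizer_iff]
    intro z hz
    rw [Set.mem_singleton_iff] at hz
    rw [hz]
    exact hS s hs t ht
  intro a ha b hb
  have h2 : Subgroup.closure S ≤ Subgroup.centralizer {a} := by
    rw [Subgroup.closure_le]
    intro s hs
    rw [SetLike.mem_coe, Subgroup.mem_centralizer_iff]
    intro z hz
    rw [Set.mem_singleton_iff] at hz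
    rw [hz]
    have := h1 s hs ha
    rw [Subgroup.mem_centralizer_iff] at this
    exact (this s rfl).symm
  have := h2 hb
  rw [Subgroup.mem_centralizer_iff] at this
  exact this a rfl

theorem closure_normal {Q : Type v} [Group Q] {S : Set Q}
    (hS : ∀ s ∈ S, ∀ g : Q, g * s * g⁻¹ ∈ Subgroup.closure S) : (Subgroup.closure S).Normal := by
  refine ⟨fun a ha g => ?_⟩
  induction ha using Subgroup.closure_induction with
  | mem s hs => exact hS s hs g
  | one => simp
  | mul x y _ _ hx hy =>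
    have : g * (x * y) * g⁻¹ = (g * x * g⁻¹) * (g * y * g⁻¹) := by group
    rw [this]
    exact mul_mem hx hy
  | inv x _ hx =>
    have : g * x⁻¹ * g⁻¹ = (g * x * g⁻¹)⁻¹ := by group
    rw [this]
    exact inv_mem hx

/-- In a nilpotent group that is not commutative there is an element of the second centre
outside the centre. -/
theorem exists_second_center {Q : Type v} [Group Q] [Group.IsNilpotent Q]
    (hnc : ¬ ∀ a b : Q, a * b = b * a) :
    ∃ x : Q, x ∉ Subgroup.center Q ∧ ∀ y : Q, x * y * x⁻¹ * y⁻¹ ∈ Subgroup.center Q := by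
  by_contra hcon
  push Not at hcon
  have hle : ∀ n, Subgroup.upperCentralSeries Q n ≤ Subgroup.center Q := by
    intro n
    induction n with
    | zero => rw [Subgroup.upperCentralSeries_zero]; exact bot_le
    | succ n ih =>
      intro x hx
      rw [Subgroup.mem_upperCentralSeries_succ_iff] at hx
      by_contra hxc
      obtain ⟨y, hy⟩ := hcon x hxc
      exact hy (ih (hx y))
  obtain ⟨n, hn⟩ := Group.IsNilpotent.nilpotent Q
  apply hnc
  intro a b
  have ha : a ∈ Subgroup.center Q := hle n (hn ▸ Subgroup.mem_top a)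
  exact (Subgroup.mem_center_iff.mp ha b).symm

theorem nilpotent_monomial_aux : ∀ (n : ℕ) (G : Type u) [Group G] [Fintype G]
    [Group.IsNilpotent G], Fintype.card G = n → ∀ χ : G → ℂ, Cfsg.IsIrrCharacter G χ →
      ∃ (H : Subgroup G) (lam : H →* ℂˣ), χ = Cfsg.indFun H (fun h => (lam h : ℂ)) := by
  intro n
  induction n using Nat.strong_induction_on with
  | _ n ih =>
  intro G _ _ _ hcard χ hχ
  classical
  by_cases hdeg : χ 1 = 1
  · obtain ⟨μ, hμ⟩ := exists_hom_of_irr_degree_one hχ hdeg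
    refine ⟨⊤, μ.comp (⊤ : Subgroup G).subtype, ?_⟩
    rw [indFun_top]
    · rw [hμ]
      rfl
    · intro x y
      simp only [map_mul, map_inv, Units.val_mul, MonoidHom.coe_comp]
      rw [mul_comm, ← mul_assoc]
      simp
  · obtain ⟨K, hKn, hK, -, -, -⟩ := exists_kernel_data hχ
    haveI := hKn
    have hncomm : ¬ ∀ a b : G ⧸ K, a * b = b * a := by
      intro hc
      apply hdeg
      apply irr_degree_one_of_commutators hχ
      intro a b
      rw [← hK, ← QuotientGroup.eq_one_iff]
      simp only [QuotientGroup.mk_mul, QuotientGroup.mk_inv]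
      rw [hc (a : G ⧸ K) (b : G ⧸ K)]
      simp
    obtain ⟨x, hx1, hx2⟩ := exists_second_center hncomm
    obtain ⟨x₀, rfl⟩ := QuotientGroup.mk_surjective x
    have hS : ∀ s ∈ ((Subgroup.center (G ⧸ K) : Set (G ⧸ K)) ∪ {(x₀ : G ⧸ K)}),
        ∀ t ∈ ((Subgroup.center (G ⧸ K) : Set (G ⧸ K)) ∪ {(x₀ : G ⧸ K)}), s * t = t * s := by
      intro s hs t ht
      rcases hs with hs | hs
      · exact (Subgroup.mem_center_iff.mp hs t).symm
      · rcases ht with ht | ht
        · exact Subgroup.mem_center_iff.mp ht s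
        · rw [Set.mem_singleton_iff] at hs ht
          rw [hs, ht]
    have hcommA := closure_comm hS
    have hnormalA : (Subgroup.closure
        ((Subgroup.center (G ⧸ K) : Set (G ⧸ K)) ∪ {(x₀ : G ⧸ K)})).Normal := by
      apply closure_normal
      intro s hs g
      rcases hs with hs | hs
      · have : g * s * g⁻¹ = s := by
          rw [Subgroup.mem_center_iff.mp hs g, mul_inv_cancel_right]
        rw [this]
        exact Subgroup.subset_closure (Or.inl hs)
      · rw [Set.mem_singleton_iff] at hs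
        rw [hs]
        have h1 : g * (x₀ : G ⧸ K) * g⁻¹ =
            ((x₀ : G ⧸ K) * g * (x₀ : G ⧸ K)⁻¹ * g⁻¹)⁻¹ * (x₀ : G ⧸ K) := by group
        rw [h1]
        apply mul_mem
        · apply inv_mem
          exact Subgroup.subset_closure (Or.inl (hx2 g))
        · exact Subgroup.subset_closure (Or.inr rfl)
    haveI : ((Subgroup.closure ((Subgroup.center (G ⧸ K) : Set (G ⧸ K)) ∪
        {(x₀ : G ⧸ K)})).comap (QuotientGroup.mk' K)).Normal := hnormalA.comap _
    obtain ⟨T, hT, ψ, hψ, hind⟩ := monomial_step χ hχ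
      ((Subgroup.closure ((Subgroup.center (G ⧸ K) : Set (G ⧸ K)) ∪
        {(x₀ : G ⧸ K)})).comap (QuotientGroup.mk' K)) (by
        intro a ha b hb
        rw [← hK, ← QuotientGroup.eq_one_iff]
        simp only [QuotientGroup.mk_mul, QuotientGroup.mk_inv]
        rw [hcommA (a : G ⧸ K) ha (b : G ⧸ K) hb]
        simp) (by
        have hx1' : ¬ ∀ g : G ⧸ K, g * (x₀ : G ⧸ K) = (x₀ : G ⧸ K) * g := by
          intro h
          exact hx1 (Subgroup.mem_center_iff.mpr h)
        push Not at hx1'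
        obtain ⟨g, hg⟩ := hx1'
        obtain ⟨g₀, rfl⟩ := QuotientGroup.mk_surjective g
        refine ⟨x₀, Subgroup.subset_closure (Or.inr rfl), g₀, ?_⟩
        rw [Ne, ← hK, ← QuotientGroup.eq_one_iff]
        simp only [QuotientGroup.mk_mul, QuotientGroup.mk_inv]
        intro h
        apply hg
        have h2 : (x₀ : G ⧸ K) * (g₀ : G ⧸ K) = (g₀ : G ⧸ K) * (x₀ : G ⧸ K) := by
          have := congrArg (fun z => z * (g₀ : G ⧸ K) * (x₀ : G ⧸ K)) h
          simpa using this
        exact h2.symm)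
    haveI : Fintype T := Fintype.ofFinite _
    have hlt : Fintype.card T < n := by
      rw [← hcard, ← Nat.card_eq_fintype_card, ← Nat.card_eq_fintype_card]
      apply lt_of_le_of_ne (Subgroup.card_le_card_group T)
      intro h
      exact hT (Subgroup.card_eq_iff_eq_top T |>.mp h)
    obtain ⟨H', lam', hψ'⟩ := ih (Fintype.card T) hlt T rfl ψ hψ
    refine ⟨H'.map T.subtype, lam'.comp
      (Subgroup.equivMapOfInjective H' T.subtype T.subtype_injective).symm.toMonoidHom, ?_⟩
    rw [← hind, hψ', indFun_indFun_subtype]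
    rfl

/-- Finite nilpotent groups are M-groups. -/
theorem nilpotent_monomial [Fintype G] [Group.IsNilpotent G] (χ : G → ℂ)
    (hχ : Cfsg.IsIrrCharacter G χ) :
    ∃ (H : Subgroup G) (lam : H →* ℂˣ), χ = Cfsg.indFun H (fun h => (lam h : ℂ)) :=
  nilpotent_monomial_aux _ G rfl χ hχ

end Cfsg.Agent.Helper6.Xd
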