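import Mathlib
import Cfsg.Prelude.Def_Characters
import Cfsg.Agent.Helper6.XdBrauer1
import Cfsg.Agent.Helper6.Constituent
import Cfsg.Agent.Helper6.OddReal

/-!
(Fork of `Helper6/Brauer2.lean` in the namespace `Cfsg.Agent.Helper6.Xd`, so that it can be imported
together with the coherence library.)

# Quasi-elementary groups: helper lemmas
-/

set_option autoImplicit false
set_option linter.style.haveILetI false

namespace Cfsg.Agent.Helper6.Xd

open scoped ComplexConjugate
open Module

universe u v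

variable {Q : Type u} [Group Q]

/-- If the trivial character is a constituent of a character, the sum of the character over any
subgroup is nonzero. -/
theorem sum_ne_zero_of_trivial_constituent_aux {X : Type u} [Group X] [Fintype X] {Ψ : X → ℂ}
    (hΨ : Cfsg.IsCharacter X Ψ) (h : Cfsg.classInner Ψ (fun _ => (1 : ℂ)) ≠ 0)
    (U : Subgroup X) [Fintype U] : ∑ u : U, Ψ u ≠ 0 := by
  classical
  have hΔ := sub_isCharacter_of_constituent hΨ (isIrrCharacter_one (G := X)) h
  have hΔU := IsCharacter.restrict U hΔ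
  obtain ⟨n, hn⟩ := classInner_char_char_nat hΔU
    (IsIrrCharacter.isCharacter (isIrrCharacter_one (G := U)))
  rw [classInner_def] at hn
  have hcard : (Nat.card U : ℂ) ≠ 0 := by exact_mod_cast Nat.card_pos.ne'
  have hsumΔ : ∑ u : U, (Ψ (u : X) - 1) = (Nat.card U : ℂ) * n := by
    rw [← hn, ← mul_assoc, mul_inv_cancel₀ hcard, one_mul]
    apply Finset.sum_congr rfl
    intro u _
    simp
  have hsum : ∑ u : U, Ψ u = (Nat.card U : ℂ) * (1 + n) := by
    have : ∑ u : U, Ψ u = ∑ u : U, ((Ψ (u : X) - 1) + 1) := by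
      apply Finset.sum_congr rfl
      intro u _
      ring
    rw [this, Finset.sum_add_distrib, hsumΔ, Finset.sum_const, Finset.card_univ,
      Nat.card_eq_fintype_card]
    simp
    ring
  rw [hsum]
  apply mul_ne_zero hcard
  have : (1 + (n : ℂ)) = ((1 + n : ℕ) : ℂ) := by push_cast; ring
  rw [this]
  exact_mod_cast (Nat.succ_ne_zero n ∘ (by omega))

theorem sum_ne_zero_of_trivial_constituent [Fintype Q] {ψ : Q → ℂ} (hψ : Cfsg.IsCharacter Q ψ)
    (E U : Subgroup Q) (hUE : U ≤ E) [Fintype E] [Fintype U]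
    (h : Cfsg.classInner (fun e : E => ψ e) (fun _ => (1 : ℂ)) ≠ 0) : ∑ u : U, ψ u ≠ 0 := by
  classical
  haveI : Fintype (U.subgroupOf E) := Fintype.ofFinite _
  have h1 := sum_ne_zero_of_trivial_constituent_aux (IsCharacter.restrict E hψ) h (U.subgroupOf E)
  have h2 : ∑ u : U.subgroupOf E, ψ ((u : E) : Q) = ∑ u : U, ψ u := by
    apply Fintype.sum_equiv (Subgroup.subgroupOfEquivOfLe hUE).toEquiv
    intro u
    rfl
  rw [← h2]
  exact h1

/-- A linear character of a normal `p'`-subgroup that is invariant under a `p`-group and trivial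
on its fixed points is trivial. -/
theorem hom_eq_one_of_invariant [Finite Q] (p : ℕ) [hp : Fact p.Prime] (C : Subgroup Q)
    [hC : C.Normal] (P : Subgroup Q) (hP : IsPGroup p P) (hcop : Nat.Coprime (Nat.card C) p)
    (μ : C →* ℂˣ)
    (hinv : ∀ x ∈ P, ∀ c : C, μ ⟨x * c * x⁻¹, hC.conj_mem c c.2 x⟩ = μ c)
    (hZ : ∀ c : C, (∀ x ∈ P, x * (c : Q) * x⁻¹ = c) → μ c = 1) : ∀ c : C, μ c = 1 := by
  classical
  intro c
  let α := {c' : C // μ c' = μ c}
  let act : MulAction P α :=
    { smul := fun x c' => ⟨⟨(x : Q) * (c'.1 : Q) * (x : Q)⁻¹, hC.conj_mem c'.1 c'.1.2 x⟩, by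
        rw [hinv x x.2 c'.1]; exact c'.2⟩
      one_smul := by
        intro c'
        apply Subtype.ext
        apply Subtype.ext
        change ((1 : P) : Q) * (c'.1 : Q) * ((1 : P) : Q)⁻¹ = c'.1
        simp
      mul_smul := by
        intro x y c'
        apply Subtype.ext
        apply Subtype.ext
        change ((x * y : P) : Q) * (c'.1 : Q) * ((x * y : P) : Q)⁻¹ =
          (x : Q) * ((y : Q) * (c'.1 : Q) * (y : Q)⁻¹) * (x : Q)⁻¹
        simp only [Subgroup.coe_mul, mul_inv_rev]
        group }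
  have hcard : Nat.card α = Nat.card μ.ker := by
    apply Nat.card_congr
    refine
      { toFun := fun c' => ⟨c⁻¹ * c'.1, ?_⟩
        invFun := fun k => ⟨c * k.1, ?_⟩
        left_inv := ?_
        right_inv := ?_ }
    · rw [MonoidHom.mem_ker, map_mul, map_inv, c'.2, inv_mul_cancel]
    · rw [map_mul, MonoidHom.mem_ker.mp k.2, mul_one]
    · intro c'
      apply Subtype.ext
      simp
    · intro k
      apply Subtype.ext
      simp
  have hnd : ¬ p ∣ Nat.card α := by
    rw [hcard]
    intro hdvd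
    have h1 : p ∣ Nat.card C := dvd_trans hdvd (Subgroup.card_subgroup_dvd_card μ.ker)
    have := Nat.Coprime.eq_one_of_dvd hcop.symm h1
    exact hp.out.one_lt.ne' this
  obtain ⟨c', hc'⟩ := @IsPGroup.nonempty_fixed_point_of_prime_not_dvd_card p P _ hP hp α act hnd
  rw [← c'.2]
  apply hZ
  intro x hx
  have := hc' ⟨x, hx⟩
  have h2 := congrArg (fun z : α => ((z.1 : C) : Q)) this
  exact h2

theorem sum_eq_sum_complement [Fintype Q] (C P : Subgroup Q) [Fintype C] [Fintype P]
    (h : C.IsComplement' P) (f : Q → ℂ) :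
    ∑ g : Q, f g = ∑ c : C, ∑ x : P, f ((c : Q) * (x : Q)) := by
  rw [← Fintype.sum_prod_type']
  symm
  exact Fintype.sum_bijective (fun x : C × P => (x.1 : Q) * (x.2 : Q)) h _ _ (fun _ => rfl)

end Cfsg.Agent.Helper6.Xd
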