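import Mathlib
import Cfsg.Prelude.Def_Characters
import Cfsg.Agent.Helper6.XdBrauer2

/-!
(Fork of `Helper6/Brauer3.lean` in the namespace `Cfsg.Agent.Helper6.Xd`, so that it can be imported
together with the coherence library.)

# Quasi-elementary groups: structure
-/

set_option autoImplicit false
set_option linter.style.haveILetI false

namespace Cfsg.Agent.Helper6.Xd

open scoped ComplexConjugate
open Module

universe u v

variable {Q : Type u} [Group Q]

/-- `Q` is a `p`-quasi-elementary group. -/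
def QEGroup (p : ℕ) (Q : Type u) [Group Q] : Prop :=
  ∃ C : Subgroup Q, C.Normal ∧ IsCyclic C ∧ Nat.Coprime (Nat.card C) p ∧
    ∃ k : ℕ, C.index = p ^ k

theorem QEGroup.subgroup {p : ℕ} (hp : p.Prime) [Finite Q] (h : QEGroup p Q) (T : Subgroup Q) :
    QEGroup p T := by
  obtain ⟨C, hCn, hCc, hcop, k, hk⟩ := h
  haveI := hCn
  haveI := hCc
  refine ⟨C.subgroupOf T, inferInstance, ?_, ?_, ?_⟩
  · let f : C.subgroupOf T →* C :=
      { toFun := fun w => ⟨((w : T) : Q), Subgroup.mem_subgroupOf.mp w.2⟩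
        map_one' := rfl
        map_mul' := fun _ _ => rfl }
    apply isCyclic_of_injective f
    intro a b hab
    apply Subtype.ext
    apply Subtype.ext
    exact congrArg (fun z : C => (z : Q)) hab
  · have h1 : Nat.card (C.subgroupOf T) = Nat.card (C ⊓ T : Subgroup Q) := by
      rw [← Subgroup.inf_subgroupOf_right]
      exact Nat.card_congr (Subgroup.subgroupOfEquivOfLe inf_le_right).toEquiv
    rw [h1]
    exact Nat.Coprime.coprime_dvd_left (Subgroup.card_dvd_of_le inf_le_left) hcop
  · have h1 : (C.subgroupOf T).index ∣ C.index := Subgroup.relIndex_dvd_index_of_normal C T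
    rw [hk] at h1
    obtain ⟨j, _, hj⟩ := (Nat.dvd_prime_pow hp).mp h1
    exact ⟨j, hj⟩

theorem qe_data {p : ℕ} [hp : Fact p.Prime] [Finite Q] (h : QEGroup p Q) :
    ∃ C P : Subgroup Q, C.Normal ∧ IsCyclic C ∧ Nat.Coprime (Nat.card C) p ∧ IsPGroup p P ∧
      C.IsComplement' P := by
  obtain ⟨C, hCn, hCc, hcop, k, hk⟩ := h
  obtain ⟨P⟩ := (inferInstance : Nonempty (Sylow p Q))
  refine ⟨C, P, hCn, hCc, hcop, P.2, ?_⟩
  have hQ : Nat.card Q = Nat.card C * p ^ k := by
    rw [← hk, Subgroup.card_mul_index]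
  have hCpos : Nat.card C ≠ 0 := Nat.card_pos.ne'
  have hndvd : ¬ p ∣ Nat.card C := by
    intro hd
    have := Nat.Coprime.eq_one_of_dvd hcop.symm hd
    exact hp.out.one_lt.ne' this
  have hP : Nat.card P = p ^ k := by
    rw [Sylow.card_eq_multiplicity, hQ, Nat.factorization_mul hCpos (pow_pos hp.out.pos k).ne',
      hp.out.factorization_pow]
    simp [Nat.factorization_eq_zero_of_not_dvd hndvd]
  apply Subgroup.isComplement'_of_coprime
  · rw [hP, hQ]
  · rw [hP]
    exact Nat.Coprime.pow_right k hcop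

theorem elementary_sup {p : ℕ} [hp : Fact p.Prime] [Finite Q] (C P : Subgroup Q) [IsCyclic C]
    (hcop : Nat.Coprime (Nat.card C) p) (hP : IsPGroup p P) :
    Cfsg.IsElementary p
      ((C ⊓ Subgroup.centralizer (P : Set Q)) ⊔ P : Subgroup Q) := by
  classical
  set Z := C ⊓ Subgroup.centralizer (P : Set Q) with hZ
  set E := Z ⊔ P with hE
  haveI : IsCyclic Z := Subgroup.isCyclic_of_le (inf_le_left : Z ≤ C)
  obtain ⟨z₀, hwZ, hzw⟩ : ∃ z₀ : Q, z₀ ∈ Z ∧ Subgroup.zpowers z₀ = Z := by
    obtain ⟨w, hw⟩ := IsCyclic.exists_generator (α := Z)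
    refine ⟨(w : Q), w.2, ?_⟩
    have h1 : Subgroup.zpowers w = ⊤ := by
      rw [Subgroup.eq_top_iff']
      exact hw
    have h2 := congrArg (Subgroup.map Z.subtype) h1
    rw [MonoidHom.map_zpowers, ← MonoidHom.range_eq_map, Subgroup.range_subtype] at h2
    exact h2
  have hwE : z₀ ∈ E := (le_sup_left : Z ≤ E) hwZ
  -- w commutes with E
  have hcent : E ≤ Subgroup.centralizer {z₀} := by
    apply sup_le
    · rw [← hzw]
      intro g hg
      rw [Subgroup.mem_centralizer_iff]
      intro z hz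
      rw [Set.mem_singleton_iff] at hz
      rw [hz]
      obtain ⟨i, rfl⟩ := Subgroup.mem_zpowers_iff.mp hg
      exact (Commute.zpow_right (Commute.refl _) i).eq
    · intro x hx
      rw [Subgroup.mem_centralizer_iff]
      intro z hz
      rw [Set.mem_singleton_iff] at hz
      rw [hz]
      have : z₀ ∈ Subgroup.centralizer (P : Set Q) := (inf_le_right : Z ≤ _) hwZ
      rw [Subgroup.mem_centralizer_iff] at this
      exact (this x hx).symm
  have hcenter : (⟨z₀, hwE⟩ : E) ∈ Subgroup.center E := by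
    rw [Subgroup.mem_center_iff]
    intro g
    apply Subtype.ext
    have := hcent g.2
    rw [Subgroup.mem_centralizer_iff] at this
    exact (this _ rfl).symm
  have hzE : Subgroup.zpowers (⟨z₀, hwE⟩ : E) = Z.subgroupOf E := by
    ext g
    rw [Subgroup.mem_subgroupOf, ← hzw, Subgroup.mem_zpowers_iff, Subgroup.mem_zpowers_iff]
    constructor
    · rintro ⟨i, rfl⟩
      exact ⟨i, by simp⟩
    · rintro ⟨i, hi⟩
      refine ⟨i, ?_⟩
      apply Subtype.ext
      simpa using hi
  refine ⟨⟨z₀, hwE⟩, hcenter, ?_, ?_⟩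
  · have h1 : orderOf (⟨z₀, hwE⟩ : E) = orderOf z₀ := (Subgroup.orderOf_coe _).symm
    rw [h1]
    have h2 : orderOf z₀ ∣ Nat.card C := by
      rw [← Nat.card_zpowers, hzw]
      exact Subgroup.card_dvd_of_le inf_le_left
    exact Nat.Coprime.coprime_dvd_left h2 hcop
  · rw [hzE]
    haveI : (Z.subgroupOf E).Normal := by
      apply normal_of_le_center
      rw [← hzE, Subgroup.zpowers_le]
      exact hcenter
    -- the quotient is a p-group
    have hsup : Z.subgroupOf E ⊔ P.subgroupOf E = ⊤ := by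
      rw [← Subgroup.subgroupOf_sup (A := Z) (A' := P) (B := E) le_sup_left le_sup_right,
        Subgroup.subgroupOf_self]
    have hPE : IsPGroup p (P.subgroupOf E) :=
      hP.of_equiv (Subgroup.subgroupOfEquivOfLe (le_sup_right : P ≤ E)).symm
    have hmap : (P.subgroupOf E).map (QuotientGroup.mk' (Z.subgroupOf E)) = ⊤ := by
      have h1 := congrArg (Subgroup.map (QuotientGroup.mk' (Z.subgroupOf E))) hsup
      rw [Subgroup.map_sup, QuotientGroup.map_mk'_self, bot_sup_eq,
        Subgroup.map_top_of_surjective _ (QuotientGroup.mk'_surjective _)] at h1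
      exact h1
    have hsurj : Function.Surjective
        ((QuotientGroup.mk' (Z.subgroupOf E)).comp (P.subgroupOf E).subtype) := by
      intro q
      have : q ∈ (P.subgroupOf E).map (QuotientGroup.mk' (Z.subgroupOf E)) := by
        rw [hmap]; exact Subgroup.mem_top q
      obtain ⟨x, hx, rfl⟩ := this
      exact ⟨⟨x, hx⟩, rfl⟩
    have hquot : IsPGroup p (E ⧸ Z.subgroupOf E) := hPE.of_surjective _ hsurj
    obtain ⟨j, hj⟩ := IsPGroup.iff_card.mp hquot
    exact ⟨j, by rw [Subgroup.index_eq_card, hj]⟩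

end Cfsg.Agent.Helper6.Xd
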