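import Mathlib
import Cfsg.Prelude.Def_Characters
import Cfsg.Agent.Helper6.XdBrauer5
import Cfsg.Agent.S0872

/-!
(Fork of `Helper6/Brauer6.lean` in the namespace `Cfsg.Agent.Helper6.Xd`, so that it can be imported
together with the coherence library.)

# The local and global Brauer induction theorems
-/

set_option autoImplicit false
set_option linter.style.haveILetI false

namespace Cfsg.Agent.Helper6.Xd

open scoped ComplexConjugate
open Module

universe u v

variable {G : Type u} [Group G]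

theorem qeGroup_of_subgroup {p : ℕ} (H : Subgroup G)
    (h : ∃ C : Subgroup G, C ≤ H ∧ H ≤ Subgroup.normalizer (C : Set G) ∧ IsCyclic C ∧
      Nat.Coprime (Nat.card C) p ∧ ∃ k : ℕ, C.relIndex H = p ^ k) : QEGroup p H := by
  obtain ⟨C, hCH, hHN, hcyc, hcop, k, hk⟩ := h
  refine ⟨C.subgroupOf H, (Subgroup.normal_subgroupOf_iff_le_normalizer hCH).mpr hHN, ?_, ?_,
    k, hk⟩
  · let f : C.subgroupOf H →* C :=
      { toFun := fun w => ⟨((w : H) : G), Subgroup.mem_subgroupOf.mp w.2⟩
        map_one' := rfl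
        map_mul' := fun _ _ => rfl }
    apply isCyclic_of_injective f
    intro a b hab
    apply Subtype.ext
    apply Subtype.ext
    exact congrArg (fun z : C => (z : G)) hab
  · rw [Nat.card_congr (Subgroup.subgroupOfEquivOfLe hCH).toEquiv]
    exact hcop

/-- The local Brauer induction theorem. -/
theorem local_brauer [Fintype G] (p : ℕ) (hp : p.Prime) :
    ∃ m : ℤ, ¬ (p : ℤ) ∣ m ∧ ∀ χ : G → ℂ, Cfsg.IsCharacter G χ →
      (m : ℂ) • χ ∈ BrauerSpan p G := by
  classical
  haveI : Fact p.Prime := ⟨hp⟩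
  obtain ⟨m, a, hm, ha, hsum⟩ := Cfsg.Agent.S0872.result (G := G) p hp
  refine ⟨m, hm, ?_⟩
  intro χ hχ
  have hχcf := IsCharacter.isClassFunction hχ
  have h1 : (m : ℂ) • χ = χ * (fun _ : G => (m : ℂ)) := by
    funext g
    simp [mul_comm]
  rw [h1, hsum, Finset.mul_sum]
  apply sum_mem
  intro H _
  rw [mul_smul_comm, Int.cast_smul_eq_zsmul]
  by_cases h0 : a H = 0
  · rw [h0, zero_smul]
    exact zero_mem _
  · apply zsmul_mem
    haveI : Fintype H := Fintype.ofFinite _
    rw [mul_indFun H _ χ hχcf]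
    apply BrauerSpan.indFun_mem
    have : (fun h : H => χ h * 1) = fun h : H => χ h := by
      funext h
      rw [mul_one]
    rw [this]
    exact qe_char_mem (qeGroup_of_subgroup H (ha H h0)) (IsCharacter.restrict H hχ)

theorem list_sum_neg_coeff [Fintype G] (l : List ((E : Subgroup G) × ((E → ℂ) × ℤ))) :
    -(l.map fun t => (t.2.2 : ℂ) • Cfsg.indFun t.1 t.2.1).sum =
      ((l.map (fun t => (⟨t.1, (t.2.1, -t.2.2)⟩ : (E : Subgroup G) × ((E → ℂ) × ℤ)))).map
        fun t => (t.2.2 : ℂ) • Cfsg.indFun t.1 t.2.1).sum := by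
  induction l with
  | nil => simp
  | cons t l ih =>
    rw [List.map_cons, List.map_cons, List.map_cons, List.sum_cons, List.sum_cons, neg_add, ih]
    congr 1
    simp

/-- Conversion of membership in the local span into a list of triples. -/
theorem BrauerSpan.exists_list [Fintype G] {p : ℕ} {f : G → ℂ} (hf : f ∈ BrauerSpan p G) :
    ∃ l : List ((E : Subgroup G) × ((E → ℂ) × ℤ)),
      (∀ t ∈ l, Cfsg.IsElementary p t.1 ∧ Cfsg.IsCharacter t.1 t.2.1) ∧
      f = (l.map fun t => (t.2.2 : ℂ) • Cfsg.indFun t.1 t.2.1).sum := by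
  unfold BrauerSpan at hf
  induction hf using AddSubgroup.closure_induction with
  | mem f hf =>
    obtain ⟨E, lam, hE, rfl⟩ := hf
    refine ⟨[⟨E, (fun e => ((lam e : ℂˣ) : ℂ), 1)⟩], ?_, ?_⟩
    · intro t ht
      rw [List.mem_singleton] at ht
      subst ht
      exact ⟨hE, IsIrrCharacter.isCharacter (isIrrCharacter_of_hom lam)⟩
    · simp
  | zero => exact ⟨[], by simp, by simp⟩
  | add f g _ _ hf hg =>
    obtain ⟨l₁, h1, rfl⟩ := hf
    obtain ⟨l₂, h2, rfl⟩ := hg
    refine ⟨l₁ ++ l₂, ?_, ?_⟩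
    · intro t ht
      rcases List.mem_append.mp ht with h | h
      · exact h1 t h
      · exact h2 t h
    · rw [List.map_append, List.sum_append]
  | neg f _ hf =>
    obtain ⟨l, h1, rfl⟩ := hf
    refine ⟨l.map (fun t => ⟨t.1, (t.2.1, -t.2.2)⟩), ?_, ?_⟩
    · intro t ht
      obtain ⟨s, hs, rfl⟩ := List.mem_map.mp ht
      exact h1 s hs
    · exact list_sum_neg_coeff l

end Cfsg.Agent.Helper6.Xd
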