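import Mathlib
import Cfsg.Prelude.Def_Characters
import Cfsg.Agent.Helper6.XdBrauer7

/-!
(Fork of `Helper6/Brauer8.lean` in the namespace `Cfsg.Agent.Helper6.Xd`, so that it can be imported
together with the coherence library.)

# Brauer's characterization of characters
-/

set_option autoImplicit false
set_option linter.style.haveILetI false

namespace Cfsg.Agent.Helper6.Xd

open scoped ComplexConjugate
open Module

universe u v

variable {G : Type u} [Group G]

theorem IsGeneralizedCharacter.zero : Cfsg.IsGeneralizedCharacter G (0 : G → ℂ) :=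
  ⟨0, 0, IsCharacter.zero, IsCharacter.zero, by simp⟩

theorem IsGeneralizedCharacter.add {f g : G → ℂ} (hf : Cfsg.IsGeneralizedCharacter G f)
    (hg : Cfsg.IsGeneralizedCharacter G g) : Cfsg.IsGeneralizedCharacter G (f + g) := by
  obtain ⟨a, b, ha, hb, rfl⟩ := hf
  obtain ⟨c, d, hc, hd, rfl⟩ := hg
  exact ⟨a + c, b + d, IsCharacter.add ha hc, IsCharacter.add hb hd, by abel⟩

theorem IsGeneralizedCharacter.neg {f : G → ℂ} (hf : Cfsg.IsGeneralizedCharacter G f) :
    Cfsg.IsGeneralizedCharacter G (-f) := by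
  obtain ⟨a, b, ha, hb, rfl⟩ := hf
  exact ⟨b, a, hb, ha, by abel⟩

theorem IsGeneralizedCharacter.of_isCharacter {f : G → ℂ} (hf : Cfsg.IsCharacter G f) :
    Cfsg.IsGeneralizedCharacter G f :=
  ⟨f, 0, hf, IsCharacter.zero, by simp⟩

theorem IsGeneralizedCharacter.mul_char {f χ : G → ℂ} (hf : Cfsg.IsGeneralizedCharacter G f)
    (hχ : Cfsg.IsCharacter G χ) : Cfsg.IsGeneralizedCharacter G (f * χ) := by
  obtain ⟨a, b, ha, hb, rfl⟩ := hf
  exact ⟨a * χ, b * χ, IsCharacter.mul ha hχ, IsCharacter.mul hb hχ, by rw [sub_mul]⟩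

theorem IsGeneralizedCharacter.indFun [Fintype G] (H : Subgroup G) {f : H → ℂ}
    (hf : Cfsg.IsGeneralizedCharacter H f) :
    Cfsg.IsGeneralizedCharacter G (Cfsg.indFun H f) := by
  obtain ⟨a, b, ha, hb, rfl⟩ := hf
  exact ⟨Cfsg.indFun H a, Cfsg.indFun H b, isCharacter_indFun H a ha, isCharacter_indFun H b hb,
    indFun_sub H a b⟩

/-- Brauer's characterization of characters. -/
theorem brauer_characterization [Fintype G] (θ : G → ℂ) (hθ : Cfsg.IsClassFunction G θ)
    (hE : ∀ (E : Subgroup G) (p : ℕ), p.Prime → Cfsg.IsElementary p E →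
      Cfsg.IsGeneralizedCharacter E (fun e : E => θ e)) :
    Cfsg.IsGeneralizedCharacter G θ := by
  classical
  have key : ∀ f ∈ BrauerSpanAll G, Cfsg.IsGeneralizedCharacter G (θ * f) := by
    intro f hf
    unfold BrauerSpanAll at hf
    induction hf using AddSubgroup.closure_induction with
    | mem f hf =>
      obtain ⟨E, lam, ⟨p, hp, hEp⟩, rfl⟩ := hf
      rw [mul_indFun E _ θ hθ]
      apply IsGeneralizedCharacter.indFun
      exact IsGeneralizedCharacter.mul_char (hE E p hp hEp)
        (IsIrrCharacter.isCharacter (isIrrCharacter_of_hom lam))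
    | zero => rw [mul_zero]; exact IsGeneralizedCharacter.zero
    | add f g _ _ hf hg => rw [mul_add]; exact IsGeneralizedCharacter.add hf hg
    | neg f _ hf => rw [mul_neg]; exact IsGeneralizedCharacter.neg hf
  have h1 := key _ (global_brauer (fun _ => (1 : ℂ))
    (IsIrrCharacter.isCharacter (isIrrCharacter_one (G := G))))
  have h2 : θ * (fun _ => (1 : ℂ)) = θ := by
    funext g
    simp
  rwa [h2] at h1

end Cfsg.Agent.Helper6.Xd
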