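import Mathlib
import Cfsg.Prelude.Def_Characters
import Cfsg.Agent.Helper6.XdBrauer9
import Cfsg.Agent.Helper6.CentralChar
import Cfsg.Agent.Helper6.DegreeDvd
import Cfsg.Agent.Helper6.NormTwo

/-!
(Fork of `Helper6/Brauer10.lean` in the namespace `Cfsg.Agent.Helper6.Xd`, so that it can be imported
together with the coherence library.)

# Characters of `p`-defect zero vanish on `p`-singular elements
-/

set_option autoImplicit false
set_option linter.style.haveILetI false

namespace Cfsg.Agent.Helper6.Xd

open scoped ComplexConjugate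
open Module

universe u v

variable {G : Type u} [Group G]

theorem IsCharacter.sum {ι : Type*} (s : Finset ι) (f : ι → G → ℂ)
    (hf : ∀ i ∈ s, Cfsg.IsCharacter G (f i)) : Cfsg.IsCharacter G (∑ i ∈ s, f i) := by
  classical
  induction s using Finset.induction_on with
  | empty => simpa using IsCharacter.zero
  | insert a s ha ih =>
    rw [Finset.sum_insert ha]
    exact IsCharacter.add (hf a (Finset.mem_insert_self a s))
      (ih (fun i hi => hf i (Finset.mem_insert_of_mem hi)))

/-- A class function with integer multiplicities is a generalized character. -/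
theorem isGeneralizedCharacter_of_classInner_int [Fintype G] {φ : G → ℂ}
    (hφ : Cfsg.IsClassFunction G φ)
    (h : ∀ χ : G → ℂ, Cfsg.IsIrrCharacter G χ → ∃ n : ℤ, Cfsg.classInner φ χ = n) :
    Cfsg.IsGeneralizedCharacter G φ := by
  classical
  haveI : Finite (Cfsg.IrrCharacter G) := irr_finite
  haveI : Fintype (Cfsg.IrrCharacter G) := Fintype.ofFinite _
  choose n hn using fun χ : Cfsg.IrrCharacter G => h χ χ.2
  refine ⟨∑ χ : Cfsg.IrrCharacter G, (n χ).toNat • (χ : G → ℂ),
    ∑ χ : Cfsg.IrrCharacter G, (-(n χ)).toNat • (χ : G → ℂ), ?_, ?_, ?_⟩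
  · apply IsCharacter.sum
    intro χ _
    exact IsCharacter.nsmul (IsIrrCharacter.isCharacter χ.2) _
  · apply IsCharacter.sum
    intro χ _
    exact IsCharacter.nsmul (IsIrrCharacter.isCharacter χ.2) _
  · conv_lhs => rw [classFunction_expansion φ hφ]
    rw [← Finset.sum_sub_distrib]
    apply Finset.sum_congr rfl
    intro χ _
    rw [hn χ, ← Nat.cast_smul_eq_nsmul ℂ, ← Nat.cast_smul_eq_nsmul ℂ, ← sub_smul]
    congr 1
    have := Int.toNat_sub_toNat_neg (n χ)
    have h2 : ((n χ : ℤ) : ℂ) = (((n χ).toNat : ℤ) : ℂ) - (((-(n χ)).toNat : ℤ) : ℂ) := by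
      rw [← Int.cast_sub, this]
    rw [h2]
    push_cast
    rfl

theorem sylow_card_of_coprime_index {E : Type u} [Group E] [Finite E] {p : ℕ} [hp : Fact p.Prime]
    (B : Subgroup E) (hcop : Nat.Coprime (Nat.card B) p) {b : ℕ} (hb : B.index = p ^ b)
    (P : Sylow p E) : Nat.card P = p ^ b := by
  have hE : Nat.card E = Nat.card B * p ^ b := by
    rw [← hb, Subgroup.card_mul_index]
  have hBpos : Nat.card B ≠ 0 := Nat.card_pos.ne'
  have hndvd : ¬ p ∣ Nat.card B := by
    intro hd
    have := Nat.Coprime.eq_one_of_dvd hcop.symm hd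
    exact hp.out.one_lt.ne' this
  rw [Sylow.card_eq_multiplicity, hE, Nat.factorization_mul hBpos (pow_pos hp.out.pos b).ne',
    hp.out.factorization_pow]
  simp [Nat.factorization_eq_zero_of_not_dvd hndvd]

/-- In an elementary subgroup, the `p`-part of the order divides the centralizer order of each
element of the normal `p`-complement. -/
theorem pow_dvd_card_centralizer [Finite G] (E : Subgroup G) {q : ℕ} (hq : q.Prime)
    (hE : Cfsg.IsElementary q E) {p : ℕ} [hp : Fact p.Prime] (B : Subgroup E) [hB : B.Normal]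
    (hcop : Nat.Coprime (Nat.card B) p) {b : ℕ} (hb : B.index = p ^ b) (x : E) (hx : x ∈ B) :
    p ^ b ∣ Nat.card (Subgroup.centralizer ({(x : G)} : Set G)) := by
  haveI : Group.IsNilpotent E := IsElementary.isNilpotent hq hE
  obtain ⟨P⟩ := (inferInstance : Nonempty (Sylow p E))
  have hnil : Group.IsNilpotent E := inferInstance
  have htfae : Group.IsNilpotent E ↔
      ∀ (p : ℕ) (_hp : Fact p.Prime) (P : Sylow p E), (↑P : Subgroup E).Normal :=
    (Group.isNilpotent_of_finite_tfae (G := E)).out 0 3
  have hPn : (P : Subgroup E).Normal := htfae.mp hnil p hp P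
  have hPcard : Nat.card P = p ^ b := sylow_card_of_coprime_index B hcop hb P
  have hdis : Disjoint (P : Subgroup E) B := by
    apply Subgroup.disjoint_of_coprime_natCard
    rw [hPcard]
    exact (Nat.Coprime.pow_right b hcop).symm
  have hle : (P : Subgroup E).map E.subtype ≤ Subgroup.centralizer ({(x : G)} : Set G) := by
    rintro _ ⟨y, hy, rfl⟩
    rw [Subgroup.mem_centralizer_iff]
    intro z hz
    rw [Set.mem_singleton_iff] at hz
    rw [hz]
    have := Subgroup.commute_of_normal_of_disjoint _ _ hPn hB hdis y x hy hx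
    have h2 := congrArg (fun e : E => (e : G)) this.eq
    exact h2.symm
  have := Subgroup.card_dvd_of_le hle
  rwa [Subgroup.card_map_of_injective E.subtype_injective, hPcard] at this

end Cfsg.Agent.Helper6.Xd
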