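import Mathlib
import Cfsg.Prelude.Def_Characters
import Cfsg.Prelude.Def_OddOrderChar
import Cfsg.Prelude.Def_OddOrderLocal
import Cfsg.Agent.S1500
import Cfsg.Agent.Helper6.XdDadeIntF
import Cfsg.Agent.Helper6.SibSetA
import Cfsg.Agent.Helper6.IndFun2

/-!
# Type I Frobenius groups, part B: the Dade isometry on `ℤ[S, L^#]`

General facts on the Dade map: linearity, value at `1`, the isometry property on a set of generalized
characters supported on `A`, and the comparison with ordinary induction for a TI-subgroup.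
-/

set_option autoImplicit false
set_option linter.style.haveILetI false

namespace Cfsg.Agent.Helper6.TypeIFrob

open Cfsg.Agent.Helper6

universe u

variable {G : Type u} [Group G]

theorem dadeIsometry_add (A : Set G) (L : Subgroup G) (R : G → Subgroup G) (α β : L → ℂ) :
    Cfsg.dadeIsometry A L R (α + β) = Cfsg.dadeIsometry A L R α + Cfsg.dadeIsometry A L R β := by
  funext g
  simp only [Cfsg.dadeIsometry, Pi.add_apply]
  split_ifs <;> simp

theorem dadeIsometry_zsmul (A : Set G) (L : Subgroup G) (R : G → Subgroup G) (n : ℤ) (α : L → ℂ) :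
    Cfsg.dadeIsometry A L R (n • α) = n • Cfsg.dadeIsometry A L R α := by
  funext g
  simp only [Cfsg.dadeIsometry, Pi.smul_apply]
  split_ifs <;> simp

theorem dadeIsometry_one [Finite G] (A : Set G) (L : Subgroup G) (R : G → Subgroup G)
    (hD : Cfsg.DadeHypothesis A L R) (α : L → ℂ) : Cfsg.dadeIsometry A L R α 1 = 0 := by
  apply dadeIsometry_apply_of_not
  rintro ⟨a, ha, u, hu, x, hx⟩
  have h1 : a * u = 1 := by rw [← hx]; group
  have hau : a = u⁻¹ := eq_inv_of_mul_eq_one_left h1
  have haR : a ∈ R a := by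
    have h2 : u⁻¹ ∈ R a := (R a).inv_mem hu
    rwa [← hau] at h2
  have haL : a ∈ L ⊓ Subgroup.centralizer ({a} : Set G) := by
    refine ⟨hD.subset ha, ?_⟩
    show a ∈ Subgroup.centralizer ({a} : Set G)
    rw [Subgroup.mem_centralizer_iff]
    intro y hy
    rw [Set.mem_singleton_iff] at hy
    rw [hy]
  have : a ∈ R a ⊓ (L ⊓ Subgroup.centralizer ({a} : Set G)) := ⟨haR, haL⟩
  rw [hD.inf_eq_bot a ha, Subgroup.mem_bot] at this
  exact hD.one_not_mem (this ▸ ha)

theorem dade_isLinearIsometryOn [Fintype G] (A : Set G) (L : Subgroup G) [Fintype L]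
    (R : G → Subgroup G) (hD : Cfsg.DadeHypothesis A L R) (E : Set (L → ℂ))
    (hE : ∀ α ∈ E, Cfsg.IsGeneralizedCharacter L α ∧ ∀ x : L, (x : G) ∉ A → α x = 0) :
    Cfsg.IsLinearIsometryOn E (Cfsg.dadeIsometry A L R) := by
  refine ⟨fun α _ β _ => dadeIsometry_add A L R α β, fun α _ n => dadeIsometry_zsmul A L R n α,
    ?_, ?_⟩
  · intro α hα β hβ
    obtain ⟨hα1, hα2⟩ := hE α hα
    obtain ⟨hβ1, hβ2⟩ := hE β hβ
    exact (Cfsg.Agent.S1500.result A L R hD α (IsGeneralizedCharacter.isClassFunction hα1) hα2).1 β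
      (IsGeneralizedCharacter.isClassFunction hβ1) hβ2
  · intro α hα
    obtain ⟨hα1, hα2⟩ := hE α hα
    exact Xd.dade_isGeneralizedCharacter A L R hD α hα1 hα2

/-- members of `ℤ[S]`, `S` induced from a normal subgroup `K`, are generalized characters
vanishing off `K` -/
theorem zspan_induced_props {L : Type u} [Group L] [Fintype L] (K : Subgroup L) [hK : K.Normal]
    (α : L → ℂ) (hα : α ∈ Cfsg.zspan (Cfsg.inducedIrrAbove K ⊥)) :
    Cfsg.IsGeneralizedCharacter L α ∧ ∀ x : L, x ∉ K → α x = 0 := by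
  induction hα using Submodule.span_induction with
  | mem χ hχ =>
    obtain ⟨θ, h0, -, -, rfl⟩ := hχ
    have hc := isCharacter_indFun K θ (IsIrrCharacter.isCharacter h0)
    refine ⟨⟨_, 0, hc, IsCharacter.zero, by simp⟩, ?_⟩
    intro x hx
    exact indFun_normal_apply_off K θ x hx
  | zero =>
    exact ⟨genchar_zero, fun _ _ => rfl⟩
  | add x y _ _ ihx ihy =>
    refine ⟨genchar_add ihx.1 ihy.1, ?_⟩
    intro z hz
    rw [Pi.add_apply, ihx.2 z hz, ihy.2 z hz, add_zero]
  | smul k x _ ihx =>
    have hk : k • x = (k : ℂ) • x := zsmul_fun_eq k x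
    refine ⟨?_, ?_⟩
    · rw [hk]
      exact genchar_intCast_smul ihx.1 k
    · intro z hz
      rw [hk, Pi.smul_apply, ihx.2 z hz, smul_zero]

/-- For a TI-subgroup `H` with normalizer `L`, all of whose non-identity elements lie in `A` with
trivial `R`, induction and the Dade map agree on class functions of `L` supported on `H \ {1}`. -/
theorem indFun_eq_dadeIsometry_of_TI [Fintype G] (A : Set G) (L : Subgroup G) [Fintype L]
    (R : G → Subgroup G) (hD : Cfsg.DadeHypothesis A L R) (H : Subgroup G)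
    (hHA : ∀ h ∈ H, h ≠ 1 → h ∈ A) (hR : ∀ h ∈ H, h ≠ 1 → R h = ⊥)
    (hTI : Cfsg.IsTISubset (H : Set G)) (hN : Subgroup.normalizer (H : Set G) = L)
    (α : L → ℂ) (hα : Cfsg.IsClassFunction L α) (hα0 : ∀ x : L, (x : G) ∉ H → α x = 0)
    (hα1 : α 1 = 0) :
    Cfsg.indFun L α = Cfsg.dadeIsometry A L R α := by
  classical
  subst hN
  funext g
  by_cases hg : ∃ x : G, ∃ h ∈ H, h ≠ 1 ∧ x * g * x⁻¹ = h
  · obtain ⟨x, h, hh, hh1, hx⟩ := hg
    have hhL : h ∈ Subgroup.normalizer (H : Set G) := Subgroup.le_normalizer hh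
    have e1 : Cfsg.dadeIsometry A (Subgroup.normalizer (H : Set G)) R α g = α ⟨h, hhL⟩ := by
      refine dadeIsometry_apply_of_conj A _ R hD α hα g ⟨h, hhL⟩ (hHA h hh hh1) 1
        (Subgroup.one_mem _) x ?_
      rw [hx, mul_one]
    have e2 : Cfsg.indFun (Subgroup.normalizer (H : Set G)) α g =
        Cfsg.indFun (Subgroup.normalizer (H : Set G)) α h := by
      rw [← hx]
      exact (indFun_isClassFunction _ α g x).symm
    have e3 : Cfsg.indFun (Subgroup.normalizer (H : Set G)) α h = α ⟨h, hhL⟩ := by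
      refine indFun_TI_apply (H : Set G) (fun g hg t ht h => hTI g hg t ht h) α hα hα0
        ⟨h, hhL⟩ hh ?_
      intro h1
      apply hh1
      exact congrArg Subtype.val h1
    rw [e1, e2, e3]
  · have e1 : Cfsg.indFun (Subgroup.normalizer (H : Set G)) α g = 0 := by
      rw [indFun_apply]
      have : ∀ x : G, Cfsg.extendByZero (Subgroup.normalizer (H : Set G)) α (x⁻¹ * g * x) = 0 := by
        intro x
        by_cases hmem : x⁻¹ * g * x ∈ Subgroup.normalizer (H : Set G)
        · rw [extendByZero_mem _ _ hmem]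
          by_cases hH : x⁻¹ * g * x ∈ H
          · by_cases h1 : x⁻¹ * g * x = 1
            · have : (⟨x⁻¹ * g * x, hmem⟩ : Subgroup.normalizer (H : Set G)) = 1 :=
                Subtype.ext h1
              rw [this, hα1]
            · exfalso
              apply hg
              exact ⟨x⁻¹, x⁻¹ * g * x, hH, h1, by group⟩
          · exact hα0 _ hH
        · exact extendByZero_not_mem _ _ hmem
      rw [Finset.sum_eq_zero (fun x _ => this x), mul_zero]
    rw [e1]
    symm
    by_cases h : ∃ a : ↥(Subgroup.normalizer (H : Set G)), (a : G) ∈ A ∧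
        ∃ x : G, ∃ u ∈ R (a : G), x * g * x⁻¹ = (a : G) * u
    · have hval : Cfsg.dadeIsometry A (Subgroup.normalizer (H : Set G)) R α g =
          α (Classical.choose h) := by
        unfold Cfsg.dadeIsometry
        rw [dif_pos h]
      rw [hval]
      obtain ⟨ha, x, u, hu, hx⟩ := Classical.choose_spec h
      by_cases haH : ((Classical.choose h : ↥(Subgroup.normalizer (H : Set G))) : G) ∈ H
      · exfalso
        have ha1 : ((Classical.choose h : ↥(Subgroup.normalizer (H : Set G))) : G) ≠ 1 := by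
          intro h1
          rw [h1] at ha
          exact hD.one_not_mem ha
        rw [hR _ haH ha1, Subgroup.mem_bot] at hu
        rw [hu, mul_one] at hx
        exact hg ⟨x, _, haH, ha1, hx⟩
      · exact hα0 _ haH
    · unfold Cfsg.dadeIsometry
      rw [dif_neg h]

end Cfsg.Agent.Helper6.TypeIFrob
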