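import Mathlib
import Cfsg.Prelude.Def_Characters
import Cfsg.Prelude.Def_OddOrderChar
import Cfsg.Prelude.Def_OddOrderLocal
import Cfsg.Agent.Helper6.TypeIFrobA
import Cfsg.Agent.Helper6.TypeIFrobB
import Cfsg.Agent.Helper6.FeitCohF
import Cfsg.Agent.Helper6.SibFrobA
import Cfsg.Agent.Helper6.FrobInd2

/-!
# Type I Frobenius groups, part C: coherence of the induced characters (Peterfalvi (12.6)-type)

Given the Dade hypothesis for `(A(L), L, R)`, a maximal subgroup `L` of Type I which is a Frobenius
group with kernel `H = L_F` has `S = {Ind θ : 1 ≠ θ ∈ Irr(H)} ⊆ Irr(L)` and `(S, L^#, τ)` coherent,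
`τ` the Dade map.
-/

set_option autoImplicit false
set_option linter.style.haveILetI false
set_option maxHeartbeats 400000

namespace Cfsg.Agent.Helper6.TypeIFrob

open Cfsg.Agent.Helper6

universe u

variable {G : Type u} [Group G]

theorem mem_fittingHallOf_iff (L : Subgroup G) (x : L) :
    (x : G) ∈ Cfsg.fittingHallOf L ↔ x ∈ Cfsg.fittingHall ↥L := by
  unfold Cfsg.fittingHallOf
  constructor
  · rintro ⟨k, hk, hkx⟩
    have : k = x := Subtype.ext hkx
    rwa [← this]
  · intro hx
    exact ⟨x, hx, rfl⟩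

theorem fittingHallOf_le (L : Subgroup G) : Cfsg.fittingHallOf L ≤ L := by
  rintro _ ⟨k, -, rfl⟩
  exact k.2

theorem typeI_frobenius_coherent [Fintype G] (hsimple : IsSimpleGroup G)
    (L : Subgroup G) [Fintype L] (hL : IsCoatom L) (hI : Cfsg.IsOfTypeI L)
    (hD : Cfsg.DadeHypothesis (Cfsg.typeA L) L (Cfsg.supportR L))
    (hfrob : ∀ x ∈ Cfsg.fittingHallOf L, x ≠ 1 →
      L ⊓ Subgroup.centralizer ({x} : Set G) ≤ Cfsg.fittingHallOf L) :
    (∀ χ ∈ Cfsg.inducedIrrAbove (Cfsg.fittingHall L) ⊥, Cfsg.IsIrrCharacter L χ) ∧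
      Cfsg.IsCoherent (Cfsg.inducedIrrAbove (Cfsg.fittingHall L) ⊥) {1}ᶜ
        (Cfsg.dadeIsometry (Cfsg.typeA L) L (Cfsg.supportR L)) := by
  classical
  have hIcopy : Cfsg.IsOfTypeI L := hI
  obtain ⟨⟨-, hoddL, hK1, hK2, U, hU1, hcompl, -, -⟩, hcases⟩ := hI
  set K : Subgroup ↥L := Cfsg.fittingHall ↥L with hKdef
  haveI hKn : K.Normal := Cfsg.fittingHall_normal ↥L
  -- the Frobenius condition inside `L`
  have hC : ∀ h ∈ K, h ≠ 1 → Subgroup.centralizer ({h} : Set ↥L) ≤ K := by
    intro h hh hh1 c hc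
    rw [← mem_fittingHallOf_iff]
    apply hfrob (h : G) ((mem_fittingHallOf_iff L h).mpr hh)
      (fun h0 => hh1 (Subtype.ext h0))
    refine ⟨c.2, ?_⟩
    show (c : G) ∈ Subgroup.centralizer ({(h : G)} : Set G)
    rw [Subgroup.mem_centralizer_iff] at hc ⊢
    intro y hy
    rw [Set.mem_singleton_iff] at hy
    subst hy
    have := hc h (Set.mem_singleton h)
    exact congrArg Subtype.val this
  have hfree : ∀ g : ↥L, g ∉ K → ∀ k ∈ K, g * k = k * g → k = 1 := by
    intro g hg k hk hgk
    by_contra hk1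
    apply hg
    apply hC k hk hk1
    rw [Subgroup.mem_centralizer_iff]
    intro y hy
    rw [Set.mem_singleton_iff] at hy
    subst hy
    exact hgk.symm
  have hirr : ∀ χ ∈ Cfsg.inducedIrrAbove K ⊥, Cfsg.IsIrrCharacter L χ := by
    rintro χ ⟨θ, hθ, hθ1, -, rfl⟩
    exact indFun_irr_of_free K hfree θ hθ hθ1
  refine ⟨hirr, ?_⟩
  -- cardinalities
  have hcardL : Nat.card K * K.index = Nat.card ↥L := Subgroup.card_mul_index K
  have hKodd : Odd (Nat.card K) := Odd.of_dvd_nat hoddL (Dvd.intro _ hcardL)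
  have hidxodd : Odd K.index := Odd.of_dvd_nat hoddL (Dvd.intro_left _ hcardL)
  have he : Nat.card K ≠ K.index + 1 := by
    intro h
    rw [h] at hKodd
    have : Even (K.index + 1) := hidxodd.add_one
    exact (Nat.not_odd_iff_even.mpr this) hKodd
  -- the set `A(L)`
  have hA : Cfsg.typeA L =
      {a | a ∈ L ∧ a ≠ 1 ∧ ∃ x ∈ Cfsg.fittingHallOf L, x ≠ 1 ∧ a * x = x * a} := by
    rw [Cfsg.typeA, if_pos hIcopy]
  have hKA : ∀ x : ↥L, x ∈ K → x ≠ 1 → (x : G) ∈ Cfsg.typeA L := by
    intro x hx hx1
    rw [hA]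
    have hx1' : (x : G) ≠ 1 := fun h0 => hx1 (Subtype.ext h0)
    exact ⟨x.2, hx1', (x : G), (mem_fittingHallOf_iff L x).mpr hx, hx1', rfl⟩
  -- properties of `ℤ[S, L^#]`
  have hE : ∀ α ∈ Cfsg.zspanOn (Cfsg.inducedIrrAbove K ⊥) ({1}ᶜ : Set ↥L),
      Cfsg.IsGeneralizedCharacter L α ∧ ∀ x : L, (x : G) ∉ Cfsg.typeA L → α x = 0 := by
    intro α hα
    obtain ⟨h1, h2⟩ := zspan_induced_props K α hα.1
    refine ⟨h1, ?_⟩
    intro x hx
    by_cases hxK : x ∈ K
    · by_cases hx1 : x = 1
      · rw [hx1]
        exact hα.2 1 (by simp)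
      · exact absurd (hKA x hxK hx1) hx
    · exact h2 x hxK
  have hτ := dade_isLinearIsometryOn (Cfsg.typeA L) L (Cfsg.supportR L) hD _ hE
  have hτ1 : ∀ α ∈ Cfsg.zspanOn (Cfsg.inducedIrrAbove K ⊥) ({1}ᶜ : Set ↥L),
      Cfsg.dadeIsometry (Cfsg.typeA L) L (Cfsg.supportR L) α 1 = 0 :=
    fun α _ => dadeIsometry_one (Cfsg.typeA L) L (Cfsg.supportR L) hD α
  rcases feit_coherence K hK1 hK2 hC he _ hτ hτ1 with hcoh | ⟨p, hp, ⟨m, hm⟩, hna, hidx⟩
  · exact hcoh
  · -- the exceptional case: `K` is a non-abelian `p`-group with small abelianisation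
    haveI := Fact.mk hp
    have hcardH : Nat.card (Cfsg.fittingHallOf L) = Nat.card K := by
      unfold Cfsg.fittingHallOf
      exact Subgroup.card_map_of_injective L.subtype_injective
    rcases hcases with hTI | ⟨hab, -, -⟩ | ⟨hexp, -⟩
    · -- `H` is a TI-subset: Sibley's theorem
      have hHL : Cfsg.fittingHallOf L ≤ L := fittingHallOf_le L
      have hH1 : Cfsg.fittingHallOf L ≠ ⊥ := by
        intro h0
        apply hK1
        rw [Subgroup.eq_bot_iff_forall]
        intro x hx
        have : (x : G) ∈ Cfsg.fittingHallOf L := (mem_fittingHallOf_iff L x).mpr hx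
        rw [h0, Subgroup.mem_bot] at this
        exact Subtype.ext this
      have hHn : ∀ x ∈ L, ∀ h ∈ Cfsg.fittingHallOf L, x * h * x⁻¹ ∈ Cfsg.fittingHallOf L := by
        intro x hx h hh
        have hhL : h ∈ L := hHL hh
        have h1 : (⟨h, hhL⟩ : ↥L) ∈ K := (mem_fittingHallOf_iff L ⟨h, hhL⟩).mp hh
        have h2 := hKn.conj_mem _ h1 ⟨x, hx⟩
        exact (mem_fittingHallOf_iff L _).mpr h2
      have hW1 : U.map L.subtype ≠ ⊥ := by
        intro h0
        apply hU1
        rw [Subgroup.eq_bot_iff_forall]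
        intro x hx
        have : (x : G) ∈ U.map L.subtype := ⟨x, hx, rfl⟩
        rw [h0, Subgroup.mem_bot] at this
        exact Subtype.ext this
      have hinf : Cfsg.fittingHallOf L ⊓ U.map L.subtype = ⊥ := by
        unfold Cfsg.fittingHallOf
        rw [← Subgroup.map_inf _ _ _ L.subtype_injective, hcompl.isCompl.inf_eq_bot,
          Subgroup.map_bot]
      have hsup : Cfsg.fittingHallOf L ⊔ U.map L.subtype = L := by
        unfold Cfsg.fittingHallOf
        rw [← Subgroup.map_sup, hcompl.isCompl.sup_eq_top, ← MonoidHom.range_eq_map,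
          Subgroup.range_subtype]
      have hfpf : ∀ w ∈ U.map L.subtype, w ≠ 1 → ∀ h ∈ Cfsg.fittingHallOf L,
          w * h = h * w → h = 1 := by
        rintro _ ⟨u, hu, rfl⟩ hw1 h hh hwh
        have hhL : h ∈ L := hHL hh
        have h1 : (⟨h, hhL⟩ : ↥L) ∈ K := (mem_fittingHallOf_iff L ⟨h, hhL⟩).mp hh
        by_contra hne
        have huK : u ∉ K := by
          intro huK
          have : u ∈ K ⊓ U := ⟨huK, hu⟩
          rw [hcompl.isCompl.inf_eq_bot, Subgroup.mem_bot] at this
          apply hw1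
          rw [this]
          rfl
        have := hfree u huK ⟨h, hhL⟩ h1 (Subtype.ext hwh)
        exact hne (congrArg Subtype.val this)
      have hN : Subgroup.normalizer ((Cfsg.fittingHallOf L : Subgroup G) : Set G) = L := by
        have hle : L ≤ Subgroup.normalizer ((Cfsg.fittingHallOf L : Subgroup G) : Set G) := by
          intro x hx
          rw [Subgroup.mem_normalizer_iff]
          intro h
          constructor
          · intro hh
            exact hHn x hx h hh
          · intro hh
            have := hHn x⁻¹ (L.inv_mem hx) _ hh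
            have e : x⁻¹ * (x * h * x⁻¹) * x⁻¹⁻¹ = h := by group
            rwa [e] at this
        rcases eq_or_lt_of_le hle with h | h
        · exact h.symm
        · exfalso
          have htop := hL.2 _ h
          haveI : (Cfsg.fittingHallOf L).Normal := by
            rw [← Subgroup.normalizer_eq_top_iff]
            exact htop
          rcases Subgroup.Normal.eq_bot_or_eq_top (H := Cfsg.fittingHallOf L) inferInstance with
            h0 | h0
          · exact hH1 h0
          · apply hL.1
            rw [eq_top_iff, ← h0]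
            exact hHL
      have hsib := sib_frobenius_main (Cfsg.fittingHallOf L) L (U.map L.subtype) hoddL hH1 hW1
        hHn hinf hsup hfpf hTI hN
      have hKeq : (Cfsg.fittingHallOf L).subgroupOf L = K := by
        ext x
        rw [Subgroup.mem_subgroupOf]
        exact mem_fittingHallOf_iff L x
      rw [hKeq] at hsib
      obtain ⟨hne, τ₁, hτ₁, hag⟩ := hsib
      refine ⟨hne, τ₁, hτ₁, ?_⟩
      intro α hα
      rw [hag α hα]
      obtain ⟨hg1, hg2⟩ := zspan_induced_props K α hα.1
      have hcent : ∀ h ∈ Cfsg.fittingHallOf L, h ≠ 1 →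
          Subgroup.centralizer ({h} : Set G) ≤ L := by
        intro h hh hh1 c hc
        rw [← hN]
        by_contra hcN
        apply hh1
        apply hTI c hcN h hh
        rw [Subgroup.mem_centralizer_iff] at hc
        have : c * h = h * c := (hc h (Set.mem_singleton h)).symm
        rw [this, mul_inv_cancel_right]
        exact hh
      refine indFun_eq_dadeIsometry_of_TI (Cfsg.typeA L) L (Cfsg.supportR L) hD
        (Cfsg.fittingHallOf L) ?_ ?_ hTI hN α (IsGeneralizedCharacter.isClassFunction hg1) ?_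
        (hα.2 1 (by simp))
      · intro h hh hh1
        have hhL : h ∈ L := hHL hh
        have h1 : (⟨h, hhL⟩ : ↥L) ∈ K := (mem_fittingHallOf_iff L ⟨h, hhL⟩).mp hh
        exact hKA ⟨h, hhL⟩ h1 (fun h0 => hh1 (congrArg Subtype.val h0))
      · intro h hh hh1
        unfold Cfsg.supportR
        rw [dif_neg]
        rintro ⟨h1, -⟩
        exact h1 (hcent h hh hh1)
      · intro x hx
        exact hg2 x (fun hxK => hx ((mem_fittingHallOf_iff L x).mpr hxK))
    · -- `H` abelian: contradiction
      exfalso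
      apply hna
      refine ⟨⟨fun a b => ?_⟩⟩
      have ha : ((a : ↥L) : G) ∈ Cfsg.fittingHallOf L := (mem_fittingHallOf_iff L a).mpr a.2
      have hb : ((b : ↥L) : G) ∈ Cfsg.fittingHallOf L := (mem_fittingHallOf_iff L b).mpr b.2
      have h0 := hab.is_comm.comm ⟨_, ha⟩ ⟨_, hb⟩
      have h0' : ((a : ↥L) : G) * ((b : ↥L) : G) = ((b : ↥L) : G) * ((a : ↥L) : G) :=
        congrArg Subtype.val h0
      apply Subtype.ext
      apply Subtype.ext
      exact h0'
    · -- the exponent of `L / H` divides `p - 1`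
      exfalso
      have hm0 : m ≠ 0 := by
        rintro rfl
        rw [pow_zero] at hm
        apply hK1
        exact (Subgroup.card_eq_one).mp hm
      have hpdvd : p ∣ Nat.card (Cfsg.fittingHallOf L) := by
        rw [hcardH, hm]
        exact dvd_pow_self p hm0
      have h1 := hexp p hp hpdvd
      rw [frobenius_quotient_exponent hoddL K U hK1 hcompl hC] at h1
      have hpodd : Odd p := by
        apply Odd.of_dvd_nat hKodd
        rw [hm]
        exact dvd_pow_self p hm0
      have hp2 : 2 ∣ p - 1 := by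
        obtain ⟨k, hk⟩ := hpodd
        exact ⟨k, by omega⟩
      have hcop : Nat.Coprime 2 K.index := (Nat.coprime_two_left).mpr hidxodd
      have h2 : 2 * K.index ∣ p - 1 := hcop.mul_dvd_of_dvd_of_dvd hp2 h1
      have hp1 : 0 < p - 1 := by have := hp.two_le; omega
      have h3 : 2 * K.index ≤ p - 1 := Nat.le_of_dvd hp1 h2
      have hPG : IsPGroup p K := IsPGroup.of_card hm
      have hnc : ¬ ∀ a b : K, a * b = b * a := by
        intro h
        exact hna ⟨⟨h⟩⟩
      have h4 := sq_le_index_commutator hPG hnc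
      have h5 : (⁅K, K⁆.subgroupOf K) = commutator ↥K := by
        rw [commutator_def, ← Subgroup.map_subtype_commutator]
        ext x
        rw [Subgroup.mem_subgroupOf]
        constructor
        · rintro ⟨y, hy, hyx⟩
          have : y = x := Subtype.ext hyx
          rw [commutator_def] at hy
          rwa [← this]
        · intro hx
          refine ⟨x, ?_, rfl⟩
          rw [commutator_def]
          exact hx
      rw [h5] at hidx
      have h6 : 4 * K.index ^ 2 + 1 < p ^ 2 := by
        have h7 : (2 * K.index) ^ 2 ≤ (p - 1) ^ 2 := Nat.pow_le_pow_left h3 2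
        have h8 : (p - 1) ^ 2 + 1 < p ^ 2 := by
          obtain ⟨k, hk⟩ : ∃ k, p = k + 2 := ⟨p - 2, by have := hp.two_le; omega⟩
          subst hk
          have : k + 2 - 1 = k + 1 := by omega
          rw [this]
          ring_nf
          omega
        calc 4 * K.index ^ 2 + 1 = (2 * K.index) ^ 2 + 1 := by ring
          _ ≤ (p - 1) ^ 2 + 1 := by omega
          _ < p ^ 2 := h8
      omega

end Cfsg.Agent.Helper6.TypeIFrob
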