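import Mathlib
import Cfsg.Prelude.Def_Characters
import Cfsg.Prelude.Def_Blocks
import Cfsg.Agent.Helper6.VanishOrderPA
import Cfsg.Agent.Helper6.BrauerIdem
import Cfsg.Agent.Helper6.BrauerFunctional
import Cfsg.Agent.Helper6.DefectOrder
import Cfsg.Agent.Helper6.DefectClass
import Cfsg.Agent.Helper6.DefectCenter
import Cfsg.Agent.Helper6.DefectZeroBlock
import Cfsg.Agent.Helper6.NilVec
import Cfsg.Agent.Helper6.PowCongr

/-!
# An irreducible character vanishing on all elements of order `p` has `p`-defect zero (S0928)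
-/

set_option autoImplicit false
set_option linter.style.haveILetI false

namespace Cfsg.Agent.Helper6

open scoped ComplexConjugate

universe u

variable {G : Type u} [Group G] {M : Ideal Cfsg.AlgInt}

/-- the central character of a member of a block with a nontrivial defect group maps the sum of the
solutions of `x ^ p = 1` into the local ideal -/
theorem sum_pow_eq_one_memLocalIdeal_of_defect [Fintype G] {p : ℕ} [hp : Fact p.Prime]
    (hM : Cfsg.IsPModular p M) (B : Set (Cfsg.IrrCharacter G)) (hB : Cfsg.IsPBlock M B)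
    (hdef : Cfsg.blockDefect p B ≠ 0) (χ : Cfsg.IrrCharacter G) (hχ : χ ∈ B) [DecidableEq G] :
    Cfsg.MemLocalIdeal M (∑ g ∈ Finset.univ.filter (fun g : G => g ^ p = 1),
      (χ : G → ℂ) g / (χ : G → ℂ) 1) := by
  classical
  have hMm := hM.2.1
  obtain ⟨y, hy⟩ := exists_defectClass hMm B hB
  obtain ⟨S⟩ : Nonempty (Sylow p (Subgroup.centralizer ({y} : Set G))) := inferInstance
  obtain ⟨D, hDdef⟩ : ∃ D : Subgroup G, D = (S : Subgroup (Subgroup.centralizer
    ({y} : Set G))).map (Subgroup.centralizer ({y} : Set G)).subtype := ⟨_, rfl⟩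
  have hD : Cfsg.IsDefectGroup p M B D := ⟨y, hy, S, hDdef⟩
  have hDp : IsPGroup p D := IsDefectGroup.isPGroup hM B hB D hD
  have hDcard := card_defectGroup hMm p hM.2.2 B hB D hD
  haveI : Nontrivial D := by
    rw [← Finite.one_lt_card_iff_nontrivial, hDcard]
    exact Nat.one_lt_pow hdef hp.out.one_lt
  haveI := hDp.center_nontrivial
  have hpc : p ∣ Nat.card (Subgroup.center D) := by
    have hZp : IsPGroup p (Subgroup.center D) := hDp.to_subgroup _
    obtain ⟨k, hk⟩ := IsPGroup.iff_card.mp hZp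
    have h1 : 1 < Nat.card (Subgroup.center D) := Finite.one_lt_card_iff_nontrivial.mpr inferInstance
    rw [hk] at h1 ⊢
    have : k ≠ 0 := by
      rintro rfl
      simp at h1
    exact dvd_pow_self p this
  obtain ⟨z', hz'⟩ := exists_prime_orderOf_dvd_card' p hpc
  obtain ⟨z, hzdef⟩ : ∃ z : G, z = ((z' : D) : G) := ⟨_, rfl⟩
  have hzD : z ∈ D := by rw [hzdef]; exact (z' : D).2
  have hzord : orderOf z = p := by
    rw [hzdef, Subgroup.orderOf_coe, Subgroup.orderOf_coe, hz']
  have hzcent : ∀ d ∈ D, d * z = z * d := by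
    intro d hd
    have := Subgroup.mem_center_iff.mp z'.2 ⟨d, hd⟩
    rw [hzdef]
    exact congrArg Subtype.val this
  obtain ⟨C, hC⟩ : ∃ C : Subgroup G, C = Subgroup.centralizer (D : Set G) := ⟨_, rfl⟩
  have hzC : z ∈ C := by
    rw [hC, Subgroup.mem_centralizer_iff]
    intro d hd
    exact hzcent d hd
  have hyC : y ∈ Subgroup.centralizer (D : Set G) := by
    rw [Subgroup.mem_centralizer_iff]
    intro d hd
    rw [hDdef] at hd
    obtain ⟨s, _, rfl⟩ := Subgroup.mem_map.mp hd
    have := Subgroup.mem_centralizer_singleton_iff.mp s.2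
    exact this
  obtain ⟨ξ, χ', hχ'B, hcong⟩ := exists_irr_brauer_block hM D C hDp (by rw [hC])
    (by rw [hC]; exact Subgroup.centralizer_le_normalizer _) B hB y hyC hy.2.1
  haveI : Fintype C := Fintype.ofFinite C
  -- the sum over the solutions
  obtain ⟨f, hf⟩ : ∃ f : G → ℂ, f = fun x =>
      (χ : G → ℂ) x / (χ : G → ℂ) 1 - brauerWeight D C (ξ : C → ℂ) x := ⟨_, rfl⟩
  have hsame : ∀ g, Cfsg.MemLocalIdeal M (Cfsg.centralChar (χ : G → ℂ) g -
      Cfsg.centralChar (χ' : G → ℂ) g) := by
    have h1 := eq_blockOf_of_mem hMm B hB χ hχ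
    rw [h1] at hχ'B
    exact hχ'B
  have hsum : Cfsg.MemLocalIdeal M (∑ g ∈ Finset.univ.filter (fun g : G => g ^ p = 1), f g) := by
    apply sum_mem_of_class_sums (Cfsg.MemLocalIdeal M) (memLocalIdeal_zero hMm)
      (fun x y => MemLocalIdeal.add hMm) f ?_ _ _ rfl
    · intro g hg x
      rw [Finset.mem_filter] at hg ⊢
      refine ⟨Finset.mem_univ _, ?_⟩
      rw [conj_pow, hg.2, mul_one, mul_inv_cancel]
    · intro g
      rw [hf]
      simp only
      rw [Finset.sum_sub_distrib, sum_classFinset_brauerWeight,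
        sum_classFinset_classFunction (fun x => (χ : G → ℂ) x / (χ : G → ℂ) 1)
          (fun a b => by
            simp only
            rw [IsCharacter.isClassFunction (IsIrrCharacter.isCharacter χ.2) a b])]
      have e : ((Subgroup.centralizer ({g} : Set G)).index : ℂ) *
          ((χ : G → ℂ) g / (χ : G → ℂ) 1) = Cfsg.centralChar (χ : G → ℂ) g := by
        unfold Cfsg.centralChar
        ring
      rw [e]
      have := MemLocalIdeal.sub hMm (hsame g) (hcong g)
      convert this using 1
      ring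
  rw [hf] at hsum
  simp only at hsum
  rw [Finset.sum_sub_distrib] at hsum
  -- the second sum
  have hsecond : ∑ g ∈ Finset.univ.filter (fun g : G => g ^ p = 1),
      brauerWeight D C (ξ : C → ℂ) g =
      ∑ c ∈ Finset.univ.filter (fun c : C => c ^ p = 1), (ξ : C → ℂ) c / (ξ : C → ℂ) 1 := by
    have h1 := sum_mul_brauerWeight D C (ξ : C → ℂ) (fun t => if t ^ p = 1 then 1 else 0)
    rw [Finset.sum_filter, Finset.sum_filter]
    have h2 : ∀ t : G, (if t ^ p = 1 then brauerWeight D C (ξ : C → ℂ) t else 0) =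
        (if t ^ p = 1 then (1 : ℂ) else 0) * brauerWeight D C (ξ : C → ℂ) t := by
      intro t
      split_ifs <;> simp
    rw [Finset.sum_congr rfl (fun t _ => h2 t), h1]
    apply Finset.sum_congr rfl
    intro t _
    have htC : (t : G) ∈ Subgroup.centralizer (D : Set G) := hC.le t.2
    rw [if_pos htC]
    have hiff : ((t : G) ^ p = 1) ↔ (t ^ p = 1) := by
      rw [← Subgroup.coe_pow, ← Subgroup.coe_one C, Subtype.ext_iff]
    by_cases ht : t ^ p = 1
    · rw [if_pos ht, if_pos (hiff.mpr ht), one_mul]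
    · rw [if_neg ht, if_neg (fun h => ht (hiff.mp h)), zero_mul]
  rw [hsecond] at hsum
  have hz6 := sum_pow_eq_one_memLocalIdeal hM (⟨z, hzC⟩ : C) (by
      intro h
      apply Subtype.ext
      have hh : (h : G) ∈ Subgroup.centralizer (D : Set G) := hC.le h.2
      exact (Subgroup.mem_centralizer_iff.mp hh z hzD).symm) (by
      rw [Subgroup.orderOf_mk, hzord]) ξ
  have := MemLocalIdeal.add hMm hsum hz6
  rwa [sub_add_cancel] at this

end Cfsg.Agent.Helper6
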