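import Mathlib
import Cfsg.Prelude.Def_LocalStructure
import Cfsg.Agent.Helper5.StrongEmb
import Cfsg.Agent.Helper5.CharP2
import Cfsg.Agent.Helper6.FrakMC
import Cfsg.Agent.Helper6.FrakNG
import Cfsg.Agent.Helper6.TransFamE
import Cfsg.Agent.Helper6.WClA

/-!
helper6: the weak closure `H° = H₁ H₂` of a weakly closed `p`-subgroup `Q` with `[H₁, H₂] ≤ N(Q)`: basic facts.
-/

set_option autoImplicit false

namespace Cfsg.Agent.Helper6.WCl

open Cfsg Cfsg.Agent.Helper5 Cfsg.Agent.Helper6.TransFam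
open scoped commutatorElement

variable {G : Type*} [Group G]

/-- The hypotheses. -/
structure Hyp (p : ℕ) (Q Hc H₁ H₂ : Subgroup G) : Prop where
  hQp : IsPGroup p ↥Q
  hwc : Cfsg.IsWeaklyClosedSubgroup p Q
  hHc : Hc = Cfsg.weakClosure Q ⊤
  h₁le : H₁ ≤ Hc
  h₁n : Hc ≤ Subgroup.normalizer (H₁ : Set G)
  h₂le : H₂ ≤ Hc
  h₂n : Hc ≤ Subgroup.normalizer (H₂ : Set G)
  hprod : H₁ ⊔ H₂ = Hc
  hcomm : ⁅H₁, H₂⁆ ≤ Subgroup.normalizer (Q : Set G)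

namespace Hyp

variable {p : ℕ} {Q Hc H₁ H₂ : Subgroup G}

theorem symm (h : Hyp p Q Hc H₁ H₂) : Hyp p Q Hc H₂ H₁ :=
  ⟨h.hQp, h.hwc, h.hHc, h.h₂le, h.h₂n, h.h₁le, h.h₁n, by rw [sup_comm]; exact h.hprod,
    by rw [Subgroup.commutator_comm]; exact h.hcomm⟩

theorem normal_Hc [Finite G] (h : Hyp p Q Hc H₁ H₂) : Hc.Normal := by
  have h1 : (⊤ : Subgroup G) ≤ Subgroup.normalizer (Hc : Set G) := by
    rw [h.hHc]; exact Cfsg.Agent.Helper6.FrakN.le_normalizer_weakClosure Q ⊤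
  exact Subgroup.normalizer_eq_top_iff.mp (top_le_iff.mp h1)

theorem Q_le (h : Hyp p Q Hc H₁ H₂) : Q ≤ Hc := by
  rw [h.hHc]; exact Cfsg.Agent.Helper6.FrakN.le_weakClosure Q le_top

theorem conj_le (h : Hyp p Q Hc H₁ H₂) (g : G) : Q.map (MulAut.conj g).toMonoidHom ≤ Hc := by
  rw [h.hHc]
  unfold Cfsg.weakClosure
  exact le_iSup (fun g : {g : G // Q.map (MulAut.conj g).toMonoidHom ≤ ⊤} =>
    Q.map (MulAut.conj (g : G)).toMonoidHom) ⟨g, le_top⟩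

theorem exists_conj_in [Finite G] [Fact p.Prime] (h : Hyp p Q Hc H₁ H₂) (g : G) :
    ∃ x ∈ Hc, Q.map (MulAut.conj g).toMonoidHom = Q.map (MulAut.conj x).toMonoidHom :=
  IsWeaklyClosedSubgroup.exists_conj_in h.hwc h.hQp Hc h.Q_le g (h.conj_le g)

/-- `H°` is generated by the conjugates of `Q`. -/
theorem le_of_forall_conj_le (h : Hyp p Q Hc H₁ H₂) (X : Subgroup G)
    (hX : ∀ g : G, Q.map (MulAut.conj g).toMonoidHom ≤ X) : Hc ≤ X := by
  rw [h.hHc]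
  unfold Cfsg.weakClosure
  apply iSup_le
  intro g
  exact hX g.1

theorem le_iSup_conj [Finite G] [Fact p.Prime] (h : Hyp p Q Hc H₁ H₂) :
    Hc ≤ ⨆ x : ↥Hc, Q.map (MulAut.conj (x : G)).toMonoidHom := by
  apply h.le_of_forall_conj_le
  intro g
  obtain ⟨x, hx, hgx⟩ := h.exists_conj_in g
  rw [hgx]
  exact le_iSup (fun x : ↥Hc => Q.map (MulAut.conj (x : G)).toMonoidHom) ⟨x, hx⟩

theorem pCoreOf_normal [Finite G] (h : Hyp p Q Hc H₁ H₂) : (Cfsg.pCoreOf p Hc).Normal := by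
  haveI := h.normal_Hc
  have h1 := Cfsg.Agent.Helper6.FrakM.normalizer_le_normalizer_pCoreOf p Hc
  rw [Subgroup.normalizer_eq_top] at h1
  exact Subgroup.normalizer_eq_top_iff.mp (top_le_iff.mp h1)

theorem decomp (h : Hyp p Q Hc H₁ H₂) (x : G) (hx : x ∈ Hc) : ∃ a ∈ H₁, ∃ b ∈ H₂, x = a * b := by
  have hx' : x ∈ ((H₁ ⊔ H₂ : Subgroup G) : Set G) := by rw [h.hprod]; exact hx
  rw [Subgroup.coe_mul_of_right_le_normalizer_left H₁ H₂ (h.h₂le.trans h.h₁n)] at hx'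
  obtain ⟨a, ha, b, hb, rfl⟩ := hx'
  exact ⟨a, ha, b, hb, rfl⟩

theorem comm_le_left (h : Hyp p Q Hc H₁ H₂) : ⁅H₁, H₂⁆ ≤ H₁ := by
  rw [Subgroup.commutator_le]
  intro a ha b hb
  rw [commutatorElement_def]
  have h1 := (Subgroup.mem_normalizer_iff.mp (h.h₁n (h.h₂le hb)) a⁻¹).mp (H₁.inv_mem ha)
  have h2 : a * b * a⁻¹ * b⁻¹ = a * (b * a⁻¹ * b⁻¹) := by group
  rw [h2]
  exact H₁.mul_mem ha h1

theorem comm_le_right (h : Hyp p Q Hc H₁ H₂) : ⁅H₁, H₂⁆ ≤ H₂ := by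
  have := h.symm.comm_le_left
  rwa [Subgroup.commutator_comm] at this

theorem le_normalizer_comm (h : Hyp p Q Hc H₁ H₂) :
    Hc ≤ Subgroup.normalizer ((⁅H₁, H₂⁆ : Subgroup G) : Set G) := by
  intro x hx
  rw [mem_normalizer_iff_map_conj, Subgroup.map_commutator,
    (mem_normalizer_iff_map_conj H₁ x).mp (h.h₁n hx), (mem_normalizer_iff_map_conj H₂ x).mp (h.h₂n hx)]

/-- `[H₁, H₂]` normalizes every conjugate of `Q`. -/
theorem comm_le_normalizer_conj [Finite G] [Fact p.Prime] (h : Hyp p Q Hc H₁ H₂) (g : G) :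
    ⁅H₁, H₂⁆ ≤ Subgroup.normalizer ((Q.map (MulAut.conj g).toMonoidHom : Subgroup G) : Set G) := by
  obtain ⟨x, hx, hgx⟩ := h.exists_conj_in g
  rw [hgx, normalizer_map_conj]
  intro z hz
  rw [mem_map_conj_iff]
  apply h.hcomm
  have := (Subgroup.mem_normalizer_iff.mp (h.le_normalizer_comm (Hc.inv_mem hx)) z).mp hz
  simpa using this

/-- `[H₁, H₂]` is central in `H°` modulo `O_p(H°)`. -/
theorem comm_le_centMod [Finite G] [Fact p.Prime] (h : Hyp p Q Hc H₁ H₂)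
    [hPn : (Cfsg.pCoreOf p Hc).Normal] : ⁅H₁, H₂⁆ ≤ centMod (Cfsg.pCoreOf p Hc) Hc := by
  set Z := ⁅H₁, H₂⁆ with hZ
  set P := Cfsg.pCoreOf p Hc with hP
  rw [le_centMod_comm]
  apply h.le_of_forall_conj_le
  intro g
  rw [le_centMod_comm]
  intro z hz x hx
  have hZg : Z ⊓ Q.map (MulAut.conj g).toMonoidHom ≤ P := by
    apply le_pCore_of_normal_in_normal Hc Z _ (h.comm_le_left.trans h.h₁le) h.le_normalizer_comm
      inf_le_left ((h.hQp.map _).to_le inf_le_right)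
    intro z' hz'
    exact mem_normalizer_inf Z _ z' (Subgroup.le_normalizer hz') (h.comm_le_normalizer_conj g hz')
  apply hZg
  refine ⟨?_, ?_⟩
  · have h1 := (Subgroup.mem_normalizer_iff.mp (h.le_normalizer_comm (h.conj_le g hx)) z⁻¹).mp
      (Z.inv_mem hz)
    have h2 : z * x * z⁻¹ * x⁻¹ = z * (x * z⁻¹ * x⁻¹) := by group
    rw [h2]
    exact Z.mul_mem hz h1
  · have h1 := (Subgroup.mem_normalizer_iff.mp (h.comm_le_normalizer_conj g hz) x).mp hx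
    exact Subgroup.mul_mem _ h1 (Subgroup.inv_mem _ hx)

end Hyp

end Cfsg.Agent.Helper6.WCl
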