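import Mathlib
import Cfsg.Prelude.Def_LocalStructure
import Cfsg.Agent.S2840
import Cfsg.Agent.Helper6.WClB

/-!
helper6: the subgroups `Kᵢ = O^p((Hᵢ Q)°)` in the weak closure `H° = H₁ H₂`.
-/

set_option autoImplicit false

namespace Cfsg.Agent.Helper6.WCl

open Cfsg Cfsg.Agent.Helper5 Cfsg.Agent.Helper6.TransFam
open scoped commutatorElement

variable {G : Type*} [Group G]

/-- The three subgroups lemma modulo a normal subgroup. -/
theorem three_subgroups_mod (P A B C : Subgroup G) [P.Normal] (h1 : ⁅⁅B, C⁆, A⁆ ≤ P)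
    (h2 : ⁅⁅C, A⁆, B⁆ ≤ P) : ⁅⁅A, B⁆, C⁆ ≤ P := by
  have hker : ∀ X : Subgroup G, X.map (QuotientGroup.mk' P) = ⊥ ↔ X ≤ P := by
    intro X
    rw [Subgroup.map_eq_bot_iff, QuotientGroup.ker_mk']
  rw [← hker] at h1 h2 ⊢
  rw [Subgroup.map_commutator, Subgroup.map_commutator] at h1 h2 ⊢
  exact Subgroup.commutator_commutator_eq_bot_of_rotate h1 h2

namespace Hyp

variable {p : ℕ} {Q Hc H₁ H₂ : Subgroup G}

/-- `H₁'` centralizes `H₂` modulo `O_p(H°)`. -/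
theorem derived_le_centMod [Finite G] [Fact p.Prime] (h : Hyp p Q Hc H₁ H₂)
    [hPn : (Cfsg.pCoreOf p Hc).Normal] : ⁅H₁, H₁⁆ ≤ centMod (Cfsg.pCoreOf p Hc) H₂ := by
  set P := Cfsg.pCoreOf p Hc with hP
  apply le_centMod_of_commutator_le
  have hZ : ⁅H₁, H₂⁆ ≤ centMod P H₁ := h.comm_le_centMod.trans (centMod_anti P h.h₁le)
  apply three_subgroups_mod P H₁ H₁ H₂
  · exact commutator_le_of_le_centMod P _ _ hZ
  · rw [Subgroup.commutator_comm H₂ H₁]
    exact commutator_le_of_le_centMod P _ _ hZ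

section K


/-- `(H₁ Q)°` is generated by the `H₁ Q`-conjugates of `Q`. -/
theorem wc_eq_iSup [Finite G] [Fact p.Prime] (h : Hyp p Q Hc H₁ H₂) : Cfsg.weakClosure Q (H₁ ⊔ Q) =
    ⨆ k : ↥(H₁ ⊔ Q), Q.map (MulAut.conj (k : G)).toMonoidHom := by
  by_cases hQ1 : Q = ⊥
  · have hwc := h.hwc
    clear h
    subst hQ1
    apply le_antisymm
    · unfold Cfsg.weakClosure
      apply iSup_le
      intro g
      rw [Subgroup.map_bot]
      exact bot_le
    · apply iSup_le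
      intro k
      rw [Subgroup.map_bot]
      exact bot_le
  · exact (Cfsg.Agent.S2840.result Q h.hQp hQ1 h.hwc (H₁ ⊔ Q) le_sup_right _ rfl).1

theorem Q_le_wc (Q H₁ : Subgroup G) : Q ≤ Cfsg.weakClosure Q (H₁ ⊔ Q) :=
  Cfsg.Agent.Helper6.FrakN.le_weakClosure Q le_sup_right

theorem wc_le (Q H₁ : Subgroup G) : Cfsg.weakClosure Q (H₁ ⊔ Q) ≤ H₁ ⊔ Q := by
  unfold Cfsg.weakClosure
  apply iSup_le
  intro g
  exact g.2

theorem wc_le_Hc (h : Hyp p Q Hc H₁ H₂) : Cfsg.weakClosure Q (H₁ ⊔ Q) ≤ Hc :=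
  (wc_le Q H₁).trans (sup_le h.h₁le h.Q_le)

theorem le_normalizer_wc [Finite G] (Q H₁ : Subgroup G) :
    H₁ ⊔ Q ≤ Subgroup.normalizer ((Cfsg.weakClosure Q (H₁ ⊔ Q) : Subgroup G) : Set G) :=
  Cfsg.Agent.Helper6.FrakN.le_normalizer_weakClosure Q (H₁ ⊔ Q)

theorem wc_gen [Finite G] [Fact p.Prime] (h : Hyp p Q Hc H₁ H₂) : Cfsg.weakClosure Q (H₁ ⊔ Q) ≤
    ⨆ l : ↥(Cfsg.weakClosure Q (H₁ ⊔ Q)), Q.map (MulAut.conj (l : G)).toMonoidHom := by
  set L := Cfsg.weakClosure Q (H₁ ⊔ Q) with hL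
  conv_lhs => rw [hL, h.wc_eq_iSup]
  apply iSup_le
  intro k
  have hk : Q.map (MulAut.conj (k : G)).toMonoidHom ≤ L := by
    rw [hL, h.wc_eq_iSup]
    exact le_iSup (fun k : ↥(H₁ ⊔ Q) => Q.map (MulAut.conj (k : G)).toMonoidHom) k
  obtain ⟨l, hl, hkl⟩ := IsWeaklyClosedSubgroup.exists_conj_in h.hwc h.hQp L (Q_le_wc Q H₁) (k : G) hk
  rw [hkl]
  exact le_iSup (fun l : ↥L => Q.map (MulAut.conj (l : G)).toMonoidHom) ⟨l, hl⟩

/-- `K₁ = O^p((H₁ Q)°)`. -/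
def KK (p : ℕ) (Q H₁ : Subgroup G) : Subgroup G := resOf p (Cfsg.weakClosure Q (H₁ ⊔ Q))

theorem wc_eq_KK_sup [Finite G] [Fact p.Prime] (h : Hyp p Q Hc H₁ H₂) : Cfsg.weakClosure Q (H₁ ⊔ Q) = KK p Q H₁ ⊔ Q :=
  (resOf_sup_eq_and_commutator_eq Q h.hQp h.hwc _ (Q_le_wc Q H₁) h.wc_gen).1

theorem KK_comm_Q [Finite G] [Fact p.Prime] (h : Hyp p Q Hc H₁ H₂) : ⁅KK p Q H₁, Q⁆ = KK p Q H₁ :=
  (resOf_sup_eq_and_commutator_eq Q h.hQp h.hwc _ (Q_le_wc Q H₁) h.wc_gen).2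

theorem le_normalizer_KK [Finite G] (p : ℕ) (Q H₁ : Subgroup G) : H₁ ⊔ Q ≤ Subgroup.normalizer ((KK p Q H₁ : Subgroup G) : Set G) :=
  (le_normalizer_wc Q H₁).trans (normalizer_le_normalizer_resOf p _)

theorem KK_le [Fact p.Prime] (h : Hyp p Q Hc H₁ H₂) : KK p Q H₁ ≤ H₁ := by
  unfold KK
  rw [resOf_le_iff]
  intro g hg hc
  exact mem_of_coprime_of_mem_sup H₁ Q (h.Q_le.trans h.h₁n) h.hQp g (wc_le Q H₁ hg) hc

/-- Generators of `K₁`. -/
theorem KK_le_of_forall (p : ℕ) (Q H₁ : Subgroup G) (N : Subgroup G)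
    (hN : ∀ g ∈ KK p Q H₁, (orderOf g).Coprime p → g ∈ N) : KK p Q H₁ ≤ N := by
  unfold KK
  rw [resOf_le_iff]
  intro g hg hc
  exact hN g (mem_resOf_of_coprime hg hc) hc

theorem le_normalizer_derived (h : Hyp p Q Hc H₁ H₂) : Hc ≤ Subgroup.normalizer ((⁅H₁, H₁⁆ : Subgroup G) : Set G) := by
  intro x hx
  rw [mem_normalizer_iff_map_conj, Subgroup.map_commutator,
    (mem_normalizer_iff_map_conj H₁ x).mp (h.h₁n hx)]

/-- `K₁ ≤ H₁' [H₁, H₂]`. -/
theorem KK_le_derived_sup_comm [Finite G] [Fact p.Prime] (h : Hyp p Q Hc H₁ H₂) : KK p Q H₁ ≤ ⁅H₁, H₁⁆ ⊔ ⁅H₁, H₂⁆ := by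
  rw [← h.KK_comm_Q, Subgroup.commutator_le]
  intro k hk q hq
  obtain ⟨a, ha, b, hb, rfl⟩ := h.decomp q (h.Q_le hq)
  have hkH : k ∈ H₁ := h.KK_le hk
  rw [commutatorElement_mul_right']
  refine Subgroup.mul_mem _ (Subgroup.mem_sup_left (Subgroup.commutator_mem_commutator hkH ha))
    (Subgroup.mem_sup_right ?_)
  exact (Subgroup.mem_normalizer_iff.mp (h.le_normalizer_comm (h.h₁le ha)) _).mp
    (Subgroup.commutator_mem_commutator hkH hb)

/-- `K₁` centralizes `H₂` modulo `O_p(H°)`. -/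
theorem KK_le_centMod [Finite G] [Fact p.Prime] (h : Hyp p Q Hc H₁ H₂) [hPn : (Cfsg.pCoreOf p Hc).Normal] :
    KK p Q H₁ ≤ centMod (Cfsg.pCoreOf p Hc) H₂ :=
  h.KK_le_derived_sup_comm.trans
    (sup_le h.derived_le_centMod (h.comm_le_centMod.trans (centMod_anti _ h.h₂le)))

theorem pCoreOf_le (p : ℕ) (Hc : Subgroup G) : Cfsg.pCoreOf p Hc ≤ Hc := pCore_map_subtype_le p Hc

/-- `K₁ ≤ H₁'`. -/
theorem KK_le_derived [Finite G] [Fact p.Prime] (h : Hyp p Q Hc H₁ H₂) [hPn : (Cfsg.pCoreOf p Hc).Normal] : KK p Q H₁ ≤ ⁅H₁, H₁⁆ := by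
  set P := Cfsg.pCoreOf p Hc with hP
  have hPp : IsPGroup p ↥P := isPGroup_pCore_map_subtype p Hc
  have h1 : KK p Q H₁ ≤ ⁅H₁, H₁⁆ ⊔ P := by
    rw [← h.KK_comm_Q, Subgroup.commutator_le]
    intro k hk q hq
    have hk' : k ∈ ((⁅H₁, H₁⁆ ⊔ ⁅H₁, H₂⁆ : Subgroup G) : Set G) := h.KK_le_derived_sup_comm hk
    rw [Subgroup.coe_mul_of_right_le_normalizer_left _ _
      ((h.comm_le_left.trans h.h₁le).trans h.le_normalizer_derived)] at hk'
    obtain ⟨c, hc, z, hz, rfl⟩ := hk'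
    rw [commutatorElement_mul_left']
    refine Subgroup.mul_mem _ (Subgroup.mem_sup_right ?_) (Subgroup.mem_sup_left ?_)
    · have hzq : ⁅z, q⁆ ∈ P := by
        have := h.comm_le_centMod hz q (h.Q_le hq)
        rw [commutatorElement_def]; exact this
      exact hPn.conj_mem _ hzq c
    · rw [commutatorElement_def]
      have h2 := (Subgroup.mem_normalizer_iff.mp (h.le_normalizer_derived (h.Q_le hq)) c⁻¹).mp
        (Subgroup.inv_mem _ hc)
      have h3 : c * q * c⁻¹ * q⁻¹ = c * (q * c⁻¹ * q⁻¹) := by group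
      rw [h3]
      exact Subgroup.mul_mem _ hc h2
  apply KK_le_of_forall p Q H₁
  intro g hg hc
  exact mem_of_coprime_of_mem_sup _ P ((pCoreOf_le p Hc).trans h.le_normalizer_derived) hPp g (h1 hg) hc

/-- `H₂` normalizes `K₁`. -/
theorem le_normalizer_KK_right [Finite G] [Fact p.Prime] (h : Hyp p Q Hc H₁ H₂) [hPn : (Cfsg.pCoreOf p Hc).Normal] :
    H₂ ≤ Subgroup.normalizer ((KK p Q H₁ : Subgroup G) : Set G) := by
  set P := Cfsg.pCoreOf p Hc with hP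
  have hPp : IsPGroup p ↥P := isPGroup_pCore_map_subtype p Hc
  set Y := ⁅H₁, H₂⁆ ⊓ P with hY
  have hYn : Y ≤ Subgroup.normalizer ((KK p Q H₁ : Subgroup G) : Set G) :=
    (inf_le_left.trans h.comm_le_left).trans (le_sup_left.trans (le_normalizer_KK p Q H₁))
  have hYp : IsPGroup p ↥Y := hPp.to_le inf_le_right
  intro b hb
  apply mem_normalizer_of_conj_mem
  have hle : KK p Q H₁ ≤ (KK p Q H₁).comap (MulAut.conj b).toMonoidHom := by
    apply KK_le_of_forall p Q H₁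
    intro g hg hc
    rw [Subgroup.mem_comap]
    show b * g * b⁻¹ ∈ KK p Q H₁
    have hgH : g ∈ H₁ := h.KK_le hg
    have h1 : b * g * b⁻¹ * g⁻¹ ∈ Y := by
      refine ⟨?_, ?_⟩
      · have := Subgroup.commutator_mem_commutator hb hgH
        rw [Subgroup.commutator_comm, commutatorElement_def] at this
        exact this
      · have := h.KK_le_centMod hg b hb
        have h2 : b * g * b⁻¹ * g⁻¹ = (g * b * g⁻¹ * b⁻¹)⁻¹ := by group
        rw [h2]
        exact P.inv_mem this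
    have h3 : b * g * b⁻¹ ∈ KK p Q H₁ ⊔ Y := by
      have h4 : b * g * b⁻¹ = (b * g * b⁻¹ * g⁻¹) * g := by group
      rw [h4]
      exact Subgroup.mul_mem _ (Subgroup.mem_sup_right h1) (Subgroup.mem_sup_left hg)
    have h5 : orderOf (b * g * b⁻¹) = orderOf g := by
      have := orderOf_injective (MulAut.conj b).toMonoidHom (MulAut.conj b).injective g
      simpa using this
    exact mem_of_coprime_of_mem_sup _ Y hYn hYp _ h3 (h5 ▸ hc)
  intro x hx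
  exact hle hx

theorem Hc_le_normalizer_KK [Finite G] [Fact p.Prime] (h : Hyp p Q Hc H₁ H₂) [hPn : (Cfsg.pCoreOf p Hc).Normal] :
    Hc ≤ Subgroup.normalizer ((KK p Q H₁ : Subgroup G) : Set G) := by
  rw [← h.hprod]
  exact sup_le (le_sup_left.trans (le_normalizer_KK p Q H₁)) h.le_normalizer_KK_right

/-- `K₁ = [K₁, H₁]`. -/
theorem KK_comm_H [Finite G] [Fact p.Prime] (h : Hyp p Q Hc H₁ H₂) [hPn : (Cfsg.pCoreOf p Hc).Normal] : ⁅KK p Q H₁, H₁⁆ = KK p Q H₁ := by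
  set P := Cfsg.pCoreOf p Hc with hP
  have hPp : IsPGroup p ↥P := isPGroup_pCore_map_subtype p Hc
  set K := KK p Q H₁ with hK
  have hKn := h.Hc_le_normalizer_KK
  apply le_antisymm
  · rw [Subgroup.commutator_le]
    intro k hk a ha
    rw [commutatorElement_def]
    have h1 := (Subgroup.mem_normalizer_iff.mp (hKn (h.h₁le ha)) k⁻¹).mp (K.inv_mem hk)
    have h2 : k * a * k⁻¹ * a⁻¹ = k * (a * k⁻¹ * a⁻¹) := by group
    rw [h2]
    exact K.mul_mem hk h1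
  · set M := ⁅K, H₁⁆ with hM
    have hMn : Hc ≤ Subgroup.normalizer (M : Set G) := by
      intro x hx
      rw [mem_normalizer_iff_map_conj, Subgroup.map_commutator,
        (mem_normalizer_iff_map_conj K x).mp (hKn hx), (mem_normalizer_iff_map_conj H₁ x).mp (h.h₁n hx)]
    set Y := ⁅H₁, H₂⁆ ⊓ P with hY
    have hYp : IsPGroup p ↥Y := hPp.to_le inf_le_right
    have hYHc : Y ≤ Hc := inf_le_right.trans (pCoreOf_le p Hc)
    have hYn : Hc ≤ Subgroup.normalizer (Y : Set G) := by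
      intro x hx
      exact mem_normalizer_inf _ P x (h.le_normalizer_comm hx)
        (by rw [Subgroup.normalizer_eq_top]; trivial)
    have h1 : K ≤ M ⊔ Y := by
      conv_lhs => rw [hK, ← h.KK_comm_Q]
      rw [Subgroup.commutator_le]
      intro k hk q hq
      obtain ⟨a, ha, b, hb, rfl⟩ := h.decomp q (h.Q_le hq)
      rw [commutatorElement_mul_right']
      refine Subgroup.mul_mem _ (Subgroup.mem_sup_left (Subgroup.commutator_mem_commutator hk ha))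
        (Subgroup.mem_sup_right ?_)
      apply (Subgroup.mem_normalizer_iff.mp (hYn (h.h₁le ha)) _).mp
      refine ⟨Subgroup.commutator_mem_commutator (h.KK_le hk) hb, ?_⟩
      have := h.KK_le_centMod hk b hb
      rw [commutatorElement_def]; exact this
    apply KK_le_of_forall p Q H₁
    intro g hg hc
    exact mem_of_coprime_of_mem_sup M Y (hYHc.trans hMn) hYp g (h1 hg) hc

end K

end Hyp

end Cfsg.Agent.Helper6.WCl
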