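import Mathlib
import Cfsg.Prelude.Def_LocalStructure
import Cfsg.Agent.Helper6.WClC

/-!
helper6: `O^p(H°) = K₁ K₂` and `[K₁, K₂] ≤ O_p(H°)`.
-/

set_option autoImplicit false

namespace Cfsg.Agent.Helper6.WCl

open Cfsg Cfsg.Agent.Helper5 Cfsg.Agent.Helper6.TransFam
open scoped commutatorElement

variable {G : Type*} [Group G]

theorem mem_normalizer_sup (A B : Subgroup G) (x : G) (hA : x ∈ Subgroup.normalizer (A : Set G))
    (hB : x ∈ Subgroup.normalizer (B : Set G)) : x ∈ Subgroup.normalizer ((A ⊔ B : Subgroup G) : Set G) := by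
  rw [mem_normalizer_iff_map_conj] at hA hB ⊢
  rw [Subgroup.map_sup, hA, hB]

namespace Hyp

variable {p : ℕ} {Q Hc H₁ H₂ : Subgroup G}

/-- Conjugates of `Q` under `H₁` lie in `K₁ Q`. -/
theorem conj_le_KK_sup [Finite G] [Fact p.Prime] (h : Hyp p Q Hc H₁ H₂) (a : G) (ha : a ∈ H₁) :
    Q.map (MulAut.conj a).toMonoidHom ≤ KK p Q H₁ ⊔ Q := by
  rw [← h.wc_eq_KK_sup, h.wc_eq_iSup]
  exact le_iSup (fun k : ↥(H₁ ⊔ Q) => Q.map (MulAut.conj (k : G)).toMonoidHom)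
    ⟨a, Subgroup.mem_sup_left ha⟩

theorem Hc_le_KK_sup [Finite G] [Fact p.Prime] (h : Hyp p Q Hc H₁ H₂)
    [hPn : (Cfsg.pCoreOf p Hc).Normal] : Hc ≤ (KK p Q H₁ ⊔ KK p Q H₂) ⊔ Q := by
  apply h.le_of_forall_conj_le
  intro g
  obtain ⟨x, hx, hgx⟩ := h.exists_conj_in g
  obtain ⟨a, ha, b, hb, rfl⟩ := h.decomp x hx
  rw [hgx, ← map_conj_map_conj]
  have h1 : Q.map (MulAut.conj b).toMonoidHom ≤ KK p Q H₂ ⊔ Q := h.symm.conj_le_KK_sup b hb
  have h2 : (KK p Q H₂ ⊔ Q).map (MulAut.conj a).toMonoidHom ≤ (KK p Q H₁ ⊔ KK p Q H₂) ⊔ Q := by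
    rw [Subgroup.map_sup, (mem_normalizer_iff_map_conj _ a).mp (h.symm.Hc_le_normalizer_KK (h.h₁le ha))]
    refine sup_le (le_sup_right.trans le_sup_left) ((h.conj_le_KK_sup a ha).trans ?_)
    exact sup_le (le_sup_left.trans le_sup_left) le_sup_right
  exact (Subgroup.map_mono h1).trans h2

/-- `O^p(H°) = K₁ K₂`. -/
theorem KK_sup_eq [Finite G] [Fact p.Prime] (h : Hyp p Q Hc H₁ H₂)
    [hPn : (Cfsg.pCoreOf p Hc).Normal] : KK p Q H₁ ⊔ KK p Q H₂ = resOf p Hc := by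
  apply le_antisymm
  · apply sup_le
    · exact resOf_le_resOf_of_le p ((resOf_le p _).trans h.wc_le_Hc)
    · exact resOf_le_resOf_of_le p ((resOf_le p _).trans h.symm.wc_le_Hc)
  · rw [resOf_le_iff]
    intro g hg hc
    apply mem_of_coprime_of_mem_sup _ Q _ h.hQp g (h.Hc_le_KK_sup hg) hc
    intro q hq
    exact mem_normalizer_sup _ _ q (h.Hc_le_normalizer_KK (h.Q_le hq))
      (h.symm.Hc_le_normalizer_KK (h.Q_le hq))

/-- `[K₁, K₂] ≤ O_p(H°)`. -/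
theorem KK_comm_KK_le [Finite G] [Fact p.Prime] (h : Hyp p Q Hc H₁ H₂)
    [hPn : (Cfsg.pCoreOf p Hc).Normal] : ⁅KK p Q H₁, KK p Q H₂⁆ ≤ Cfsg.pCoreOf p Hc :=
  commutator_le_of_le_centMod _ _ _ (h.KK_le_centMod.trans (centMod_anti _ h.symm.KK_le))

end Hyp

end Cfsg.Agent.Helper6.WCl
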