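import Mathlib
import Cfsg.Prelude.Def_Characters
import Cfsg.Prelude.Def_Blocks
import Cfsg.Agent.Helper6.DefectZeroBlock
import Cfsg.Agent.Helper6.KernelSet
import Cfsg.Agent.Helper6.Inflation

/-!
# Characters of defect zero modulo a normal subgroup

An irreducible character with a normal subgroup `K` in its kernel whose degree has the full
`p`-part of `|G : K|` vanishes at the elements that are `p`-singular modulo `K`; consequently
every normal `p`-subgroup lies in `K`.
-/

set_option autoImplicit false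
set_option linter.style.haveILetI false

namespace Cfsg.Agent.Helper6

open Module Representation
open scoped ComplexConjugate

universe u

variable {G : Type u} [Group G] {M : Ideal Cfsg.AlgInt}

/-- an irreducible character of defect zero modulo `K` vanishes at the elements that are
`p`-singular modulo `K` -/
theorem vanish_of_defect_zero_mod [Finite G] {p : ℕ} [hp : Fact p.Prime]
    (hM : Cfsg.IsPModular p M) (K : Subgroup G) [hK : K.Normal] (χ : Cfsg.IrrCharacter G)
    (hker : ∀ k ∈ K, (χ : G → ℂ) k = (χ : G → ℂ) 1)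
    (hdeg : (Cfsg.charDegree (χ : G → ℂ)).factorization p + (Nat.card K).factorization p =
      (Nat.card G).factorization p)
    (g : G) (hg : p ∣ orderOf (g : G ⧸ K)) : (χ : G → ℂ) g = 0 := by
  obtain ⟨χ', hχ'⟩ := exists_deflate K χ hker
  have hdeg' : Cfsg.charDegree (χ' : G ⧸ K → ℂ) = Cfsg.charDegree (χ : G → ℂ) := by
    unfold Cfsg.charDegree
    rw [hχ']
    rfl
  have hcard := Subgroup.card_eq_card_quotient_mul_card_subgroup K
  have hQpos : Nat.card (G ⧸ K) ≠ 0 := Nat.card_pos.ne'
  have hKpos : Nat.card K ≠ 0 := Nat.card_pos.ne'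
  have hfac : (Nat.card (G ⧸ K)).factorization p + (Nat.card K).factorization p =
      (Nat.card G).factorization p := by
    rw [hcard, Nat.factorization_mul hQpos hKpos]
    rfl
  have hdvd := charDegree_dvd_card χ'.2
  have hnd : ¬ p ∣ Nat.card (G ⧸ K) / Cfsg.charDegree (χ' : G ⧸ K → ℂ) := by
    intro hpd
    obtain ⟨m, hm⟩ := hdvd
    have hd0 : Cfsg.charDegree (χ' : G ⧸ K → ℂ) ≠ 0 := by
      intro h0
      rw [h0, zero_mul] at hm
      exact hQpos hm
    have hm0 : m ≠ 0 := by
      intro h0
      rw [h0, mul_zero] at hm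
      exact hQpos hm
    rw [hm, Nat.mul_div_cancel_left _ (Nat.pos_of_ne_zero hd0)] at hpd
    have h1 : (Nat.card (G ⧸ K)).factorization p =
        (Cfsg.charDegree (χ' : G ⧸ K → ℂ)).factorization p + m.factorization p := by
      rw [hm, Nat.factorization_mul hd0 hm0]
      rfl
    have h2 : 1 ≤ m.factorization p :=
      (hp.out.dvd_iff_one_le_factorization hm0).mp hpd
    rw [hdeg'] at h1
    omega
  have hsing := blockOf_eq_singleton_of_not_dvd hM.2.1 p hp.out hM.2.2 χ' hnd
  have hv := vanish_of_blockOf_eq_singleton hM.2.1 p hM.2.2 χ' hsing (g : G ⧸ K) hg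
  rw [hχ']
  exact hv

/-- a normal `p`-subgroup lies in `K` when some irreducible character has defect zero modulo
`K` -/
theorem normal_pgroup_le_of_defect_zero_mod [Finite G] {p : ℕ} [hp : Fact p.Prime]
    (hM : Cfsg.IsPModular p M) (K : Subgroup G) [hK : K.Normal] (χ : Cfsg.IrrCharacter G)
    (hker : ∀ k ∈ K, (χ : G → ℂ) k = (χ : G → ℂ) 1)
    (hdeg : (Cfsg.charDegree (χ : G → ℂ)).factorization p + (Nat.card K).factorization p =
      (Nat.card G).factorization p)
    (R : Subgroup G) [hR : R.Normal] (hRp : IsPGroup p R) : R ≤ K := by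
  classical
  haveI := Fintype.ofFinite G
  have hχ1 : (χ : G → ℂ) 1 ≠ 0 := IsIrrCharacter.apply_one_ne_zero χ.2
  have hvan : ∀ r ∈ R, r ∉ K → (χ : G → ℂ) r = 0 := by
    intro r hr hrK
    apply vanish_of_defect_zero_mod hM K χ hker hdeg r
    obtain ⟨k, hk⟩ := (IsPGroup.iff_orderOf.mp hRp) ⟨r, hr⟩
    rw [Subgroup.orderOf_mk] at hk
    have hdvd : orderOf (r : G ⧸ K) ∣ p ^ k := by
      rw [← hk]
      exact orderOf_map_dvd (QuotientGroup.mk' K) r
    obtain ⟨j, -, hj⟩ := (Nat.dvd_prime_pow hp.out).mp hdvd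
    have hj0 : j ≠ 0 := by
      rintro rfl
      rw [pow_zero, orderOf_eq_one_iff, QuotientGroup.eq_one_iff] at hj
      exact hrK hj
    rw [hj]
    exact dvd_pow_self p hj0
  rcases kernel_or_sum_eq_zero χ R with h | h
  · intro r hr
    by_contra hrK
    exact hχ1 ((h r hr).symm.trans (hvan r hr hrK))
  · exfalso
    have hsum : ∑ n ∈ Finset.univ.filter (fun g : G => g ∈ R), (χ : G → ℂ) n =
        ∑ n ∈ Finset.univ.filter (fun g : G => g ∈ R), if n ∈ K then (χ : G → ℂ) 1 else 0 := by
      apply Finset.sum_congr rfl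
      intro n hn
      rw [Finset.mem_filter] at hn
      by_cases hnK : n ∈ K
      · rw [if_pos hnK, hker n hnK]
      · rw [if_neg hnK, hvan n hn.2 hnK]
    rw [hsum, ← Finset.sum_filter, Finset.sum_const, nsmul_eq_mul] at h
    rcases mul_eq_zero.mp h with h0 | h0
    · have hmem : (1 : G) ∈ (Finset.univ.filter (fun g : G => g ∈ R)).filter (fun n => n ∈ K) := by
        rw [Finset.mem_filter, Finset.mem_filter]
        exact ⟨⟨Finset.mem_univ _, R.one_mem⟩, K.one_mem⟩
      have hc : ((Finset.univ.filter (fun g : G => g ∈ R)).filter (fun n => n ∈ K)).card ≠ 0 :=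
        Finset.card_ne_zero_of_mem hmem
      exact hc (by exact_mod_cast h0)
    · exact hχ1 h0

end Cfsg.Agent.Helper6
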