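import Mathlib
import Cfsg.Prelude.Def_Characters
import Cfsg.Agent.Helper6.CharTripleD
import Cfsg.Agent.Helper6.BrolineA
import Cfsg.Agent.Helper6.PermCore
import Cfsg.Agent.Helper6.NormalComplementBlock2
import Cfsg.Agent.Helper6.BlockPart

/-!
# Constituents on a normal subgroup when another normal subgroup lies in the kernel

If `Q` lies in the kernel of the irreducible character `χ` and `C` is normal, then `χ` has an
irreducible constituent `θ` on `C` with `χ(1)/θ(1)` dividing `|G : QC|`.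
-/

set_option autoImplicit false
set_option linter.style.haveILetI false

namespace Cfsg.Agent.Helper6

open Module Representation
open scoped ComplexConjugate

universe u

variable {G : Type u} [Group G]

set_option maxHeartbeats 800000 in
/-- a constituent on `C` whose degree ratio divides the index of `Q ⊔ C` -/
theorem exists_constituent_ratio_dvd_sup [Fintype G] (Q C : Subgroup G) [hQ : Q.Normal]
    [hC : C.Normal] [Fintype C] (χ : Cfsg.IrrCharacter G)
    (hker : ∀ q ∈ Q, (χ : G → ℂ) q = (χ : G → ℂ) 1) :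
    ∃ θ : Cfsg.IrrCharacter C,
      Cfsg.classInner (fun c : C => (χ : G → ℂ) c) (θ : C → ℂ) ≠ 0 ∧
      Cfsg.charDegree (θ : C → ℂ) ∣ Cfsg.charDegree (χ : G → ℂ) ∧
      Cfsg.charDegree (χ : G → ℂ) / Cfsg.charDegree (θ : C → ℂ) ∣ (Q ⊔ C).index := by
  classical
  set N : Subgroup G := Q ⊔ C with hN
  haveI : Fintype N := Fintype.ofFinite _
  have hQN : Q ≤ N := le_sup_left
  have hCN : C ≤ N := le_sup_right
  have hχc := IsIrrCharacter.isCharacter χ.2
  obtain ⟨η, hη⟩ := exists_constituent_restrict N χ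
  have hηc := IsIrrCharacter.isCharacter η.2
  have hc : (χ : G → ℂ) 1 = (Cfsg.charDegree (χ : G → ℂ) : ℂ) :=
    (charDegree_cast_of_isCharacter hχc).symm
  have hd : (η : N → ℂ) 1 = (Cfsg.charDegree (η : N → ℂ) : ℂ) :=
    (charDegree_cast_of_isCharacter hηc).symm
  obtain ⟨hdvd, hratio⟩ := degree_ratio_dvd_index N (χ : G → ℂ) χ.2 (η : N → ℂ) η.2 hη _ _ hc hd
  -- `Q` lies in the kernel of `η`
  have hkerη : ∀ m ∈ Q.subgroupOf N, (η : N → ℂ) m = (η : N → ℂ) 1 := by
    intro m hm
    apply constituent_apply_eq_of_apply_eq (IsCharacter.restrict N hχc) η.2 hη m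
    exact hker (m : G) (Subgroup.mem_subgroupOf.mp hm)
  have hsup : Q.subgroupOf N ⊔ C.subgroupOf N = ⊤ := by
    rw [← Subgroup.subgroupOf_sup hQN hCN, ← hN, Subgroup.subgroupOf_self]
  have hirr := restrict_irr_of_ker_sup (Q.subgroupOf N) (C.subgroupOf N) hsup η hkerη
  set e : C.subgroupOf N ≃* C := Subgroup.subgroupOfEquivOfLe hCN with he
  haveI : Finite (C.subgroupOf N) := Finite.of_injective e e.injective
  have hθirr : Cfsg.IsIrrCharacter C
      ((fun h : C.subgroupOf N => (η : N → ℂ) h) ∘ e.symm) :=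
    IsIrrCharacter.comp_mulEquiv e.symm hirr
  refine ⟨⟨_, hθirr⟩, ?_, ?_, ?_⟩
  · -- constituent of the restriction of `χ` to `C`
    show Cfsg.classInner (fun c : C => (χ : G → ℂ) c)
      ((fun h : C.subgroupOf N => (η : N → ℂ) h) ∘ e.symm) ≠ 0
    have hΔ := sub_isCharacter_of_constituent (IsCharacter.restrict N hχc) η.2 hη
    -- restrict everything to `C ≤ N`
    have hΔC : Cfsg.IsCharacter C (fun c : C => ((fun n : N => (χ : G → ℂ) n) - (η : N → ℂ))
        ⟨(c : G), hCN c.2⟩) :=
      IsCharacter.comp_hom (Subgroup.inclusion hCN) hΔ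
    have hηC : Cfsg.IsCharacter C ((fun h : C.subgroupOf N => (η : N → ℂ) h) ∘ e.symm) :=
      IsIrrCharacter.isCharacter hθirr
    have hsplit : (fun c : C => (χ : G → ℂ) c) =
        (fun c : C => ((fun n : N => (χ : G → ℂ) n) - (η : N → ℂ)) ⟨(c : G), hCN c.2⟩) +
          ((fun h : C.subgroupOf N => (η : N → ℂ) h) ∘ e.symm) := by
      funext c
      simp only [Pi.add_apply, Pi.sub_apply, Function.comp_apply]
      have : ((e.symm c : C.subgroupOf N) : N) = ⟨(c : G), hCN c.2⟩ := rfl
      rw [this]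
      ring
    rw [hsplit, classInner_add_left]
    obtain ⟨a, ha⟩ := classInner_char_char_nat hΔC hηC
    rw [ha, (isIrrCharacter_iff_classInner_self.mp hθirr).2]
    have : (0 : ℝ) < (a : ℝ) + 1 := by positivity
    intro h0
    have h1 : ((a : ℝ) + 1 : ℂ) = 0 := by exact_mod_cast h0
    have h2 : (a : ℝ) + 1 = 0 := by exact_mod_cast h1
    linarith
  · have hdeg : Cfsg.charDegree ((fun h : C.subgroupOf N => (η : N → ℂ) h) ∘ e.symm) =
        Cfsg.charDegree (η : N → ℂ) := by
      unfold Cfsg.charDegree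
      rfl
    show Cfsg.charDegree ((fun h : C.subgroupOf N => (η : N → ℂ) h) ∘ e.symm) ∣ _
    rw [hdeg]
    exact hdvd
  · have hdeg : Cfsg.charDegree ((fun h : C.subgroupOf N => (η : N → ℂ) h) ∘ e.symm) =
        Cfsg.charDegree (η : N → ℂ) := by
      unfold Cfsg.charDegree
      rfl
    show _ / Cfsg.charDegree ((fun h : C.subgroupOf N => (η : N → ℂ) h) ∘ e.symm) ∣ _
    rw [hdeg]
    exact hratio

end Cfsg.Agent.Helper6
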