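import Mathlib
import Cfsg.Prelude.Def_Characters
import Cfsg.Prelude.Def_Blocks
import Cfsg.Agent.Helper6.WeightA
import Cfsg.Agent.Helper6.QuotDefA
import Cfsg.Agent.Helper6.FongMax
import Cfsg.Agent.Helper6.BlockFusionRec1
import Cfsg.Agent.Helper6.BrauerIdem

/-!
# A block containing a character of defect zero modulo a central `p`-subgroup

If the block `e` of `C` contains an irreducible character with the central `p`-subgroup `Z` in
its kernel and of defect zero modulo `Z`, then `Z` is a defect group of `e`.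
-/

set_option autoImplicit false
set_option linter.style.haveILetI false

namespace Cfsg.Agent.Helper6

open Module Representation
open scoped ComplexConjugate

universe u

variable {G : Type u} [Group G] {M : Ideal Cfsg.AlgInt}

/-- The preimage of the centralizer of `yN` has order `|C_{G/N}(yN)| * |N|`. -/
theorem card_comap_centralizer_mk' [Finite G] (N : Subgroup G) [N.Normal] (y : G) :
    Nat.card ((Subgroup.centralizer ({(y : G ⧸ N)} : Set (G ⧸ N))).comap (QuotientGroup.mk' N)) =
      Nat.card (Subgroup.centralizer ({(y : G ⧸ N)} : Set (G ⧸ N))) * Nat.card N := by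
  set Cb := Subgroup.centralizer ({(y : G ⧸ N)} : Set (G ⧸ N)) with hCb
  have h1 := Subgroup.index_comap_of_surjective Cb (QuotientGroup.mk'_surjective N)
  have h2 := Subgroup.card_mul_index (Cb.comap (QuotientGroup.mk' N))
  have h3 := Subgroup.card_mul_index Cb
  have h4 := Subgroup.card_eq_card_quotient_mul_card_subgroup N
  have h5 : Cb.index ≠ 0 := Subgroup.index_ne_zero_of_finite
  rw [h1] at h2
  have h6 : Nat.card (Cb.comap (QuotientGroup.mk' N)) * Cb.index =
      (Nat.card Cb * Nat.card N) * Cb.index := by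
    rw [h2, h4, ← h3]
    ring
  exact Nat.eq_of_mul_eq_mul_right (Nat.pos_of_ne_zero h5) h6

set_option maxHeartbeats 800000 in
/-- **central defect criterion** -/
theorem isDefectGroup_of_central_defect_zero [Finite G] {p : ℕ} [hp : Fact p.Prime]
    (hM : Cfsg.IsPModular p M) (Z : Subgroup G) (hZc : Z ≤ Subgroup.center G)
    (hZp : IsPGroup p Z) (e : Set (Cfsg.IrrCharacter G)) (he : Cfsg.IsPBlock M e)
    (θ : Cfsg.IrrCharacter G) (hθ : θ ∈ e)
    (hker : ∀ z ∈ Z, (θ : G → ℂ) z = (θ : G → ℂ) 1)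
    (hdeg : (Cfsg.charDegree (θ : G → ℂ)).factorization p + (Nat.card Z).factorization p =
      (Nat.card G).factorization p) :
    Cfsg.IsDefectGroup p M e Z := by
  classical
  haveI hZn : Z.Normal := ⟨fun z hz g => by
    have h1 := Subgroup.mem_center_iff.mp (hZc hz) g
    have : g * z * g⁻¹ = z := by rw [h1]; group
    rw [this]
    exact hz⟩
  obtain ⟨g₀, hg₀⟩ := exists_defectClass hM.2.1 e he
  obtain ⟨S₀⟩ : Nonempty (Sylow p (Subgroup.centralizer ({g₀} : Set G))) := inferInstance
  have hD : Cfsg.IsDefectGroup p M e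
      ((S₀ : Subgroup _).map (Subgroup.centralizer ({g₀} : Set G)).subtype) :=
    ⟨g₀, hg₀, S₀, rfl⟩
  have hZD := normal_pSubgroup_le_defectGroup hM Z hZp e he _ hD
  -- the deflated character has defect zero
  obtain ⟨θ', hθ'⟩ := exists_deflate Z θ hker
  have hdeg' : Cfsg.charDegree (θ' : G ⧸ Z → ℂ) = Cfsg.charDegree (θ : G → ℂ) := by
    unfold Cfsg.charDegree
    rw [hθ']
    rfl
  have hcard := Subgroup.card_eq_card_quotient_mul_card_subgroup Z
  have hQpos : Nat.card (G ⧸ Z) ≠ 0 := Nat.card_pos.ne'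
  have hZpos : Nat.card Z ≠ 0 := Nat.card_pos.ne'
  have hfac : (Nat.card (G ⧸ Z)).factorization p + (Nat.card Z).factorization p =
      (Nat.card G).factorization p := by
    rw [hcard, Nat.factorization_mul hQpos hZpos]
    rfl
  have hfac' : (Nat.card (G ⧸ Z)).factorization p =
      (Cfsg.charDegree (θ' : G ⧸ Z → ℂ)).factorization p := by
    rw [hdeg']
    omega
  have hdvd := charDegree_dvd_card θ'.2
  have hnd : ¬ p ∣ Nat.card (G ⧸ Z) / Cfsg.charDegree (θ' : G ⧸ Z → ℂ) := by
    intro hpd
    obtain ⟨m, hm⟩ := hdvd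
    have hd0 : Cfsg.charDegree (θ' : G ⧸ Z → ℂ) ≠ 0 := by
      intro h0
      rw [h0, zero_mul] at hm
      exact hQpos hm
    have hm0 : m ≠ 0 := by
      intro h0
      rw [h0, mul_zero] at hm
      exact hQpos hm
    rw [hm, Nat.mul_div_cancel_left _ (Nat.pos_of_ne_zero hd0)] at hpd
    have h1 : (Nat.card (G ⧸ Z)).factorization p =
        (Cfsg.charDegree (θ' : G ⧸ Z → ℂ)).factorization p + m.factorization p := by
      rw [hm, Nat.factorization_mul hd0 hm0]
      rfl
    have h2 : 1 ≤ m.factorization p :=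
      (hp.out.dvd_iff_one_le_factorization hm0).mp hpd
    omega
  have hsing := blockOf_eq_singleton_of_not_dvd hM.2.1 p hp.out hM.2.2 θ' hnd
  have hB' : Cfsg.IsPBlock M ({θ'} : Set (Cfsg.IrrCharacter (G ⧸ Z))) := ⟨θ', hsing.symm⟩
  obtain ⟨gb, hgb⟩ := exists_defectClass hM.2.1 _ hB'
  have hdef0 : Cfsg.blockDefect p ({θ'} : Set (Cfsg.IrrCharacter (G ⧸ Z))) = 0 := by
    unfold Cfsg.blockDefect
    rw [Set.image_singleton, csInf_singleton, hfac']
    exact Nat.sub_self _
  have hCb0 : (Nat.card (Subgroup.centralizer ({gb} : Set (G ⧸ Z)))).factorization p = 0 := by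
    rw [← blockDefect_eq_of_defectClass hM.2.1 p hM.2.2 _ hB' gb hgb, hdef0]
  have hCbnd : ¬ p ∣ Nat.card (Subgroup.centralizer ({gb} : Set (G ⧸ Z))) := by
    intro hpd
    have := (hp.out.dvd_iff_one_le_factorization Nat.card_pos.ne').mp hpd
    omega
  have hωb : ¬ Cfsg.MemLocalIdeal M (Cfsg.centralChar (θ' : G ⧸ Z → ℂ) gb) :=
    hgb.2.2 θ' rfl
  -- lift to `G`
  obtain ⟨h, rfl⟩ := QuotientGroup.mk_surjective gb
  set Ch := Subgroup.centralizer ({h} : Set G) with hCh
  set Kc := (Subgroup.centralizer ({(QuotientGroup.mk h : G ⧸ Z)} : Set (G ⧸ Z))).comap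
    (QuotientGroup.mk' Z) with hKc
  have hle : Ch ≤ Kc := centralizer_le_comap_centralizer Z h
  have hKcard : Nat.card Kc =
      Nat.card (Subgroup.centralizer ({(QuotientGroup.mk h : G ⧸ Z)} : Set (G ⧸ Z))) *
        Nat.card Z := card_comap_centralizer_mk' Z h
  have hrel : Ch.relIndex Kc * Nat.card Ch = Nat.card Kc := by
    have h1 := Subgroup.card_mul_index (Ch.subgroupOf Kc)
    have h2 : Nat.card (Ch.subgroupOf Kc) = Nat.card Ch :=
      Nat.card_congr (Subgroup.subgroupOfEquivOfLe hle).toEquiv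
    rw [h2] at h1
    rw [mul_comm]
    exact h1
  have hZCh : Z ≤ Ch := by
    intro z hz
    rw [hCh, Subgroup.mem_centralizer_singleton_iff]
    exact (Subgroup.mem_center_iff.mp (hZc hz) h).symm
  obtain ⟨m, hm⟩ := Subgroup.card_dvd_of_le hZCh
  have hkm : Ch.relIndex Kc * m =
      Nat.card (Subgroup.centralizer ({(QuotientGroup.mk h : G ⧸ Z)} : Set (G ⧸ Z))) := by
    have h1 : (Ch.relIndex Kc * m) * Nat.card Z =
        Nat.card (Subgroup.centralizer ({(QuotientGroup.mk h : G ⧸ Z)} : Set (G ⧸ Z))) *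
          Nat.card Z := by
      rw [← hKcard, ← hrel, hm]
      ring
    exact Nat.eq_of_mul_eq_mul_right (Nat.pos_of_ne_zero hZpos) h1
  have hknd : ¬ p ∣ Ch.relIndex Kc := fun hd => hCbnd (hkm ▸ Dvd.dvd.mul_right hd m)
  have hmnd : ¬ p ∣ m := fun hd => hCbnd (hkm ▸ Dvd.dvd.mul_left hd _)
  have hm0 : m ≠ 0 := by
    rintro rfl
    exact hmnd (dvd_zero p)
  have hChfac : (Nat.card Ch).factorization p = (Nat.card Z).factorization p := by
    rw [hm, Nat.factorization_mul hZpos hm0]
    simp only [Finsupp.coe_add, Pi.add_apply]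
    rw [Nat.factorization_eq_zero_of_not_dvd hmnd, add_zero]
  have hω : ¬ Cfsg.MemLocalIdeal M (Cfsg.centralChar (θ : G → ℂ) h) := by
    rw [hθ', centralChar_inflate_relIndex Z (θ' : G ⧸ Z → ℂ) h]
    intro hmem
    exact hωb (memLocalIdeal_of_natCast_mul hM _ hknd _ hmem)
  obtain ⟨x, hx⟩ := exists_conj_defectGroup_le_centralizer hM e he g₀ hg₀ S₀ θ hθ h hω
  -- the order of the defect group divides `|C(h)|`
  have hS₀dvd : Nat.card (S₀ : Subgroup (Subgroup.centralizer ({g₀} : Set G))) ∣ Nat.card Ch := by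
    let φ : (S₀ : Subgroup (Subgroup.centralizer ({g₀} : Set G))) →* Ch :=
      { toFun := fun u => ⟨x * ((u : Subgroup.centralizer ({g₀} : Set G)) : G) * x⁻¹,
          hx (u : Subgroup.centralizer ({g₀} : Set G)) u.2⟩
        map_one' := by
          apply Subtype.ext
          simp
        map_mul' := fun a b => by
          apply Subtype.ext
          simp only [Subgroup.coe_mul]
          group }
    apply Subgroup.card_dvd_of_injective φ
    intro a b hab
    have h1 : x * ((a : Subgroup.centralizer ({g₀} : Set G)) : G) * x⁻¹ =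
        x * ((b : Subgroup.centralizer ({g₀} : Set G)) : G) * x⁻¹ := congrArg Subtype.val hab
    have h2 : ((a : Subgroup.centralizer ({g₀} : Set G)) : G) =
        ((b : Subgroup.centralizer ({g₀} : Set G)) : G) :=
      mul_left_cancel (mul_right_cancel h1)
    exact Subtype.ext (Subtype.ext h2)
  have hS₀card : Nat.card (S₀ : Subgroup (Subgroup.centralizer ({g₀} : Set G))) =
      p ^ (Nat.card (Subgroup.centralizer ({g₀} : Set G))).factorization p :=
    Sylow.card_eq_multiplicity S₀
  have hZcard : Nat.card Z = p ^ (Nat.card Z).factorization p := by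
    obtain ⟨k, hk⟩ := IsPGroup.iff_card.mp hZp
    rw [hk, hp.out.factorization_pow]
    simp
  have hle2 : (Nat.card (Subgroup.centralizer ({g₀} : Set G))).factorization p ≤
      (Nat.card Z).factorization p := by
    rw [← hChfac]
    rw [hS₀card] at hS₀dvd
    exact (hp.out.pow_dvd_iff_le_factorization Nat.card_pos.ne').mp hS₀dvd
  have hcardle : Nat.card ((S₀ : Subgroup _).map (Subgroup.centralizer ({g₀} : Set G)).subtype) ≤
      Nat.card Z := by
    rw [Subgroup.card_subtype, hS₀card, hZcard]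
    exact Nat.pow_le_pow_right hp.out.pos hle2
  have heq := Subgroup.eq_of_le_of_card_ge hZD hcardle
  rw [heq]
  exact hD

end Cfsg.Agent.Helper6
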