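import Mathlib
import Cfsg.Prelude.Def_Characters
import Cfsg.Prelude.Def_Blocks
import Cfsg.Prelude.Def_BlockLocal
import Cfsg.Prelude.Def_BrauerPairs
import Cfsg.Agent.Helper6.WeightB
import Cfsg.Agent.Helper6.WeightC
import Cfsg.Agent.Helper6.FongCount
import Cfsg.Agent.Helper6.CliffordOrbit
import Cfsg.Agent.Helper6.CanonicalChar
import Cfsg.Agent.Helper1.Card

/-!
# Weights: the internal computation

Inside a group `X` with a normal `p`-subgroup `Q`, a block of `X` whose idempotent is that of an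
`X`-stable block `e` of `C_X(Q)` and which contains a character of defect zero modulo `Q` forces
`e` to contain a character of defect zero modulo `Z(Q)`.
-/

set_option autoImplicit false
set_option linter.style.haveILetI false

namespace Cfsg.Agent.Helper6

open Module Representation
open scoped ComplexConjugate

universe u

variable {X : Type u} [Group X] {M : Ideal Cfsg.AlgInt}

/-- central defect criterion with an inequality as hypothesis -/
theorem isDefectGroup_of_central_defect_le [Finite X] {p : ℕ} [hp : Fact p.Prime]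
    (hM : Cfsg.IsPModular p M) (Z : Subgroup X) (hZc : Z ≤ Subgroup.center X)
    (hZp : IsPGroup p Z) (e : Set (Cfsg.IrrCharacter X)) (he : Cfsg.IsPBlock M e)
    (θ : Cfsg.IrrCharacter X) (hθ : θ ∈ e)
    (hker : ∀ z ∈ Z, (θ : X → ℂ) z = (θ : X → ℂ) 1)
    (hdeg : (Nat.card X).factorization p ≤
      (Cfsg.charDegree (θ : X → ℂ)).factorization p + (Nat.card Z).factorization p) :
    Cfsg.IsDefectGroup p M e Z := by
  apply isDefectGroup_of_central_defect_zero hM Z hZc hZp e he θ hθ hker
  apply le_antisymm _ hdeg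
  have h1 := charDegree_dvd_index_center θ.2
  have h2 : (Subgroup.center X).index ∣ Z.index := Subgroup.index_dvd_of_le hZc
  have h3 := Subgroup.index_mul_card Z
  have hidx0 : Z.index ≠ 0 := Subgroup.index_ne_zero_of_finite
  have hZ0 : Nat.card Z ≠ 0 := Nat.card_pos.ne'
  have hd0 : Cfsg.charDegree (θ : X → ℂ) ≠ 0 := by
    intro h0
    rw [h0] at h1
    have := Nat.eq_zero_of_zero_dvd (h1.trans h2)
    exact hidx0 this
  have h4 : (Cfsg.charDegree (θ : X → ℂ)).factorization p ≤ Z.index.factorization p :=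
    (Nat.factorization_le_iff_dvd hd0 hidx0).mpr (h1.trans h2) p
  rw [← h3, Nat.factorization_mul hidx0 hZ0]
  simp only [Finsupp.coe_add, Pi.add_apply]
  omega

set_option maxHeartbeats 800000 in
/-- **the internal weight computation** -/
theorem weight_internal [Fintype X] {p : ℕ} [hp : Fact p.Prime]
    (Q C : Subgroup X) [hQ : Q.Normal] [hCn' : C.Normal]
    (e : Set (Cfsg.IrrCharacter C))
    (hst : ∀ x : X, Cfsg.StabilizesBlock C e x)
    (F' : Set (Cfsg.IrrCharacter X))
    (hF'e : ∀ t : X, Cfsg.blockCoeff F' t = Cfsg.subgroupBlockCoeff C e t)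
    (χ : Cfsg.IrrCharacter X) (hχ : χ ∈ F')
    (hker : ∀ q ∈ Q, (χ : X → ℂ) q = (χ : X → ℂ) 1)
    (hdeg : (Cfsg.charDegree (χ : X → ℂ)).factorization p + (Nat.card Q).factorization p =
      (Nat.card X).factorization p) :
    ∃ θ ∈ e, (∀ c : C, (c : X) ∈ Q → (θ : C → ℂ) c = (θ : C → ℂ) 1) ∧
      (Nat.card C).factorization p ≤
        (Cfsg.charDegree (θ : C → ℂ)).factorization p +
          (Nat.card (Q ⊓ C : Subgroup X)).factorization p := by
  classical
  haveI : Fintype C := Fintype.ofFinite _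
  have hχc := IsIrrCharacter.isCharacter χ.2
  have hO := stable_of_stabilizesBlock C e hst
  have hF := eq_lyingOver_of_blockCoeff_eq C e hO F' hF'e
  rw [hF] at hχ
  obtain ⟨θ₁, hθ₁e, hθ₁con⟩ := hχ
  obtain ⟨θ₂, hθ₂con, hdvd, hratio⟩ := exists_constituent_ratio_dvd_sup Q C χ hker
  obtain ⟨g, hg⟩ := conj_of_constituents C (χ : X → ℂ) χ.2 (θ₁ : C → ℂ) θ₁.2 hθ₁con
    (θ₂ : C → ℂ) θ₂.2 hθ₂con
  have hdeg12 : Cfsg.charDegree (θ₂ : C → ℂ) = Cfsg.charDegree (θ₁ : C → ℂ) := by
    unfold Cfsg.charDegree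
    rw [hg]
    unfold conjFun
    have : (⟨g * ((1 : C) : X) * g⁻¹, hCn'.conj_mem _ (1 : C).2 g⟩ : C) = 1 := by
      apply Subtype.ext
      simp
    rw [this]
  rw [hdeg12] at hdvd hratio
  refine ⟨θ₁, hθ₁e, ?_, ?_⟩
  · intro c hc
    exact constituent_apply_eq_of_apply_eq (IsCharacter.restrict C hχc) θ₁.2 hθ₁con c
      (hker (c : X) hc)
  · have hcχ0 : Cfsg.charDegree (χ : X → ℂ) ≠ 0 := by
      intro h0
      have h1 := charDegree_cast_of_isCharacter hχc
      rw [h0, Nat.cast_zero] at h1
      exact IsIrrCharacter.apply_one_ne_zero χ.2 h1.symm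
    obtain ⟨r, hr⟩ := hdvd
    have hd0 : Cfsg.charDegree (θ₁ : C → ℂ) ≠ 0 := by
      intro h0
      rw [h0, zero_mul] at hr
      exact hcχ0 hr
    have hr0 : r ≠ 0 := by
      rintro rfl
      rw [mul_zero] at hr
      exact hcχ0 hr
    have hquot : Cfsg.charDegree (χ : X → ℂ) / Cfsg.charDegree (θ₁ : C → ℂ) = r := by
      rw [hr, Nat.mul_div_cancel_left _ (Nat.pos_of_ne_zero hd0)]
    rw [hquot] at hratio
    have hidx0 : (Q ⊔ C).index ≠ 0 := Subgroup.index_ne_zero_of_finite
    have h1 : r.factorization p ≤ (Q ⊔ C).index.factorization p :=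
      (Nat.factorization_le_iff_dvd hr0 hidx0).mpr hratio p
    have h2 : (Cfsg.charDegree (χ : X → ℂ)).factorization p =
        (Cfsg.charDegree (θ₁ : C → ℂ)).factorization p + r.factorization p := by
      rw [hr, Nat.factorization_mul hd0 hr0]
      rfl
    have h3 := Subgroup.index_mul_card (Q ⊔ C)
    have hCn : C ≤ Subgroup.normalizer (Q : Set X) := by
      intro c _
      rw [Subgroup.mem_normalizer_iff]
      intro x
      exact ⟨fun hx => hQ.conj_mem x hx c, fun hx => by
        have := hQ.conj_mem _ hx c⁻¹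
        simpa [mul_assoc] using this⟩
    have h4 := Cfsg.Agent.Helper1.card_sup_mul_card_inf hCn
    have hsup0 : Nat.card (Q ⊔ C : Subgroup X) ≠ 0 := Nat.card_pos.ne'
    have hinf0 : Nat.card (Q ⊓ C : Subgroup X) ≠ 0 := Nat.card_pos.ne'
    have hQ0 : Nat.card Q ≠ 0 := Nat.card_pos.ne'
    have hC0 : Nat.card C ≠ 0 := Nat.card_pos.ne'
    have h5 : (Nat.card X).factorization p =
        (Q ⊔ C).index.factorization p + (Nat.card (Q ⊔ C : Subgroup X)).factorization p := by
      rw [← h3, Nat.factorization_mul hidx0 hsup0]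
      rfl
    have h6 : (Nat.card (Q ⊔ C : Subgroup X)).factorization p +
        (Nat.card (Q ⊓ C : Subgroup X)).factorization p =
        (Nat.card Q).factorization p + (Nat.card C).factorization p := by
      have h7 : (Nat.card (Q ⊔ C : Subgroup X) * Nat.card (Q ⊓ C : Subgroup X)).factorization p =
          (Nat.card Q * Nat.card C).factorization p := by rw [h4]
      rw [Nat.factorization_mul hsup0 hinf0, Nat.factorization_mul hQ0 hC0] at h7
      exact h7
    omega

end Cfsg.Agent.Helper6
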