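import Mathlib
import Cfsg.Prelude.Def_Characters
import Cfsg.Prelude.Def_Blocks
import Cfsg.Prelude.Def_BlockLocal
import Cfsg.Prelude.Def_BrauerPairs
import Cfsg.Agent.Helper6.WeightA
import Cfsg.Agent.Helper6.WeightD
import Cfsg.Agent.Helper6.LocalTransport
import Cfsg.Agent.Helper6.StabilizerBlock
import Cfsg.Agent.Helper6.PrincipalPairs
import Cfsg.Agent.Helper1.Basic

/-!
# A Brauer pair carrying a weight is centric and radical
-/

set_option autoImplicit false
set_option linter.style.haveILetI false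

namespace Cfsg.Agent.Helper6

open scoped ComplexConjugate

universe u

variable {G : Type u} [Group G] {M : Ideal Cfsg.AlgInt}

set_option maxHeartbeats 1600000 in
/-- **a Brauer pair with a weight is centric and radical** -/
theorem weight_pair [Fintype G] (p : ℕ) [hp : Fact p.Prime] (hM : Cfsg.IsPModular p M)
    (Q : Subgroup G) (e : Set (Cfsg.IrrCharacter (Subgroup.centralizer (Q : Set G))))
    (hQp : IsPGroup p Q) (he : Cfsg.IsPBlock M e)
    (T : Subgroup G)
    (hT : ∀ y : G, y ∈ T ↔ y ∈ Subgroup.normalizer (Q : Set G) ∧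
      Cfsg.StabilizesBlock (Subgroup.centralizer (Q : Set G)) e y)
    (F' : Set (Cfsg.IrrCharacter T))
    (hF'e : ∀ t : T, Cfsg.blockCoeff F' t =
      Cfsg.subgroupBlockCoeff (Subgroup.centralizer (Q : Set G)) e (t : G))
    (χ : Cfsg.IrrCharacter T) (hχ : χ ∈ F')
    (hχQ : ∀ q : G, q ∈ Q → ∀ t : T, ∀ t' : T, (t' : G) = q * (t : G) →
      (χ : T → ℂ) t' = (χ : T → ℂ) t)
    (hdeg : (Cfsg.charDegree (χ : T → ℂ)).factorization p + (Nat.card Q).factorization p =
      (Nat.card T).factorization p) :
    Cfsg.IsDefectGroup p M e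
      ((Q ⊓ Subgroup.centralizer (Q : Set G)).subgroupOf (Subgroup.centralizer (Q : Set G))) ∧
    ∀ R : Subgroup G, R ≤ T → IsPGroup p R →
      (∀ t ∈ T, t ∈ Subgroup.normalizer (R : Set G)) → R ≤ Q := by
  classical
  have hQT : Q ≤ T := fun u hu =>
    (hT u).mpr ⟨Subgroup.le_normalizer hu, stabilizesBlock_of_mem Q e u hu⟩
  have hCT : Subgroup.centralizer (Q : Set G) ≤ T := fun c hc =>
    (hT c).mpr ⟨Subgroup.centralizer_le_normalizer (Q : Set G) hc,
      stabilizesBlock_of_mem_centralizer Q e c hc⟩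
  have hTN : T ≤ Subgroup.normalizer (Q : Set G) := fun t ht => ((hT t).mp ht).1
  haveI hQXn : (Q.subgroupOf T).Normal :=
    (Subgroup.normal_subgroupOf_iff_le_normalizer hQT).mpr hTN
  haveI hCXn : (Subgroup.centralizer ((Q.subgroupOf T : Subgroup T) : Set T)).Normal :=
    Subgroup.normal_centralizer
  haveI : Fintype T := Fintype.ofFinite _
  have hst : ∀ x : T, Cfsg.StabilizesBlock
      (Subgroup.centralizer ((Q.subgroupOf T : Subgroup T) : Set T))
      (localBlock T Q hQT hCT e) x := fun x =>
    (stabilizesBlock_localBlock_iff T Q hQT hCT hTN e x).mpr ((hT x).mp x.2).2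
  have hF'X : ∀ t : T, Cfsg.blockCoeff F' t =
      Cfsg.subgroupBlockCoeff (Subgroup.centralizer ((Q.subgroupOf T : Subgroup T) : Set T))
        (localBlock T Q hQT hCT e) t := fun t => by
    rw [subgroupBlockCoeff_localBlock]
    exact hF'e t
  have hkerX : ∀ q ∈ Q.subgroupOf T, (χ : T → ℂ) q = (χ : T → ℂ) 1 := by
    intro q hq
    apply hχQ (q : G) (Subgroup.mem_subgroupOf.mp hq) 1 q
    simp
  have hcardQX : Nat.card (Q.subgroupOf T) = Nat.card Q :=
    Cfsg.Agent.Helper1.card_subgroupOf_of_le hQT
  have hdegX : (Cfsg.charDegree (χ : T → ℂ)).factorization p +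
      (Nat.card (Q.subgroupOf T)).factorization p = (Nat.card T).factorization p := by
    rw [hcardQX]
    exact hdeg
  constructor
  · obtain ⟨θ₁, hθ₁e, hθ₁ker, hθ₁deg⟩ :=
      weight_internal (Q.subgroupOf T)
        (Subgroup.centralizer ((Q.subgroupOf T : Subgroup T) : Set T))
        (localBlock T Q hQT hCT e) hst F' hF'X χ hχ hkerX hdegX
    obtain ⟨θ₀, hθ₀e, rfl⟩ := hθ₁e
    set Φ := centSubEquiv T Q hQT hCT with hΦ
    apply isDefectGroup_of_central_defect_le hM _ _ _ e he θ₀ hθ₀e
    · -- kernel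
      intro z hz
      rw [Subgroup.mem_subgroupOf] at hz
      have h1 := hθ₁ker (Φ.symm z) (by
        rw [Subgroup.mem_subgroupOf]
        have : (((Φ.symm z : Subgroup.centralizer ((Q.subgroupOf T : Subgroup T) : Set T)) : T)
          : G) = (z : G) := by
          rw [← coe_centSubEquiv T Q hQT hCT (Φ.symm z), ← hΦ, Φ.apply_symm_apply]
        rw [this]
        exact hz.1)
      rw [irrComp_apply, irrComp_apply, Φ.apply_symm_apply, map_one] at h1
      exact h1
    · -- degree
      have hcardC : Nat.card (Subgroup.centralizer ((Q.subgroupOf T : Subgroup T) : Set T)) =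
          Nat.card (Subgroup.centralizer (Q : Set G)) := Nat.card_congr Φ.toEquiv
      have hdegθ : Cfsg.charDegree (irrComp Φ θ₀ :
          Subgroup.centralizer ((Q.subgroupOf T : Subgroup T) : Set T) → ℂ) =
          Cfsg.charDegree (θ₀ : Subgroup.centralizer (Q : Set G) → ℂ) := by
        unfold Cfsg.charDegree
        rw [irrComp_apply, map_one]
      have hinf : (Q.subgroupOf T ⊓
          Subgroup.centralizer ((Q.subgroupOf T : Subgroup T) : Set T) : Subgroup T) =
          (Q ⊓ Subgroup.centralizer (Q : Set G)).subgroupOf T := by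
        ext t
        rw [Subgroup.mem_inf, Subgroup.mem_subgroupOf, Subgroup.mem_subgroupOf,
          Subgroup.mem_inf, mem_centralizer_subgroupOf_iff T Q hQT t]
      have hcardZ : Nat.card (Q.subgroupOf T ⊓
          Subgroup.centralizer ((Q.subgroupOf T : Subgroup T) : Set T) : Subgroup T) =
          Nat.card ((Q ⊓ Subgroup.centralizer (Q : Set G)).subgroupOf
            (Subgroup.centralizer (Q : Set G))) := by
        rw [hinf, Cfsg.Agent.Helper1.card_subgroupOf_of_le (inf_le_left.trans hQT),
          Cfsg.Agent.Helper1.card_subgroupOf_of_le inf_le_right]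
      rw [hcardC, hdegθ, hcardZ] at hθ₁deg
      exact hθ₁deg
    · -- central
      intro z hz
      rw [Subgroup.mem_subgroupOf] at hz
      rw [Subgroup.mem_center_iff]
      intro c
      apply Subtype.ext
      exact (Subgroup.mem_centralizer_iff.mp c.2 (z : G) hz.1).symm
    · -- p-group
      exact IsPGroup.comap_subtype (hQp.to_le inf_le_left)
  · intro R hRT hRp hRn
    haveI hRXn : (R.subgroupOf T).Normal :=
      (Subgroup.normal_subgroupOf_iff_le_normalizer hRT).mpr hRn
    have hRXp : IsPGroup p (R.subgroupOf T) := IsPGroup.comap_subtype hRp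
    have := normal_pgroup_le_of_defect_zero_mod hM (Q.subgroupOf T) χ hkerX hdegX
      (R.subgroupOf T) hRXp
    intro r hr
    exact Subgroup.mem_subgroupOf.mp (this (Subgroup.mem_subgroupOf.mpr
      (show ((⟨r, hRT hr⟩ : T) : G) ∈ R from hr)))

end Cfsg.Agent.Helper6
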