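import Mathlib
import Cfsg.Prelude.Def_Characters
import Cfsg.Prelude.Def_CharExt
import Cfsg.Agent.Helper6.CycA
import Cfsg.Agent.Helper6.CliffordCorr
import Cfsg.Agent.Helper6.CliffordOrbit
import Cfsg.Agent.Helper6.GaloisChar
import Cfsg.Agent.Helper6.SmallDegree

/-!
# Winter's theorem, part A: the invariant case (canonical extensions are rational on `p`-elements)
-/

set_option autoImplicit false
set_option linter.style.haveILetI false

namespace Cfsg.Agent.Helper6

open scoped ComplexConjugate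

universe u

/-- Chinese remainder choice of an exponent. -/
theorem exists_crt_exponent (a b m : ℕ) (hab : a.Coprime b) (hm : m.Coprime b) :
    ∃ K : ℕ, K.Coprime (a * b) ∧ K ≡ 1 [MOD a] ∧ K ≡ m [MOD b] := by
  obtain ⟨K, hK1, hKm⟩ := Nat.chineseRemainder hab 1 m
  refine ⟨K, ?_, hK1, hKm⟩
  apply Nat.Coprime.mul_right
  · have := hK1.gcd_eq
    rw [Nat.Coprime, this]
    exact Nat.gcd_one_left a
  · have := hKm.gcd_eq
    rw [Nat.Coprime, this]
    exact hm

variable {X : Type u} [Group X]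

/-- `p`-elements have order dividing the index of a normal `p`-complement. -/
theorem pow_index_eq_one_of_pElement [Finite X] (p : ℕ) (H : Subgroup X)
    (hcop : (Nat.card H).Coprime p) (x : X) (hx : ∃ k, x ^ (p ^ k) = 1) :
    orderOf x ∣ H.index := by
  obtain ⟨k, hk⟩ := hx
  have h1 : orderOf x ∣ p ^ k := orderOf_dvd_of_pow_eq_one hk
  have h2 : orderOf x ∣ Nat.card H * H.index := by
    rw [Subgroup.card_mul_index]
    exact orderOf_dvd_natCard x
  have h3 : (orderOf x).Coprime (Nat.card H) :=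
    Nat.Coprime.coprime_dvd_left h1 (Nat.Coprime.pow_left k hcop.symm)
  exact h3.dvd_of_dvd_mul_left h2

/-- The canonical extension takes rational values on `p`-elements. -/
theorem canonical_ext_rational [Finite X] (p : ℕ) [hp : Fact p.Prime] (H : Subgroup X)
    [hH : H.Normal] (hcop : (Nat.card H).Coprime p) (hidx : ∃ k, H.index = p ^ k)
    (χh : X → ℂ) (hχh : Cfsg.IsIrrCharacter X χh)
    (hres : Cfsg.IsIrrCharacter H (fun g : H => χh g))
    (hdet : (Cfsg.detOrder χh).Coprime H.index) (x : X) (hx : ∃ k, x ^ (p ^ k) = 1) :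
    ∃ q : ℚ, χh x = q := by
  obtain ⟨k, hk⟩ := hidx
  have hcop' : (Nat.card H).Coprime H.index := by
    rw [hk]
    exact Nat.Coprime.pow_right k hcop
  have hpow := canonical_ext_pow_invariant H hcop' χh hχh hres hdet
  have hord := pow_index_eq_one_of_pElement p H hcop x hx
  obtain ⟨n, ρ, hirr, rfl⟩ := hχh
  rw [char_rational_iff ρ x]
  intro m hm
  have hm' : m.Coprime H.index := by
    apply Nat.Coprime.coprime_dvd_right _ hm
    exact ⟨Nat.card H, by rw [mul_comm, Subgroup.card_mul_index]⟩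
  obtain ⟨K, hK, hK1, hKm⟩ := exists_crt_exponent (Nat.card H) H.index m hcop' hm'
  rw [Subgroup.card_mul_index] at hK
  have h1 := hpow K hK hK1 x
  have h2 : x ^ K = x ^ m := by
    rw [pow_eq_pow_iff_modEq]
    exact hKm.of_dvd hord
  rw [← h2]
  exact h1

/-- The invariant case of the construction. -/
theorem winter_invariant_case [Finite X] (p : ℕ) [hp : Fact p.Prime] (H : Subgroup X)
    [hH : H.Normal] [Fintype H] (hcop : (Nat.card H).Coprime p) (hidx : ∃ k, H.index = p ^ k)
    (χ : X → ℂ) (hχ : Cfsg.IsIrrCharacter X χ) (ϑ : H → ℂ) (hϑ : Cfsg.IsIrrCharacter H ϑ)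
    (hne : Cfsg.classInner (fun h : H => χ h) ϑ ≠ 0)
    (hinv : ∀ g : X, conjFun H ϑ g = ϑ) :
    ∃ ψ : X → ℂ, Cfsg.IsCharacter X ψ ∧ (∀ h : H, ψ h = χ h) ∧
      ∀ x : X, (∃ k, x ^ (p ^ k) = 1) → ∃ q : ℚ, ψ x = q := by
  classical
  haveI : Fintype X := Fintype.ofFinite X
  -- Clifford
  have hcl := clifford H χ hχ ϑ hϑ hne
  have hset : {ψ : H → ℂ | ∃ g : X, ψ = conjFun H ϑ g} = {ϑ} := by
    ext ψ
    simp only [Set.mem_ofPred_eq, Set.mem_singleton_iff]
    constructor
    · rintro ⟨g, rfl⟩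
      exact hinv g
    · rintro rfl
      exact ⟨1, (hinv 1).symm⟩
  rw [hset, finsum_mem_singleton] at hcl
  obtain ⟨e, he⟩ := classInner_char_char_nat
    (IsCharacter.restrict H (IsIrrCharacter.isCharacter hχ)) (IsIrrCharacter.isCharacter hϑ)
  rw [he] at hcl
  -- the canonical extension
  obtain ⟨d, hd, hddvd, -⟩ := IsIrrCharacter.degree_dvd_card hϑ
  obtain ⟨k, hk⟩ := hidx
  have hodvd := detOrder_dvd_card (IsIrrCharacter.isCharacter hϑ)
  have hcopk : (Nat.card H).Coprime H.index := by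
    rw [hk]
    exact Nat.Coprime.pow_right k hcop
  have hcop' : Nat.Coprime H.index (Cfsg.detOrder ϑ * d) := by
    apply Nat.Coprime.mul_right
    · exact (Nat.Coprime.coprime_dvd_left hodvd hcopk).symm
    · exact (Nat.Coprime.coprime_dvd_left hddvd hcopk).symm
  obtain ⟨χh, ⟨hirr, hext, hdet⟩, -⟩ := Cfsg.Agent.S0867.result H ϑ hϑ
    (fun g n => congrFun (hinv g) n) d hd hcop'
  have hres : Cfsg.IsIrrCharacter H (fun g : H => χh g) := by
    have : (fun g : H => χh g) = ϑ := funext hext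
    rw [this]
    exact hϑ
  have hdet' : (Cfsg.detOrder χh).Coprime H.index := by
    rw [hdet]
    exact (Nat.Coprime.coprime_dvd_left hodvd hcopk)
  have hchar : ∀ n : ℕ, Cfsg.IsCharacter X (n • χh) := by
    intro n
    induction n with
    | zero => rw [zero_smul]; exact IsCharacter.zero
    | succ n ih => rw [succ_nsmul]; exact IsCharacter.add ih (IsIrrCharacter.isCharacter hirr)
  refine ⟨e • χh, hchar e, ?_, ?_⟩
  · intro h
    have h1 := congrFun hcl h
    simp only [Pi.smul_apply, smul_eq_mul] at h1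
    rw [h1, Pi.smul_apply, hext, nsmul_eq_mul]
  · intro x hx
    obtain ⟨q, hq⟩ := canonical_ext_rational p H hcop ⟨k, hk⟩ χh hirr hres hdet' x hx
    refine ⟨e * q, ?_⟩
    rw [Pi.smul_apply, hq, nsmul_eq_mul]
    push_cast
    rfl

end Cfsg.Agent.Helper6
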