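import Mathlib
import Cfsg.Prelude.Def_Characters
import Cfsg.Agent.Helper6.WinA
import Cfsg.Agent.Helper6.IrrBasis

/-!
# Winter's theorem, part B: a character rational on `p`-elements with prescribed restriction
to a normal `p`-complement
-/

set_option autoImplicit false
set_option linter.style.haveILetI false

namespace Cfsg.Agent.Helper6

open scoped ComplexConjugate

universe u

/-- a finite sum of rational complex numbers is rational -/
theorem sum_rational {ι : Type*} (s : Finset ι) (f : ι → ℂ) (hf : ∀ i ∈ s, ∃ q : ℚ, f i = q) :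
    ∃ q : ℚ, ∑ i ∈ s, f i = q := by
  classical
  induction s using Finset.induction_on with
  | empty => exact ⟨0, by simp⟩
  | insert a s ha ih =>
    obtain ⟨q₁, hq₁⟩ := hf a (Finset.mem_insert_self a s)
    obtain ⟨q₂, hq₂⟩ := ih (fun i hi => hf i (Finset.mem_insert_of_mem hi))
    refine ⟨q₁ + q₂, ?_⟩
    rw [Finset.sum_insert ha, hq₁, hq₂]
    push_cast
    rfl

set_option maxHeartbeats 1600000 in
theorem winter_irr_aux (p : ℕ) [hp : Fact p.Prime] : ∀ (n : ℕ) (X : Type u) [Group X] [Finite X],
    Nat.card X = n → ∀ (H : Subgroup X) [H.Normal], (Nat.card H).Coprime p →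
    (∃ k, H.index = p ^ k) → ∀ χ : X → ℂ, Cfsg.IsIrrCharacter X χ →
    ∃ ψ : X → ℂ, Cfsg.IsCharacter X ψ ∧ (∀ h : H, ψ h = χ h) ∧
      ∀ x : X, (∃ k, x ^ (p ^ k) = 1) → ∃ q : ℚ, ψ x = q := by
  intro n
  induction n using Nat.strong_induction_on with
  | _ n ih =>
    intro X _ _ hn H hH hcop hidx χ hχ
    classical
    haveI : Fintype X := Fintype.ofFinite X
    haveI : Fintype H := Fintype.ofFinite H
    have hχc := IsIrrCharacter.isCharacter hχ
    have hres : Cfsg.IsCharacter H (fun h : H => χ h) := IsCharacter.restrict H hχc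
    have hne0 : (fun h : H => χ h) ≠ 0 := by
      intro h
      have h1 := congrFun h 1
      simp only [Subgroup.coe_one, Pi.zero_apply] at h1
      exact IsIrrCharacter.apply_one_ne_zero hχ h1
    obtain ⟨ϑ, hϑ, hne⟩ := exists_irr_constituent hres hne0
    set T : Subgroup X := conjStab H ϑ with hT
    have hHT : H ≤ T := le_conjStab_of_isClassFunction H ϑ
      (IsCharacter.isClassFunction (IsIrrCharacter.isCharacter hϑ))
    by_cases htop : T = ⊤
    · have hinv : ∀ g : X, conjFun H ϑ g = ϑ := by
        intro g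
        have : g ∈ T := by rw [htop]; exact Subgroup.mem_top g
        exact (mem_conjStab H ϑ g).mp this
      exact winter_invariant_case p H hcop hidx χ hχ ϑ hϑ hne hinv
    · -- proper inertia group
      haveI : Fintype T := Fintype.ofFinite T
      have hlt : Nat.card T < n := by
        rw [← hn]
        have hle := Subgroup.card_le_card_group T
        rcases lt_or_eq_of_le hle with h | h
        · exact h
        · exact absurd (Subgroup.eq_top_of_card_eq T h) htop
      have hT' : ∀ g : X, g ∈ T ↔
          ∀ m : H, ϑ ⟨g * m * g⁻¹, hH.conj_mem (m : X) m.2 g⟩ = ϑ m := by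
        intro g
        rw [hT, mem_conjStab]
        constructor
        · intro h m
          exact congrFun h m
        · intro h
          funext m
          exact h m
      obtain ⟨η, hη, hind, -⟩ := clifford_correspondence H ϑ hϑ T hT' hHT χ hχ hne
      -- induction hypothesis on `T`
      haveI : (H.subgroupOf T).Normal := Subgroup.normal_subgroupOf
      have hcardH' : Nat.card (H.subgroupOf T) = Nat.card H :=
        Nat.card_congr (Subgroup.subgroupOfEquivOfLe hHT).toEquiv
      have hidx' : ∃ k, (H.subgroupOf T).index = p ^ k := by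
        obtain ⟨k, hk⟩ := hidx
        have h1 : H.relIndex T ∣ p ^ k := by
          rw [← hk, ← Subgroup.relIndex_mul_index hHT]
          exact dvd_mul_right _ _
        obtain ⟨j, -, hj⟩ := (Nat.dvd_prime_pow hp.out).mp h1
        exact ⟨j, hj⟩
      obtain ⟨ψT, hψT, hψres, hψrat⟩ := ih (Nat.card T) hlt T rfl (H.subgroupOf T)
        (by rw [hcardH']; exact hcop) hidx' η hη
      refine ⟨Cfsg.indFun T ψT, isCharacter_indFun T ψT hψT, ?_, ?_⟩
      · intro h
        rw [← hind, indFun_apply, indFun_apply]
        congr 1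
        apply Finset.sum_congr rfl
        intro x _
        have hmemH : x⁻¹ * (h : X) * x ∈ H := by
          have := hH.conj_mem h h.2 x⁻¹
          rwa [inv_inv] at this
        have hmemT : x⁻¹ * (h : X) * x ∈ T := hHT hmemH
        rw [extendByZero_mem _ _ hmemT, extendByZero_mem _ _ hmemT]
        exact hψres ⟨⟨_, hmemT⟩, Subgroup.mem_subgroupOf.mpr hmemH⟩
      · intro x hx
        rw [indFun_apply]
        obtain ⟨q₁, hq₁⟩ := sum_rational Finset.univ
          (fun y : X => Cfsg.extendByZero T ψT (y⁻¹ * x * y)) (by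
            intro y _
            by_cases hmem : y⁻¹ * x * y ∈ T
            · rw [extendByZero_mem _ _ hmem]
              apply hψrat
              obtain ⟨k, hk⟩ := hx
              refine ⟨k, ?_⟩
              apply Subtype.ext
              rw [Subgroup.coe_pow, Subgroup.coe_one]
              show (y⁻¹ * x * y) ^ (p ^ k) = 1
              have h1 : y⁻¹ * x * y = y⁻¹ * x * (y⁻¹)⁻¹ := by rw [inv_inv]
              rw [h1, conj_pow, hk]
              group
            · rw [extendByZero_not_mem _ _ hmem]
              exact ⟨0, by simp⟩)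
        refine ⟨(Nat.card T : ℚ)⁻¹ * q₁, ?_⟩
        rw [hq₁]
        push_cast
        rfl


/-- Every character of a group with a normal `p`-complement `H` can be replaced by a character
with the same restriction to `H` which is rational on `p`-elements. -/
theorem winter_char {X : Type u} [Group X] [Finite X] (p : ℕ) [hp : Fact p.Prime]
    (H : Subgroup X) [H.Normal] (hcop : (Nat.card H).Coprime p) (hidx : ∃ k, H.index = p ^ k)
    (χ : X → ℂ) (hχ : Cfsg.IsCharacter X χ) :
    ∃ ψ : X → ℂ, Cfsg.IsCharacter X ψ ∧ (∀ h : H, ψ h = χ h) ∧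
      ∀ x : X, (∃ k, x ^ (p ^ k) = 1) → ∃ q : ℚ, ψ x = q := by
  rw [isCharacter_iff_mem_closure] at hχ
  induction hχ using AddSubmonoid.closure_induction with
  | mem x hx => exact winter_irr_aux p _ X rfl H hcop hidx x hx
  | zero =>
    refine ⟨0, IsCharacter.zero, fun _ => rfl, fun _ _ => ⟨0, by simp⟩⟩
  | add x y _ _ hx hy =>
    obtain ⟨ψ₁, h1, h2, h3⟩ := hx
    obtain ⟨ψ₂, h4, h5, h6⟩ := hy
    refine ⟨ψ₁ + ψ₂, IsCharacter.add h1 h4, ?_, ?_⟩
    · intro h
      rw [Pi.add_apply, Pi.add_apply, h2, h5]
    · intro g hg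
      obtain ⟨q₁, hq₁⟩ := h3 g hg
      obtain ⟨q₂, hq₂⟩ := h6 g hg
      refine ⟨q₁ + q₂, ?_⟩
      rw [Pi.add_apply, hq₁, hq₂]
      push_cast
      rfl

end Cfsg.Agent.Helper6
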