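import Mathlib
import Cfsg.Prelude.Def_Characters
import Cfsg.Agent.Helper6.SchurC
import Cfsg.Agent.Helper6.RepEigen
import Cfsg.Agent.Helper6.Codegree

/-!
# Winter's theorem, part C: Schur's bound for characters that need not be faithful
-/

set_option autoImplicit false
set_option linter.style.haveILetI false

namespace Cfsg.Agent.Helper6

open scoped ComplexConjugate

universe u

theorem schur_arith (p n N : ℕ) (hp : p.Prime) (hN : N ≠ 0)
    (hdvd : N ∣ p ^ (n / (p - 1)) * (n / (p - 1)).factorial) :
    N.factorization p ≤ ∑ i ∈ Finset.range (n + 1), n / ((p - 1) * p ^ i) := by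
  set m := n / (p - 1) with hm
  have hne : p ^ m * m.factorial ≠ 0 :=
    Nat.mul_ne_zero (pow_ne_zero _ hp.ne_zero) (Nat.factorial_ne_zero m)
  have h1 : N.factorization p ≤ (p ^ m * m.factorial).factorization p :=
    (Nat.factorization_le_iff_dvd hN hne).mpr hdvd p
  have h2 : (p ^ m * m.factorial).factorization p = m + (m.factorial).factorization p := by
    rw [Nat.factorization_mul (pow_ne_zero _ hp.ne_zero) (Nat.factorial_ne_zero m),
      Finsupp.add_apply, Nat.Prime.factorization_pow hp, Finsupp.single_eq_same]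
  have hlog : Nat.log p m < n + 1 := by
    have h3 : Nat.log p m ≤ m := Nat.log_le_self p m
    have h4 : m ≤ n := Nat.div_le_self n (p - 1)
    omega
  have h3 := Nat.factorization_factorial hp hlog
  have h4 : ∑ i ∈ Finset.range (n + 1), n / ((p - 1) * p ^ i) =
      m + ∑ i ∈ Finset.Ico 1 (n + 1), m / p ^ i := by
    rw [Finset.range_eq_Ico, Finset.sum_eq_sum_Ico_succ_bot (Nat.succ_pos n)]
    congr 1
    · simp [hm]
    · apply Finset.sum_congr rfl
      intro i _
      rw [hm, Nat.div_div_eq_div_mul]
  rw [h4, ← h3, ← h2]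
  exact h1

variable {P : Type u} [Group P]

/-- Schur's theorem for a rational-valued character of a `p`-group: the index of the kernel
divides `p ^ m * m!` with `m = n / (p - 1)`. -/
theorem schur_index_ker_dvd [Finite P] {p : ℕ} [hp : Fact p.Prime] (hP : IsPGroup p P)
    (ψ : P → ℂ) (hψ : Cfsg.IsCharacter P ψ) (hrat : ∀ x, ∃ q : ℚ, ψ x = q) (n : ℕ)
    (hn : Cfsg.charDegree ψ = n) :
    ∃ K : Subgroup P, K.Normal ∧ (∀ x, x ∈ K ↔ ψ x = ψ 1) ∧
      K.index ∣ p ^ (n / (p - 1)) * (n / (p - 1)).factorial := by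
  classical
  obtain ⟨d, ρ, rfl⟩ := hψ
  have hdn : d = n := by rw [← hn, charDegree_rep]
  subst hdn
  set K : Subgroup P := MonoidHom.ker (ρ : P →* (Fin d → ℂ) →ₗ[ℂ] (Fin d → ℂ)) with hK
  haveI hKn : K.Normal := MonoidHom.normal_ker _
  have hmem : ∀ x, x ∈ K ↔ ρ.character x = ρ.character 1 := by
    intro x
    rw [hK, MonoidHom.mem_ker, Representation.char_one, char_eq_finrank_iff]
    rfl
  refine ⟨K, hKn, hmem, ?_⟩
  -- the quotient representation
  set ρq : Representation ℂ (P ⧸ K) (Fin d → ℂ) :=
    QuotientGroup.lift K (ρ : P →* (Fin d → ℂ) →ₗ[ℂ] (Fin d → ℂ)) (le_refl _) with hρq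
  have hval : ∀ x : P, ρq.character (QuotientGroup.mk x) = ρ.character x := by
    intro x
    rw [Representation.character, Representation.character, hρq]
    rfl
  have hfaith : ∀ g : P ⧸ K, ρq.character g = ρq.character 1 → g = 1 := by
    intro g
    induction g using QuotientGroup.induction_on with
    | H x =>
      intro h
      rw [← QuotientGroup.mk_one, hval, hval] at h
      exact (QuotientGroup.eq_one_iff x).mpr ((hmem x).mpr h)
  have hrat' : ∀ g : P ⧸ K, ∃ q : ℚ, ρq.character g = q := by
    intro g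
    induction g using QuotientGroup.induction_on with
    | H x =>
      rw [hval]
      exact hrat x
  have hPq : IsPGroup p (P ⧸ K) := hP.to_quotient K
  have := schur_card_dvd hPq ρq.character ⟨d, ρq, rfl⟩ hfaith hrat' d (charDegree_rep ρq)
  rwa [← Subgroup.index_eq_card] at this

end Cfsg.Agent.Helper6
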