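import Mathlib
import Cfsg.Prelude.Def_Characters
import Cfsg.Agent.Helper6.WinB
import Cfsg.Agent.Helper6.WinC
import Cfsg.Agent.Helper6.BlockPart

/-!
# Winter's theorem, part D: the local statement
-/

set_option autoImplicit false
set_option linter.style.haveILetI false

namespace Cfsg.Agent.Helper6

open scoped ComplexConjugate

universe u

variable {G : Type u} [Group G]

set_option maxHeartbeats 1600000 in
/-- Let the `p`-subgroup `Q` normalize the `p'`-subgroup `H`, and let `χ` be a character of `G`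
of degree `n`.  Then `Q` has a normal subgroup `K` of index dividing `p ^ m * m!`,
`m = n / (p - 1)`, all of whose elements centralize `H` modulo the kernel of `χ`. -/
theorem winter_local [Finite G] (p : ℕ) [hp : Fact p.Prime] (H Q : Subgroup G)
    (hHcop : (Nat.card H).Coprime p) (hQ : IsPGroup p Q)
    (hQH : Q ≤ Subgroup.normalizer (H : Set G))
    (χ : G → ℂ) (hχ : Cfsg.IsCharacter G χ) (n : ℕ) (hn : Cfsg.charDegree χ = n) :
    ∃ K : Subgroup Q, K.Normal ∧ K.index ∣ p ^ (n / (p - 1)) * (n / (p - 1)).factorial ∧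
      ∀ q ∈ K, ∀ h ∈ H, χ ((q : G) * h * (q : G)⁻¹ * h⁻¹) = χ 1 := by
  classical
  set X : Subgroup G := Q ⊔ H with hX
  have hQX : Q ≤ X := le_sup_left
  have hHX : H ≤ X := le_sup_right
  haveI hH'n : (H.subgroupOf X).Normal := Subgroup.normal_subgroupOf_sup_of_le_normalizer hQH
  have hcardH' : Nat.card (H.subgroupOf X) = Nat.card H :=
    Nat.card_congr (Subgroup.subgroupOfEquivOfLe hHX).toEquiv
  have hcardQ' : Nat.card (Q.subgroupOf X) = Nat.card Q :=
    Nat.card_congr (Subgroup.subgroupOfEquivOfLe hQX).toEquiv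
  have hidx : ∃ k, (H.subgroupOf X).index = p ^ k := by
    have hsup : (H.subgroupOf X) ⊔ (Q.subgroupOf X) = ⊤ := by
      rw [sup_comm]
      exact codisjoint_iff.mp (Subgroup.codisjoint_subgroupOf_sup Q H)
    have h1 : (H.subgroupOf X).relIndex ((H.subgroupOf X) ⊔ (Q.subgroupOf X)) =
        (H.subgroupOf X).relIndex (Q.subgroupOf X) :=
      Subgroup.relIndex_sup_left (Q.subgroupOf X) (H.subgroupOf X)
    rw [hsup, Subgroup.relIndex_top_right] at h1
    have h2 : (H.subgroupOf X).index ∣ Nat.card Q := by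
      rw [h1, ← hcardQ']
      exact Subgroup.relIndex_dvd_card _ _
    obtain ⟨j, hj⟩ := IsPGroup.exists_card_eq hQ
    rw [hj] at h2
    obtain ⟨k, -, hk⟩ := (Nat.dvd_prime_pow hp.out).mp h2
    exact ⟨k, hk⟩
  have hχX : Cfsg.IsCharacter X (fun x : X => χ x) := IsCharacter.restrict X hχ
  obtain ⟨ψ, hψ, hψres, hψrat⟩ := winter_char p (H.subgroupOf X)
    (by rw [hcardH']; exact hHcop) hidx (fun x : X => χ x) hχX
  -- restriction to `Q`
  set ι : Q →* X := Subgroup.inclusion hQX with hι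
  have hψ₁ : Cfsg.IsCharacter Q (fun q : Q => ψ (ι q)) := IsCharacter.comp_hom ι hψ
  have hrat₁ : ∀ q : Q, ∃ r : ℚ, (fun q : Q => ψ (ι q)) q = r := by
    intro q
    apply hψrat
    obtain ⟨k, hk⟩ := hQ q
    exact ⟨k, by rw [← map_pow, hk, map_one]⟩
  have hψ1 : ψ 1 = χ 1 := by
    have := hψres 1
    simpa using this
  have hdeg₁ : Cfsg.charDegree (fun q : Q => ψ (ι q)) = n := by
    have h1 : ((Cfsg.charDegree (fun q : Q => ψ (ι q)) : ℕ) : ℂ) = (n : ℂ) := by
      rw [charDegree_cast_of_isCharacter hψ₁, map_one, hψ1, ← hn,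
        charDegree_cast_of_isCharacter hχ]
    exact_mod_cast h1
  obtain ⟨K, hKn, hKmem, hKdvd⟩ := schur_index_ker_dvd hQ _ hψ₁ hrat₁ n hdeg₁
  refine ⟨K, hKn, hKdvd, ?_⟩
  intro q hq h hh
  have hq1 : ψ (ι q) = ψ 1 := by
    have := (hKmem q).mp hq
    simpa using this
  obtain ⟨d, ρ, hρ⟩ := hψ
  have hρq : ρ (ι q) = 1 :=
    (char_eq_finrank_iff ρ (ι q)).mp (by rw [hρ, hq1, ← hρ, Representation.char_one])
  set h' : X := ⟨h, hHX hh⟩ with hh'
  set c : X := ι q * h' * (ι q)⁻¹ * h'⁻¹ with hc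
  have hcH : c ∈ H.subgroupOf X := by
    have h1 : h' ∈ H.subgroupOf X := Subgroup.mem_subgroupOf.mpr hh
    have h2 : ι q * h' * (ι q)⁻¹ ∈ H.subgroupOf X := hH'n.conj_mem h' h1 (ι q)
    exact Subgroup.mul_mem _ h2 (Subgroup.inv_mem _ h1)
  have hρc : ρ c = 1 := by
    rw [hc, map_mul, map_mul, map_mul, hρq, one_mul, ← map_mul]
    have : ρ ((ι q)⁻¹ ) = 1 := by
      have h3 : ρ ((ι q)⁻¹) * ρ (ι q) = 1 := by
        rw [← map_mul, inv_mul_cancel, map_one]
      rw [hρq, mul_one] at h3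
      exact h3
    rw [map_mul, this, mul_one, ← map_mul, mul_inv_cancel, map_one]
  have hψc : ψ c = ψ 1 := by
    rw [← hρ, Representation.char_one]
    exact (char_eq_finrank_iff ρ c).mpr hρc
  have h4 := hψres ⟨c, hcH⟩
  simp only at h4
  rw [hψc, hψ1] at h4
  rw [h4]
  rfl

end Cfsg.Agent.Helper6
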