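import Mathlib
import Cfsg.Prelude.Def_Local
import Cfsg.Agent.Helper1.Coprime
import Cfsg.Agent.Helper1.HallHigmanDual
import Cfsg.Agent.Helper3.HHAbA
import Cfsg.Agent.Helper4.PSolvable
import Cfsg.Agent.Helper4.Camina
import Cfsg.Agent.Helper5.PPrimeCore
import Cfsg.Agent.Helper5.Cores

/-!
# Winter's theorem, part E: the group-theoretic set-up
-/

set_option autoImplicit false
set_option linter.style.haveILetI false

namespace Cfsg.Agent.Helper6

open scoped Pointwise

universe u

variable {G : Type u} [Group G]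

/-- A complement `H` to `U = O_p(G)` in the preimage of `O_{p'}(G / U)`, with the Frattini
property and the Hall–Higman centralizer property. -/
theorem winter_complement [Finite G] (p : ℕ) [hp : Fact p.Prime] (hsolv : Cfsg.IsPSolvable p G) :
    ∃ H : Subgroup G, (Nat.card H).Coprime p ∧
      (∀ g : G, ∃ u ∈ Cfsg.pCore p G, u⁻¹ * g ∈ Subgroup.normalizer (H : Set G)) ∧
      (∀ q : G, (∃ k, q ^ (p ^ k) = 1) → (∀ h ∈ H, q * h = h * q) → q ∈ Cfsg.pCore p G) := by
  classical
  haveI hUn : (Cfsg.pCore p G).Normal := Cfsg.Agent.Helper4.pCore_normal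
  set U := Cfsg.pCore p G with hU
  have hUp : IsPGroup p U := Cfsg.Agent.Helper5.isPGroup_pCore p
  set π := QuotientGroup.mk' U with hπ
  have hπsurj : Function.Surjective π := QuotientGroup.mk'_surjective U
  have hQsolv : Cfsg.IsPSolvable p (G ⧸ U) := Cfsg.Agent.Helper4.isPSolvable_quotient hsolv U
  have hO : Cfsg.pCore p (G ⧸ U) = ⊥ := Cfsg.Agent.Helper3.HHAb.pCore_quotient_pCore p
  have hHH := Cfsg.Agent.Helper1.centralizer_pPrimeCore_le_of_isPSolvable hQsolv hO
  set Kb := Cfsg.pPrimeCore p (G ⧸ U) with hKb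
  have hKbcop : (Nat.card Kb).Coprime p := Cfsg.Agent.Helper5.coprime_card_pPrimeCore p
  set K : Subgroup G := Kb.comap π with hK
  haveI hKn : K.Normal := Subgroup.Normal.comap inferInstance π
  have hUK : U ≤ K := by
    intro u hu
    rw [hK, Subgroup.mem_comap]
    have : π u = 1 := (QuotientGroup.eq_one_iff u).mpr hu
    rw [this]
    exact Subgroup.one_mem _
  have hcardK : Nat.card K = Nat.card U * Nat.card Kb := Cfsg.Agent.Helper4.card_comap_mk' U Kb
  -- Schur–Zassenhaus inside `K`
  haveI : (U.subgroupOf K).Normal := Subgroup.normal_subgroupOf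
  have hcardN : Nat.card (U.subgroupOf K) = Nat.card U :=
    Nat.card_congr (Subgroup.subgroupOfEquivOfLe hUK).toEquiv
  have hidxN : (U.subgroupOf K).index = Nat.card Kb := by
    have h1 := (U.subgroupOf K).card_mul_index
    rw [hcardN, hcardK] at h1
    exact Nat.eq_of_mul_eq_mul_left Nat.card_pos h1
  obtain ⟨a, ha⟩ := IsPGroup.exists_card_eq hUp
  have hcopN : (Nat.card (U.subgroupOf K)).Coprime (U.subgroupOf K).index := by
    rw [hcardN, hidxN, ha]
    exact Nat.Coprime.pow_left a hKbcop.symm
  obtain ⟨H₀, hH₀⟩ := Subgroup.exists_right_complement'_of_coprime hcopN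
  set H : Subgroup G := H₀.map K.subtype with hH
  have hcardH : Nat.card H = Nat.card Kb := by
    have h1 : Nat.card H = Nat.card H₀ :=
      Nat.card_congr (H₀.equivMapOfInjective K.subtype K.subtype_injective).toEquiv.symm
    have h2 := hH₀.card_mul_card
    rw [hcardN, hcardK] at h2
    rw [h1]
    exact Nat.eq_of_mul_eq_mul_left Nat.card_pos h2
  have hHK : H ≤ K := Subgroup.map_subtype_le H₀
  have hUH : U ⊔ H = K := by
    have h1 := hH₀.sup_eq_top
    have h2 := congrArg (Subgroup.map K.subtype) h1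
    rw [Subgroup.map_sup, ← MonoidHom.range_eq_map, Subgroup.range_subtype,
      Subgroup.map_subgroupOf_eq_of_le hUK] at h2
    exact h2
  have hHcop : (Nat.card H).Coprime p := by rw [hcardH]; exact hKbcop
  have hmapH : H.map π = Kb := by
    have h1 : K.map π = Kb := Subgroup.map_comap_eq_self_of_surjective hπsurj Kb
    rw [← hUH, Subgroup.map_sup] at h1
    have h2 : U.map π = ⊥ :=
      (Subgroup.map_eq_bot_iff U).mpr (by rw [hπ, QuotientGroup.ker_mk'])
    rw [h2, bot_sup_eq] at h1
    exact h1
  refine ⟨H, hHcop, ?_, ?_⟩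
  · intro g
    have hA : H ≤ Subgroup.normalizer (U : Set G) := by
      intro h _
      rw [Subgroup.normalizer_eq_top]
      exact Subgroup.mem_top h
    have hB : MulAut.conj g • H ≤ U ⊔ H := by
      rw [hUH]
      intro x hx
      rw [Cfsg.Agent.Helper1.mem_conj_smul] at hx
      have h1 := hKn.conj_mem _ (hHK hx) g
      have h2 : g * (g⁻¹ * x * g) * g⁻¹ = x := by group
      rwa [h2] at h1
    have hcard : Nat.card (MulAut.conj g • H : Subgroup G) = Nat.card H :=
      Nat.card_congr (Subgroup.equivSMul (MulAut.conj g) H).toEquiv.symm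
    have hcop : (Nat.card U).Coprime (Nat.card H) := by
      rw [ha]
      exact Nat.Coprime.pow_left a hHcop.symm
    haveI : Group.IsNilpotent U := hUp.isNilpotent
    obtain ⟨u, hu, hconj⟩ := Cfsg.Agent.Helper1.sz_conj_internal U H (MulAut.conj g • H) hA hB
      hcard hcop (Or.inl inferInstance)
    refine ⟨u, hu, ?_⟩
    apply Cfsg.Agent.Helper1.mem_normalizer_of_conj_smul_eq
    rw [map_mul, mul_smul, ← hconj, ← mul_smul, ← map_mul, inv_mul_cancel, map_one, one_smul]
  · intro q hq hcomm
    have h1 : π q ∈ Subgroup.centralizer (Kb : Set (G ⧸ U)) := by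
      rw [Subgroup.mem_centralizer_iff]
      intro y hy
      rw [← hmapH] at hy
      obtain ⟨h, hh, rfl⟩ := hy
      rw [← map_mul, ← map_mul, hcomm h hh]
    have h2 : π q ∈ Kb := hHH h1
    have h3 : orderOf (π q) ∣ Nat.card Kb := by
      have := Subgroup.orderOf_dvd_natCard Kb h2
      exact this
    obtain ⟨k, hk⟩ := hq
    have h4 : orderOf (π q) ∣ p ^ k := by
      apply orderOf_dvd_of_pow_eq_one
      rw [← map_pow, hk, map_one]
    have h5 : orderOf (π q) = 1 := by
      have := Nat.Coprime.eq_one_of_dvd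
        (Nat.Coprime.coprime_dvd_left h4 (Nat.Coprime.pow_left k hKbcop.symm)) h3
      exact this
    rw [orderOf_eq_one_iff] at h5
    exact (QuotientGroup.eq_one_iff q).mp h5

end Cfsg.Agent.Helper6
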