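import Mathlib
import Cfsg.Prelude.Def_Local
import Cfsg.Prelude.Def_Characters
import Cfsg.Agent.Helper6.WinD
import Cfsg.Agent.Helper6.WinE

/-!
# Winter's theorem, part F: the Sylow subgroup of the normalizer and the final bound
-/

set_option autoImplicit false
set_option linter.style.haveILetI false

namespace Cfsg.Agent.Helper6

open scoped Pointwise

universe u

variable {G : Type u} [Group G]

theorem winter_sylow [Finite G] (p : ℕ) [hp : Fact p.Prime] (H : Subgroup G)
    (hfrat : ∀ g : G, ∃ u ∈ Cfsg.pCore p G, u⁻¹ * g ∈ Subgroup.normalizer (H : Set G)) :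
    ∃ Q : Subgroup G, IsPGroup p Q ∧ Q ≤ Subgroup.normalizer (H : Set G) ∧
      (Cfsg.pCore p G).index.factorization p =
        ((Cfsg.pCore p G).relIndex Q).factorization p := by
  classical
  haveI hUn : (Cfsg.pCore p G).Normal := Cfsg.Agent.Helper4.pCore_normal
  set U := Cfsg.pCore p G with hU
  have hUp : IsPGroup p U := Cfsg.Agent.Helper5.isPGroup_pCore p
  set M := Subgroup.normalizer (H : Set G) with hM
  set φ : M →* G ⧸ U := (QuotientGroup.mk' U).comp M.subtype with hφ
  have hsurj : Function.Surjective φ := by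
    intro y
    obtain ⟨g, rfl⟩ := QuotientGroup.mk'_surjective U y
    obtain ⟨u, hu, hm⟩ := hfrat g
    refine ⟨⟨u⁻¹ * g, hm⟩, ?_⟩
    rw [hφ, MonoidHom.comp_apply]
    show (QuotientGroup.mk' U) (u⁻¹ * g) = (QuotientGroup.mk' U) g
    rw [map_mul, map_inv]
    have : (QuotientGroup.mk' U) u = 1 := (QuotientGroup.eq_one_iff u).mpr hu
    rw [this, inv_one, one_mul]
  have hker : φ.ker = U.subgroupOf M := by
    rw [hφ, ← MonoidHom.comap_ker, QuotientGroup.ker_mk']
    rfl
  have hDidx : (U.subgroupOf M).index = U.index := by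
    rw [← hker, Subgroup.index_ker, MonoidHom.range_eq_top.mpr hsurj, Subgroup.index_eq_card]
    exact Nat.card_congr Subgroup.topEquiv.toEquiv
  obtain ⟨P₁⟩ := (inferInstance : Nonempty (Sylow p M))
  haveI : (U.subgroupOf M).Normal := Subgroup.normal_subgroupOf
  have hDp : IsPGroup p (U.subgroupOf M) :=
    hUp.comap_of_injective M.subtype M.subtype_injective
  have hDP : U.subgroupOf M ≤ (P₁ : Subgroup M) :=
    Cfsg.Agent.Helper4.normal_pgroup_le_sylow _ hDp P₁
  refine ⟨(P₁ : Subgroup M).map M.subtype, P₁.2.map _, Subgroup.map_subtype_le _, ?_⟩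
  have h1 := Subgroup.relIndex_mul_index hDP
  rw [hDidx] at h1
  have h2 : (U.subgroupOf M).relIndex (P₁ : Subgroup M) =
      U.relIndex ((P₁ : Subgroup M).map M.subtype) := Subgroup.relIndex_comap U M.subtype _
  rw [h2] at h1
  have hne1 : U.relIndex ((P₁ : Subgroup M).map M.subtype) ≠ 0 := by
    unfold Subgroup.relIndex
    exact Subgroup.index_ne_zero_of_finite
  have hne2 : (P₁ : Subgroup M).index ≠ 0 := Subgroup.index_ne_zero_of_finite
  rw [← h1, Nat.factorization_mul hne1 hne2, Finsupp.add_apply,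
    Nat.factorization_eq_zero_of_not_dvd P₁.not_dvd_index, add_zero]

/-- Winter's bound. -/
theorem winter_bound [Finite G] (p : ℕ) (hp : p.Prime) (χ : G → ℂ) (hχ : Cfsg.IsCharacter G χ)
    (hfaith : ∀ g : G, χ g = χ 1 → g = 1) (n : ℕ) (hn : Cfsg.charDegree χ = n)
    (hsolv : Cfsg.IsPSolvable p G) :
    ((Cfsg.pCore p G).index).factorization p ≤
      ∑ i ∈ Finset.range (n + 1), n / ((p - 1) * p ^ i) := by
  classical
  haveI : Fact p.Prime := ⟨hp⟩
  obtain ⟨H, hHcop, hfrat, hcent⟩ := winter_complement p hsolv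
  obtain ⟨Q, hQ, hQH, hfac⟩ := winter_sylow p H hfrat
  obtain ⟨K, hKn, hKdvd, hKc⟩ := winter_local p H Q hHcop hQ hQH χ hχ n hn
  have hKU : K ≤ (Cfsg.pCore p G).subgroupOf Q := by
    intro q hq
    rw [Subgroup.mem_subgroupOf]
    apply hcent (q : G)
    · obtain ⟨k, hk⟩ := hQ q
      refine ⟨k, ?_⟩
      have := congrArg Subtype.val hk
      simpa using this
    · intro h hh
      have h1 := hfaith _ (hKc q hq h hh)
      calc (q : G) * h = ((q : G) * h * (q : G)⁻¹ * h⁻¹) * h * q := by group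
        _ = h * q := by rw [h1, one_mul]
  have hdvd : ((Cfsg.pCore p G).subgroupOf Q).index ∣ K.index := Subgroup.index_dvd_of_le hKU
  have hK0 : K.index ≠ 0 := Subgroup.index_ne_zero_of_finite
  have hR0 : (Cfsg.pCore p G).relIndex Q ≠ 0 := by
    unfold Subgroup.relIndex
    exact Subgroup.index_ne_zero_of_finite
  have h1 : ((Cfsg.pCore p G).relIndex Q).factorization p ≤ K.index.factorization p :=
    (Nat.factorization_le_iff_dvd hR0 hK0).mpr hdvd p
  rw [hfac]
  exact le_trans h1 (schur_arith p n K.index hp hK0 hKdvd)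

end Cfsg.Agent.Helper6
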