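import Mathlib
import Cfsg.Prelude.Def_Characters
import Cfsg.Agent.Helper6.ZasChH
import Cfsg.Agent.Helper6.ZasChS
import Cfsg.Agent.Helper2.FeitAbA

/-!
# The two character-theoretic inputs of `Helper2.FeitAb`, verbatim
-/

set_option autoImplicit false
set_option linter.style.haveILetI false

namespace Cfsg.Agent.Helper6

open MulAction

universe u v

/-- the class-count bound of `Helper2.FeitAb` -/
theorem zas_classBound_prop : Cfsg.Agent.Helper2.FeitAb.ClassBound.{u, v} := by
  intro G Ω _ _ _ _ hZ a b hab hS h e hh he _ hlt H hHa hHcard hHfix hHab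
  haveI := hS
  exact zas_class_bound hZ hab h e hh he hlt H hHa hHcard hHfix hHab

/-- the even case of `Helper2.FeitAb` -/
theorem zas_evenContra_prop : Cfsg.Agent.Helper2.FeitAb.EvenContra.{u, v} := by
  intro G Ω _ _ _ _ hZ a b hab hS h e hh he hodd hlt H hHa hHcard hHfix hHab heven
  haveI := hS
  exact zas_even_contra hZ hab h e hh he hodd hlt H hHa hHcard hHfix hHab heven

end Cfsg.Agent.Helper6
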